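import Mathlib.RingTheory.Flat.Localization
import Mathlib.RingTheory.Support
import Mathlib.Algebra.Module.FinitePresentation
import Groth.Prelude.Def_FlatCA
import Groth.Agent.Flat2A.Fiber

set_option autoImplicit false

namespace Groth.Agent.Flat2B.FlatLocusAux

open TensorProduct

universe u v

/-- Localizing (on the source ring `S`) an `S`-module flat over `R` gives an `R`-flat module. -/
theorem flat_of_isLocalizedModule_source {R S M M' : Type*} [CommRing R] [CommRing S] [Algebra R S]
    [AddCommGroup M] [Module S M] [Module R M] [IsScalarTower R S M]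
    [AddCommGroup M'] [Module S M'] [Module R M'] [IsScalarTower R S M']
    (W : Submonoid S) (f : M →ₗ[S] M') [IsLocalizedModule W f] [Module.Flat R M] :
    Module.Flat R M' := by
  rw [Module.Flat.iff_lTensor_injectiveₛ]
  intro P _ _ N
  rw [← AlgebraTensorModule.coe_lTensor (A := S)]
  have h := IsLocalizedModule.map_injective W (AlgebraTensorModule.rTensor R N f)
    (AlgebraTensorModule.rTensor R P f) (AlgebraTensorModule.lTensor S M N.subtype)
    (by
      rw [AlgebraTensorModule.coe_lTensor]
      exact Module.Flat.lTensor_preserves_injective_linearMap _ N.injective_subtype)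
  simpa [IsLocalizedModule.map_lTensor] using h

/-- flat over `R` implies flat at every prime -/
theorem flatAt_of_flat {R S : Type u} [CommRing R] [CommRing S] [Algebra R S] (q : Ideal S)
    [q.IsPrime] (N : Type u) [AddCommGroup N] [Module S N] [Module R N] [IsScalarTower R S N]
    [Module.Flat R N] : FlatCA.FlatAt R q N :=
  flat_of_isLocalizedModule_source q.primeCompl (LocalizedModule.mkLinearMap q.primeCompl N)

/-- flat after inverting `g` implies flat at all primes of `D(g)` -/
theorem flatAt_of_flat_away {R S : Type u} [CommRing R] [CommRing S] [Algebra R S] (q : Ideal S)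
    [q.IsPrime] (N : Type u) [AddCommGroup N] [Module S N] [Module R N] [IsScalarTower R S N]
    (g : S) (hg : g ∉ q) (h : Module.Flat R (LocalizedModule (Submonoid.powers g) N)) :
    FlatCA.FlatAt R q N := by
  have hle : Submonoid.powers g ≤ q.primeCompl := by
    rintro _ ⟨n, rfl⟩
    exact fun hmem => hg (‹q.IsPrime›.mem_of_pow_mem n hmem)
  exact flat_of_isLocalizedModule_source q.primeCompl
    (LocalizedModule.liftOfLE (Submonoid.powers g) q.primeCompl hle (M := N))

/-- flatness of a localization can be checked at the primes of the localization -/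
theorem flat_localizedModule_of_flatAt {R S : Type u} [CommRing R] [CommRing S] [Algebra R S]
    (N : Type u) [AddCommGroup N] [Module S N] [Module R N] [IsScalarTower R S N]
    (W : Submonoid S) (h : ∀ (q : Ideal S) [q.IsPrime], W ≤ q.primeCompl → FlatCA.FlatAt R q N) :
    Module.Flat R (LocalizedModule W N) := by
  rw [Module.Flat.iff_lTensor_injective']
  intro I
  rw [← AlgebraTensorModule.coe_lTensor (A := S), injective_iff_map_eq_zero]
  intro x hx
  -- the annihilator of `x` meets `W`
  have key : ∃ w ∈ W, w • x = 0 := by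
    by_contra hcon
    push Not at hcon
    have hdisj : Disjoint ((Submodule.span S {x}).annihilator : Set S) (W : Set S) := by
      rw [Set.disjoint_left]
      intro a ha haW
      exact hcon a haW ((Submodule.mem_annihilator.mp ha) x (Submodule.mem_span_singleton_self x))
    obtain ⟨q, hqp, hq, hqd⟩ := Ideal.exists_le_prime_disjoint _ _ hdisj
    have hle : W ≤ q.primeCompl := fun w hw hwq => (Set.disjoint_left.mp hqd) hwq hw
    let f := LocalizedModule.liftOfLE W q.primeCompl hle (M := N)
    have hflat : Module.Flat R (LocalizedModule q.primeCompl N) := h q hle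
    have hcomm : ∀ x : LocalizedModule W N ⊗[R] I,
        (LinearMap.lTensor (LocalizedModule q.primeCompl N) I.subtype)
          (AlgebraTensorModule.rTensor R I f x) =
          AlgebraTensorModule.rTensor R R f
            (AlgebraTensorModule.lTensor S (LocalizedModule W N) I.subtype x) := by
      intro x
      induction x using TensorProduct.induction_on with
      | zero => simp
      | tmul a b => simp
      | add a b ha hb => simp only [map_add, ha, hb]
    have h1 : AlgebraTensorModule.rTensor R I f x = 0 := by
      have hinj := Module.Flat.lTensor_preserves_injective_linearMap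
        (M := LocalizedModule q.primeCompl N) I.subtype I.injective_subtype
      apply hinj
      rw [map_zero, hcomm, hx, map_zero]
    obtain ⟨s, hs⟩ := (IsLocalizedModule.eq_zero_iff q.primeCompl
      (AlgebraTensorModule.rTensor R I f)).mp h1
    apply s.2
    apply hq
    rw [Submodule.mem_annihilator_span_singleton]
    exact hs
  obtain ⟨w, hw, hwx⟩ := key
  -- `w` acts injectively on `N_W ⊗ I`
  have hu := IsLocalizedModule.smul_injective
    (AlgebraTensorModule.rTensor R I (LocalizedModule.mkLinearMap W N)) (⟨w, hw⟩ : W)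
  apply hu
  simp only [smul_zero]
  exact hwx

/-- flatness on `D(g)` can be checked at the primes of `D(g)` -/
theorem flat_away_of_flatAt {R S : Type u} [CommRing R] [CommRing S] [Algebra R S]
    (N : Type u) [AddCommGroup N] [Module S N] [Module R N] [IsScalarTower R S N]
    (g : S) (h : ∀ (q : Ideal S) [q.IsPrime], g ∉ q → FlatCA.FlatAt R q N) :
    Module.Flat R (LocalizedModule (Submonoid.powers g) N) :=
  flat_localizedModule_of_flatAt N (Submonoid.powers g) fun q _ hq =>
    h q (hq (Submonoid.mem_powers g))

/-- If the set of weakly associated primes is finite, and a submodule vanishes at the prime `q`, then it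
vanishes on a neighbourhood of `q`. -/
theorem exists_notMem_forall_pow_smul_eq_zero {S : Type u} [CommRing S] {N : Type v}
    [AddCommGroup N] [Module S N] (hfin : (FlatCA.weakAss S N).Finite) (K : Submodule S N)
    (q : Ideal S) [q.IsPrime] (hK : ∀ x ∈ K, ∃ s : S, s ∉ q ∧ s • x = 0) :
    ∃ g : S, g ∉ q ∧ ∀ x ∈ K, ∃ n : ℕ, g ^ n • x = 0 := by
  classical
  have h1 : ∀ r : Ideal S, ¬ r ≤ q → ∃ g : S, g ∉ q ∧ g ∈ r := by
    intro r hr
    obtain ⟨x, hx, hx'⟩ := SetLike.not_le_iff_exists.mp hr
    exact ⟨x, hx', hx⟩
  choose! g hg hg' using h1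
  let T := hfin.toFinset.filter (fun r => ¬ r ≤ q)
  refine ⟨∏ r ∈ T, g r, ?_, ?_⟩
  · intro hmem
    rw [Ideal.IsPrime.prod_mem_iff] at hmem
    obtain ⟨r, hr, hr'⟩ := hmem
    exact hg r (Finset.mem_filter.mp hr).2 hr'
  · intro x hx
    by_contra hcon
    push Not at hcon
    set I := (Submodule.span S {x}).annihilator with hI
    have hdisj : Disjoint (I : Set S) (Submonoid.powers (∏ r ∈ T, g r) : Set S) := by
      rw [Set.disjoint_left]
      rintro a ha ⟨n, rfl⟩
      refine hcon n ?_
      exact (Submodule.mem_annihilator.mp ha) x (Submodule.mem_span_singleton_self x)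
    obtain ⟨P, hP, hIP, hPd⟩ := Ideal.exists_le_prime_disjoint I _ hdisj
    obtain ⟨Q, hQ, hQP⟩ := Ideal.exists_minimalPrimes_le hIP
    have hQw : Q ∈ FlatCA.weakAss S N := ⟨x, hQ⟩
    have hgQ : (∏ r ∈ T, g r) ∉ Q := fun hmem =>
      (Set.disjoint_left.mp hPd) (hQP hmem) (Submonoid.mem_powers _)
    by_cases hQq : Q ≤ q
    · obtain ⟨s, hs, hsx⟩ := hK x hx
      apply hs
      apply hQq
      apply hQ.1.2
      rw [hI, Submodule.mem_annihilator_span_singleton]
      exact hsx
    · have hQT : Q ∈ T := Finset.mem_filter.mpr ⟨hfin.mem_toFinset.mpr hQw, hQq⟩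
      exact hgQ (Ideal.mem_of_dvd _ (Finset.dvd_prod_of_mem _ hQT) (hg' Q hQq))

/-- If the localization of a submodule `K` is finitely generated, then some finitely generated submodule
of `K` has the same localization. -/
theorem exists_fg_le_forall_smul_mem {S M : Type*} [CommRing S] [AddCommGroup M] [Module S M]
    (W : Submonoid S) (K : Submodule S M) (h : (K.localized W).FG) :
    ∃ K₀ : Submodule S M, K₀.FG ∧ K₀ ≤ K ∧ ∀ x ∈ K, ∃ w ∈ W, w • x ∈ K₀ := by
  classical
  rw [Submodule.localized, Submodule.localized'_eq_span, Submodule.fg_span_iff_fg_span_finset_subset] at h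
  obtain ⟨T, hT, hT'⟩ := h
  obtain ⟨T₀, hT₀, rfl⟩ := Finset.subset_set_image_iff.mp hT
  refine ⟨Submodule.span S (T₀ : Set M), ⟨T₀, rfl⟩, Submodule.span_le.mpr hT₀, ?_⟩
  intro x hx
  have h1 : LocalizedModule.mkLinearMap W M x ∈
      (Submodule.span S (T₀ : Set M)).localized' (Localization W) W (LocalizedModule.mkLinearMap W M) := by
    rw [Submodule.localized'_span]
    rw [Finset.coe_image] at hT'
    rw [← hT']
    exact Submodule.subset_span ⟨x, hx, rfl⟩
  obtain ⟨m, hm, s, hs⟩ := (Submodule.mem_localized' _ _ _ _ _).mp h1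
  rw [IsLocalizedModule.mk'_eq_iff, ← LinearMap.map_smul_of_tower] at hs
  obtain ⟨u, hu⟩ := IsLocalizedModule.exists_of_eq (S := W) hs
  refine ⟨u.1 * s.1, W.mul_mem u.2 s.2, ?_⟩
  rw [mul_smul]
  have : u.1 • s.1 • x = u.1 • m := hu.symm
  rw [this]
  exact Submodule.smul_mem _ _ hm

/-- A finite module whose localization at a prime (or multiplicative set) is finitely presented is, at that
prime, the quotient of a finitely presented module by a submodule vanishing there. -/
theorem exists_fp_surjection {S N : Type u} [CommRing S] [AddCommGroup N] [Module S N]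
    [Module.Finite S N] (W : Submonoid S)
    (h : Module.FinitePresentation (Localization W) (LocalizedModule W N)) :
    ∃ (N' : Type u) (_ : AddCommGroup N') (_ : Module S N') (φ : N' →ₗ[S] N),
      Module.FinitePresentation S N' ∧ Function.Surjective φ ∧
      ∀ x ∈ LinearMap.ker φ, ∃ w ∈ W, w • x = 0 := by
  obtain ⟨n, π, hπ⟩ := Module.Finite.exists_fin' S N
  have hsurj : Function.Surjective (IsLocalizedModule.map W (LocalizedModule.mkLinearMap W (Fin n → S))
      (LocalizedModule.mkLinearMap W N) π) := IsLocalizedModule.map_surjective _ _ _ _ hπ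
  have hfg : ((LinearMap.ker π).localized W).FG := by
    have h1 := Module.FinitePresentation.fg_ker (LocalizedModule.map W π) hsurj
    rw [Submodule.localized, LinearMap.localized'_ker_eq_ker_localizedMap _ _ _
      (LocalizedModule.mkLinearMap W N)]
    exact h1
  obtain ⟨K₀, hK₀, hle, hK⟩ := exists_fg_le_forall_smul_mem W (LinearMap.ker π) hfg
  refine ⟨(Fin n → S) ⧸ K₀, inferInstance, inferInstance, K₀.liftQ π hle, ?_, ?_, ?_⟩
  · exact Module.finitePresentation_of_surjective K₀.mkQ K₀.mkQ_surjective (by
      rwa [Submodule.ker_mkQ])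
  · intro y
    obtain ⟨x, rfl⟩ := hπ y
    exact ⟨K₀.mkQ x, by simp⟩
  · intro x hx
    obtain ⟨x, rfl⟩ := K₀.mkQ_surjective x
    rw [LinearMap.mem_ker, Submodule.mkQ_apply, Submodule.liftQ_apply] at hx
    obtain ⟨w, hw, hwx⟩ := hK x hx
    refine ⟨w, hw, ?_⟩
    rw [Submodule.mkQ_apply, ← Submodule.Quotient.mk_smul, Submodule.Quotient.mk_eq_zero]
    exact hwx

end Groth.Agent.Flat2B.FlatLocusAux
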