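import Groth.Prelude.Def_FlatCA
import Mathlib.RingTheory.Flat.Basic
import Mathlib.RingTheory.Ideal.GoingUp
import Mathlib.RingTheory.Finiteness.ModuleFinitePresentation
import Mathlib.Algebra.Module.FinitePresentation

/-!
# Transfer of flatness at a prime and of finite presentation

* `flatAt_iff_of_isLocalizedModule`: `FlatAt` can be computed with any localization.
* `flatAt_iff_of_exists_mul`: for `S → A`, an `A`-module `M`, and a prime `Q` of `A` over `q` such that
  every element outside `Q` divides the image of an element outside `q`, `M` is flat at `q` iff it is flat at `Q`.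
* `flatAt_iff_of_surjective`, `flatAt_iff_of_unique` : two special cases.
* `finitePresentation_of_restrict`: a module over a finite type algebra `C` over `D` which is finitely presented
  over `D` is finitely presented over `C`.
-/

set_option autoImplicit false

namespace Groth.Agent.Flat2B.LocTransfer

universe u v w

section FlatAt

theorem flatAt_iff_of_isLocalizedModule {R S : Type u} [CommRing R] [CommRing S] [Algebra R S]
    (q : Ideal S) [q.IsPrime] (N : Type u) [AddCommGroup N] [Module S N] [Module R N] [IsScalarTower R S N]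
    {N' : Type v} [AddCommGroup N'] [Module S N'] [Module R N'] [IsScalarTower R S N']
    (f : N →ₗ[S] N') [IsLocalizedModule q.primeCompl f] :
    FlatCA.FlatAt R q N ↔ Module.Flat R N' := by
  let e : LocalizedModule q.primeCompl N ≃ₗ[S] N' := IsLocalizedModule.iso q.primeCompl f
  let e' : LocalizedModule q.primeCompl N ≃ₗ[R] N' := e.restrictScalars R
  constructor
  · intro h
    have : Module.Flat R (LocalizedModule q.primeCompl N) := h
    exact Module.Flat.of_linearEquiv e'.symm
  · intro h
    exact Module.Flat.of_linearEquiv e'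

/-- if every element outside `Q` divides the image of an element outside `q`, then localization at `q` is
localization at `Q`. -/
theorem isLocalizedModule_primeCompl_of_exists_mul {S A : Type u} [CommRing S] [CommRing A] [Algebra S A]
    (q : Ideal S) [q.IsPrime] (Q : Ideal A) [Q.IsPrime] (hQ : Q.comap (algebraMap S A) = q)
    (h : ∀ a : A, a ∉ Q → ∃ (a' : A) (s : S), s ∉ q ∧ a' * a = algebraMap S A s)
    {M M' : Type v} [AddCommGroup M] [Module A M] [Module S M] [IsScalarTower S A M]
    [AddCommGroup M'] [Module A M'] [Module S M'] [IsScalarTower S A M']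
    (f : M →ₗ[A] M') :
    IsLocalizedModule Q.primeCompl f ↔ IsLocalizedModule q.primeCompl (f.restrictScalars S) := by
  rw [← IsLocalizedModule.restrictScalars_iff]
  have hle : Algebra.algebraMapSubmonoid A q.primeCompl ≤ Q.primeCompl := by
    rintro _ ⟨s, hs, rfl⟩ hsQ
    exact hs (by rw [← hQ]; exact hsQ)
  have hmul : ∀ x : Q.primeCompl, ∃ m : A, m * x ∈ Algebra.algebraMapSubmonoid A q.primeCompl := by
    rintro ⟨x, hx⟩
    obtain ⟨a', s, hs, e⟩ := h x hx
    exact ⟨a', by simpa [e] using Algebra.mem_algebraMapSubmonoid_of_mem (S := A) (⟨s, hs⟩ : q.primeCompl)⟩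
  constructor
  · intro hf
    refine ⟨fun x ↦ hf.map_units ⟨x, hle x.2⟩, fun y ↦ ?_, fun {x₁ x₂} e ↦ ?_⟩
    · obtain ⟨⟨x, t⟩, e⟩ := hf.surj y
      obtain ⟨m, hm⟩ := hmul t
      exact ⟨⟨m • x, ⟨m * t, hm⟩⟩, by
        simp only [Submonoid.smul_def, mul_smul, map_smul] at e ⊢
        rw [e]⟩
    · obtain ⟨c, hc⟩ := hf.exists_of_eq e
      obtain ⟨m, hm⟩ := hmul c
      exact ⟨⟨m * c, hm⟩, by
        simp only [Submonoid.smul_def, mul_smul] at hc ⊢
        rw [hc]⟩
  · intro hf
    exact IsLocalizedModule.of_exists_mul_mem _ _ hle hmul f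

theorem flatAt_iff_of_exists_mul {R S A : Type u} [CommRing R] [CommRing S] [CommRing A] [Algebra R S] [Algebra R A]
    [Algebra S A] [IsScalarTower R S A]
    (q : Ideal S) [q.IsPrime] (Q : Ideal A) [Q.IsPrime] (hQ : Q.comap (algebraMap S A) = q)
    (h : ∀ a : A, a ∉ Q → ∃ (a' : A) (s : S), s ∉ q ∧ a' * a = algebraMap S A s)
    (M : Type u) [AddCommGroup M] [Module A M] [Module S M] [IsScalarTower S A M] [Module R M]
    [IsScalarTower R S M] [IsScalarTower R A M] :
    FlatCA.FlatAt R q M ↔ FlatCA.FlatAt R Q M := by
  have := (isLocalizedModule_primeCompl_of_exists_mul q Q hQ h (LocalizedModule.mkLinearMap Q.primeCompl M)).1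
    inferInstance
  rw [flatAt_iff_of_isLocalizedModule q M ((LocalizedModule.mkLinearMap Q.primeCompl M).restrictScalars S)]
  rfl

theorem exists_mul_of_surjective {S A : Type u} [CommRing S] [CommRing A] [Algebra S A]
    (hs : Function.Surjective (algebraMap S A))
    (q : Ideal S) (Q : Ideal A) (hQ : Q.comap (algebraMap S A) = q) :
    ∀ a : A, a ∉ Q → ∃ (a' : A) (s : S), s ∉ q ∧ a' * a = algebraMap S A s := by
  intro a ha
  obtain ⟨s, rfl⟩ := hs a
  exact ⟨1, s, by rw [← hQ]; exact ha, one_mul _⟩

theorem exists_mul_of_unique {S A : Type u} [CommRing S] [CommRing A] [Algebra S A] [Algebra.IsIntegral S A]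
    (q : Ideal S) [q.IsPrime] (Q : Ideal A)
    (huniq : ∀ (Q' : Ideal A) [Q'.IsPrime], Q'.LiesOver q → Q' = Q) :
    ∀ a : A, a ∉ Q → ∃ (a' : A) (s : S), s ∉ q ∧ a' * a = algebraMap S A s := by
  intro a ha
  by_contra hcon
  push Not at hcon
  -- the ideal generated by `a` is disjoint from the image of the complement of `q`
  have hdisj : Disjoint ((Ideal.span {a} : Ideal A) : Set A) (Algebra.algebraMapSubmonoid A q.primeCompl) := by
    rw [Set.disjoint_left]
    rintro x hx ⟨s, hs, rfl⟩
    obtain ⟨b, hb⟩ := Ideal.mem_span_singleton'.1 hx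
    exact hcon b s hs hb
  obtain ⟨P, hP, hle, hPd⟩ := Ideal.exists_le_prime_disjoint _ _ hdisj
  have hPq : P.comap (algebraMap S A) ≤ q := by
    intro s hs
    by_contra hsq
    exact Set.disjoint_left.1 hPd hs ⟨s, hsq, rfl⟩
  obtain ⟨Q', hPQ', hQ'p, hQ'⟩ := Ideal.exists_ideal_over_prime_of_isIntegral q P hPq
  have : Q' = Q := huniq Q' ⟨hQ'.symm⟩
  subst this
  exact ha (hPQ' (hle (Ideal.mem_span_singleton_self a)))

theorem flatAt_iff_of_surjective {R S A : Type u} [CommRing R] [CommRing S] [CommRing A] [Algebra R S] [Algebra R A]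
    [Algebra S A] [IsScalarTower R S A] (hs : Function.Surjective (algebraMap S A))
    (q : Ideal S) [q.IsPrime] (Q : Ideal A) [Q.IsPrime] (hQ : Q.comap (algebraMap S A) = q)
    (M : Type u) [AddCommGroup M] [Module A M] [Module S M] [IsScalarTower S A M] [Module R M]
    [IsScalarTower R S M] [IsScalarTower R A M] :
    FlatCA.FlatAt R q M ↔ FlatCA.FlatAt R Q M :=
  flatAt_iff_of_exists_mul q Q hQ (exists_mul_of_surjective hs q Q hQ) M

theorem flatAt_iff_of_unique {R S A : Type u} [CommRing R] [CommRing S] [CommRing A] [Algebra R S] [Algebra R A]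
    [Algebra S A] [IsScalarTower R S A] [Algebra.IsIntegral S A]
    (q : Ideal S) [q.IsPrime] (Q : Ideal A) [Q.IsPrime] (hQ : Q.comap (algebraMap S A) = q)
    (huniq : ∀ (Q' : Ideal A) [Q'.IsPrime], Q'.LiesOver q → Q' = Q)
    (M : Type u) [AddCommGroup M] [Module A M] [Module S M] [IsScalarTower S A M] [Module R M]
    [IsScalarTower R S M] [IsScalarTower R A M] :
    FlatCA.FlatAt R q M ↔ FlatCA.FlatAt R Q M :=
  flatAt_iff_of_exists_mul q Q hQ (exists_mul_of_unique q Q huniq) M

theorem flatAt_congr {R S : Type u} [CommRing R] [CommRing S] [Algebra R S]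
    (q : Ideal S) [q.IsPrime] {N N' : Type u} [AddCommGroup N] [Module S N] [Module R N] [IsScalarTower R S N]
    [AddCommGroup N'] [Module S N'] [Module R N'] [IsScalarTower R S N'] (e : N ≃ₗ[S] N') :
    FlatCA.FlatAt R q N ↔ FlatCA.FlatAt R q N' := by
  have : IsLocalizedModule q.primeCompl (LocalizedModule.mkLinearMap q.primeCompl N' ∘ₗ e.toLinearMap) :=
    inferInstance
  rw [flatAt_iff_of_isLocalizedModule q N (LocalizedModule.mkLinearMap q.primeCompl N' ∘ₗ e.toLinearMap)]
  rfl

end FlatAt

section FinitePresentation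

open TensorProduct

/-- A module over a finite type `D`-algebra `C` which is finitely presented over `D` is finitely presented
over `C`. -/
theorem finitePresentation_of_restrict (D : Type u) (C : Type v) (M : Type w) [CommRing D] [CommRing C] [Algebra D C]
    [Algebra.FiniteType D C] [AddCommGroup M] [Module D M] [Module C M] [IsScalarTower D C M]
    [Module.FinitePresentation D M] : Module.FinitePresentation C M := by
  classical
  obtain ⟨s, hs⟩ := (Algebra.FiniteType.out : (⊤ : Subalgebra D C).FG)
  obtain ⟨t, ht⟩ := (Module.Finite.fg_top : (⊤ : Submodule D M).FG)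
  -- the action map `C ⊗ M → M`
  let μ : C ⊗[D] M →ₗ[C] M := LinearMap.liftBaseChange C (LinearMap.id : M →ₗ[D] M)
  have hμ : ∀ (c : C) (m : M), μ (c ⊗ₜ m) = c • m := fun c m ↦ LinearMap.liftBaseChange_tmul C _ c m
  let δ : C → M → C ⊗[D] M := fun c m ↦ c ⊗ₜ m - (1 : C) ⊗ₜ (c • m)
  let K' : Submodule C (C ⊗[D] M) := Submodule.span C (Set.image2 δ (s : Set C) (t : Set M))
  have hK'fg : K'.FG := Submodule.fg_span (Set.Finite.image2 _ s.finite_toSet t.finite_toSet)
  have hδ : ∀ (c : C) (m : M), δ c m ∈ K' := by
    intro c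
    have hc : c ∈ Algebra.adjoin D (s : Set C) := by rw [hs]; trivial
    induction hc using Algebra.adjoin_induction with
    | mem x hx =>
      intro m
      have hm : m ∈ Submodule.span D (t : Set M) := by rw [ht]; trivial
      induction hm using Submodule.span_induction with
      | mem y hy => exact Submodule.subset_span ⟨x, hx, y, hy, rfl⟩
      | zero => simp [δ]
      | add y z _ _ hy hz =>
        have : δ x (y + z) = δ x y + δ x z := by
          simp only [δ, TensorProduct.tmul_add, smul_add]; abel
        rw [this]; exact K'.add_mem hy hz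
      | smul a y _ hy =>
        have : δ x (a • y) = (algebraMap D C a) • δ x y := by
          simp only [δ, algebraMap_smul, smul_sub, TensorProduct.tmul_smul]
          rw [smul_comm x a y, TensorProduct.tmul_smul]
        rw [this]; exact K'.smul_mem _ hy
    | algebraMap a =>
      intro m
      have : δ (algebraMap D C a) m = 0 := by
        simp only [δ, algebraMap_smul]
        rw [Algebra.algebraMap_eq_smul_one, TensorProduct.smul_tmul, sub_self]
      rw [this]; exact K'.zero_mem
    | add x y _ _ hx hy =>
      intro m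
      have : δ (x + y) m = δ x m + δ y m := by
        simp only [δ, TensorProduct.add_tmul, add_smul, TensorProduct.tmul_add]; abel
      rw [this]; exact K'.add_mem (hx m) (hy m)
    | mul x y _ _ hx hy =>
      intro m
      have : δ (x * y) m = x • δ y m + δ x (y • m) := by
        simp only [δ, smul_sub, TensorProduct.smul_tmul', smul_eq_mul, mul_one, mul_smul]; abel
      rw [this]; exact K'.add_mem (K'.smul_mem _ (hy m)) (hx _)
  refine Module.finitePresentation_of_surjective μ (fun m ↦ ⟨1 ⊗ₜ m, by rw [hμ, one_smul]⟩) ?_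
  have : LinearMap.ker μ = K' := by
    apply le_antisymm
    · intro x hx
      have key : ∀ x : C ⊗[D] M, x - (1 : C) ⊗ₜ μ x ∈ K' := by
        intro x
        induction x using TensorProduct.induction_on with
        | zero => simp
        | tmul c m => rw [hμ]; exact hδ c m
        | add x y hx hy =>
          have : x + y - (1 : C) ⊗ₜ[D] μ (x + y) = (x - (1 : C) ⊗ₜ μ x) + (y - (1 : C) ⊗ₜ μ y) := by
            rw [map_add, TensorProduct.tmul_add]; abel
          rw [this]; exact K'.add_mem hx hy
      have := key x
      rwa [LinearMap.mem_ker.1 hx, TensorProduct.tmul_zero, sub_zero] at this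
    · rw [Submodule.span_le]
      rintro _ ⟨c, -, m, -, rfl⟩
      simp only [δ, SetLike.mem_coe, LinearMap.mem_ker, map_sub, hμ, one_smul, sub_self]
  rw [this]
  exact hK'fg

/-- For a finite and finitely presented algebra, finite presentation of modules can be tested downstairs. -/
theorem finitePresentation_iff_of_finite (D : Type u) (C : Type v) (M : Type w) [CommRing D] [CommRing C] [Algebra D C]
    [Module.Finite D C] [Algebra.FinitePresentation D C] [AddCommGroup M] [Module D M] [Module C M]
    [IsScalarTower D C M] :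
    Module.FinitePresentation D M ↔ Module.FinitePresentation C M := by
  have : Module.FinitePresentation D C := Module.FinitePresentation.of_finite_of_finitePresentation D C
  exact ⟨fun _ ↦ finitePresentation_of_restrict D C M, fun _ ↦ Module.FinitePresentation.trans D M C⟩

end FinitePresentation

end Groth.Agent.Flat2B.LocTransfer
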