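import Groth.Prelude.Def_FlatCA
import Groth.Agent.Flat2B.LocTransfer
import Mathlib.RingTheory.Flat.Localization
import Mathlib.RingTheory.Flat.Tensor

/-!
# An elementwise criterion for flatness over a base of a localization

`R → A`, `M` an `A`-module, `T ⊆ A` multiplicative. Then `T⁻¹M` is flat over `R` iff every element of the kernel of
`M ⊗ I → M ⊗ R` is killed by an element of `T`, for all ideals `I` of `R`.
-/

set_option autoImplicit false

namespace Groth.Agent.Flat2B.FlatCrit

universe u v w

open TensorProduct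

section Crit

variable {R : Type u} {A : Type v} [CommRing R] [CommRing A] [Algebra R A] (T : Submonoid A)
  {M M' : Type w} [AddCommGroup M] [Module R M] [Module A M] [IsScalarTower R A M]
  [AddCommGroup M'] [Module R M'] [Module A M'] [IsScalarTower R A M']

theorem flat_iff_forall_exists (f : M →ₗ[A] M') [IsLocalizedModule T f] :
    Module.Flat R M' ↔ ∀ (I : Ideal R) (x : M ⊗[R] I),
      AlgebraTensorModule.lTensor A M I.subtype x = 0 → ∃ t ∈ T, t • x = 0 := by
  have hcomm : ∀ (I : Ideal R) (x : M ⊗[R] I),
      AlgebraTensorModule.lTensor A M' I.subtype (AlgebraTensorModule.rTensor R I f x) =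
        AlgebraTensorModule.rTensor R R f (AlgebraTensorModule.lTensor A M I.subtype x) := by
    intro I x
    induction x using TensorProduct.induction_on with
    | zero => simp
    | tmul m i => simp
    | add x y hx hy => simp only [map_add, hx, hy]
  rw [Module.Flat.iff_lTensor_injective']
  constructor
  · intro h I x hx
    have h1 : AlgebraTensorModule.lTensor A M' I.subtype (AlgebraTensorModule.rTensor R I f x) = 0 := by
      rw [hcomm, hx, map_zero]
    have h2 : AlgebraTensorModule.rTensor R I f x = 0 := h I (by rw [map_zero]; exact h1)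
    rw [IsLocalizedModule.eq_zero_iff T] at h2
    obtain ⟨t, ht⟩ := h2
    exact ⟨t, t.2, ht⟩
  · intro h I
    rw [injective_iff_map_eq_zero]
    intro y hy
    obtain ⟨⟨x, t⟩, hxt⟩ := IsLocalizedModule.surj T (AlgebraTensorModule.rTensor R I f) y
    have h1 : AlgebraTensorModule.rTensor R R f (AlgebraTensorModule.lTensor A M I.subtype x) = 0 := by
      rw [← hcomm, ← hxt]
      simp only [Submonoid.smul_def, map_smul]
      have : AlgebraTensorModule.lTensor A M' I.subtype y = 0 := hy
      rw [this, smul_zero]
    rw [IsLocalizedModule.eq_zero_iff T] at h1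
    obtain ⟨t', ht'⟩ := h1
    rw [Submonoid.smul_def, ← map_smul] at ht'
    obtain ⟨t'', ht''T, ht''⟩ := h I _ ht'
    have h3 : AlgebraTensorModule.rTensor R I f x = 0 := by
      rw [IsLocalizedModule.eq_zero_iff T]
      exact ⟨⟨t'', ht''T⟩ * t', by rw [Submonoid.smul_def, Submonoid.coe_mul, mul_smul]; exact ht''⟩
    rw [h3] at hxt
    exact IsLocalizedModule.smul_injective (AlgebraTensorModule.rTensor R I f) t (by
      change t • y = t • 0
      rw [smul_zero]; exact hxt)

theorem flat_of_isLocalizedModule (f : M →ₗ[A] M') [IsLocalizedModule T f] [Module.Flat R M] :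
    Module.Flat R M' := by
  rw [flat_iff_forall_exists T f]
  intro I x hx
  refine ⟨1, T.one_mem, ?_⟩
  rw [one_smul]
  have := (Module.Flat.iff_lTensor_injective' (R := R) (M := M)).1 inferInstance I
  exact this (by rw [map_zero]; exact hx)

end Crit

section FlatAt

variable {R S : Type u} [CommRing R] [CommRing S] [Algebra R S]
    (q : Ideal S) [q.IsPrime] (N : Type u) [AddCommGroup N] [Module S N] [Module R N] [IsScalarTower R S N]

theorem flatAt_iff_forall_exists :
    FlatCA.FlatAt R q N ↔ ∀ (I : Ideal R) (x : N ⊗[R] I),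
      AlgebraTensorModule.lTensor S N I.subtype x = 0 → ∃ t ∉ q, t • x = 0 :=
  flat_iff_forall_exists q.primeCompl (LocalizedModule.mkLinearMap q.primeCompl N)

theorem flatAt_of_flat [Module.Flat R N] : FlatCA.FlatAt R q N :=
  flat_of_isLocalizedModule q.primeCompl (LocalizedModule.mkLinearMap q.primeCompl N)

theorem flatAt_of_flat_away {g : S} (hg : g ∉ q) (h : Module.Flat R (LocalizedModule (Submonoid.powers g) N)) :
    FlatCA.FlatAt R q N := by
  rw [flatAt_iff_forall_exists]
  rw [flat_iff_forall_exists (Submonoid.powers g) (LocalizedModule.mkLinearMap (Submonoid.powers g) N)] at h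
  intro I x hx
  obtain ⟨_, ⟨n, rfl⟩, ht⟩ := h I x hx
  exact ⟨g ^ n, fun hn ↦ hg (Ideal.IsPrime.mem_of_pow_mem inferInstance n hn), ht⟩

theorem flatAt_of_le {q' : Ideal S} [q'.IsPrime] (hle : q' ≤ q) (h : FlatCA.FlatAt R q N) :
    FlatCA.FlatAt R q' N := by
  rw [flatAt_iff_forall_exists] at h ⊢
  intro I x hx
  obtain ⟨t, ht, htx⟩ := h I x hx
  exact ⟨t, fun h' ↦ ht (hle h'), htx⟩

/-- flatness can be tested at all primes. -/
theorem flat_of_forall_flatAt (h : ∀ (Q : Ideal S) [Q.IsMaximal], FlatCA.FlatAt R Q N) : Module.Flat R N :=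
  Module.flat_of_isLocalized_maximal (R := R) S N (fun P _ ↦ LocalizedModule P.primeCompl N)
    (fun P _ ↦ LocalizedModule.mkLinearMap P.primeCompl N) (fun P _ ↦ h P)

end FlatAt

section Integral

variable {R B A : Type u} [CommRing R] [CommRing B] [CommRing A] [Algebra R B] [Algebra R A] [Algebra B A]
    (M : Type u) [AddCommGroup M] [Module A M] [Module B M] [IsScalarTower B A M] [Module R M]
    [IsScalarTower R B M] [IsScalarTower R A M]

/-- flatness at a prime upstairs follows from flatness at the prime downstairs -/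
theorem flatAt_of_flatAt_comap (q : Ideal B) [q.IsPrime] (Q : Ideal A) [Q.IsPrime] (hQ : Q.comap (algebraMap B A) = q)
    (h : FlatCA.FlatAt R q M) : FlatCA.FlatAt R Q M := by
  rw [flatAt_iff_forall_exists] at h ⊢
  intro I x hx
  obtain ⟨t, ht, htx⟩ := h I x hx
  exact ⟨algebraMap B A t, fun h' ↦ ht (by rw [← hQ]; exact h'), by rw [algebraMap_smul]; exact htx⟩

/-- for an integral extension, flatness at a prime downstairs follows from flatness at all primes above it -/
theorem flatAt_of_forall_flatAt [Algebra.IsIntegral B A] (q : Ideal B) [q.IsPrime]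
    (h : ∀ (Q : Ideal A) [Q.IsPrime], Q.comap (algebraMap B A) = q → FlatCA.FlatAt R Q M) :
    FlatCA.FlatAt R q M := by
  rw [flatAt_iff_forall_exists]
  intro I x hx
  by_contra hcon
  push Not at hcon
  have hx' : AlgebraTensorModule.lTensor A M I.subtype x = 0 := hx
  -- the annihilator of `x` in `A`
  let J : Ideal A := (Submodule.span A {x}).annihilator
  have hJ : ∀ a : A, a ∈ J ↔ a • x = 0 := fun a ↦ Submodule.mem_annihilator_span_singleton x a
  have hdisj : Disjoint (J : Set A) (Algebra.algebraMapSubmonoid A q.primeCompl) := by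
    rw [Set.disjoint_left]
    rintro _ ha ⟨s, hs, rfl⟩
    have : algebraMap B A s • x = 0 := (hJ _).1 ha
    rw [algebraMap_smul] at this
    exact hcon s hs this
  obtain ⟨P, hP, hle, hPd⟩ := Ideal.exists_le_prime_disjoint _ _ hdisj
  have hPq : P.comap (algebraMap B A) ≤ q := by
    intro s hs
    by_contra hsq
    exact Set.disjoint_left.1 hPd hs ⟨s, hsq, rfl⟩
  obtain ⟨Q', hPQ', hQ'p, hQ'⟩ := Ideal.exists_ideal_over_prime_of_isIntegral q P hPq
  have h1 := (flatAt_iff_forall_exists Q' M).1 (h Q' hQ') I x hx'
  obtain ⟨t, ht, htx⟩ := h1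
  exact ht (hPQ' (hle ((hJ t).2 htx)))

end Integral

end Groth.Agent.Flat2B.FlatCrit
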