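import Mathlib.RingTheory.Flat.EquationalCriterion
import Mathlib.RingTheory.Unramified.Finite
import Mathlib.RingTheory.Etale.Basic

/-!
Flatness over an ind-étale algebra: if every finite subset of `S` comes from an étale
(even unramified) `R`-algebra mapping to `S`, then an `S`-module which is flat over `R` is flat
over `S`.
-/

universe u

namespace Groth.Agent.Flat2B.FlatIndEtale

/-- Every finite subset of `S` is in the image of an étale `R`-algebra mapping to `S`. -/
def FinEtale (R S : Type u) [CommRing R] [CommRing S] [Algebra R S] : Prop :=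
  ∀ s : Finset S, ∃ (A : Type u) (_ : CommRing A) (_ : Algebra R A) (_ : Algebra.Etale R A)
    (φ : A →ₐ[R] S), (↑s : Set S) ⊆ Set.range φ

/-- If `R → S` is such that each finite subset of `S` comes from an étale `R`-algebra then
`S`-modules flat over `R` are flat over `S`. -/
theorem flat_of_flat {R S : Type u} [CommRing R] [CommRing S] [Algebra R S] (h : FinEtale R S)
    (M : Type u) [AddCommGroup M] [Module S M] [Module R M] [IsScalarTower R S M]
    [Module.Flat R M] : Module.Flat S M := by
  classical
  refine Module.Flat.of_forall_isTrivialRelation (fun {l f x} hfx => ?_)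
  obtain ⟨A, _, _, _, φ, hφ⟩ := h (Finset.univ.image f)
  have hf : ∀ i, ∃ a : A, φ a = f i := fun i => hφ (by simp)
  choose a ha using hf
  letI : Algebra A S := φ.toRingHom.toAlgebra
  letI : Module A M := Module.compHom M φ.toRingHom
  haveI : IsScalarTower R A M := ⟨fun r b m => by
    change φ (r • b) • m = r • (φ b • m)
    rw [map_smul, smul_assoc]⟩
  haveI : Module.Flat A M := Algebra.FormallyUnramified.flat_of_restrictScalars R A M
  have hsm : ∀ (b : A) (m : M), b • m = φ b • m := fun _ _ => rfl
  have h1 : ∑ i, a i • x i = 0 := by
    simp only [hsm, ha]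
    exact hfx
  obtain ⟨k, c, y, hy, hc⟩ := Module.Flat.isTrivialRelation_of_sum_smul_eq_zero h1
  refine ⟨k, fun i j => φ (c i j), y, fun i => ?_, fun j => ?_⟩
  · simpa only [hsm] using hy i
  · have := congrArg φ (hc j)
    simpa only [map_sum, map_mul, map_zero, ha] using this

end Groth.Agent.Flat2B.FlatIndEtale
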