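import Groth.Prelude.Def_FlatCA
import Mathlib.RingTheory.Etale.QuasiFinite
import Mathlib.RingTheory.Etale.Basic
import Mathlib.RingTheory.IsTensorProduct

/-!
# Elementary etale ring maps at a prime

`ResTriv R S p q`: elementwise form of "the residue field extension `κ(p) → κ(q)` is trivial",
together with the API of `FlatCA.IsEtaleNhd`.
-/

set_option autoImplicit false
universe u v w

namespace Groth.Agent.Flat2B.EtaleNhd

open TensorProduct

section ResTriv

/-- Elementwise form of triviality of the residue field extension at `q` over `p`. -/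
def ResTriv (R : Type u) (S : Type v) [CommRing R] [CommRing S] [Algebra R S] (p : Ideal R)
    (q : Ideal S) : Prop :=
  ∀ b : S, ∃ a s : R, s ∉ p ∧ algebraMap R S s * b - algebraMap R S a ∈ q

variable {R : Type u} {S : Type v} [CommRing R] [CommRing S] [Algebra R S]

theorem resTriv_iff_surjective (p : Ideal R) (q : Ideal S) [p.IsPrime] [q.IsPrime]
    [h : q.LiesOver p] :
    ResTriv R S p q ↔
      Function.Surjective (Ideal.ResidueField.mapₐ p q (Algebra.ofId R S) h.over) := by
  constructor
  · intro H x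
    have key : ∀ b : S, ∃ y, Ideal.ResidueField.mapₐ p q (Algebra.ofId R S) h.over y =
        algebraMap S q.ResidueField b := by
      intro b
      obtain ⟨a, s, hs, hb⟩ := H b
      refine ⟨algebraMap R _ a / algebraMap R _ s, ?_⟩
      have hs' : algebraMap R p.ResidueField s ≠ 0 := by
        rwa [Ne, Ideal.algebraMap_residueField_eq_zero]
      have hs'' : algebraMap S q.ResidueField (algebraMap R S s) ≠ 0 := by
        rw [Ne, Ideal.algebraMap_residueField_eq_zero]
        intro hc
        apply hs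
        rw [h.over]
        exact hc
      have e1 : ∀ r : R, Ideal.ResidueField.mapₐ p q (Algebra.ofId R S) h.over
          (algebraMap R p.ResidueField r) = algebraMap S q.ResidueField (algebraMap R S r) := by
        intro r
        rw [AlgHom.commutes]
        exact IsScalarTower.algebraMap_apply R S q.ResidueField r
      rw [map_div₀, e1, e1, div_eq_iff hs'']
      rw [← Ideal.algebraMap_residueField_eq_zero (I := q), map_sub, map_mul, sub_eq_zero] at hb
      rw [← hb, mul_comm]
    obtain ⟨y, z, hz, rfl⟩ := IsFractionRing.div_surjective (A := S ⧸ q) x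
    obtain ⟨y, rfl⟩ := Ideal.Quotient.mk_surjective y
    obtain ⟨z, rfl⟩ := Ideal.Quotient.mk_surjective z
    obtain ⟨y', hy'⟩ := key y
    obtain ⟨z', hz'⟩ := key z
    refine ⟨y' / z', ?_⟩
    rw [map_div₀, hy', hz']
    rfl
  · intro H b
    obtain ⟨y, hy⟩ := H (algebraMap S q.ResidueField b)
    obtain ⟨a, s, hs, rfl⟩ := IsFractionRing.div_surjective (A := R ⧸ p) y
    obtain ⟨a, rfl⟩ := Ideal.Quotient.mk_surjective a
    obtain ⟨s, rfl⟩ := Ideal.Quotient.mk_surjective s
    have hs1 : s ∉ p := by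
      intro hc
      rw [Ideal.Quotient.eq_zero_iff_mem.mpr hc] at hs
      exact zero_notMem_nonZeroDivisors hs
    refine ⟨a, s, hs1, ?_⟩
    have e1 : ∀ r : R, Ideal.ResidueField.mapₐ p q (Algebra.ofId R S) h.over
        (algebraMap R p.ResidueField r) = algebraMap S q.ResidueField (algebraMap R S r) := by
      intro r
      rw [AlgHom.commutes]
      exact IsScalarTower.algebraMap_apply R S q.ResidueField r
    have hs'' : algebraMap S q.ResidueField (algebraMap R S s) ≠ 0 := by
      rw [Ne, Ideal.algebraMap_residueField_eq_zero]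
      intro hc
      apply hs1
      rw [h.over]
      exact hc
    rw [Ideal.algebraMap_quotient_residueField_mk, Ideal.algebraMap_quotient_residueField_mk,
      map_div₀, e1, e1, div_eq_iff hs''] at hy
    rw [← Ideal.algebraMap_residueField_eq_zero (I := q), map_sub, map_mul, sub_eq_zero, hy,
      mul_comm]

theorem resTriv_iff_bijective (p : Ideal R) (q : Ideal S) [p.IsPrime] [q.IsPrime]
    [h : q.LiesOver p] :
    ResTriv R S p q ↔
      Function.Bijective (Ideal.ResidueField.mapₐ p q (Algebra.ofId R S) h.over) := by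
  rw [resTriv_iff_surjective]
  exact ⟨fun H => ⟨RingHom.injective (Ideal.ResidueField.mapₐ p q (Algebra.ofId R S)
    h.over).toRingHom, H⟩, fun H => H.2⟩

theorem ResTriv.refl (p : Ideal R) (hp : p ≠ ⊤) : ResTriv R R p p := fun b =>
  ⟨b, 1, fun h => hp ((Ideal.eq_top_iff_one _).mpr h), by simp⟩

theorem ResTriv.trans {T : Type w} [CommRing T] [Algebra S T] [Algebra R T] [IsScalarTower R S T]
    {p : Ideal R} {q : Ideal S} {r : Ideal T} [hp : p.IsPrime] [hq' : q.IsPrime] [hr : r.LiesOver q]
    [hq : q.LiesOver p]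
    (h1 : ResTriv R S p q) (h2 : ResTriv S T q r) : ResTriv R T p r := by
  intro c
  obtain ⟨b, t, ht, hc⟩ := h2 c
  obtain ⟨a, s, hs, hb⟩ := h1 b
  obtain ⟨a', s', hs', hb'⟩ := h1 t
  have ha' : a' ∉ p := by
    intro hc
    apply ht
    have h3 : algebraMap R S a' ∈ q := by
      have : a' ∈ q.under R := by rw [← hq.over]; exact hc
      exact this
    have h4 : algebraMap R S s' * t ∈ q := by
      have := q.add_mem hb' h3
      simpa using this
    exact (hq'.mem_or_mem h4).resolve_left (fun h6 => hs' (by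
      rw [hq.over]; exact h6))
  -- s t' ... : s' t ≡ a', s b ≡ a, t c ≡ b
  refine ⟨a * s', s * a', fun h => (hp.mem_or_mem h).elim hs ha', ?_⟩
  have e0 : ∀ x : S, x ∈ q → algebraMap S T x ∈ r := by
    intro x hx
    have : x ∈ r.under S := by rw [← hr.over]; exact hx
    exact this
  have h3 := e0 _ hb
  have h4 := e0 _ hb'
  have h5 : algebraMap R T (s * a') * c - algebraMap R T (a * s') =
      algebraMap R T s * algebraMap R T s' * (algebraMap S T t * c - algebraMap S T b)
      - algebraMap R T s * c * (algebraMap S T (algebraMap R S s' * t - algebraMap R S a'))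
      + algebraMap R T s' * (algebraMap S T (algebraMap R S s * b - algebraMap R S a)) := by
    simp only [map_mul, map_sub, ← IsScalarTower.algebraMap_apply R S T]
    ring
  rw [h5]
  exact r.add_mem (r.sub_mem (r.mul_mem_left _ hc) (r.mul_mem_left _ h4)) (r.mul_mem_left _ h3)

/-- Cancellation on the left: `κ(p) → κ(q) → κ(r)` with trivial composite, then `κ(q) → κ(r)` is
trivial. -/
theorem ResTriv.of_comp_right {T : Type w} [CommRing T] [Algebra S T] [Algebra R T]
    [IsScalarTower R S T] {p : Ideal R} {q : Ideal S} {r : Ideal T} [hq : q.LiesOver p]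
    (h : ResTriv R T p r) : ResTriv S T q r := by
  intro c
  obtain ⟨a, s, hs, hc⟩ := h c
  refine ⟨algebraMap R S a, algebraMap R S s, fun h => hs (by rw [hq.over]; exact h), ?_⟩
  simpa only [← IsScalarTower.algebraMap_apply R S T] using hc

/-- Cancellation on the right. -/
theorem ResTriv.of_comp_left {T : Type w} [CommRing T] [Algebra S T] [Algebra R T]
    [IsScalarTower R S T] {p : Ideal R} {q : Ideal S} {r : Ideal T} [hr : r.LiesOver q]
    (h : ResTriv R T p r) : ResTriv R S p q := by
  intro b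
  obtain ⟨a, s, hs, hc⟩ := h (algebraMap S T b)
  refine ⟨a, s, hs, ?_⟩
  rw [hr.over, Ideal.under_def, Ideal.mem_comap]
  simpa only [map_mul, map_sub, ← IsScalarTower.algebraMap_apply R S T] using hc

/-- Localization has trivial residue field extensions. -/
theorem resTriv_of_isLocalization (M : Submonoid R) [IsLocalization M S] (p : Ideal R)
    (hM : ∀ m ∈ M, m ∉ p) (q : Ideal S) : ResTriv R S p q := by
  intro b
  obtain ⟨⟨a, s⟩, h⟩ := IsLocalization.surj M b
  refine ⟨a, s, hM _ s.2, ?_⟩
  dsimp only at h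
  rw [mul_comm, h, sub_self]
  exact q.zero_mem

theorem resTriv_of_surjective (h : Function.Surjective (algebraMap R S)) (p : Ideal R)
    (hp : p ≠ ⊤) (q : Ideal S) : ResTriv R S p q := by
  intro b
  obtain ⟨a, rfl⟩ := h b
  exact ⟨a, 1, fun h => hp ((Ideal.eq_top_iff_one _).mpr h), by simp⟩

end ResTriv

section Pushout

variable {R : Type u} {R' : Type v} {S : Type w} [CommRing R] [CommRing R'] [CommRing S]
  [Algebra R R'] [Algebra R S] {S' : Type*} [CommRing S'] [Algebra R S'] [Algebra S S']
  [Algebra R' S'] [IsScalarTower R S S'] [IsScalarTower R R' S']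

theorem ResTriv.pushout_aux [H : Algebra.IsPushout R S R' S'] {p : Ideal R} {p' : Ideal R'}
    {q : Ideal S} [hq : q.IsPrime] [hqp : q.LiesOver p] (h : ResTriv R R' p p') (z : S') :
    ∃ a s : S, s ∉ q ∧ algebraMap S S' s * z - algebraMap S S' a ∈ p'.map (algebraMap R' S') := by
  induction z using H.out.inductionOn with
  | zero => exact ⟨0, 1, fun h => hq.ne_top ((Ideal.eq_top_iff_one _).mpr h), by simp⟩
  | tmul b =>
    obtain ⟨a, s, hs, hb⟩ := h b
    refine ⟨algebraMap R S a, algebraMap R S s, fun h => hs (by rw [hqp.over]; exact h), ?_⟩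
    have := Ideal.mem_map_of_mem (algebraMap R' S') hb
    rw [AlgHom.toLinearMap_apply, IsScalarTower.coe_toAlgHom']
    simpa only [map_mul, map_sub, ← IsScalarTower.algebraMap_apply R R' S',
      ← IsScalarTower.algebraMap_apply R S S'] using this
  | smul t z hz =>
    obtain ⟨a, s, hs, hb⟩ := hz
    refine ⟨t * a, s, hs, ?_⟩
    have : algebraMap S S' s * (t • z) - algebraMap S S' (t * a) =
      algebraMap S S' t * (algebraMap S S' s * z - algebraMap S S' a) := by
      rw [Algebra.smul_def, map_mul]; ring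
    rw [this]
    exact Ideal.mul_mem_left _ _ hb
  | add z₁ z₂ h1 h2 =>
    obtain ⟨a, s, hs, hb⟩ := h1
    obtain ⟨a', s', hs', hb'⟩ := h2
    refine ⟨s' * a + s * a', s * s', fun h => (hq.mem_or_mem h).elim hs hs', ?_⟩
    have : algebraMap S S' (s * s') * (z₁ + z₂) - algebraMap S S' (s' * a + s * a') =
      algebraMap S S' s' * (algebraMap S S' s * z₁ - algebraMap S S' a) +
      algebraMap S S' s * (algebraMap S S' s' * z₂ - algebraMap S S' a') := by
      simp only [map_mul, map_add]; ring
    rw [this]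
    exact Ideal.add_mem _ (Ideal.mul_mem_left _ _ hb) (Ideal.mul_mem_left _ _ hb')

/-- Trivial residue extensions are stable under base change. -/
theorem ResTriv.pushout [Algebra.IsPushout R S R' S'] {p : Ideal R} {p' : Ideal R'}
    {q : Ideal S} [hq : q.IsPrime] [hqp : q.LiesOver p] (h : ResTriv R R' p p')
    (Q : Ideal S') [hQ : Q.LiesOver p'] : ResTriv S S' q Q := by
  intro z
  obtain ⟨a, s, hs, hz⟩ := h.pushout_aux (S := S) (S' := S') (q := q) z
  exact ⟨a, s, hs, (Ideal.map_le_iff_le_comap.mpr (hQ.over.le)) hz⟩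

/-- There is at most one prime of the pushout over two given primes when one of the residue field
extensions is trivial. -/
theorem ResTriv.pushout_unique [Algebra.IsPushout R S R' S'] {p : Ideal R} {p' : Ideal R'}
    {q : Ideal S} [hq : q.IsPrime] [hqp : q.LiesOver p] (h : ResTriv R R' p p')
    {Q₁ Q₂ : Ideal S'} [hp1 : Q₁.IsPrime] [hp2 : Q₂.IsPrime] [h1 : Q₁.LiesOver p']
    [h2 : Q₂.LiesOver p'] [h3 : Q₁.LiesOver q] [h4 : Q₂.LiesOver q] : Q₁ = Q₂ := by
  have key : ∀ (Q₁ Q₂ : Ideal S') (_ : Q₁.IsPrime) (_ : Q₂.IsPrime) (_ : Q₁.LiesOver p')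
      (_ : Q₂.LiesOver p') (_ : Q₁.LiesOver q) (_ : Q₂.LiesOver q), Q₁ ≤ Q₂ := by
    intro Q₁ Q₂ hp1 hp2 h1 h2 h3 h4 z hz
    obtain ⟨a, s, hs, hz'⟩ := h.pushout_aux (S := S) (S' := S') (q := q) z
    have i1 := (Ideal.map_le_iff_le_comap.mpr
      (show p' ≤ Q₁.comap (algebraMap R' S') from h1.over.le)) hz'
    have i2 := (Ideal.map_le_iff_le_comap.mpr
      (show p' ≤ Q₂.comap (algebraMap R' S') from h2.over.le)) hz'
    have i3 : algebraMap S S' a ∈ Q₁ := by
      have := Q₁.sub_mem (Q₁.mul_mem_left (algebraMap S S' s) hz) i1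
      simpa using this
    have i4 : a ∈ q := by rw [h3.over]; exact i3
    have i5 : algebraMap S S' a ∈ Q₂ := by rw [h4.over] at i4; exact i4
    have i6 : algebraMap S S' s * z ∈ Q₂ := by simpa using Q₂.add_mem i2 i5
    refine (hp2.mem_or_mem i6).resolve_left (fun i7 => hs ?_)
    rw [h4.over]; exact i7
  exact le_antisymm (key _ _ hp1 hp2 h1 h2 h3 h4) (key _ _ hp2 hp1 h2 h1 h4 h3)

end Pushout

section ExistsPrime

/-- A pushout of rings has a prime over any two primes over the same prime of the base. -/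
theorem exists_prime_of_isPushout {R R' S S' : Type*} [CommRing R] [CommRing R'] [CommRing S]
    [Algebra R R'] [Algebra R S] [CommRing S'] [Algebra R S'] [Algebra S S'] [Algebra R' S']
    [IsScalarTower R S S'] [IsScalarTower R R' S'] [H : Algebra.IsPushout R S R' S']
    (p : Ideal R) [p.IsPrime] (q : Ideal S) [q.IsPrime] (p' : Ideal R') [p'.IsPrime]
    [hq : q.LiesOver p] [hp' : p'.LiesOver p] :
    ∃ Q : Ideal S', Q.IsPrime ∧ Q.LiesOver q ∧ Q.LiesOver p' := by
  let a1 : Algebra p.ResidueField q.ResidueField :=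
    (Ideal.ResidueField.mapₐ p q (Algebra.ofId R S) hq.over).toRingHom.toAlgebra
  let a2 : Algebra p.ResidueField p'.ResidueField :=
    (Ideal.ResidueField.mapₐ p p' (Algebra.ofId R R') hp'.over).toRingHom.toAlgebra
  have t1 : IsScalarTower R p.ResidueField q.ResidueField :=
    IsScalarTower.of_algebraMap_eq' (by
      ext r
      change _ = Ideal.ResidueField.mapₐ p q (Algebra.ofId R S) hq.over
        (algebraMap R p.ResidueField r)
      rw [AlgHom.commutes])
  have t2 : IsScalarTower R p.ResidueField p'.ResidueField :=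
    IsScalarTower.of_algebraMap_eq' (by
      ext r
      change _ = Ideal.ResidueField.mapₐ p p' (Algebra.ofId R R') hp'.over
        (algebraMap R p.ResidueField r)
      rw [AlgHom.commutes])
  let K := q.ResidueField ⊗[p.ResidueField] p'.ResidueField
  let : Algebra R K := Algebra.TensorProduct.leftAlgebra
  let f1 : S →ₐ[R] K := (Algebra.TensorProduct.includeLeft : q.ResidueField →ₐ[R] K).comp
    (IsScalarTower.toAlgHom R S q.ResidueField)
  let f2 : R' →ₐ[R] K := ((Algebra.TensorProduct.includeRight :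
    p'.ResidueField →ₐ[p.ResidueField] K).restrictScalars R).comp
    (IsScalarTower.toAlgHom R R' p'.ResidueField)
  let g : S ⊗[R] R' →ₐ[R] K := Algebra.TensorProduct.lift f1 f2 (fun _ _ => Commute.all _ _)
  let e := Algebra.IsPushout.equiv R S R' S'
  let φ : S' →+* K := g.toRingHom.comp e.symm.toRingEquiv.toRingHom
  obtain ⟨m, hm⟩ := Ideal.exists_maximal K
  refine ⟨m.comap φ, inferInstance, ⟨?_⟩, ⟨?_⟩⟩
  · have h1 : (m.comap φ).under S = (m.comap (Algebra.TensorProduct.includeLeft :
        q.ResidueField →ₐ[R] K).toRingHom).comap (algebraMap S q.ResidueField) := by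
      ext x
      simp only [Ideal.under_def, Ideal.mem_comap]
      have : φ (algebraMap S S' x) = (Algebra.TensorProduct.includeLeft :
        q.ResidueField →ₐ[R] K).toRingHom (algebraMap S q.ResidueField x) := by
        change g (e.symm (algebraMap S S' x)) = _
        rw [Algebra.IsPushout.equiv_symm_algebraMap_left, Algebra.TensorProduct.lift_tmul]
        simp [f1]
      rw [this]
    rw [h1, (Ideal.eq_bot_of_prime (m.comap (Algebra.TensorProduct.includeLeft :
        q.ResidueField →ₐ[R] K).toRingHom))]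
    ext x
    rw [Ideal.mem_comap, Ideal.mem_bot, Ideal.algebraMap_residueField_eq_zero]
  · have h1 : (m.comap φ).under R' = (m.comap (Algebra.TensorProduct.includeRight :
        p'.ResidueField →ₐ[p.ResidueField] K).toRingHom).comap (algebraMap R' p'.ResidueField) := by
      ext x
      simp only [Ideal.under_def, Ideal.mem_comap]
      have : φ (algebraMap R' S' x) = (Algebra.TensorProduct.includeRight :
        p'.ResidueField →ₐ[p.ResidueField] K).toRingHom (algebraMap R' p'.ResidueField x) := by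
        change g (e.symm (algebraMap R' S' x)) = _
        rw [Algebra.IsPushout.equiv_symm_algebraMap_right, Algebra.TensorProduct.lift_tmul]
        simp [f2]
      rw [this]
    rw [h1, (Ideal.eq_bot_of_prime (m.comap (Algebra.TensorProduct.includeRight :
        p'.ResidueField →ₐ[p.ResidueField] K).toRingHom))]
    ext x
    rw [Ideal.mem_comap, Ideal.mem_bot, Ideal.algebraMap_residueField_eq_zero]

end ExistsPrime


section IsEtaleNhd

open FlatCA

variable {R R' R'' : Type u} [CommRing R] [CommRing R'] [CommRing R''] [Algebra R R']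
  [Algebra R' R''] [Algebra R R''] [IsScalarTower R R' R''] {p : Ideal R} {p' : Ideal R'}
  {p'' : Ideal R''} [p.IsPrime] [p'.IsPrime] [p''.IsPrime]

theorem isEtaleNhd_iff : IsEtaleNhd R R' p p' ↔
    Algebra.Etale R R' ∧ p'.LiesOver p ∧ ResTriv R R' p p' := by
  constructor
  · rintro ⟨h1, h2, h3⟩
    exact ⟨h1, h2, (resTriv_iff_bijective p p').mpr h3⟩
  · rintro ⟨h1, h2, h3⟩
    exact ⟨h1, h2, (resTriv_iff_bijective p p').mp h3⟩


theorem isEtaleNhd_of [h1 : Algebra.Etale R R'] [h2 : p'.LiesOver p] (h3 : ResTriv R R' p p') :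
    IsEtaleNhd R R' p p' := isEtaleNhd_iff.mpr ⟨h1, h2, h3⟩

theorem etale (h : IsEtaleNhd R R' p p') : Algebra.Etale R R' := h.1

theorem liesOver (h : IsEtaleNhd R R' p p') : p'.LiesOver p := h.2.1

theorem resTriv (h : IsEtaleNhd R R' p p') : ResTriv R R' p p' := (isEtaleNhd_iff.mp h).2.2

variable (R p) in
theorem isEtaleNhd_refl : IsEtaleNhd R R p p :=
  isEtaleNhd_iff.mpr ⟨inferInstance, ⟨rfl⟩, .refl p (Ideal.IsPrime.ne_top inferInstance)⟩

theorem isEtaleNhd_trans (h1 : IsEtaleNhd R R' p p') (h2 : IsEtaleNhd R' R'' p' p'') :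
    IsEtaleNhd R R'' p p'' := by
  have e1 := etale h1
  have e2 := etale h2
  have l1 := liesOver h1
  have l2 := liesOver h2
  exact isEtaleNhd_iff.mpr ⟨Algebra.Etale.comp R R' R'', .trans p'' p' p,
    (resTriv h1).trans (resTriv h2)⟩

/-- If the composite and the first map are elementary etale, so is the second. -/
theorem isEtaleNhd_of_comp (h1 : Algebra.Etale R R') (h2 : IsEtaleNhd R R'' p p'')
    [l1 : p'.LiesOver p] [l2 : p''.LiesOver p'] : IsEtaleNhd R' R'' p' p'' := by
  have e2 := etale h2
  exact isEtaleNhd_iff.mpr ⟨Algebra.Etale.of_restrictScalars R R' R'', l2,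
    (resTriv h2).of_comp_right⟩

/-- Localization away from an element outside `p` is elementary etale. -/
theorem isEtaleNhd_of_isLocalization_away (f : R) [IsLocalization.Away f R'] (hf : f ∉ p)
    [l1 : p'.LiesOver p] : IsEtaleNhd R R' p p' := by
  have : Algebra.Etale R R' := Algebra.Etale.of_isLocalizationAway f
  refine isEtaleNhd_of (resTriv_of_isLocalization (Submonoid.powers f) p ?_ p')
  rintro _ ⟨n, rfl⟩ h
  exact hf (Ideal.IsPrime.mem_of_pow_mem inferInstance n h)

theorem liesOver_map_away (f : R) (hf : f ∉ p) [IsLocalization.Away f R'] :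
    (p.map (algebraMap R R')).IsPrime ∧ (p.map (algebraMap R R')).LiesOver p := by
  have hd : Disjoint (Submonoid.powers f : Set R) p :=
    (Ideal.disjoint_powers_iff_notMem_of_isPrime (I := p) f).mpr hf
  exact ⟨IsLocalization.isPrime_of_isPrime_disjoint (.powers f) _ _ ‹_› hd,
    IsLocalization.liesOver_map_of_isPrime_disjoint (.powers f) _ hd⟩

/-- Transport along an isomorphism of algebras. -/
theorem isEtaleNhd_of_algEquiv {R₂ : Type u} [CommRing R₂] [Algebra R R₂] (e : R' ≃ₐ[R] R₂)
    {p₂ : Ideal R₂} [p₂.IsPrime] (he : p₂.comap e.toRingEquiv.toRingHom = p')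
    (h : IsEtaleNhd R R' p p') : IsEtaleNhd R R₂ p p₂ := by
  have h1 := etale h
  have h2 := liesOver h
  have : Algebra.Etale R R₂ := Algebra.Etale.of_equiv e
  have l : p₂.LiesOver p := ⟨by
    rw [h2.over, ← he]
    ext x
    simp [Ideal.mem_comap]⟩
  refine isEtaleNhd_of ?_
  intro b
  obtain ⟨a, s, hs, hb⟩ := resTriv h (e.symm b)
  refine ⟨a, s, hs, ?_⟩
  rw [← he, Ideal.mem_comap] at hb
  simpa using hb

end IsEtaleNhd

section BaseChange

open FlatCA

variable {R R' S S' : Type u} [CommRing R] [CommRing R'] [CommRing S] [CommRing S']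
  [Algebra R R'] [Algebra R S] [Algebra R S'] [Algebra S S']
  [Algebra R' S'] [IsScalarTower R S S'] [IsScalarTower R R' S'] [H : Algebra.IsPushout R S R' S']
  {p : Ideal R} {p' : Ideal R'} {q : Ideal S} [p.IsPrime] [p'.IsPrime] [q.IsPrime]

/-- Base change of an elementary etale map: for any prime `Q` of the pushout over `q` and `p'`, the
map `(S, q) → (S', Q)` is elementary etale. -/
theorem isEtaleNhd_pushout (h : IsEtaleNhd R R' p p') (hq : q.LiesOver p) (Q : Ideal S')
    [Q.IsPrime] (hQ : Q.LiesOver q) (hQ' : Q.LiesOver p') : IsEtaleNhd S S' q Q := by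
  have h1 := etale h
  have : Algebra.Etale S S' := by
    have := Algebra.Etale.baseChange R R' S
    exact Algebra.Etale.of_equiv (Algebra.IsPushout.equiv R S R' S')
  exact isEtaleNhd_of ((resTriv h).pushout Q)

/-- There is exactly one prime of the pushout over `(q, p')`, and it is elementary etale over
`q`. -/
theorem exists_isEtaleNhd_pushout (h : IsEtaleNhd R R' p p') (hq : q.LiesOver p) :
    ∃ (Q : Ideal S') (_ : Q.IsPrime), Q.LiesOver q ∧ Q.LiesOver p' ∧ IsEtaleNhd S S' q Q ∧
      ∀ (Q₁ : Ideal S') [Q₁.IsPrime], Q₁.LiesOver q → Q₁.LiesOver p' → Q₁ = Q := by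
  have h2 := liesOver h
  obtain ⟨Q, hQ, h3, h4⟩ := exists_prime_of_isPushout (R := R) (R' := R') (S := S) (S' := S') p q p'
  exact ⟨Q, hQ, h3, h4, isEtaleNhd_pushout h hq Q h3 h4,
    fun Q₁ _ h5 h6 => (resTriv h).pushout_unique (S := S) (q := q)⟩

end BaseChange

section Refinement

open FlatCA

/-- Common refinement of two elementary etale maps. -/
theorem exists_common_refinement {R R₁ R₂ : Type u} [CommRing R] [CommRing R₁] [CommRing R₂]
    [Algebra R R₁] [Algebra R R₂] {p : Ideal R} {p₁ : Ideal R₁} {p₂ : Ideal R₂} [p.IsPrime]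
    [p₁.IsPrime] [p₂.IsPrime] (h1 : IsEtaleNhd R R₁ p p₁) (h2 : IsEtaleNhd R R₂ p p₂) :
    ∃ (R₃ : Type u) (_ : CommRing R₃) (_ : Algebra R R₃) (_ : Algebra R₁ R₃) (_ : Algebra R₂ R₃)
      (_ : IsScalarTower R R₁ R₃) (_ : IsScalarTower R R₂ R₃) (p₃ : Ideal R₃) (_ : p₃.IsPrime),
      IsEtaleNhd R R₃ p p₃ ∧ IsEtaleNhd R₁ R₃ p₁ p₃ ∧ IsEtaleNhd R₂ R₃ p₂ p₃ := by
  let : Algebra R₂ (R₁ ⊗[R] R₂) := Algebra.TensorProduct.rightAlgebra
  have l1 := liesOver h1
  have l2 := liesOver h2
  obtain ⟨Q, hQ, h3, h4, h5, -⟩ := exists_isEtaleNhd_pushout (R := R) (R' := R₂) (S := R₁)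
    (S' := R₁ ⊗[R] R₂) (q := p₁) h2 l1
  exact ⟨R₁ ⊗[R] R₂, inferInstance, inferInstance, inferInstance, inferInstance, inferInstance,
    inferInstance, Q, hQ, isEtaleNhd_trans h1 h5, h5,
    isEtaleNhd_of_comp (etale h2) (isEtaleNhd_trans h1 h5)⟩

theorem exists_common_refinement_fin_aux {R : Type u} [CommRing R] {p : Ideal R} [p.IsPrime]
    (k : ℕ) (R₁ : Fin k → Type u) [∀ i, CommRing (R₁ i)] [∀ i, Algebra R (R₁ i)]
    (p₁ : ∀ i, Ideal (R₁ i)) [∀ i, (p₁ i).IsPrime] (h : ∀ i, IsEtaleNhd R (R₁ i) p (p₁ i)) :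
    ∃ (R' : Type u) (_ : CommRing R') (_ : Algebra R R') (p' : Ideal R') (_ : p'.IsPrime),
      IsEtaleNhd R R' p p' ∧ ∀ i, ∃ (_ : Algebra (R₁ i) R') (_ : IsScalarTower R (R₁ i) R'),
        IsEtaleNhd (R₁ i) R' (p₁ i) p' := by
  induction k with
  | zero =>
    exact ⟨R, inferInstance, inferInstance, p, inferInstance,
      isEtaleNhd_refl R p, fun i => i.elim0⟩
  | succ k ih =>
    obtain ⟨R', _, _, p', _, h1, h2⟩ := ih (fun i => R₁ i.castSucc) (fun i => p₁ i.castSucc)
      (fun i => h i.castSucc)
    obtain ⟨R₃, _, _, _, _, _, _, p₃, _, h3, h4, h5⟩ := exists_common_refinement h1 (h (Fin.last k))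
    refine ⟨R₃, inferInstance, inferInstance, p₃, inferInstance, h3, fun i => ?_⟩
    induction i using Fin.lastCases with
    | last => exact ⟨inferInstance, inferInstance, h5⟩
    | cast i =>
      obtain ⟨a, t, h6⟩ := h2 i
      let b : Algebra (R₁ i.castSucc) R₃ :=
        ((algebraMap R' R₃).comp (algebraMap (R₁ i.castSucc) R')).toAlgebra
      have t1 : IsScalarTower (R₁ i.castSucc) R' R₃ := IsScalarTower.of_algebraMap_eq' rfl
      refine ⟨b, ?_, isEtaleNhd_trans h6 h4⟩
      refine IsScalarTower.of_algebraMap_eq fun x => ?_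
      rw [IsScalarTower.algebraMap_apply R R' R₃, IsScalarTower.algebraMap_apply R (R₁ i.castSucc) R']
      rfl

/-- Common refinement of a finite family of elementary etale maps. -/
theorem exists_common_refinement_fin {R : Type u} [CommRing R] {p : Ideal R} [p.IsPrime] (k : ℕ)
    (R₁ : Fin k → Type u) [∀ i, CommRing (R₁ i)] [∀ i, Algebra R (R₁ i)] (p₁ : ∀ i, Ideal (R₁ i))
    [∀ i, (p₁ i).IsPrime] (h : ∀ i, IsEtaleNhd R (R₁ i) p (p₁ i)) :
    ∃ (R' : Type u) (_ : CommRing R') (_ : Algebra R R') (_ : ∀ i, Algebra (R₁ i) R')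
      (_ : ∀ i, IsScalarTower R (R₁ i) R') (p' : Ideal R') (_ : p'.IsPrime),
      IsEtaleNhd R R' p p' ∧ ∀ i, IsEtaleNhd (R₁ i) R' (p₁ i) p' := by
  obtain ⟨R', _, _, p', _, h1, h2⟩ := exists_common_refinement_fin_aux k R₁ p₁ h
  choose a t h3 using h2
  exact ⟨R', inferInstance, inferInstance, a, t, p', inferInstance, h1, h3⟩

end Refinement

section Localization

open FlatCA

variable {R R' R'' : Type u} [CommRing R] [CommRing R'] [CommRing R''] [Algebra R R']
  [Algebra R' R''] [Algebra R R''] [IsScalarTower R R' R''] {p : Ideal R} {p' : Ideal R'}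
  [p.IsPrime] [p'.IsPrime]

/-- The local ring of an elementary etale neighbourhood still has trivial residue field
extension. -/
theorem resTriv_localization_atPrime (h : ResTriv R R' p p') [p'.LiesOver p]
    [IsLocalization.AtPrime R'' p'] (p'' : Ideal R'') [p''.LiesOver p'] :
    ResTriv R R'' p p'' :=
  h.trans (resTriv_of_isLocalization (R := R') (S := R'') p'.primeCompl p' (fun _ h => h) p'')

theorem liesOver_maximalIdeal_atPrime (p' : Ideal R') [p'.IsPrime] :
    (IsLocalRing.maximalIdeal (Localization.AtPrime p')).LiesOver p' :=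
  ⟨(IsLocalization.AtPrime.under_maximalIdeal (Localization.AtPrime p') p').symm⟩

/-- For an elementary etale neighbourhood `(R', p')` of `(R, p)`, `A = R'_{p'}`, any model `SA` of
`S ⊗_R A` and any prime `q` of `S` over `p`, there is exactly one prime of `SA` over `q` and over
the maximal ideal of `A`, and its residue field is that of `q`. -/
theorem exists_unique_prime_localized (h : IsEtaleNhd R R' p p') {S SA : Type u} [CommRing S]
    [CommRing SA] [Algebra R S] [Algebra R SA] [Algebra S SA]
    [Algebra (Localization.AtPrime p') SA]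
    [IsScalarTower R S SA] [IsScalarTower R (Localization.AtPrime p') SA]
    [Algebra.IsPushout R S (Localization.AtPrime p') SA] (q : Ideal S) [q.IsPrime]
    [hq : q.LiesOver p] :
    ∃ (Q : Ideal SA) (_ : Q.IsPrime), Q.LiesOver q ∧
      Q.LiesOver (IsLocalRing.maximalIdeal (Localization.AtPrime p')) ∧ ResTriv S SA q Q ∧
      ∀ (Q₁ : Ideal SA) [Q₁.IsPrime], Q₁.LiesOver q →
        Q₁.LiesOver (IsLocalRing.maximalIdeal (Localization.AtPrime p')) → Q₁ = Q := by
  have l1 := liesOver h
  have l2 := liesOver_maximalIdeal_atPrime p'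
  have l3 : (IsLocalRing.maximalIdeal (Localization.AtPrime p')).LiesOver p := .trans _ p' p
  have h1 : ResTriv R (Localization.AtPrime p') p
      (IsLocalRing.maximalIdeal (Localization.AtPrime p')) :=
    resTriv_localization_atPrime (resTriv h) _
  obtain ⟨Q, hQ, h3, h4⟩ := exists_prime_of_isPushout (R := R) (R' := Localization.AtPrime p')
    (S := S) (S' := SA) p q (IsLocalRing.maximalIdeal (Localization.AtPrime p'))
  exact ⟨Q, hQ, h3, h4, h1.pushout Q, fun Q₁ _ h5 h6 => h1.pushout_unique (S := S) (q := q)⟩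

end Localization

end Groth.Agent.Flat2B.EtaleNhd
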