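import Groth.Agent.S1202
import Groth.Agent.Flat2B.EtaleNhd
import Mathlib.RingTheory.Etale.QuasiFinite
import Mathlib.RingTheory.Unramified.LocalStructure
import Mathlib.RingTheory.Etale.Pi
import Mathlib.LinearAlgebra.TensorProduct.Pi

/-!
# Étale covers of a fibre with projective sections (Stacks 05KW, strong form)

`exists_cover`: the primes of the cover can be chosen over the distinguished point of the étale neighbourhood of the base.
-/

set_option autoImplicit false
universe u

namespace Groth.Agent.Flat2B.CoverProj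

open TensorProduct

/-- `RestrictScalars` version versus the `leftModule` structure. -/
noncomputable def restrictEquiv (R' S' S N : Type u) [CommRing S] [CommRing R'] [CommRing S'] [Algebra S S']
    [Algebra R' S'] [AddCommGroup N] [Module S N] :
    RestrictScalars R' S' (S' ⊗[S] N) ≃ₗ[R'] S' ⊗[S] N :=
  { RestrictScalars.addEquiv R' S' (S' ⊗[S] N) with
    map_smul' := by
      intro r x
      change (RestrictScalars.addEquiv R' S' (S' ⊗[S] N)) (r • x) = r • ((RestrictScalars.addEquiv R' S' (S' ⊗[S] N)) x)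
      rw [RestrictScalars.addEquiv_map_smul, algebraMap_smul] }

/-- the tensor product commutes with finite products of algebras on the left, linearly over any ring acting -/
noncomputable def piTensorEquiv {ι : Type} [Fintype ι] [DecidableEq ι] (R' S N : Type u) [CommRing S] [CommRing R'] (T : ι → Type u)
    [∀ i, CommRing (T i)] [∀ i, Algebra S (T i)] [∀ i, Algebra R' (T i)] [AddCommGroup N] [Module S N] :
    (∀ i, T i) ⊗[S] N ≃ₗ[R'] ∀ i, (T i ⊗[S] N) :=
  AddEquiv.toLinearEquiv
    ((TensorProduct.comm S (∀ i, T i) N ≪≫ₗ TensorProduct.piRight S S N T ≪≫ₗ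
      LinearEquiv.piCongrRight (fun i => TensorProduct.comm S N (T i))).toAddEquiv)
    (by
      intro c x
      induction x with
      | zero => simp
      | add x y hx hy => rw [smul_add, map_add, map_add, hx, hy, smul_add]
      | tmul t n => rfl)

/-- the local statement around a point of the fibre -/
theorem local_cover {R S : Type u} [CommRing R] [CommRing S] [Algebra R S] [Algebra.FinitePresentation R S]
    (N : Type u) [AddCommGroup N] [Module S N] [Module R N] [IsScalarTower R S N] [Module.FinitePresentation S N]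
    (p : Ideal R) [p.IsPrime] (q : Ideal S) [q.IsPrime] [q.LiesOver p] (hflat : FlatCA.FlatAt R q N) :
    ∃ (R' S' : Type u) (_ : CommRing R') (_ : CommRing S') (_ : Algebra R R') (_ : Algebra S S') (_ : Algebra R' S')
      (_ : Algebra R S') (_ : IsScalarTower R R' S') (_ : IsScalarTower R S S')
      (p' : Ideal R') (_ : p'.IsPrime) (U : Set (PrimeSpectrum S)),
      FlatCA.IsEtaleNhd R R' p p' ∧ Algebra.Etale S S' ∧ IsOpen U ∧ ⟨q, inferInstance⟩ ∈ U ∧
      (∀ x ∈ U, x.asIdeal.LiesOver p → ∃ (q' : Ideal S') (_ : q'.IsPrime), q'.LiesOver x.asIdeal ∧ q'.LiesOver p') ∧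
      Module.Projective R' (S' ⊗[S] N) := by
  obtain ⟨R', S', _, _, _, _, _, _, _, _, p', q', _, _, h1, h2, h3, h4⟩ := Groth.Agent.S1202.result N p q hflat
  have e1 := h1.1
  have e2 := h2.1
  have l1 : p'.LiesOver p := h1.2.choose
  have l2 : q'.LiesOver q := h2.2.choose
  obtain ⟨s, hs, H⟩ := Ideal.exists_not_mem_forall_mem_of_ne_of_liesOver p p'
  refine ⟨R', S', inferInstance, inferInstance, inferInstance, inferInstance, inferInstance, inferInstance,
    inferInstance, inferInstance, p', inferInstance,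
    PrimeSpectrum.comap (algebraMap S S') '' (PrimeSpectrum.basicOpen (algebraMap R' S' s)), h1, e2, ?_, ?_, ?_, ?_⟩
  · exact PrimeSpectrum.isOpenMap_comap_of_hasGoingDown_of_finitePresentation _ (PrimeSpectrum.basicOpen _).isOpen
  · refine ⟨⟨q', inferInstance⟩, ?_, PrimeSpectrum.ext l2.over.symm⟩
    intro h
    exact hs (by rw [h3.over]; exact h)
  · rintro _ ⟨y, hy, rfl⟩ hx
    refine ⟨y.asIdeal, y.isPrime, ⟨rfl⟩, ?_⟩
    have h5 : (y.asIdeal.comap (algebraMap R' S')).LiesOver p := by
      constructor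
      have h6 := hx.over
      rw [h6]
      change Ideal.comap _ (Ideal.comap _ _) = Ideal.comap _ (Ideal.comap _ _)
      rw [Ideal.comap_comap, Ideal.comap_comap, ← IsScalarTower.algebraMap_eq, ← IsScalarTower.algebraMap_eq]
    constructor
    by_contra hne
    exact hy (H (y.asIdeal.comap (algebraMap R' S')) inferInstance (fun h => hne h.symm) h5)
  · exact Module.Projective.of_equiv (restrictEquiv R' S' S N)

theorem assemble {R S : Type u} [CommRing R] [CommRing S] [Algebra R S] 
    (N : Type u) [AddCommGroup N] [Module S N] (p : Ideal R) [p.IsPrime] (k : ℕ) (R₂ S₂ : Fin k → Type u)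
    [∀ i, CommRing (R₂ i)] [∀ i, CommRing (S₂ i)] [∀ i, Algebra R (R₂ i)] [∀ i, Algebra S (S₂ i)]
    [∀ i, Algebra (R₂ i) (S₂ i)] [∀ i, Algebra R (S₂ i)] [∀ i, IsScalarTower R (R₂ i) (S₂ i)]
    [∀ i, IsScalarTower R S (S₂ i)] (p₂ : ∀ i, Ideal (R₂ i)) [∀ i, (p₂ i).IsPrime]
    (h1 : ∀ i, FlatCA.IsEtaleNhd R (R₂ i) p (p₂ i)) (h2 : ∀ i, Algebra.Etale S (S₂ i))
    (h5 : ∀ (x : Ideal S) [x.IsPrime], x.LiesOver p → ∃ (i : Fin k) (q' : Ideal (S₂ i)) (_ : q'.IsPrime),
      q'.LiesOver x ∧ q'.LiesOver (p₂ i))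
    (h6 : ∀ i, Module.Projective (R₂ i) (S₂ i ⊗[S] N)) :
    ∃ (R' S' : Type u) (_ : CommRing R') (_ : CommRing S') (_ : Algebra R R') (_ : Algebra S S') (_ : Algebra R' S')
      (_ : Algebra R S') (_ : IsScalarTower R R' S') (_ : IsScalarTower R S S')
      (p' : Ideal R') (_ : p'.IsPrime),
      FlatCA.IsEtaleNhd R R' p p' ∧ Algebra.Etale S S' ∧
      (∀ (q : Ideal S) [q.IsPrime], q.LiesOver p →
        ∃ (q' : Ideal S') (_ : q'.IsPrime), q'.LiesOver q ∧ q'.LiesOver p') ∧
      Module.Projective R' (S' ⊗[S] N) := by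
  obtain ⟨R', _, _, a1, a2, p', _, h7, h8⟩ := Flat2B.EtaleNhd.exists_common_refinement_fin k R₂ p₂ h1
  let T : Fin k → Type u := fun i => S₂ i ⊗[R₂ i] R'
  let _ : ∀ i, Algebra R' (T i) := fun i => Algebra.TensorProduct.rightAlgebra
  have tower1 : ∀ i, IsScalarTower R (S₂ i) (T i) := fun i => inferInstance
  have tower2 : ∀ i, IsScalarTower S (S₂ i) (T i) := fun i => inferInstance
  have tower3 : ∀ i, IsScalarTower (R₂ i) R' (T i) := fun i => inferInstance
  have tower4 : ∀ i, IsScalarTower R S (T i) := fun i => inferInstance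
  have tower5 : ∀ i, IsScalarTower R R' (T i) := fun i => by
    refine IsScalarTower.of_algebraMap_eq fun x => ?_
    rw [IsScalarTower.algebraMap_apply R (R₂ i) (T i), IsScalarTower.algebraMap_apply R (R₂ i) R',
      IsScalarTower.algebraMap_apply (R₂ i) R' (T i)]
  have po : ∀ i, Algebra.IsPushout (R₂ i) (S₂ i) R' (T i) := fun i => inferInstance
  have et1 : ∀ i, Algebra.Etale (S₂ i) (T i) := fun i => by
    have := (h8 i).1
    infer_instance
  have et2 : ∀ i, Algebra.Etale S (T i) := fun i => Algebra.Etale.comp S (S₂ i) (T i)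
  let _ : Algebra R (∀ i, T i) := inferInstance
  refine ⟨R', (∀ i, T i), inferInstance, inferInstance, inferInstance, inferInstance, inferInstance, inferInstance,
    ?_, ?_, p', inferInstance, h7, inferInstance, ?_, ?_⟩
  · infer_instance
  · infer_instance
  · intro q _ hq
    obtain ⟨i, q', _, hq1, hq2⟩ := h5 q hq
    have l1 : p'.LiesOver (p₂ i) := (h8 i).2.choose
    obtain ⟨Q, hQ, hQ1, hQ2⟩ := Flat2B.EtaleNhd.exists_prime_of_isPushout (R := R₂ i) (R' := R') (S := S₂ i)
      (S' := T i) (p₂ i) q' p'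
    refine ⟨Q.comap (Pi.evalRingHom T i), inferInstance, ?_, ?_⟩
    · constructor
      have h9 : q = Q.comap (algebraMap S (T i)) := by
        rw [hq1.over, hQ1.over, IsScalarTower.algebraMap_eq S (S₂ i) (T i), ← Ideal.comap_comap]
      rw [h9]
      rfl
    · constructor
      rw [hQ2.over]
      rfl
  · have hp : ∀ i, Module.Projective R' (T i ⊗[S] N) := fun i => by
      let M := S₂ i ⊗[S] N
      have e1 : T i ⊗[S₂ i] M ≃ₗ[R'] T i ⊗[S] N :=
        { AlgebraTensorModule.cancelBaseChange S (S₂ i) (T i) (T i) N with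
          map_smul' := by
            intro r x
            change AlgebraTensorModule.cancelBaseChange S (S₂ i) (T i) (T i) N (r • x) =
              r • AlgebraTensorModule.cancelBaseChange S (S₂ i) (T i) (T i) N x
            rw [← algebraMap_smul (T i) r x, map_smul, algebraMap_smul] }
      have e2 : T i ⊗[S₂ i] M ≃ₗ[R'] R' ⊗[R₂ i] M :=
        Algebra.IsPushout.cancelBaseChange (R₂ i) R' (S₂ i) (T i) M
      have := h6 i
      exact Module.Projective.of_equiv (e2.symm.trans e1)
    have e3 : (Π₀ i, (T i ⊗[S] N)) ≃ₗ[R'] (∀ i, (T i ⊗[S] N)) := DFinsupp.linearEquivFunOnFintype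
    have : Module.Projective R' (∀ i, (T i ⊗[S] N)) := Module.Projective.of_equiv e3
    exact Module.Projective.of_equiv (piTensorEquiv R' S N T).symm

/-- Stacks 05KW, strong form: the primes of the cover lie over the distinguished prime. -/
theorem exists_cover {R S : Type u} [CommRing R] [CommRing S] [Algebra R S] [Algebra.FinitePresentation R S]
    (N : Type u) [AddCommGroup N] [Module S N] [Module R N] [IsScalarTower R S N] [Module.FinitePresentation S N]
    (p : Ideal R) [p.IsPrime] (hflat : ∀ (q : Ideal S) [q.IsPrime], q.LiesOver p → FlatCA.FlatAt R q N) :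
    ∃ (R' S' : Type u) (_ : CommRing R') (_ : CommRing S') (_ : Algebra R R') (_ : Algebra S S') (_ : Algebra R' S')
      (_ : Algebra R S') (_ : IsScalarTower R R' S') (_ : IsScalarTower R S S')
      (p' : Ideal R') (_ : p'.IsPrime),
      FlatCA.IsEtaleNhd R R' p p' ∧ Algebra.Etale S S' ∧
      (∀ (q : Ideal S) [q.IsPrime], q.LiesOver p →
        ∃ (q' : Ideal S') (_ : q'.IsPrime), q'.LiesOver q ∧ q'.LiesOver p') ∧
      Module.Projective R' (S' ⊗[S] N) := by
  have H := fun (x : PrimeSpectrum S) (hx : x.asIdeal.LiesOver p) =>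
    local_cover N p x.asIdeal (hflat x.asIdeal hx)
  choose R₁ S₁ i1 i2 i3 i4 i5 i6 i7 i8 p₁ i9 U h1 h2 h3 h4 h5 h6 using H
  let F : Set (PrimeSpectrum S) := {x : PrimeSpectrum S | x.asIdeal.LiesOver p}
  have hcomp : IsCompact F := by
    have hF : F = PrimeSpectrum.comap (algebraMap R S) ⁻¹' {⟨p, inferInstance⟩} := by
      ext x
      constructor
      · intro hx
        exact PrimeSpectrum.ext hx.over.symm
      · intro hx
        exact ⟨(congrArg PrimeSpectrum.asIdeal hx).symm⟩
    rw [hF, isCompact_iff_compactSpace]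
    exact (PrimeSpectrum.preimageHomeomorphFiber R S ⟨p, inferInstance⟩).symm.compactSpace
  obtain ⟨t, ht⟩ := hcomp.elim_nhds_subcover' (fun x hx => U x hx) (fun x hx => (h3 x hx).mem_nhds (h4 x hx))
  let k := t.card
  let e : Fin k ≃ t := t.equivFin.symm
  let R₂ : Fin k → Type u := fun i => R₁ (e i).1.1 (e i).1.2
  let S₂ : Fin k → Type u := fun i => S₁ (e i).1.1 (e i).1.2
  let _ : ∀ i, CommRing (R₂ i) := fun i => i1 _ _
  let _ : ∀ i, CommRing (S₂ i) := fun i => i2 _ _
  let _ : ∀ i, Algebra R (R₂ i) := fun i => i3 _ _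
  let _ : ∀ i, Algebra S (S₂ i) := fun i => i4 _ _
  let _ : ∀ i, Algebra (R₂ i) (S₂ i) := fun i => i5 _ _
  let _ : ∀ i, Algebra R (S₂ i) := fun i => i6 _ _
  have _ : ∀ i, IsScalarTower R (R₂ i) (S₂ i) := fun i => i7 _ _
  have _ : ∀ i, IsScalarTower R S (S₂ i) := fun i => i8 _ _
  let p₂ : ∀ i, Ideal (R₂ i) := fun i => p₁ _ _
  have _ : ∀ i, (p₂ i).IsPrime := fun i => i9 _ _
  refine assemble N p k R₂ S₂ p₂ (fun i => h1 _ _) (fun i => h2 _ _) ?_ (fun i => h6 _ _)
  intro x _ hx
  have hx' := ht (show (⟨x, inferInstance⟩ : PrimeSpectrum S) ∈ F from hx)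
  rw [Set.mem_iUnion₂] at hx'
  obtain ⟨y, hy, hxy⟩ := hx'
  obtain ⟨i, hi⟩ := e.surjective ⟨y, hy⟩
  refine ⟨i, ?_⟩
  apply h5 (e i).1.1 (e i).1.2 ⟨x, inferInstance⟩ _ hx
  rw [hi]
  exact hxy

end Groth.Agent.Flat2B.CoverProj
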