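import Groth.Prelude.Def_FlatCA

/-!
# Recursion principle for complete dévissages

`Step R S N rr` is the data of one step of a `FlatCA.CompleteDevissage R S N rr`, `StepAt st q` the
extra data at a prime.  We provide `single`, `cons` (building a complete dévissage from a first step
and a complete dévissage of the cokernel), `step`, `tail` (going back) and the resulting
characterisations by length.
-/

set_option autoImplicit false
universe u

namespace Groth.Agent.Flat2B.DevissageRec

open FlatCA TensorProduct

section Defs

variable (R S : Type u) [CommRing R] [CommRing S] [Algebra R S] (N : Type u) [AddCommGroup N]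
  [Module S N] (rr : Ideal R) [rr.IsPrime]

/-- The data of one step of a complete dévissage. -/
structure Step : Type (u + 1) where
  /-- ring carrying the module -/
  A : Type u
  /-- the smooth algebra -/
  B : Type u
  /-- the module -/
  M : Type u
  /-- the rank -/
  r : ℕ
  [cA : CommRing A] [cB : CommRing B]
  [aRA : Algebra R A] [aRB : Algebra R B]
  [aBA : Algebra B A] [tRBA : IsScalarTower R B A]
  [aSA : Algebra S A] [tRSA : IsScalarTower R S A]
  [gM : AddCommGroup M] [mAM : Module A M] [mBM : Module B M]
  [tBAM : IsScalarTower B A M]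
  [mRM : Module R M] [tRBM : IsScalarTower R B M]
  [mSM : Module S M] [tSAM : IsScalarTower S A M]
  [hp : (rr.map (algebraMap R B)).IsPrime]
  /-- the map from the free module -/
  α : (Fin r → B) →ₗ[B] M
  surjSA : Function.Surjective (algebraMap S A)
  fpSA : Algebra.FinitePresentation S A
  finiteBA : Module.Finite B A
  smooth : Algebra.Smooth R B
  geomIrred : GeomIrredFibres R B
  finiteM : Module.Finite A M
  /-- the identification with `N` -/
  isoN : N ≃ₗ[S] M
  fibreIso : Function.Bijective (α.baseChange (rr.map (algebraMap R B)).ResidueField)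

attribute [instance] Step.cA Step.cB Step.aRA Step.aRB Step.aBA Step.tRBA Step.aSA Step.tRSA
  Step.gM Step.mAM Step.mBM Step.tBAM Step.mRM Step.tRBM Step.mSM Step.tSAM Step.hp

/-- The cokernel of the map of a step. -/
abbrev Step.coker {R S : Type u} [CommRing R] [CommRing S] [Algebra R S] {N : Type u}
    [AddCommGroup N] [Module S N] {rr : Ideal R} [rr.IsPrime] (st : Step R S N rr) : Type u :=
  st.M ⧸ LinearMap.range st.α

/-- The extra data of a step at a prime. -/
structure StepAt (st : Step R S N rr) (q : Ideal S) [q.IsPrime] : Type u where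
  /-- the point of the smooth algebra -/
  qB : Ideal st.B
  /-- the point of the ring carrying the module -/
  qA : Ideal st.A
  [hqB : qB.IsPrime] [hqA : qA.IsPrime]
  [overB : qB.LiesOver rr] [overA : qA.LiesOver qB]
  pureTrans : PurelyTranscendental rr qB
  uniq : ∀ (Q : Ideal st.A) [Q.IsPrime], Q.LiesOver qB → Q = qA
  q0 : qA.comap (algebraMap S st.A) = q
  /-- the relative dimension -/
  d : ℕ
  relDim : SmoothRelDim d R st.B
  locDim : ∃ (x : PrimeSpectrum (rr.Fiber st.B))
    (hx : x ∈ Module.support (rr.Fiber st.B) (fiberMod rr st.B st.M)),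
    x.asIdeal = fiberIdeal rr qB ∧
    FlatMor.localDim (Module.support (rr.Fiber st.B) (fiberMod rr st.B st.M)) ⟨x, hx⟩ = d

attribute [instance] StepAt.hqB StepAt.hqA StepAt.overB StepAt.overA

end Defs

section Constructions

variable {R S : Type u} [CommRing R] [CommRing S] [Algebra R S] {N : Type u} [AddCommGroup N]
  [Module S N] {rr : Ideal R} [rr.IsPrime]

/-- The first step of a complete dévissage. -/
noncomputable def firstStep (D : CompleteDevissage R S N rr) : Step R S N rr where
  A := D.A 0
  B := D.B 0
  M := D.M 0
  r := D.r 0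
  α := D.α 0
  surjSA := D.surjSA
  fpSA := D.fpSA
  finiteBA := D.finiteBA 0 D.pos
  smooth := D.smooth 0 D.pos
  geomIrred := D.geomIrred 0 D.pos
  finiteM := D.finiteM 0 D.pos
  isoN := D.isoN
  fibreIso := D.fibreIso 0 D.pos

/-- The first step at a prime. -/
noncomputable def firstStepAt (D : CompleteDevissage R S N rr) (q : Ideal S) [q.IsPrime]
    (E : CompleteDevissageAt R S N rr q D) : StepAt R S N rr (firstStep D) q :=
  letI := E.hqB 0
  letI := E.hqA 0
  letI := E.overB 0
  letI := E.overA 0
  { qB := E.qB 0
    qA := E.qA 0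
    hqB := E.hqB 0
    hqA := E.hqA 0
    overB := E.overB 0
    overA := E.overA 0
    pureTrans := E.pureTrans 0 D.pos
    uniq := E.uniq 0 D.pos
    q0 := E.q0
    d := E.d 0
    relDim := E.relDim 0 D.pos
    locDim := E.locDim 0 D.pos }

/-- A complete dévissage with one step. -/
noncomputable def single (st : Step R S N rr) (h : Function.Surjective st.α) :
    CompleteDevissage R S N rr where
  n := 1
  pos := Nat.one_pos
  A := fun _ => st.A
  B := fun _ => st.B
  M := fun _ => st.M
  r := fun _ => st.r
  aBA' := fun _ => st.aBA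
  tRBA' := fun _ => st.tRBA
  mB'M := fun _ => st.mBM
  tB'AM := fun _ => st.tBAM
  α := fun _ => st.α
  surjSA := st.surjSA
  fpSA := st.fpSA
  surjBA' := fun i h => absurd h (by omega)
  fpBA' := fun i h => absurd h (by omega)
  finiteBA := fun _ _ => st.finiteBA
  smooth := fun _ _ => st.smooth
  geomIrred := fun _ _ => st.geomIrred
  finiteM := fun _ _ => st.finiteM
  isoN := st.isoN
  isoCoker := fun i h => absurd h (by omega)
  fibreIso := fun _ _ => st.fibreIso
  cokerLast := h

/-- The at-data for `single`. -/
noncomputable def singleAt (st : Step R S N rr) (h : Function.Surjective st.α)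
    (q : Ideal S) [q.IsPrime] (sa : StepAt R S N rr st q) :
    CompleteDevissageAt R S N rr q (single st h) where
  qB := fun _ => sa.qB
  qA := fun _ => sa.qA
  hqB := fun _ => sa.hqB
  hqA := fun _ => sa.hqA
  overB := fun _ => sa.overB
  overA := fun _ => sa.overA
  pureTrans := fun _ _ => sa.pureTrans
  uniq := fun _ _ => sa.uniq
  q0 := sa.q0
  qStep := fun i h => absurd (show i + 1 < 1 from h) (by omega)
  d := fun _ => sa.d
  relDim := fun _ _ => sa.relDim
  locDim := fun _ _ => sa.locDim

/-- Removing the first step of a complete dévissage. -/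
noncomputable def tail (D : CompleteDevissage R S N rr) (h : 2 ≤ D.n) :
    CompleteDevissage R (firstStep D).B (firstStep D).coker rr where
  n := D.n - 1
  pos := by omega
  A := fun i => D.A (i + 1)
  B := fun i => D.B (i + 1)
  M := fun i => D.M (i + 1)
  r := fun i => D.r (i + 1)
  cA := fun i => D.cA (i + 1)
  cB := fun i => D.cB (i + 1)
  aRA := fun i => D.aRA (i + 1)
  aRB := fun i => D.aRB (i + 1)
  aBA := fun i => D.aBA (i + 1)
  tRBA := fun i => D.tRBA (i + 1)
  aSA := D.aBA' 0
  tRSA := D.tRBA' 0
  aBA' := fun i => D.aBA' (i + 1)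
  tRBA' := fun i => D.tRBA' (i + 1)
  gM := fun i => D.gM (i + 1)
  mAM := fun i => D.mAM (i + 1)
  mBM := fun i => D.mBM (i + 1)
  tBAM := fun i => D.tBAM (i + 1)
  mRM := fun i => D.mRM (i + 1)
  tRBM := fun i => D.tRBM (i + 1)
  mSM := D.mB'M 0
  tSAM := D.tB'AM 0
  mB'M := fun i => D.mB'M (i + 1)
  tB'AM := fun i => D.tB'AM (i + 1)
  hp := fun i => D.hp (i + 1)
  α := fun i => D.α (i + 1)
  surjSA := D.surjBA' 0 (by omega)
  fpSA := D.fpBA' 0 (by omega)
  surjBA' := fun i h => D.surjBA' (i + 1) (by omega)
  fpBA' := fun i h => D.fpBA' (i + 1) (by omega)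
  finiteBA := fun i h => D.finiteBA (i + 1) (by omega)
  smooth := fun i h => D.smooth (i + 1) (by omega)
  geomIrred := fun i h => D.geomIrred (i + 1) (by omega)
  finiteM := fun i h => D.finiteM (i + 1) (by omega)
  isoN := D.isoCoker 0 (by omega)
  isoCoker := fun i h => D.isoCoker (i + 1) (by omega)
  fibreIso := fun i h => D.fibreIso (i + 1) (by omega)
  cokerLast := by
    have h1 : D.n - 1 - 1 + 1 = D.n - 1 := by omega
    have h2 : ∀ k, k = D.n - 1 → Function.Surjective (D.α k) := by
      rintro k rfl; exact D.cokerLast
    exact h2 _ h1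

/-- At-data for `tail`. -/
noncomputable def tailAt (D : CompleteDevissage R S N rr) (h : 2 ≤ D.n) (q : Ideal S) [q.IsPrime]
    (E : CompleteDevissageAt R S N rr q D) :
    CompleteDevissageAt R (firstStep D).B (firstStep D).coker rr (firstStepAt D q E).qB
      (tail D h) where
  qB := fun i => E.qB (i + 1)
  qA := fun i => E.qA (i + 1)
  hqB := fun i => E.hqB (i + 1)
  hqA := fun i => E.hqA (i + 1)
  overB := fun i => E.overB (i + 1)
  overA := fun i => E.overA (i + 1)
  pureTrans := fun i hi => E.pureTrans (i + 1) (by change i < D.n - 1 at hi; omega)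
  uniq := fun i hi => E.uniq (i + 1) (by change i < D.n - 1 at hi; omega)
  q0 := E.qStep 0 (by omega)
  qStep := fun i hi => E.qStep (i + 1) (by change i + 1 < D.n - 1 at hi; omega)
  d := fun i => E.d (i + 1)
  relDim := fun i hi => E.relDim (i + 1) (by change i < D.n - 1 at hi; omega)
  locDim := fun i hi => E.locDim (i + 1) (by change i < D.n - 1 at hi; omega)

/-- Adding a first step to a complete dévissage of its cokernel. -/
noncomputable def cons (st : Step R S N rr) (D : CompleteDevissage R st.B st.coker rr) :
    CompleteDevissage R S N rr where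
  n := D.n + 1
  pos := by omega
  A := fun i => Nat.casesOn i st.A (fun j => D.A j)
  B := fun i => Nat.casesOn i st.B (fun j => D.B j)
  M := fun i => Nat.casesOn i st.M (fun j => D.M j)
  r := fun i => Nat.casesOn i st.r (fun j => D.r j)
  cA := fun i => match i with
    | 0 => st.cA
    | j + 1 => D.cA j
  cB := fun i => match i with
    | 0 => st.cB
    | j + 1 => D.cB j
  aRA := fun i => match i with
    | 0 => st.aRA
    | j + 1 => D.aRA j
  aRB := fun i => match i with
    | 0 => st.aRB
    | j + 1 => D.aRB j
  aBA := fun i => match i with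
    | 0 => st.aBA
    | j + 1 => D.aBA j
  tRBA := fun i => match i with
    | 0 => st.tRBA
    | j + 1 => D.tRBA j
  aSA := st.aSA
  tRSA := st.tRSA
  aBA' := fun i => match i with
    | 0 => D.aSA
    | j + 1 => D.aBA' j
  tRBA' := fun i => match i with
    | 0 => D.tRSA
    | j + 1 => D.tRBA' j
  gM := fun i => match i with
    | 0 => st.gM
    | j + 1 => D.gM j
  mAM := fun i => match i with
    | 0 => st.mAM
    | j + 1 => D.mAM j
  mBM := fun i => match i with
    | 0 => st.mBM
    | j + 1 => D.mBM j
  tBAM := fun i => match i with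
    | 0 => st.tBAM
    | j + 1 => D.tBAM j
  mRM := fun i => match i with
    | 0 => st.mRM
    | j + 1 => D.mRM j
  tRBM := fun i => match i with
    | 0 => st.tRBM
    | j + 1 => D.tRBM j
  mSM := st.mSM
  tSAM := st.tSAM
  mB'M := fun i => match i with
    | 0 => D.mSM
    | j + 1 => D.mB'M j
  tB'AM := fun i => match i with
    | 0 => D.tSAM
    | j + 1 => D.tB'AM j
  hp := fun i => match i with
    | 0 => st.hp
    | j + 1 => D.hp j
  α := fun i => match i with
    | 0 => st.α
    | j + 1 => D.α j
  surjSA := st.surjSA
  fpSA := st.fpSA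
  surjBA' := fun i h => match i, h with
    | 0, _ => D.surjSA
    | j + 1, h => D.surjBA' j (by omega)
  fpBA' := fun i h => match i, h with
    | 0, _ => D.fpSA
    | j + 1, h => D.fpBA' j (by omega)
  finiteBA := fun i h => match i, h with
    | 0, _ => st.finiteBA
    | j + 1, h => D.finiteBA j (by omega)
  smooth := fun i h => match i, h with
    | 0, _ => st.smooth
    | j + 1, h => D.smooth j (by omega)
  geomIrred := fun i h => match i, h with
    | 0, _ => st.geomIrred
    | j + 1, h => D.geomIrred j (by omega)
  finiteM := fun i h => match i, h with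
    | 0, _ => st.finiteM
    | j + 1, h => D.finiteM j (by omega)
  isoN := st.isoN
  isoCoker := fun i h => match i, h with
    | 0, _ => D.isoN
    | j + 1, h => D.isoCoker j (by omega)
  fibreIso := fun i h => match i, h with
    | 0, _ => st.fibreIso
    | j + 1, h => D.fibreIso j (by omega)
  cokerLast := by
    have h2 : ∀ k, k = D.n - 1 → Function.Surjective (D.α k) := by
      rintro k rfl; exact D.cokerLast
    obtain ⟨k, hk⟩ : ∃ k, D.n = k + 1 := ⟨D.n - 1, by have := D.pos; omega⟩
    have h3 : D.n + 1 - 1 = k + 1 := by omega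
    rw [h3]
    exact h2 k (by omega)

/-- At-data for `cons`. -/
noncomputable def consAt (st : Step R S N rr) (D : CompleteDevissage R st.B st.coker rr)
    (q : Ideal S) [q.IsPrime] (sa : StepAt R S N rr st q)
    (E : CompleteDevissageAt R st.B st.coker rr sa.qB D) :
    CompleteDevissageAt R S N rr q (cons st D) where
  qB := fun i => match i with
    | 0 => sa.qB
    | j + 1 => E.qB j
  qA := fun i => match i with
    | 0 => sa.qA
    | j + 1 => E.qA j
  hqB := fun i => match i with
    | 0 => sa.hqB
    | j + 1 => E.hqB j
  hqA := fun i => match i with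
    | 0 => sa.hqA
    | j + 1 => E.hqA j
  overB := fun i => match i with
    | 0 => sa.overB
    | j + 1 => E.overB j
  overA := fun i => match i with
    | 0 => sa.overA
    | j + 1 => E.overA j
  pureTrans := fun i h => match i, h with
    | 0, _ => sa.pureTrans
    | j + 1, h => E.pureTrans j (by change j + 1 < D.n + 1 at h; omega)
  uniq := fun i h => match i, h with
    | 0, _ => sa.uniq
    | j + 1, h => E.uniq j (by change j + 1 < D.n + 1 at h; omega)
  q0 := sa.q0
  qStep := fun i h => match i, h with
    | 0, _ => E.q0
    | j + 1, h => E.qStep j (by change j + 1 + 1 < D.n + 1 at h; omega)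
  d := fun i => match i with
    | 0 => sa.d
    | j + 1 => E.d j
  relDim := fun i h => match i, h with
    | 0, _ => sa.relDim
    | j + 1, h => E.relDim j (by change j + 1 < D.n + 1 at h; omega)
  locDim := fun i h => match i, h with
    | 0, _ => sa.locDim
    | j + 1, h => E.locDim j (by change j + 1 < D.n + 1 at h; omega)

end Constructions

end Groth.Agent.Flat2B.DevissageRec
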