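import Groth.Agent.Flat2B.PointBC
import Mathlib.RingTheory.Flat.Stability

/-!
# Fibre rings and fibre modules under base change with trivial residue field extension
-/

set_option autoImplicit false
universe u

namespace Groth.Agent.Flat2B.FibreBC

open FlatCA TensorProduct Groth.Agent.Flat2B.PointBC

section FibIdeal

variable {R X : Type u} [CommRing R] [CommRing X] [Algebra R X] (p : Ideal R) [p.IsPrime]

/-- The map from an algebra to its fibre ring. -/
noncomputable abbrev incl : X →+* p.Fiber X :=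
  (Algebra.TensorProduct.includeRight (R := R) (A := p.ResidueField) (B := X)).toRingHom

theorem isUnit_algebraMap_fiber {r : R} (hr : r ∉ p) :
    IsUnit (algebraMap R (p.Fiber X) r) := by
  rw [IsScalarTower.algebraMap_apply R p.ResidueField (p.Fiber X)]
  apply IsUnit.map
  rw [isUnit_iff_ne_zero]
  intro h
  exact hr (Ideal.algebraMap_residueField_eq_zero.1 h)

theorem map_comap_incl (J : Ideal (p.Fiber X)) :
    (J.comap (incl p)).map (incl p) = J := by
  apply le_antisymm Ideal.map_comap_le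
  intro z hz
  obtain ⟨r, hr, s, hs⟩ := Ideal.Fiber.exists_smul_eq_one_tmul p z
  have h1 : (incl p s) ∈ J := by
    change (1 : p.ResidueField) ⊗ₜ[R] s ∈ J
    rw [← hs, Algebra.smul_def]
    exact J.mul_mem_left _ hz
  have h2 : algebraMap R (p.Fiber X) r * z ∈ (J.comap (incl p)).map (incl p) := by
    rw [← Algebra.smul_def, hs]
    exact Ideal.mem_map_of_mem (incl p) h1
  exact (Ideal.unit_mul_mem_iff_mem _ (isUnit_algebraMap_fiber p hr)).1 h2

theorem fiberIdeal_eq (q : Ideal X) : fiberIdeal p q = q.map (incl p) := rfl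

theorem exists_fiber_prime (q : Ideal X) [q.IsPrime] [hq : q.LiesOver p] :
    ∃ Q : Ideal (p.Fiber X), Q.IsPrime ∧ Q.comap (incl p) = q := by
  let y := (PrimeSpectrum.primesOverOrderIsoFiber R X p) ⟨q, inferInstance, hq⟩
  refine ⟨y.asIdeal, y.isPrime, ?_⟩
  have := (PrimeSpectrum.primesOverOrderIsoFiber R X p).symm_apply_apply ⟨q, inferInstance, hq⟩
  have h2 := congrArg Subtype.val this
  rw [PrimeSpectrum.coe_primesOverOrderIsoFiber_symm_apply] at h2
  exact h2

theorem fiberIdeal_isPrime (q : Ideal X) [q.IsPrime] [q.LiesOver p] :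
    (fiberIdeal p q).IsPrime := by
  obtain ⟨Q, hQ, rfl⟩ := exists_fiber_prime p q
  rw [fiberIdeal_eq, map_comap_incl]
  exact hQ

theorem comap_fiberIdeal (q : Ideal X) [q.IsPrime] [q.LiesOver p] :
    (fiberIdeal p q).comap (incl p) = q := by
  obtain ⟨Q, hQ, rfl⟩ := exists_fiber_prime p q
  rw [fiberIdeal_eq, map_comap_incl]

theorem fiberIdeal_comap (Q : Ideal (p.Fiber X)) : fiberIdeal p (Q.comap (incl p)) = Q :=
  map_comap_incl p Q

theorem comap_liesOver (Q : Ideal (p.Fiber X)) [Q.IsPrime] : (Q.comap (incl p)).LiesOver p := by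
  have h : Q.LiesOver p := inferInstance
  refine ⟨h.over.trans ?_⟩
  ext x
  simp only [Ideal.under_def, Ideal.mem_comap]
  have : incl p (algebraMap R X x) = algebraMap R (p.Fiber X) x :=
    (Algebra.TensorProduct.includeRight (R := R) (A := p.ResidueField) (B := X)).commutes x
  rw [this]

theorem fiberIdeal_eq_iff {Q : Ideal (p.Fiber X)} {q : Ideal X} [q.IsPrime] [q.LiesOver p] :
    Q = fiberIdeal p q ↔ Q.comap (incl p) = q := by
  constructor
  · rintro rfl; exact comap_fiberIdeal p q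
  · rintro rfl; exact (fiberIdeal_comap p Q).symm

end FibIdeal

section FlatPrime

variable {R X : Type u} [CommRing R] [CommRing X] [Algebra R X] (p : Ideal R) [p.IsPrime]

/-- For a flat algebra `pX` is the kernel of the map to the fibre ring. -/
theorem comap_bot_incl_of_flat [Module.Flat R X] :
    (⊥ : Ideal (p.Fiber X)).comap (incl p) = p.map (algebraMap R X) := by
  apply le_antisymm
  · intro x hx
    have hx' : (1 : p.ResidueField) ⊗ₜ[R] x = 0 := hx
    -- `(R/p) ⊗ X → κ(p) ⊗ X` is injective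
    have hinj : Function.Injective
        (LinearMap.rTensor X ((IsScalarTower.toAlgHom R (R ⧸ p) p.ResidueField).toLinearMap)) :=
      Module.Flat.rTensor_preserves_injective_linearMap _
        p.injective_algebraMap_quotient_residueField
    have h1 : (1 : R ⧸ p) ⊗ₜ[R] x = 0 := by
      apply hinj
      rw [map_zero, LinearMap.rTensor_tmul]
      simpa using hx'
    have h2 : Ideal.Quotient.mk (p.map (algebraMap R X)) x = 0 := by
      let F : (R ⧸ p) ⊗[R] X →ₐ[R] X ⧸ (p.map (algebraMap R X)) :=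
        Algebra.TensorProduct.lift
          (Ideal.Quotient.liftₐ p (Algebra.ofId R (X ⧸ (p.map (algebraMap R X))))
            (fun a ha => by
              change algebraMap R (X ⧸ (p.map (algebraMap R X))) a = 0
              rw [IsScalarTower.algebraMap_apply R X (X ⧸ (p.map (algebraMap R X)))]
              exact Ideal.Quotient.eq_zero_iff_mem.2 (Ideal.mem_map_of_mem _ ha)))
          (IsScalarTower.toAlgHom R X (X ⧸ (p.map (algebraMap R X)))) (fun _ _ => mul_comm _ _)
      have h5 : F ((1 : R ⧸ p) ⊗ₜ[R] x) = Ideal.Quotient.mk (p.map (algebraMap R X)) x := by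
        refine (Algebra.TensorProduct.lift_tmul _ _ _ _ _).trans ?_
        rw [map_one, one_mul]
        rfl
      rw [← h5, h1, map_zero]
    exact Ideal.Quotient.eq_zero_iff_mem.1 h2
  · rw [Ideal.map_le_iff_le_comap]
    intro a ha
    rw [Ideal.mem_comap, Ideal.mem_comap]
    have : incl p (algebraMap R X a) = algebraMap R (p.Fiber X) a :=
      (Algebra.TensorProduct.includeRight (R := R) (A := p.ResidueField) (B := X)).commutes a
    rw [this, IsScalarTower.algebraMap_apply R p.ResidueField (p.Fiber X),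
      Ideal.algebraMap_residueField_eq_zero.2 ha, map_zero]
    exact Ideal.zero_mem _

/-- For a flat algebra, `pX` is prime iff the fibre ring over `p` is a domain, provided the fibre is
nonempty. -/
theorem isDomain_fiber_of_isPrime [Module.Flat R X] (h : (p.map (algebraMap R X)).IsPrime)
    (hne : ∃ q : Ideal X, q.IsPrime ∧ q.LiesOver p) : IsDomain (p.Fiber X) := by
  have h1 : (p.map (algebraMap R X)).LiesOver p := by
    obtain ⟨q, hq, hqp⟩ := hne
    refine ⟨le_antisymm Ideal.le_comap_map ?_⟩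
    intro a ha
    have : algebraMap R X a ∈ q := by
      refine (Ideal.map_le_iff_le_comap.2 ?_) ha
      exact hqp.over.le
    rw [hqp.over]; exact this
  have h2 := comap_fiberIdeal p (p.map (algebraMap R X))
  have h3 : fiberIdeal p (p.map (algebraMap R X)) = ⊥ := by
    rw [← comap_bot_incl_of_flat p, fiberIdeal_comap]
  have h4 := fiberIdeal_isPrime p (p.map (algebraMap R X))
  rw [h3] at h4
  exact (IsDomain.of_bot_isPrime _)

theorem isPrime_of_isDomain_fiber [Module.Flat R X] [IsDomain (p.Fiber X)] :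
    (p.map (algebraMap R X)).IsPrime := by
  rw [← comap_bot_incl_of_flat p]
  have : (⊥ : Ideal (p.Fiber X)).IsPrime := Ideal.isPrime_bot
  exact Ideal.IsPrime.comap _

end FlatPrime


section FibMap

variable {R R₁ X X₁ : Type u} [CommRing R] [CommRing R₁] [Algebra R R₁]
  [CommRing X] [Algebra R X] [CommRing X₁] [Algebra X X₁] [Algebra R₁ X₁] [Algebra R X₁]
  [IsScalarTower R X X₁] [IsScalarTower R R₁ X₁]
  (p : Ideal R) [p.IsPrime] (p₁ : Ideal R₁) [p₁.IsPrime] [hpp : p₁.LiesOver p]

/-- The map of fibre rings `κ(p) ⊗ X → κ(p₁) ⊗ X₁`. -/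
noncomputable def fibMap : p.Fiber X →ₐ[R] p₁.Fiber X₁ :=
  Algebra.TensorProduct.lift
    (((Algebra.TensorProduct.includeLeft :
        p₁.ResidueField →ₐ[R₁] p₁.ResidueField ⊗[R₁] X₁).restrictScalars R).comp
      (Ideal.ResidueField.mapₐ p p₁ (Algebra.ofId R R₁) hpp.over))
    (((Algebra.TensorProduct.includeRight :
        X₁ →ₐ[R₁] p₁.ResidueField ⊗[R₁] X₁).restrictScalars R).comp
      (IsScalarTower.toAlgHom R X X₁)) (fun _ _ => mul_comm _ _)

theorem fibMap_tmul (k : p.ResidueField) (x : X) :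
    fibMap (X₁ := X₁) p p₁ (k ⊗ₜ x) =
      (Ideal.ResidueField.mapₐ p p₁ (Algebra.ofId R R₁) hpp.over k) ⊗ₜ (algebraMap X X₁ x) := by
  refine (Algebra.TensorProduct.lift_tmul _ _ _ _ _).trans ?_
  change (_ ⊗ₜ[R₁] (1 : X₁)) * ((1 : p₁.ResidueField) ⊗ₜ[R₁] _) = _
  rw [Algebra.TensorProduct.tmul_mul_tmul, mul_one, one_mul]
  rfl

theorem fibMap_incl (x : X) :
    fibMap (X₁ := X₁) p p₁ (incl p x) = incl p₁ (algebraMap X X₁ x) := by
  change fibMap (X₁ := X₁) p p₁ (1 ⊗ₜ x) = (1 : p₁.ResidueField) ⊗ₜ (algebraMap X X₁ x)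
  rw [fibMap_tmul, map_one]

theorem fibMap_comp_incl :
    (fibMap (X₁ := X₁) (X := X) p p₁ : p.Fiber X →+* p₁.Fiber X₁).comp (incl p) =
      (incl p₁).comp (algebraMap X X₁) :=
  RingHom.ext (fibMap_incl p p₁)

theorem fibMap_bijective [Algebra.IsPushout R X R₁ X₁] (hp : ResTriv p p₁) :
    Function.Bijective (fibMap (X₁ := X₁) (X := X) p p₁) := by
  obtain ⟨_, hb⟩ := hp
  let e : p.ResidueField ≃ₐ[R] p₁.ResidueField := AlgEquiv.ofBijective _ hb
  let E : p.Fiber X ≃+* p₁.Fiber X₁ :=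
    (Algebra.TensorProduct.comm R p.ResidueField X).toRingEquiv.trans <|
      (Algebra.TensorProduct.congr (AlgEquiv.refl (R := R) (A₁ := X)) e).toRingEquiv.trans <|
        (Algebra.IsPushout.cancelBaseChangeAlg R X R₁ X₁ p₁.ResidueField).symm.toRingEquiv.trans <|
          (Algebra.TensorProduct.comm R₁ X₁ p₁.ResidueField).toRingEquiv
  have hE : (fibMap (X₁ := X₁) (X := X) p p₁ : p.Fiber X →+* p₁.Fiber X₁) = E := by
    refine RingHom.ext fun z => ?_
    induction z using TensorProduct.induction_on with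
    | zero => rw [map_zero, map_zero]
    | add a b ha hb => rw [map_add, map_add, ha, hb]
    | tmul k x =>
      refine (fibMap_tmul (X₁ := X₁) p p₁ k x).trans ?_
      have h1 : E (k ⊗ₜ x) = (Algebra.TensorProduct.comm R₁ X₁ p₁.ResidueField)
        ((Algebra.IsPushout.cancelBaseChangeAlg R X R₁ X₁ p₁.ResidueField).symm
          (x ⊗ₜ e k)) := rfl
      change _ = E (k ⊗ₜ x)
      rw [h1, Algebra.IsPushout.cancelBaseChangeAlg_symm_tmul]
      rfl
  have h2 : (⇑(fibMap (X₁ := X₁) (X := X) p p₁)) = ⇑E := by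
    ext z; exact DFunLike.congr_fun hE z
  rw [h2]
  exact E.bijective

/-- comparison of the extended ideals -/
theorem comap_fibMap_fiberIdeal (q : Ideal X) [q.IsPrime] [q.LiesOver p] (q₁ : Ideal X₁)
    [q₁.IsPrime] [q₁.LiesOver p₁] [hq : q₁.LiesOver q] :
    (fiberIdeal p₁ q₁).comap (fibMap (X₁ := X₁) (X := X) p p₁ : p.Fiber X →+* p₁.Fiber X₁) =
      fiberIdeal p q := by
  rw [fiberIdeal_eq_iff, Ideal.comap_comap, fibMap_comp_incl, ← Ideal.comap_comap,
    comap_fiberIdeal]
  exact hq.over.symm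

end FibMap

section SemiLin

/-- Support under base change along a bijective ring map. -/
theorem mem_support_iff_of_bijective {A A₁ M M₁ : Type u} [CommRing A] [CommRing A₁] [Algebra A A₁]
    [AddCommGroup M] [Module A M] [AddCommGroup M₁] [Module A₁ M₁] [Module A M₁]
    [IsScalarTower A A₁ M₁] (hb : Function.Bijective (algebraMap A A₁)) (h : M →ₗ[A] M₁)
    (hh : IsBaseChange A₁ h) (x₁ : PrimeSpectrum A₁) :
    x₁ ∈ Module.support A₁ M₁ ↔
      PrimeSpectrum.comap (algebraMap A A₁) x₁ ∈ Module.support A M := by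
  have hbij : Function.Bijective h := by
    let e : A ≃ₗ[A] A₁ := LinearEquiv.ofBijective (Algebra.linearMap A A₁) hb
    let E : M ≃ₗ[A] M₁ := (TensorProduct.lid A M).symm ≪≫ₗ
      (TensorProduct.congr e (LinearEquiv.refl A M)) ≪≫ₗ (hh.equiv.restrictScalars A)
    have : (⇑h) = ⇑E := by
      ext m
      have h1 : E m = hh.equiv ((e 1) ⊗ₜ m) := by
        change hh.equiv.restrictScalars A (TensorProduct.congr e (LinearEquiv.refl A M)
          ((TensorProduct.lid A M).symm m)) = _
        rw [TensorProduct.lid_symm_apply]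
        rfl
      rw [h1]
      have h2 : e 1 = 1 := by
        change algebraMap A A₁ 1 = 1
        exact map_one _
      rw [h2, hh.equiv_tmul, one_smul]
    rw [this]; exact E.bijective
  simp only [Module.mem_support_iff']
  constructor
  · rintro ⟨m₁, hm₁⟩
    obtain ⟨m, rfl⟩ := hbij.2 m₁
    refine ⟨m, fun r hr h0 => hm₁ (algebraMap A A₁ r) hr ?_⟩
    rw [algebraMap_smul, ← map_smul, h0, map_zero]
  · rintro ⟨m, hm⟩
    refine ⟨h m, fun r hr h0 => ?_⟩
    obtain ⟨s, rfl⟩ := hb.2 r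
    rw [algebraMap_smul, ← map_smul] at h0
    exact hm s hr (hbij.1 (by rw [h0, map_zero]))

variable {R R₁ X X₁ : Type u} [CommRing R] [CommRing R₁] [Algebra R R₁]
  [CommRing X] [Algebra R X] [CommRing X₁] [Algebra X X₁] [Algebra R₁ X₁] [Algebra R X₁]
  [IsScalarTower R X X₁] [IsScalarTower R R₁ X₁] [Algebra.IsPushout R X R₁ X₁]
  {M M₁ : Type u} [AddCommGroup M] [Module X M] [AddCommGroup M₁] [Module X₁ M₁] [Module X M₁]
  [IsScalarTower X X₁ M₁]
  (p : Ideal R) [p.IsPrime] (p₁ : Ideal R₁) [p₁.IsPrime]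

attribute [local instance] Algebra.TensorProduct.rightAlgebra

theorem mem_support_fiberMod_iff [hpp : p₁.LiesOver p] (hp : ResTriv p p₁) (g : M →ₗ[X] M₁)
    (hg : IsBaseChange X₁ g) (x₁ : PrimeSpectrum (p₁.Fiber X₁)) :
    x₁ ∈ Module.support (p₁.Fiber X₁) (fiberMod p₁ X₁ M₁) ↔
      PrimeSpectrum.comap (fibMap (X₁ := X₁) (X := X) p p₁ : p.Fiber X →+* p₁.Fiber X₁) x₁ ∈
        Module.support (p.Fiber X) (fiberMod p X M) := by
  let aFF : Algebra (p.Fiber X) (p₁.Fiber X₁) :=
    (fibMap (X₁ := X₁) (X := X) p p₁ : p.Fiber X →+* p₁.Fiber X₁).toAlgebra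
  let aXF : Algebra X (p₁.Fiber X₁) :=
    ((algebraMap X₁ (p₁.Fiber X₁)).comp (algebraMap X X₁)).toAlgebra
  have t1 : IsScalarTower X X₁ (p₁.Fiber X₁) := IsScalarTower.of_algebraMap_eq' rfl
  have t2 : IsScalarTower X (p.Fiber X) (p₁.Fiber X₁) := by
    refine IsScalarTower.of_algebraMap_eq fun x => ?_
    exact (fibMap_incl (X₁ := X₁) p p₁ x).symm
  let mX : Module X (fiberMod p₁ X₁ M₁) := Module.compHom _ (algebraMap X X₁)
  let mF : Module (p.Fiber X) (fiberMod p₁ X₁ M₁) :=
    Module.compHom _ (algebraMap (p.Fiber X) (p₁.Fiber X₁))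
  have t3 : IsScalarTower (p.Fiber X) (p₁.Fiber X₁) (fiberMod p₁ X₁ M₁) :=
    IsScalarTower.of_algebraMap_smul fun _ _ => rfl
  have t4' : IsScalarTower X₁ (p₁.Fiber X₁) (fiberMod p₁ X₁ M₁) :=
    inferInstanceAs (IsScalarTower X₁ (p₁.Fiber X₁) ((p₁.Fiber X₁) ⊗[X₁] M₁))
  have t4 : IsScalarTower X X₁ (fiberMod p₁ X₁ M₁) :=
    IsScalarTower.of_algebraMap_smul fun _ _ => rfl
  have t5 : IsScalarTower X (p₁.Fiber X₁) (fiberMod p₁ X₁ M₁) := by
    refine IsScalarTower.of_algebraMap_smul fun x m => ?_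
    change (algebraMap X₁ (p₁.Fiber X₁) (algebraMap X X₁ x)) • m = (algebraMap X X₁ x) • m
    rw [algebraMap_smul]
  have t6 : IsScalarTower X (p.Fiber X) (fiberMod p₁ X₁ M₁) := by
    refine IsScalarTower.of_algebraMap_smul fun x m => ?_
    change (algebraMap (p.Fiber X) (p₁.Fiber X₁) (algebraMap X (p.Fiber X) x)) • m = x • m
    rw [← IsScalarTower.algebraMap_apply X (p.Fiber X) (p₁.Fiber X₁), algebraMap_smul]
  -- base change from `M` to the fibre module of `M₁`
  have t7 : IsScalarTower X (p.Fiber X) (fiberMod p X M) :=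
    inferInstanceAs (IsScalarTower X (p.Fiber X) ((p.Fiber X) ⊗[X] M))
  have h1 : IsBaseChange (p.Fiber X) (toFiberMod p X M) :=
    TensorProduct.isBaseChange X M (p.Fiber X)
  have h2 : IsBaseChange (p₁.Fiber X₁) (toFiberMod p₁ X₁ M₁) :=
    TensorProduct.isBaseChange X₁ M₁ (p₁.Fiber X₁)
  have h3 : IsBaseChange (p₁.Fiber X₁)
      (((toFiberMod p₁ X₁ M₁).restrictScalars X).comp g) := hg.comp h2
  let h : fiberMod p X M →ₗ[p.Fiber X] fiberMod p₁ X₁ M₁ :=
    h1.lift (((toFiberMod p₁ X₁ M₁).restrictScalars X).comp g)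
  have h4 : IsBaseChange (p₁.Fiber X₁) h := by
    refine IsBaseChange.of_comp h1 ?_
    rw [h1.lift_comp]
    exact h3
  exact mem_support_iff_of_bijective (fibMap_bijective p p₁ hp) h h4 x₁

end SemiLin

end Groth.Agent.Flat2B.FibreBC
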