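import Groth.Prelude.Def_FlatCA
import Groth.Agent.Flat2B.DimFibre
import Mathlib.RingTheory.QuasiFinite.Basic
import Mathlib.RingTheory.Smooth.Flat

/-!
Local dimension of the support of the fibre module: étale invariance and invariance under
passing to a quotient carrying the module.
-/

set_option autoImplicit false

universe u v

namespace Groth.Agent.Flat2B.DimFibre2

open TensorProduct TopologicalSpace Topology

section Top

theorem localDim_eq_of_range_eq {X Y Z : Type*} [TopologicalSpace X] [TopologicalSpace Y]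
    [TopologicalSpace Z] {f : X → Z} {g : Y → Z} (hf : IsEmbedding f) (hg : IsEmbedding g)
    (h : Set.range f = Set.range g) (x : X) (y : Y) (hxy : f x = g y) :
    FlatMor.localDim X x = FlatMor.localDim Y y := by
  let e : X ≃ₜ Y := hf.toHomeomorph.trans ((Homeomorph.setCongr h).trans hg.toHomeomorph.symm)
  have he : e x = y := by
    apply hg.toHomeomorph.injective
    simp only [e, Homeomorph.trans_apply, Homeomorph.apply_symm_apply]
    exact Subtype.ext hxy
  rw [VarietyB.DimTop.localDim_eq_of_homeomorph e x, he]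

end Top

section Fibre

attribute [local instance] Algebra.TensorProduct.rightAlgebra

variable {R : Type u} [CommRing R] (p : Ideal R) [p.IsPrime] (S : Type u) [CommRing S] [Algebra R S]

/-- The map from the spectrum of the fibre ring is an embedding. -/
theorem isEmbedding_comap : IsEmbedding (PrimeSpectrum.comap (algebraMap S (p.Fiber S))) := by
  exact IsEmbedding.subtypeVal.comp
    (PrimeSpectrum.preimageHomeomorphFiber R S ⟨p, inferInstance⟩).symm.isEmbedding

theorem comap_comap (x : PrimeSpectrum (p.Fiber S)) :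
    (PrimeSpectrum.comap (algebraMap S (p.Fiber S)) x).asIdeal.comap (algebraMap R S) = p :=
  congrArg PrimeSpectrum.asIdeal
    ((PrimeSpectrum.preimageOrderIsoFiber R S ⟨p, inferInstance⟩).symm x).2

theorem range_comap : Set.range (PrimeSpectrum.comap (algebraMap S (p.Fiber S))) =
    {Q | Q.asIdeal.comap (algebraMap R S) = p} := by
  ext Q
  constructor
  · rintro ⟨x, rfl⟩
    exact comap_comap p S x
  · intro hQ
    haveI : Q.asIdeal.LiesOver p := ⟨(show Q.asIdeal.comap (algebraMap R S) = p from hQ).symm⟩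
    exact ⟨DimFibre.pt p Q.asIdeal, DimFibre.comap_pt p Q.asIdeal⟩

/-- Primes over `p` in a given set. -/
def Fib (A : Set (PrimeSpectrum S)) : Set (PrimeSpectrum S) :=
  {Q | Q.asIdeal.comap (algebraMap R S) = p ∧ Q ∈ A}

theorem range_comap_val (A : Set (PrimeSpectrum S)) :
    Set.range (fun x : (PrimeSpectrum.comap (algebraMap S (p.Fiber S))) ⁻¹' A =>
      PrimeSpectrum.comap (algebraMap S (p.Fiber S)) x.1) = Fib p S A := by
  ext Q
  constructor
  · rintro ⟨⟨x, hx⟩, rfl⟩
    exact ⟨comap_comap p S x, hx⟩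
  · rintro ⟨h1, h2⟩
    obtain ⟨x, rfl⟩ := (range_comap p S).ge h1
    exact ⟨⟨x, h2⟩, rfl⟩

theorem quasiSober_fib (A : Set (PrimeSpectrum S)) (hA : IsClosed A) : QuasiSober (Fib p S A) := by
  have hcl : IsClosed ((PrimeSpectrum.comap (algebraMap S (p.Fiber S))) ⁻¹' A) :=
    hA.preimage (isEmbedding_comap p S).continuous
  have h1 : QuasiSober ((PrimeSpectrum.comap (algebraMap S (p.Fiber S))) ⁻¹' A) :=
    hcl.isClosedEmbedding_subtypeVal.quasiSober
  have hemb : IsEmbedding (fun x : (PrimeSpectrum.comap (algebraMap S (p.Fiber S))) ⁻¹' A =>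
      PrimeSpectrum.comap (algebraMap S (p.Fiber S)) x.1) :=
    (isEmbedding_comap p S).comp IsEmbedding.subtypeVal
  let e := hemb.toHomeomorph.trans (Homeomorph.setCongr (range_comap_val p S A))
  exact e.symm.isClosedEmbedding.quasiSober

variable {p S}

/-- Local dimension of the support of the fibre module in terms of primes of `S`. -/
theorem localDim_support (N : Type u) [AddCommGroup N] [Module S N] [Module.Finite S N]
    (x : Module.support (p.Fiber S) (FlatCA.fiberMod p S N)) (Q : Fib p S (Module.support S N))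
    (hQ : PrimeSpectrum.comap (algebraMap S (p.Fiber S)) x.1 = Q.1) :
    FlatMor.localDim (Module.support (p.Fiber S) (FlatCA.fiberMod p S N)) x =
      FlatMor.localDim (Fib p S (Module.support S N)) Q := by
  refine localDim_eq_of_range_eq
    (f := fun x : Module.support (p.Fiber S) (FlatCA.fiberMod p S N) =>
      PrimeSpectrum.comap (algebraMap S (p.Fiber S)) x.1) (g := Subtype.val)
    ((isEmbedding_comap p S).comp IsEmbedding.subtypeVal) IsEmbedding.subtypeVal ?_ x Q hQ
  rw [Subtype.range_coe, ← range_comap_val]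
  ext Q
  constructor
  · rintro ⟨⟨x, hx⟩, rfl⟩
    exact ⟨⟨x, (DimFibre.mem_support_fiberMod_iff p N x).mp hx⟩, rfl⟩
  · rintro ⟨⟨x, hx⟩, rfl⟩
    exact ⟨⟨x, (DimFibre.mem_support_fiberMod_iff p N x).mpr hx⟩, rfl⟩

end Fibre

section Etale

variable {R S R' S' : Type u} [CommRing R] [CommRing S] [CommRing R'] [CommRing S']
  [Algebra R S] [Algebra R R'] [Algebra S S'] [Algebra R' S'] [Algebra R S']
  [IsScalarTower R R' S'] [IsScalarTower R S S'] [Algebra.Etale R R'] [Algebra.Etale S S']
  (p : Ideal R) [p.IsPrime] (p' : Ideal R') [p'.IsPrime] [p'.LiesOver p]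

theorem comap_mem_fib (A : Set (PrimeSpectrum S)) {Q' : PrimeSpectrum S'}
    (h : Q' ∈ Fib p' S' (PrimeSpectrum.comap (algebraMap S S') ⁻¹' A)) :
    PrimeSpectrum.comap (algebraMap S S') Q' ∈ Fib p S A := by
  refine ⟨?_, h.2⟩
  have h1 : Q'.asIdeal.comap (algebraMap R' S') = p' := h.1
  have h2 : p'.comap (algebraMap R R') = p := (Ideal.over_def p' p).symm
  rw [PrimeSpectrum.comap_asIdeal, Ideal.comap_comap, ← IsScalarTower.algebraMap_eq,
    IsScalarTower.algebraMap_eq R R' S', ← Ideal.comap_comap, h1, h2]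

/-- Étale invariance of the local dimension of (closed subsets of) fibres. -/
theorem localDim_etale (A : Set (PrimeSpectrum S)) (hA : IsClosed A)
    (Q' : Fib p' S' (PrimeSpectrum.comap (algebraMap S S') ⁻¹' A)) :
    FlatMor.localDim (Fib p' S' (PrimeSpectrum.comap (algebraMap S S') ⁻¹' A)) Q' =
      FlatMor.localDim (Fib p S A) ⟨PrimeSpectrum.comap (algebraMap S S') Q'.1,
        comap_mem_fib p p' A Q'.2⟩ := by
  haveI hs1 := quasiSober_fib p S A hA
  haveI hs2 := quasiSober_fib p' S' _ (hA.preimage (PrimeSpectrum.continuous_comap (algebraMap S S')))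
  haveI : Module.Flat S S' := Algebra.Smooth.flat S S'
  refine Desc.DimMap.localDim_eq
    (fun Q' : Fib p' S' (PrimeSpectrum.comap (algebraMap S S') ⁻¹' A) =>
      (⟨PrimeSpectrum.comap (algebraMap S S') Q'.1, comap_mem_fib p p' A Q'.2⟩ : Fib p S A))
    ?_ ?_ ?_ ?_ Q'
  · exact ((PrimeSpectrum.continuous_comap (algebraMap S S')).comp
      continuous_subtype_val).subtype_mk _
  · -- generalizing
    rintro ⟨x, hx⟩ ⟨y, hy⟩ hyx
    have h1 : y ⤳ PrimeSpectrum.comap (algebraMap S S') x := hyx.map continuous_subtype_val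
    rw [← PrimeSpectrum.le_iff_specializes] at h1
    obtain ⟨P, hP1, hP2, hP3⟩ := x.asIdeal.exists_ideal_le_liesOver_of_le (p := y.asIdeal)
      (q := x.asIdeal.under S) h1
    have hPy : P.comap (algebraMap S S') = y.asIdeal := hP3.over.symm
    have hPp : P.comap (algebraMap R' S') = p' := by
      have h2 : (x.asIdeal.comap (algebraMap R' S')) = p' := hx.1
      refine Algebra.QuasiFinite.eq_of_le_of_under_eq (R := R) (P.comap (algebraMap R' S')) p' ?_ ?_
      · rw [← h2]
        exact Ideal.comap_mono hP1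
      · have h3 : p'.comap (algebraMap R R') = p := (Ideal.over_def p' p).symm
        have h4 : y.asIdeal.comap (algebraMap R S) = p := hy.1
        change (P.comap (algebraMap R' S')).comap (algebraMap R R') = p'.comap (algebraMap R R')
        rw [h3, Ideal.comap_comap, ← IsScalarTower.algebraMap_eq, IsScalarTower.algebraMap_eq R S S',
          ← Ideal.comap_comap, hPy, h4]
    have hPy' : PrimeSpectrum.comap (algebraMap S S') ⟨P, hP2⟩ = y := PrimeSpectrum.ext hPy
    refine ⟨⟨⟨P, hP2⟩, hPp, ?_⟩, ?_, ?_⟩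
    · change PrimeSpectrum.comap (algebraMap S S') ⟨P, hP2⟩ ∈ A
      rw [hPy']
      exact hy.2
    · exact IsInducing.subtypeVal.specializes_iff.mp
        ((PrimeSpectrum.le_iff_specializes ⟨P, hP2⟩ x).mp hP1)
    · exact Subtype.ext hPy'
  · -- open
    obtain ⟨V, hV, hVp⟩ := isDiscrete_iff_forall_mem_exists_isOpen.mp
      (Algebra.QuasiFinite.isDiscrete_comap_preimage_singleton (R := R) (S := R')
        ⟨p, inferInstance⟩) (⟨p', inferInstance⟩ : PrimeSpectrum R')
        (PrimeSpectrum.ext (Ideal.over_def p' p).symm)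
    intro W hW
    obtain ⟨W0, hW0, rfl⟩ := isOpen_induced_iff.mp hW
    have hopen := PrimeSpectrum.isOpenMap_comap_of_hasGoingDown_of_finitePresentation
      (R := S) (S := S') _ (hW0.inter (hV.preimage
        (PrimeSpectrum.continuous_comap (algebraMap R' S'))))
    refine isOpen_induced_iff.mpr ⟨_, hopen, ?_⟩
    ext ⟨y, hy⟩
    constructor
    · rintro ⟨z, ⟨hz1, hz2⟩, hzy⟩
      have hzy' : PrimeSpectrum.comap (algebraMap S S') z = y := hzy
      have hzp : z.asIdeal.comap (algebraMap R' S') = p' := by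
        have h5 : PrimeSpectrum.comap (algebraMap R' S') z ∈
            V ∩ PrimeSpectrum.comap (algebraMap R R') ⁻¹' {⟨p, inferInstance⟩} := by
          refine ⟨hz2, ?_⟩
          have h4 : y.asIdeal.comap (algebraMap R S) = p := hy.1
          apply PrimeSpectrum.ext
          change (z.asIdeal.comap (algebraMap R' S')).comap (algebraMap R R') = p
          rw [Ideal.comap_comap, ← IsScalarTower.algebraMap_eq, IsScalarTower.algebraMap_eq R S S',
            ← Ideal.comap_comap, ← PrimeSpectrum.comap_asIdeal, hzy', h4]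
        rw [hVp] at h5
        exact congrArg PrimeSpectrum.asIdeal h5
      refine ⟨⟨z, hzp, ?_⟩, hz1, Subtype.ext hzy'⟩
      change PrimeSpectrum.comap (algebraMap S S') z ∈ A
      rw [hzy']
      exact hy.2
    · rintro ⟨⟨z, hz⟩, hz1, hz2⟩
      refine ⟨z, ⟨hz1, ?_⟩, congrArg Subtype.val hz2⟩
      have h6 : (⟨p', inferInstance⟩ : PrimeSpectrum R') ∈ V := by
        have : (⟨p', inferInstance⟩ : PrimeSpectrum R') ∈
            V ∩ PrimeSpectrum.comap (algebraMap R R') ⁻¹' {⟨p, inferInstance⟩} := by
          rw [hVp]; rfl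
        exact this.1
      have h7 : PrimeSpectrum.comap (algebraMap R' S') z = ⟨p', inferInstance⟩ :=
        PrimeSpectrum.ext hz.1
      change PrimeSpectrum.comap (algebraMap R' S') z ∈ V
      rw [h7]
      exact h6
  · -- discrete fibres
    rintro ⟨x, hx⟩ ⟨y, hy⟩ hxy he
    apply Subtype.ext
    have h1 : x ⤳ y := hxy.map continuous_subtype_val
    rw [← PrimeSpectrum.le_iff_specializes] at h1
    have h2 := congrArg (fun z : Fib p S A => z.1.asIdeal) he
    exact PrimeSpectrum.ext (Algebra.QuasiFinite.eq_of_le_of_under_eq (R := S) x.asIdeal y.asIdeal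
      h1 h2)

end Etale

end Groth.Agent.Flat2B.DimFibre2
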