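import Groth.Prelude.Def_FlatCA
import Groth.Agent.Flat2B.DimFibre2
import Groth.Agent.Flat2A.DimSmooth
import Groth.Agent.Flat2A.Fiber
import Groth.Agent.Flat2A.GeomInt

/-!
DIM-2: in an elementary dévissage, the support of the `D`-module `G` in the fibre has local
dimension `n` at the chosen point.
-/

set_option autoImplicit false

universe u v

namespace Groth.Agent.Flat2B.DimFibre3

open TensorProduct TopologicalSpace Topology DimFibre DimFibre2

attribute [local instance] Algebra.TensorProduct.rightAlgebra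

section Quot

variable {R' S' C : Type u} [CommRing R'] [CommRing S'] [CommRing C] [Algebra R' S'] [Algebra S' C]
  [Algebra R' C] [IsScalarTower R' S' C] (p' : Ideal R') [p'.IsPrime]

theorem mem_support_of_surjective (hsurj : Function.Surjective (algebraMap S' C))
    (G : Type u) [AddCommGroup G] [Module C G] [Module S' G] [IsScalarTower S' C G]
    [Module.Finite C G] [Module.Finite S' G] (Q : PrimeSpectrum C) :
    Q ∈ Module.support C G ↔ PrimeSpectrum.comap (algebraMap S' C) Q ∈ Module.support S' G := by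
  rw [Module.mem_support_iff_of_finite, Module.mem_support_iff_of_finite,
    PrimeSpectrum.comap_asIdeal]
  have h : Module.annihilator S' G = (Module.annihilator C G).comap (algebraMap S' C) := by
    ext s
    simp only [Ideal.mem_comap, Module.mem_annihilator, algebraMap_smul]
  rw [h]
  constructor
  · exact fun h => Ideal.comap_mono h
  · intro h c hc
    obtain ⟨s, rfl⟩ := hsurj c
    exact h hc

theorem exists_comap_eq_of_mem_support (hsurj : Function.Surjective (algebraMap S' C))
    (G : Type u) [AddCommGroup G] [Module C G] [Module S' G] [IsScalarTower S' C G]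
    [Module.Finite S' G] (P : PrimeSpectrum S') (hP : P ∈ Module.support S' G) :
    ∃ Q : PrimeSpectrum C, PrimeSpectrum.comap (algebraMap S' C) Q = P := by
  have h1 : P ∈ Set.range (PrimeSpectrum.comap (algebraMap S' C)) := by
    rw [_root_.range_comap_of_surjective _ _ hsurj, PrimeSpectrum.mem_zeroLocus]
    refine (le_trans ?_ (Module.mem_support_iff_of_finite.mp hP) : RingHom.ker (algebraMap S' C) ≤ P.asIdeal)
    intro s hs
    rw [Module.mem_annihilator]
    intro g
    rw [← algebraMap_smul C, (RingHom.mem_ker).mp hs, zero_smul]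
  exact h1

/-- The local dimension does not change when passing to a quotient carrying the module. -/
theorem localDim_quot (hsurj : Function.Surjective (algebraMap S' C))
    (G : Type u) [AddCommGroup G] [Module C G] [Module S' G] [IsScalarTower S' C G]
    [Module.Finite C G] [Module.Finite S' G]
    (z : Fib p' C (Module.support C G)) (q : Fib p' S' (Module.support S' G))
    (hz : PrimeSpectrum.comap (algebraMap S' C) z.1 = q.1) :
    FlatMor.localDim (Fib p' C (Module.support C G)) z =
      FlatMor.localDim (Fib p' S' (Module.support S' G)) q := by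
  refine localDim_eq_of_range_eq
    (f := fun z : Fib p' C (Module.support C G) => PrimeSpectrum.comap (algebraMap S' C) z.1)
    (g := Subtype.val)
    ((PrimeSpectrum.isClosedEmbedding_comap_of_surjective _ _ hsurj).isEmbedding.comp
      IsEmbedding.subtypeVal) IsEmbedding.subtypeVal ?_ z q hz
  rw [Subtype.range_coe]
  ext P
  constructor
  · rintro ⟨⟨Q, hQ1, hQ2⟩, rfl⟩
    refine ⟨?_, (mem_support_of_surjective hsurj G Q).mp hQ2⟩
    change (Q.asIdeal.comap (algebraMap S' C)).comap (algebraMap R' S') = p'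
    rw [Ideal.comap_comap, ← IsScalarTower.algebraMap_eq]
    exact hQ1
  · rintro ⟨hP1, hP2⟩
    obtain ⟨Q, rfl⟩ := exists_comap_eq_of_mem_support hsurj G P hP2
    refine ⟨⟨Q, ?_, (mem_support_of_surjective hsurj G Q).mpr hP2⟩, rfl⟩
    change Q.asIdeal.comap (algebraMap R' C) = p'
    rw [IsScalarTower.algebraMap_eq R' S' C, ← Ideal.comap_comap]
    exact hP1

end Quot

section Finite

variable {R' D C : Type u} [CommRing R'] [CommRing D] [CommRing C] [Algebra R' D] [Algebra D C]
  [Algebra R' C] [IsScalarTower R' D C] (p' : Ideal R') [p'.IsPrime]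

theorem comap_mem_support [Module.Finite D C] 
    (G : Type u) [AddCommGroup G] [Module C G] [Module D G] [IsScalarTower D C G]
    [Module.Finite C G] [Module.Finite D G] (Q : PrimeSpectrum C) (hQ : Q ∈ Module.support C G) :
    PrimeSpectrum.comap (algebraMap D C) Q ∈ Module.support D G := by
  rw [Module.mem_support_iff_of_finite] at hQ ⊢
  intro d hd
  apply hQ
  rw [Module.mem_annihilator] at hd ⊢
  intro g
  rw [algebraMap_smul]
  exact hd g

/-- The dimension of the support does not drop under a finite map. -/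
theorem dim_le_finite [Module.Finite D C]
    (G : Type u) [AddCommGroup G] [Module C G] [Module D G] [IsScalarTower D C G]
    [Module.Finite C G] [Module.Finite D G] :
    topologicalKrullDim (Fib p' C (Module.support C G)) ≤
      topologicalKrullDim (Fib p' D (Module.support D G)) := by
  haveI := quasiSober_fib p' C _ (Module.isClosed_support (R := C) (M := G))
  haveI := quasiSober_fib p' D _ (Module.isClosed_support (R := D) (M := G))
  refine Desc.DimMap.topologicalKrullDim_le_of_fibres
    (fun Q : Fib p' C (Module.support C G) => (⟨PrimeSpectrum.comap (algebraMap D C) Q.1, ?_, ?_⟩ :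
      Fib p' D (Module.support D G))) ?_ ?_
  · change (Q.1.asIdeal.comap (algebraMap D C)).comap (algebraMap R' D) = p'
    rw [Ideal.comap_comap, ← IsScalarTower.algebraMap_eq]
    exact Q.2.1
  · exact comap_mem_support G Q.1 Q.2.2
  · exact ((PrimeSpectrum.continuous_comap (algebraMap D C)).comp
      continuous_subtype_val).subtype_mk _
  · rintro ⟨x, hx⟩ ⟨y, hy⟩ hxy he
    apply Subtype.ext
    have h1 : x ⤳ y := hxy.map continuous_subtype_val
    rw [← PrimeSpectrum.le_iff_specializes] at h1
    have h2 := congrArg (fun z : Fib p' D (Module.support D G) => z.1.asIdeal) he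
    exact PrimeSpectrum.ext (Algebra.QuasiFinite.eq_of_le_of_under_eq (R := D) x.asIdeal y.asIdeal
      h1 h2)

/-- If the support of `G` over the fibre has dimension at least the relative dimension, then
the generic fibre of `G` is nonzero. -/
theorem nontrivial_of_le_dim (n : ℕ) (hs : FlatCA.SmoothRelDim n R' D)
    [(p'.map (algebraMap R' D)).IsPrime]
    (G : Type u) [AddCommGroup G] [Module D G] [Module.Finite D G]
    (hover : (p'.map (algebraMap R' D)).LiesOver p')
    (hdim : (n : WithBot ℕ∞) ≤ topologicalKrullDim (Fib p' D (Module.support D G))) :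
    Nontrivial ((p'.map (algebraMap R' D)).ResidueField ⊗[D] G) := by
  by_contra hnt
  rw [not_nontrivial_iff_subsingleton] at hnt
  refine absurd hdim (not_le.mpr ?_)
  have hcl : IsClosed ((PrimeSpectrum.comap (algebraMap D (p'.Fiber D))) ⁻¹'
      (Module.support D G)) :=
    (Module.isClosed_support (R := D) (M := G)).preimage (isEmbedding_comap p' D).continuous
  have hemb : IsEmbedding (fun x : (PrimeSpectrum.comap (algebraMap D (p'.Fiber D))) ⁻¹'
      (Module.support D G) => PrimeSpectrum.comap (algebraMap D (p'.Fiber D)) x.1) :=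
    (isEmbedding_comap p' D).comp IsEmbedding.subtypeVal
  let e := hemb.toHomeomorph.trans (Homeomorph.setCongr (range_comap_val p' D (Module.support D G)))
  refine topologicalKrullDim_lt (X := PrimeSpectrum (p'.Fiber D)) n ?_
    (Subtype.val ∘ e.symm) (hcl.isClosedEmbedding_subtypeVal.comp e.symm.isClosedEmbedding)
    (pt p' (p'.map (algebraMap R' D))) ?_ ?_
  · rw [PrimeSpectrum.topologicalKrullDim_eq_ringKrullDim]
    exact Flat2C.SmoothDim.ringKrullDim_fiber_le n R' D hs p'
  · intro y
    rw [← PrimeSpectrum.le_iff_specializes]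
    refine pt_le p' _ _ ?_
    rw [Ideal.map_le_iff_le_comap]
    exact (comap_comap p' D _).ge
  · intro y hy
    have h1 := (e.symm y).2
    have h2 : (e.symm y).1 = pt p' (p'.map (algebraMap R' D)) := hy
    rw [Set.mem_preimage, h2, comap_pt, Module.mem_support_iff_nontrivial_residueField_tensorProduct] at h1
    exact not_nontrivial_iff_subsingleton.mpr hnt h1

end Finite

section Main

theorem localDim_congr_set {X : Type*} [TopologicalSpace X] {A B : Set X} (h : A = B) (x : X)
    (hA : x ∈ A) (hB : x ∈ B) : FlatMor.localDim A ⟨x, hA⟩ = FlatMor.localDim B ⟨x, hB⟩ := by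
  subst h
  rfl

variable {R S : Type u} [CommRing R] [CommRing S] [Algebra R S]

theorem eq_pt_of_asIdeal (p : Ideal R) [p.IsPrime] (q : Ideal S) [q.IsPrime] [q.LiesOver p]
    (x : PrimeSpectrum (p.Fiber S)) (hx : x.asIdeal = FlatCA.fiberIdeal p q) : x = pt p q := by
  apply eq_pt
  apply PrimeSpectrum.ext
  rw [PrimeSpectrum.comap_asIdeal, hx]
  exact Flat2A.Fiber.comap_fiberIdeal p q

theorem pt_asIdeal (p : Ideal R) [p.IsPrime] (q : Ideal S) [q.IsPrime] [q.LiesOver p] :
    (pt p q).asIdeal = FlatCA.fiberIdeal p q := by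
  rw [← eq_pt_of_asIdeal p q ⟨FlatCA.fiberIdeal p q, Flat2A.Fiber.fiberIdeal_isPrime p q⟩ rfl]

/-- DIM-2. -/
theorem dim2 [Algebra.FiniteType R S]
    (N : Type u) [AddCommGroup N] [Module S N] [Module.Finite S N]
    (p : Ideal R) [p.IsPrime] (q : Ideal S) [q.IsPrime] [q.LiesOver p] (n : ℕ)
    (x : PrimeSpectrum (p.Fiber S)) (hxq : x.asIdeal = FlatCA.fiberIdeal p q)
    (hx : x ∈ Module.support (p.Fiber S) (FlatCA.fiberMod p S N))
    (hn : FlatMor.localDim (Module.support (p.Fiber S) (FlatCA.fiberMod p S N)) ⟨x, hx⟩ = n)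
    (E : FlatCA.ElemDevissage R S N p q n) :
    ∃ (_ : (E.p'.map (algebraMap E.R' E.D)).IsPrime),
    Nontrivial ((E.p'.map (algebraMap E.R' E.D)).ResidueField ⊗[E.D] E.G) ∧
    ∃ (x₂ : PrimeSpectrum (E.p'.Fiber E.D))
      (hx₂ : x₂ ∈ Module.support (E.p'.Fiber E.D) (FlatCA.fiberMod E.p' E.D E.G)),
      x₂.asIdeal = FlatCA.fiberIdeal E.p' E.y ∧
      FlatMor.localDim (Module.support (E.p'.Fiber E.D) (FlatCA.fiberMod E.p' E.D E.G)) ⟨x₂, hx₂⟩ =
        n := by
  haveI := E.etaleR.1
  haveI := E.etaleS.1
  haveI hp'p : E.p'.LiesOver p := E.etaleR.2.1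
  haveI hq'q : E.q'.LiesOver q := E.etaleS.2.1
  haveI := E.finiteDC
  haveI := E.finiteG
  haveI hfinDG : Module.Finite E.D E.G := Module.Finite.trans E.C E.G
  haveI hfinN' : Module.Finite E.S' E.N' := Module.Finite.of_surjective E.isBaseChange.equiv.toLinearMap
    E.isBaseChange.equiv.surjective
  haveI hfinG : Module.Finite E.S' E.G := Module.Finite.of_surjective E.iso.toLinearMap E.iso.surjective
  -- the supports of `N'` and `G` over `S'`
  have hsupp : Module.support E.S' E.G =
      PrimeSpectrum.comap (algebraMap S E.S') ⁻¹' (Module.support S N) := by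
    rw [← E.iso.support_eq, ← E.isBaseChange.equiv.support_eq]
    ext P
    exact Flat2C.SupportBaseChange.mem_support_baseChange_iff N P
  -- the prime `q'`
  have hxpt : x = pt p q := eq_pt_of_asIdeal p q x hxq
  have hqN : (⟨q, inferInstance⟩ : PrimeSpectrum S) ∈ Module.support S N := by
    rw [hxpt, mem_support_fiberMod_iff, comap_pt] at hx
    exact hx
  have hqF : (⟨q, inferInstance⟩ : PrimeSpectrum S) ∈ Fib p S (Module.support S N) :=
    ⟨(Ideal.over_def q p).symm, hqN⟩
  have h1 : FlatMor.localDim (Fib p S (Module.support S N)) ⟨_, hqF⟩ = n := by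
    rw [← hn]
    refine (localDim_support N ⟨x, hx⟩ ⟨_, hqF⟩ ?_).symm
    change PrimeSpectrum.comap (algebraMap S (p.Fiber S)) x = _
    rw [hxpt]
    exact comap_pt p q
  have hq'F : (⟨E.q', inferInstance⟩ : PrimeSpectrum E.S') ∈
      Fib E.p' E.S' (PrimeSpectrum.comap (algebraMap S E.S') ⁻¹' (Module.support S N)) := by
    refine ⟨(Ideal.over_def E.q' E.p').symm, ?_⟩
    have : PrimeSpectrum.comap (algebraMap S E.S') ⟨E.q', inferInstance⟩ = ⟨q, inferInstance⟩ :=
      PrimeSpectrum.ext (Ideal.over_def E.q' q).symm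
    rw [Set.mem_preimage, this]
    exact hqN
  have h2 : FlatMor.localDim (Fib E.p' E.S' (PrimeSpectrum.comap (algebraMap S E.S') ⁻¹'
      (Module.support S N))) ⟨_, hq'F⟩ = n := by
    rw [localDim_etale (R := R) (S := S) (R' := E.R') (S' := E.S') p E.p' _ Module.isClosed_support
      ⟨_, hq'F⟩, ← h1]
    congr 1
    exact Subtype.ext (PrimeSpectrum.ext (Ideal.over_def E.q' q).symm)
  have hset : Fib E.p' E.S' (PrimeSpectrum.comap (algebraMap S E.S') ⁻¹' (Module.support S N)) =
      Fib E.p' E.S' (Module.support E.S' E.G) := by rw [hsupp]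
  have hq'F₂ : (⟨E.q', inferInstance⟩ : PrimeSpectrum E.S') ∈
      Fib E.p' E.S' (Module.support E.S' E.G) := hset ▸ hq'F
  have h3 : FlatMor.localDim (Fib E.p' E.S' (Module.support E.S' E.G)) ⟨_, hq'F₂⟩ = n := by
    rw [← h2]
    exact (localDim_congr_set hset _ hq'F hq'F₂).symm
  have hzq : PrimeSpectrum.comap (algebraMap E.S' E.C) ⟨E.z, inferInstance⟩ =
      ⟨E.q', inferInstance⟩ := PrimeSpectrum.ext (Ideal.over_def E.z E.q').symm
  have hzF : (⟨E.z, inferInstance⟩ : PrimeSpectrum E.C) ∈
      Fib E.p' E.C (Module.support E.C E.G) := by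
    refine ⟨?_, ?_⟩
    · have h5 : (PrimeSpectrum.comap (algebraMap E.S' E.C) ⟨E.z, inferInstance⟩).asIdeal.comap
          (algebraMap E.R' E.S') = E.p' := by
        rw [hzq]
        exact hq'F₂.1
      rw [PrimeSpectrum.comap_asIdeal, Ideal.comap_comap, ← IsScalarTower.algebraMap_eq] at h5
      exact h5
    · rw [mem_support_of_surjective E.surjC, hzq]
      exact hq'F₂.2
  have h4 : FlatMor.localDim (Fib E.p' E.C (Module.support E.C E.G)) ⟨_, hzF⟩ = n := by
    rw [localDim_quot E.p' E.surjC E.G ⟨_, hzF⟩ ⟨_, hq'F₂⟩ hzq, h3]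
  have h5 : (n : WithBot ℕ∞) ≤ topologicalKrullDim (Fib E.p' E.C (Module.support E.C E.G)) := by
    rw [← h4]
    exact VarietyB.DimTop.localDim_le_dim _
  have h6 := h5.trans (dim_le_finite (D := E.D) (C := E.C) E.p' E.G)
  haveI := Flat2A.DimSmooth.smooth_of_smoothRelDim n E.smooth
  haveI : Module.Flat E.R' E.D := Algebra.Smooth.flat E.R' E.D
  haveI : IsDomain (E.p'.Fiber E.D) := Flat2A.GeomInt.isDomain_fiber E.geomInt E.p'
  have hprime : (E.p'.map (algebraMap E.R' E.D)).IsPrime := Flat2A.DimSmooth.map_isPrime_of_flat E.p'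
  have hover : (E.p'.map (algebraMap E.R' E.D)).LiesOver E.p' := by
    constructor
    refine le_antisymm Ideal.le_comap_map ?_
    conv_rhs => rw [Ideal.over_def E.y E.p']
    refine Ideal.comap_mono ?_
    rw [Ideal.map_le_iff_le_comap]
    exact (Ideal.over_def E.y E.p').le
  have h7 := nontrivial_of_le_dim E.p' n E.smooth E.G hover h6
  refine ⟨hprime, h7, pt E.p' E.y, ?_⟩
  obtain ⟨h8, h9⟩ := Flat2A.DimSmooth.locDim_full n E.smooth E.p' E.G h7 (pt E.p' E.y)
  exact ⟨h8, pt_asIdeal E.p' E.y, h9⟩

end Main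

end Groth.Agent.Flat2B.DimFibre3
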