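import Groth.Agent.Flat2B.GINAsm

/-!
# `E[x] ⊗[R[x]] D_s` is a localization of `E ⊗[R] D`
-/

set_option autoImplicit false

universe u

open scoped TensorProduct

attribute [local instance] MvPolynomial.algebraMvPolynomial
attribute [local instance] Algebra.TensorProduct.rightAlgebra

namespace Groth.Agent.Flat2B.GINLoc

variable {σ : Type} {R D : Type u} [CommRing R] [CommRing D] [Algebra R D] (s : D) (D₁ : Type u)
  [CommRing D₁] [Algebra D D₁] [IsLocalization.Away s D₁] [Algebra (MvPolynomial σ R) D₁]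
  [Algebra R D₁] [IsScalarTower R (MvPolynomial σ R) D₁] [IsScalarTower R D D₁]
  (E : Type u) [CommRing E] [Algebra R E]

/-- The map `E ⊗[R] D → E[x] ⊗[R[x]] D₁`. -/
noncomputable def jMap : E ⊗[R] D →ₐ[E] MvPolynomial σ E ⊗[MvPolynomial σ R] D₁ :=
  Algebra.TensorProduct.lift (Algebra.ofId E (MvPolynomial σ E ⊗[MvPolynomial σ R] D₁))
    (((Algebra.TensorProduct.includeRight :
      D₁ →ₐ[MvPolynomial σ R] MvPolynomial σ E ⊗[MvPolynomial σ R] D₁).restrictScalars R).comp
        (IsScalarTower.toAlgHom R D D₁))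
    (fun _ _ => Commute.all _ _)

theorem jMap_tmul (e : E) (d : D) :
    jMap (σ := σ) (R := R) D₁ E (e ⊗ₜ[R] d) =
      (MvPolynomial.C e) ⊗ₜ[MvPolynomial σ R] algebraMap D D₁ d := by
  rw [jMap, Algebra.TensorProduct.lift_tmul]
  change ((MvPolynomial.C e : MvPolynomial σ E) ⊗ₜ[MvPolynomial σ R] (1 : D₁)) *
    (1 ⊗ₜ algebraMap D D₁ d) = _
  rw [Algebra.TensorProduct.tmul_mul_tmul, mul_one, one_mul]

theorem isLocalization_jMap :
    letI := (jMap (σ := σ) (R := R) (D := D) D₁ E).toRingHom.toAlgebra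
    IsLocalization.Away ((1 : E) ⊗ₜ[R] s) (MvPolynomial σ E ⊗[MvPolynomial σ R] D₁) := by
  let _ := (jMap (σ := σ) (R := R) (D := D) D₁ E).toRingHom.toAlgebra
  let X := MvPolynomial σ E ⊗[MvPolynomial σ R] D₁
  -- pushout R D₁ E X
  let _ : Algebra D X := ((algebraMap D₁ X).comp (algebraMap D D₁)).toAlgebra
  have t1 : IsScalarTower D D₁ X := IsScalarTower.of_algebraMap_eq fun _ => rfl
  have t2 : IsScalarTower R D₁ X := IsScalarTower.of_algebraMap_eq fun r => by
    change algebraMap R (MvPolynomial σ E) r ⊗ₜ[MvPolynomial σ R] (1 : D₁) =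
      1 ⊗ₜ algebraMap R D₁ r
    rw [IsScalarTower.algebraMap_apply R (MvPolynomial σ R) (MvPolynomial σ E),
      IsScalarTower.algebraMap_apply R (MvPolynomial σ R) D₁,
      Algebra.algebraMap_eq_smul_one, Algebra.algebraMap_eq_smul_one (A := D₁), TensorProduct.smul_tmul]
  have t3 : IsScalarTower (MvPolynomial σ R) D₁ X := inferInstance
  have h1 : Algebra.IsPushout R D₁ E X :=
    (Algebra.IsPushout.comp_iff R (MvPolynomial σ R) E (S' := MvPolynomial σ E) (T := D₁)
      (T' := X)).mpr inferInstance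
  have t5 : IsScalarTower E (E ⊗[R] D) X := IsScalarTower.of_algebraMap_eq fun e =>
    ((jMap (σ := σ) (R := R) (D := D) D₁ E).commutes e).symm
  have t6 : IsScalarTower D (E ⊗[R] D) X := IsScalarTower.of_algebraMap_eq fun d => by
    change (1 : MvPolynomial σ E) ⊗ₜ[MvPolynomial σ R] (algebraMap D D₁ d) =
      jMap (σ := σ) (R := R) (D := D) D₁ E (1 ⊗ₜ[R] d)
    rw [jMap_tmul, map_one]
  have t7 : IsScalarTower R (E ⊗[R] D) X := IsScalarTower.of_algebraMap_eq fun r => by
    rw [IsScalarTower.algebraMap_apply R E X, IsScalarTower.algebraMap_apply R E (E ⊗[R] D),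
      ← IsScalarTower.algebraMap_apply E (E ⊗[R] D) X]
  have h2 : Algebra.IsPushout D D₁ (E ⊗[R] D) X :=
    (Algebra.IsPushout.comp_iff R D E (S' := E ⊗[R] D) (T := D₁) (T' := X)).mp h1
  have h3 : Algebra.IsPushout D (E ⊗[R] D) D₁ X := h2.symm
  have h4 : IsLocalization (Algebra.algebraMapSubmonoid (E ⊗[R] D) (Submonoid.powers s)) X :=
    (Algebra.isLocalization_iff_isPushout (Submonoid.powers s) D₁).mpr h3
  rw [Algebra.algebraMapSubmonoid, Submonoid.map_powers] at h4
  exact h4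

end Groth.Agent.Flat2B.GINLoc
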