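import Groth.Prelude.Def_FlatCA
import Groth.Agent.Flat2B.GINLoc
import Groth.Agent.Flat2B.EtaleNhd
import Groth.Agent.Flat2A.GeomInt
import Mathlib.RingTheory.Unramified.LocalStructure
import Mathlib.RingTheory.Etale.Basic

/-!
# Geometrically integral neighbourhoods

Let `D` be a smooth `R`-algebra and `y` a prime of `D` over `p` with `κ(y)/κ(p)` purely transcendental.
Then after an elementary etale extension `(R', p')` of `(R, p)` there is a basis of principal open
neighbourhoods of the point over `y` with geometrically integral fibres over principal open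
neighbourhoods of `p'`.
-/

set_option autoImplicit false
universe u
open TensorProduct

namespace Groth.Agent.Flat2B.GIN

open Groth.Agent.Flat2B.GINPoly Groth.Agent.Flat2B.GINGood

theorem residueField_frac {R : Type u} [CommRing R] (p : Ideal R) [p.IsPrime] (k : p.ResidueField) :
    ∃ a s : R, algebraMap R p.ResidueField s ≠ 0 ∧
      k * algebraMap R p.ResidueField s = algebraMap R p.ResidueField a := by
  obtain ⟨a, s, hs, rfl⟩ := IsFractionRing.div_surjective (A := R ⧸ p) k
  obtain ⟨a, rfl⟩ := Ideal.Quotient.mk_surjective a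
  obtain ⟨s, rfl⟩ := Ideal.Quotient.mk_surjective s
  have h1 : algebraMap (R ⧸ p) p.ResidueField (Ideal.Quotient.mk p s) =
      algebraMap R p.ResidueField s := rfl
  have h2 : algebraMap (R ⧸ p) p.ResidueField (Ideal.Quotient.mk p a) =
      algebraMap R p.ResidueField a := rfl
  have h3 : algebraMap R p.ResidueField s ≠ 0 := by
    rw [← h1]
    intro h0
    exact nonZeroDivisors.ne_zero hs
      ((FaithfulSMul.algebraMap_injective (R ⧸ p) p.ResidueField) (h0.trans (map_zero _).symm))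
  exact ⟨a, s, h3, by rw [h1, h2, div_mul_cancel₀ _ h3]⟩

attribute [local instance] MvPolynomial.algebraMvPolynomial in
/-- The last step: `Y'` is a localization of `E ⊗[R] D` away from `h' * c`, and `Y` is one away from
`b ∣ c`. -/
theorem geomIntegral_aux {σ : Type} {E B₀ Y : Type u} [CommRing E] [CommRing B₀] [CommRing Y]
    [Algebra E B₀] [Algebra B₀ Y] [Algebra E Y] [IsScalarTower E B₀ Y]
    [Algebra (MvPolynomial σ E) Y] [IsScalarTower E (MvPolynomial σ E) Y]
    [Algebra.Etale (MvPolynomial σ E) Y] (b : B₀) [IsLocalization.Away b Y]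
    (c : B₀) (hbc : b ∣ c) (h' : E)
    (hgood : ∀ (Ω : Type u) [Field Ω] (φ : E →+* Ω), φ h' ≠ 0 → GoodAt σ Y φ)
    (hne : ∀ q : PrimeSpectrum E, h' ∉ q.asIdeal →
      ∃ Q : PrimeSpectrum B₀, c ∉ Q.asIdeal ∧ PrimeSpectrum.comap (algebraMap E B₀) Q = q)
    (Rh : Type u) [CommRing Rh] [Algebra E Rh] [IsLocalization.Away h' Rh]
    (Dh : Type u) [CommRing Dh] [Algebra B₀ Dh] [IsLocalization.Away (algebraMap E B₀ h' * c) Dh]
    [Algebra Rh Dh] [Algebra E Dh] [IsScalarTower E B₀ Dh] [IsScalarTower E Rh Dh] :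
    FlatCA.GeomIntegralFibres Rh Dh := by
  apply Flat2A.GeomInt.of_isDomain
  intro Ω _ _
  let _ : Algebra E Ω := ((algebraMap Rh Ω).comp (algebraMap E Rh)).toAlgebra
  have hst1 : IsScalarTower E Rh Ω := IsScalarTower.of_algebraMap_eq fun _ => rfl
  have hh' : algebraMap E Ω h' ≠ 0 := by
    have h1 : IsUnit (algebraMap E Rh h') := IsLocalization.Away.algebraMap_isUnit h'
    exact (h1.map (algebraMap Rh Ω)).ne_zero
  have hdvd : b ∣ algebraMap E B₀ h' * c := hbc.mul_left _
  have hub : IsUnit (algebraMap B₀ Dh b) :=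
    isUnit_of_dvd_unit (map_dvd (algebraMap B₀ Dh) hdvd)
      (IsLocalization.Away.algebraMap_isUnit (algebraMap E B₀ h' * c))
  let l : Y →+* Dh := IsLocalization.Away.lift b hub
  have hl : ∀ x, l (algebraMap B₀ Y x) = algebraMap B₀ Dh x := fun x => IsLocalization.Away.lift_eq b hub x
  let _ : Algebra Y Dh := l.toAlgebra
  have hst2 : IsScalarTower B₀ Y Dh := IsScalarTower.of_algebraMap_eq fun x => (hl x).symm
  have hloc1 : IsLocalization.Away (algebraMap B₀ Dh b) Dh :=
    IsLocalization.away_of_isUnit_of_bijective Dh hub Function.bijective_id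
  have hloc2 : IsLocalization.Away (algebraMap B₀ Y (algebraMap E B₀ h' * c)) Dh :=
    IsLocalization.Away.commutes Y Dh Dh b (algebraMap E B₀ h' * c)
  let _ : Algebra (MvPolynomial σ E) Dh :=
    ((algebraMap Y Dh).comp (algebraMap (MvPolynomial σ E) Y)).toAlgebra
  have hst3 : IsScalarTower (MvPolynomial σ E) Y Dh := IsScalarTower.of_algebraMap_eq fun _ => rfl
  have hst5 : IsScalarTower E Y Dh := IsScalarTower.of_algebraMap_eq fun x => by
    rw [IsScalarTower.algebraMap_apply E B₀ Y, IsScalarTower.algebraMap_apply E B₀ Dh,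
      ← IsScalarTower.algebraMap_apply B₀ Y Dh]
  have hst4 : IsScalarTower E (MvPolynomial σ E) Dh := IsScalarTower.of_algebraMap_eq fun x => by
    rw [IsScalarTower.algebraMap_apply (MvPolynomial σ E) Y Dh,
      ← IsScalarTower.algebraMap_apply E (MvPolynomial σ E) Y, ← IsScalarTower.algebraMap_apply E Y Dh]
  have het : Algebra.Etale Y Dh := Algebra.Etale.of_isLocalizationAway
    (algebraMap B₀ Y (algebraMap E B₀ h' * c))
  have het' : Algebra.Etale (MvPolynomial σ E) Dh := Algebra.Etale.comp _ Y Dh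
  have hflat : Module.Flat (MvPolynomial σ E) Dh := inferInstance
  obtain ⟨Q, hQc, hQ⟩ := hne (pt (algebraMap E Ω)) (by rw [mem_pt]; exact hh')
  have hnt : Nontrivial (Ω ⊗[E] Dh) := by
    refine GINAsm.nontrivial_fibre (E := E) (B₀ := B₀) (algebraMap E B₀ h' * c) Q ?_ hQ
    intro hmem
    rcases Q.isPrime.mem_or_mem hmem with h1 | h1
    · have h2 : h' ∈ (PrimeSpectrum.comap (algebraMap E B₀) Q).asIdeal := h1
      rw [hQ, mem_pt] at h2
      exact hh' h2
    · exact hQc h1
  have hdom : IsDomain (Ω ⊗[E] Dh) :=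
    GINAsm.isDomain_of_goodAt (σ := σ) (E := E) (Y := Y) (Y' := Dh)
      (Submonoid.powers (algebraMap B₀ Y (algebraMap E B₀ h' * c))) (hgood Ω _ hh') hnt
  exact (IsLocalization.algebraTensorEquiv (Submonoid.powers h') Rh Ω Dh).toMulEquiv.isDomain
    (Ω ⊗[E] Dh)

attribute [local instance] MvPolynomial.algebraMvPolynomial in
theorem exists_geomIntegral {R D : Type u} [CommRing R] [CommRing D] [Algebra R D] [Algebra.Smooth R D]
    (p : Ideal R) [p.IsPrime] (y : Ideal D) [y.IsPrime] [y.LiesOver p] (h : FlatCA.PurelyTranscendental p y) :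
    ∃ (R' : Type u) (_ : CommRing R') (_ : Algebra R R') (p' : Ideal R') (_ : p'.IsPrime)
      (y' : Ideal (R' ⊗[R] D)) (_ : y'.IsPrime) (b : R' ⊗[R] D),
      FlatCA.IsEtaleNhd R R' p p' ∧ y'.LiesOver p' ∧
      y'.comap (Algebra.TensorProduct.includeRight : D →ₐ[R] R' ⊗[R] D).toRingHom = y ∧ b ∉ y' ∧
      ∀ c : R' ⊗[R] D, c ∉ y' → b ∣ c → ∃ h : R', h ∉ p' ∧ ∀ h' : R', h ∣ h' → h' ∉ p' →
        ∀ (Rh : Type u) [CommRing Rh] [Algebra R' Rh] [IsLocalization.Away h' Rh]
          (Dh : Type u) [CommRing Dh] [Algebra (R' ⊗[R] D) Dh]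
          [IsLocalization.Away (algebraMap R' (R' ⊗[R] D) h' * c) Dh]
          [Algebra Rh Dh] [Algebra R' Dh] [IsScalarTower R' (R' ⊗[R] D) Dh] [IsScalarTower R' Rh Dh],
          FlatCA.GeomIntegralFibres Rh Dh := by
  classical
  obtain ⟨s, hs, n, algP, hst, hstd⟩ :=
    Algebra.IsSmoothAt.exists_isStandardEtale_mvPolynomial (R := R) (p := y)
  let D₁ := Localization.Away s
  let K := p.ResidueField
  let L := y.ResidueField
  have hyp : y.LiesOver p := inferInstance
  let algKL : Algebra K L :=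
    (Ideal.ResidueField.mapₐ p y (Algebra.ofId R D) hyp.over).toRingHom.toAlgebra
  have hKL : ∀ r : R, algebraMap K L (algebraMap R K r) = algebraMap D L (algebraMap R D r) := by
    intro r
    change Ideal.ResidueField.mapₐ p y (Algebra.ofId R D) hyp.over (algebraMap R K r) = _
    rw [AlgHom.commutes, ← IsScalarTower.algebraMap_apply R D L]
  obtain ⟨ι, x, hx, hadj⟩ := h
  have H : ∀ (k' : Type u) [Field k'] [Algebra K k'] [Algebra.IsAlgebraic K k'], IsField (L ⊗[K] k') :=
    fun k' _ _ _ => GINLocal.isField_tensor_of_adjoin_eq_top x hx.1 hadj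
  have hsu : IsUnit (algebraMap D L s) := by
    rw [isUnit_iff_ne_zero]
    intro h0
    exact hs (Ideal.algebraMap_residueField_eq_zero.mp h0)
  let ρ : D₁ →+* L := IsLocalization.Away.lift s hsu
  have hρD : ∀ d, ρ (algebraMap D D₁ d) = algebraMap D L d := fun d => IsLocalization.Away.lift_eq s hsu d
  have hρ : ∀ r : R, ρ (algebraMap (MvPolynomial (Fin n) R) D₁ (MvPolynomial.C r)) =
      algebraMap K L (algebraMap R K r) := by
    intro r
    rw [hKL, ← hρD, ← IsScalarTower.algebraMap_apply R D D₁, ← MvPolynomial.algebraMap_eq,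
      ← IsScalarTower.algebraMap_apply R (MvPolynomial (Fin n) R) D₁]
  have hL : ∀ l : L, ∃ a s : D₁, ρ s ≠ 0 ∧ l * ρ s = ρ a := by
    intro l
    obtain ⟨a, t, ht, hl⟩ := residueField_frac y l
    exact ⟨algebraMap D D₁ a, algebraMap D D₁ t, by rw [hρD]; exact ht, by rw [hρD, hρD]; exact hl⟩
  obtain ⟨E, _, _, hE, τ, g, f, hg, hf, hgood⟩ :=
    GINRes.exists_nhd (σ := Fin n) (R := R) (D := D₁) (K := K) (L := L) ρ hρ (residueField_frac p) hL H
  let B₀ := E ⊗[R] D
  let X := MvPolynomial (Fin n) E ⊗[MvPolynomial (Fin n) R] D₁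
  let j : B₀ →ₐ[E] X := GINLoc.jMap (σ := Fin n) (R := R) (D := D) D₁ E
  let p' : Ideal E := RingHom.ker τ
  have hp' : p'.IsPrime := RingHom.ker_isPrime _
  let evB : B₀ →+* L := (GINRes.ev ρ hρ τ).comp j.toRingHom
  have evB_tmul : ∀ (e : E) (d : D), evB (e ⊗ₜ d) = algebraMap K L (τ e) * algebraMap D L d := by
    intro e d
    change GINRes.ev ρ hρ τ (GINLoc.jMap (σ := Fin n) (R := R) (D := D) D₁ E (e ⊗ₜ d)) = _
    rw [GINLoc.jMap_tmul, GINRes.ev_tmul, hρD]
    congr 1
    rw [GINRes.evP, MvPolynomial.coe_eval₂Hom, MvPolynomial.eval₂_C]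
    rfl
  let y' : Ideal B₀ := RingHom.ker evB
  have hy' : y'.IsPrime := RingHom.ker_isPrime _
  -- structure of `X` and `Y`
  let _ : Algebra B₀ X := j.toRingHom.toAlgebra
  have hXloc : IsLocalization.Away ((1 : E) ⊗ₜ[R] s) X :=
    GINLoc.isLocalization_jMap (σ := Fin n) s D₁ E
  obtain ⟨k, b₀, hb₀⟩ := IsLocalization.Away.surj ((1 : E) ⊗ₜ[R] s) g
  let Y := Localization.Away g
  have hXunit : IsUnit (algebraMap B₀ X ((1 : E) ⊗ₜ[R] s)) :=
    IsLocalization.Away.algebraMap_isUnit ((1 : E) ⊗ₜ[R] s)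
  have hstBXY : IsScalarTower B₀ X Y := inferInstance
  have hassoc : Associated (algebraMap B₀ X b₀) g := by
    rw [← hb₀]
    exact ((associated_mul_unit_left g _ (hXunit.pow k)))
  have hYloc : IsLocalization.Away (((1 : E) ⊗ₜ[R] s) * b₀) Y :=
    IsLocalization.Away.mul_of_associated ((1 : E) ⊗ₜ[R] s) b₀ g hassoc
  let b : B₀ := ((1 : E) ⊗ₜ[R] s) * b₀
  have hevX : ∀ z : B₀, evB z = GINRes.ev ρ hρ τ (algebraMap B₀ X z) := fun _ => rfl
  have hb : b ∉ y' := by
    intro hb
    have h1 : evB b = 0 := RingHom.mem_ker.mp hb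
    change evB (((1 : E) ⊗ₜ[R] s) * b₀) = 0 at h1
    rw [map_mul, hevX b₀, ← hb₀, map_mul, map_pow, ← hevX, evB_tmul, map_one, map_one, one_mul] at h1
    exact (mul_ne_zero hsu.ne_zero (mul_ne_zero hg (pow_ne_zero k hsu.ne_zero))) h1
  have hKLinj : Function.Injective (algebraMap K L) := (algebraMap K L).injective
  have hy'p' : y'.LiesOver p' := by
    constructor
    ext e
    rw [Ideal.under, Ideal.mem_comap, RingHom.mem_ker, RingHom.mem_ker]
    change τ e = 0 ↔ evB (e ⊗ₜ 1) = 0
    rw [evB_tmul, map_one, mul_one]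
    exact ((map_eq_zero_iff (algebraMap K L) hKLinj).symm)
  have hnhd : FlatCA.IsEtaleNhd R E p p' := by
    have hlies : p'.LiesOver p := by
      constructor
      ext r
      rw [Ideal.under, Ideal.mem_comap, RingHom.mem_ker]
      change r ∈ p ↔ τ (algebraMap R E r) = 0
      rw [AlgHom.commutes]
      exact Ideal.algebraMap_residueField_eq_zero.symm
    refine EtaleNhd.isEtaleNhd_of ?_
    intro e
    obtain ⟨a, t, ht, he⟩ := residueField_frac p (τ e)
    refine ⟨a, t, fun htp => ht (Ideal.algebraMap_residueField_eq_zero.mpr htp), ?_⟩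
    rw [RingHom.mem_ker, map_sub, map_mul, AlgHom.commutes, AlgHom.commutes, mul_comm, he, sub_self]
  refine ⟨E, inferInstance, inferInstance, p', hp', y', hy', b, hnhd, hy'p', ?_, hb, ?_⟩
  · ext d
    rw [Ideal.mem_comap, RingHom.mem_ker]
    change evB (1 ⊗ₜ d) = 0 ↔ d ∈ y
    rw [evB_tmul, map_one, map_one, one_mul]
    exact Ideal.algebraMap_residueField_eq_zero
  · intro c hc hbc
    have hflat : Module.Flat E B₀ := inferInstance
    obtain ⟨h₁, hh₁, hh₁'⟩ := GINAsm.exists_basicOpen y' p' c hc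
    refine ⟨f * h₁, ?_, ?_⟩
    · intro hmem
      rcases hp'.mem_or_mem hmem with h2 | h2
      · exact hf (RingHom.mem_ker.mp h2)
      · exact hh₁ h2
    · intro h' hdvd hh' Rh _ _ _ Dh _ _ _ _ _ _ _
      have hstEBY : IsScalarTower E B₀ Y := IsScalarTower.of_algebraMap_eq fun e => by
        rw [IsScalarTower.algebraMap_apply E X Y, IsScalarTower.algebraMap_apply B₀ X Y]
        change _ = algebraMap X Y (j (algebraMap E B₀ e))
        rw [j.commutes]
      have hst' : Algebra.IsStandardEtale (MvPolynomial (Fin n) E) Y :=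
        Algebra.IsStandardEtale.of_isLocalizationAway (S := X) g
      exact geomIntegral_aux (σ := Fin n) (E := E) (B₀ := B₀) (Y := Y) b c hbc h' (by
        intro Ω _ φ hφ
        apply hgood
        intro h0
        apply hφ
        obtain ⟨z, rfl⟩ := (dvd_mul_right f h₁).trans hdvd
        rw [map_mul, h0, zero_mul]) (by
        intro q hq
        apply hh₁'
        intro hmem
        apply hq
        obtain ⟨z, rfl⟩ := (dvd_mul_left h₁ f).trans hdvd
        exact Ideal.mul_mem_right _ _ hmem) Rh Dh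

end Groth.Agent.Flat2B.GIN
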