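import Groth.Prelude.Def_FlatCA
import Groth.Agent.Flat2B.EtaleNhd
import Groth.Agent.Flat2B.DimFibre3
import Groth.Agent.Proet.EtaleLift

/-!
Assembly of an elementary dévissage (Stacks 057S) from the local structure theorem for a quotient.
-/

set_option autoImplicit false

universe u v

namespace Groth.Agent.Flat2B.ElemDev

open TensorProduct TopologicalSpace Topology

theorem exists_module_of_surjective {A : Type*} {B : Type*} {M : Type*} [CommRing A] [CommRing B] [Algebra A B]
    (h : Function.Surjective (algebraMap A B)) [AddCommGroup M] [Module A M]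
    (hk : ∀ a : A, algebraMap A B a = 0 → ∀ m : M, a • m = 0) :
    ∃ (_ : Module B M), IsScalarTower A B M := by
  let φ : A →+* AddMonoid.End M := Module.toAddMonoidEnd A M
  let ψ : B →+* AddMonoid.End M := RingHom.liftOfSurjective (algebraMap A B) h ⟨φ, by
    intro a ha
    rw [RingHom.mem_ker] at ha ⊢
    ext m
    exact hk a ha m⟩
  letI : Module B M := Module.compHom M ψ
  refine ⟨inferInstance, ?_⟩
  apply IsScalarTower.of_algebraMap_smul
  intro a m
  change ψ (algebraMap A B a) m = a • m
  have : ψ (algebraMap A B a) = φ a := RingHom.liftOfRightInverse_comp_apply _ _ _ _ _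
  rw [this]
  rfl

/-- The final assembly. -/
theorem nonempty_of {R S R' S' C D N N' : Type u} [CommRing R] [CommRing S] [CommRing R'] [CommRing S']
    [CommRing C] [CommRing D] [Algebra R S] [AddCommGroup N] [Module S N]
    [Algebra R R'] [Algebra S S'] [Algebra R' S'] [Algebra R S'] [IsScalarTower R R' S']
    [IsScalarTower R S S'] [Algebra S' C] [Algebra D C] [Algebra R' D] [Algebra R' C]
    [IsScalarTower R' D C] [IsScalarTower R' S' C]
    [AddCommGroup N'] [Module S' N'] [Module S N'] [IsScalarTower S S' N'] [Module.Finite S N]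
    (p : Ideal R) (q : Ideal S) [p.IsPrime] [q.IsPrime] (n : ℕ)
    (p' : Ideal R') (q' : Ideal S') (z : Ideal C) (y : Ideal D) [p'.IsPrime] [q'.IsPrime] [z.IsPrime]
    [y.IsPrime] (etaleR : FlatCA.IsEtaleNhd R R' p p') (etaleS : FlatCA.IsEtaleNhd S S' q q')
    [q'.LiesOver p'] (f : N →ₗ[S] N') (isBaseChange : IsBaseChange S' f)
    (surjC : Function.Surjective (algebraMap S' C)) (fpC : Algebra.FinitePresentation S' C)
    (hk : ∀ a : S', algebraMap S' C a = 0 → ∀ m : N', a • m = 0)
    (finiteDC : Module.Finite D C)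
    [z.LiesOver q'] [z.LiesOver y] [y.LiesOver p']
    (uniq : ∀ (z₁ : Ideal C) [z₁.IsPrime], z₁.LiesOver y → z₁ = z)
    (pureTrans : FlatCA.PurelyTranscendental p' y)
    (smooth : FlatCA.SmoothRelDim n R' D)
    (geomInt : FlatCA.GeomIntegralFibres R' D) :
    Nonempty (FlatCA.ElemDevissage R S N p q n) := by
  obtain ⟨mC, tC⟩ := exists_module_of_surjective surjC hk
  letI mD : Module D N' := Module.compHom N' (algebraMap D C)
  letI mR' : Module R' N' := Module.compHom N' (algebraMap R' C)
  haveI tDC : IsScalarTower D C N' := IsScalarTower.of_algebraMap_smul fun _ _ => rfl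
  haveI tR'C : IsScalarTower R' C N' := IsScalarTower.of_algebraMap_smul fun _ _ => rfl
  haveI tR'D : IsScalarTower R' D N' := by
    apply IsScalarTower.of_algebraMap_smul
    intro r m
    change algebraMap D C (algebraMap R' D r) • m = algebraMap R' C r • m
    rw [← IsScalarTower.algebraMap_apply]
  haveI hf : Module.Finite S' N' := Module.Finite.of_surjective isBaseChange.equiv.toLinearMap
    isBaseChange.equiv.surjective
  exact ⟨{
    R' := R'
    S' := S'
    C := C
    D := D
    N' := N'
    G := N'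
    p' := p'
    q' := q'
    z := z
    y := y
    etaleR := etaleR
    etaleS := etaleS
    f := f
    isBaseChange := isBaseChange
    surjC := surjC
    fpC := fpC
    iso := LinearEquiv.refl S' N'
    finiteDC := finiteDC
    finiteG := Module.Finite.of_restrictScalars_finite S' C N'
    uniq := uniq
    pureTrans := pureTrans
    smooth := smooth
    geomInt := geomInt }⟩


attribute [local instance] Algebra.TensorProduct.rightAlgebra

/-- The kernel of `M → B ⊗ M` is generated by the kernel of `A → B`, when `A → B` is surjective. -/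
theorem mem_map_of_includeRight_eq_zero {A B M : Type*} [CommRing A] [CommRing B] [CommRing M]
    [Algebra A B] [Algebra A M] (h : Function.Surjective (algebraMap A B)) (m : M)
    (hm : (1 : B) ⊗ₜ[A] m = 0) : m ∈ (RingHom.ker (algebraMap A B)).map (algebraMap A M) := by
  have h1 := Algebra.TensorProduct.rTensor_ker (R := A) (C := M) (Algebra.ofId A B) h
  have h2 : (1 : A) ⊗ₜ[A] m ∈ RingHom.ker (Algebra.TensorProduct.map (Algebra.ofId A B) (AlgHom.id A M)) := by
    rw [RingHom.mem_ker, Algebra.TensorProduct.map_tmul, map_one]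
    exact hm
  rw [h1] at h2
  have h3 : (RingHom.ker (Algebra.ofId A B)).map (Algebra.TensorProduct.includeLeft : A →ₐ[A] A ⊗[A] M) ≤
      ((RingHom.ker (algebraMap A B)).map (algebraMap A M)).comap (Algebra.TensorProduct.lid A M).toRingHom := by
    rw [Ideal.map_le_iff_le_comap]
    intro a ha
    rw [Ideal.mem_comap, Ideal.mem_comap]
    change Algebra.TensorProduct.lid A M (a ⊗ₜ[A] 1) ∈ _
    rw [Algebra.TensorProduct.lid_tmul, ← Algebra.algebraMap_eq_smul_one]
    exact Ideal.mem_map_of_mem _ ha
  have h4 := h3 h2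
  rw [Ideal.mem_comap] at h4
  change Algebra.TensorProduct.lid A M ((1 : A) ⊗ₜ[A] m) ∈ _ at h4
  rwa [Algebra.TensorProduct.lid_tmul, one_smul] at h4

/-- Lifting the local structure data from a finitely presented quotient `T` of `S` (whose kernel kills `N`)
to an elementary dévissage of `N`. -/
theorem nonempty_of_quotient {R S T N : Type u} [CommRing R] [CommRing S] [CommRing T] [Algebra R S]
    [Algebra R T] [Algebra S T] [IsScalarTower R S T] (hsurj : Function.Surjective (algebraMap S T))
    (hfg : (RingHom.ker (algebraMap S T)).FG)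
    [AddCommGroup N] [Module S N] [Module.Finite S N]
    (hk : ∀ a : S, algebraMap S T a = 0 → ∀ m : N, a • m = 0)
    (p : Ideal R) [p.IsPrime] (q : Ideal S) [q.IsPrime] [q.LiesOver p] (t : Ideal T) [t.IsPrime]
    [t.LiesOver q] (n : ℕ)
    {R' C D : Type u} [CommRing R'] [CommRing C] [CommRing D] [Algebra R R']
    [Algebra T C] [Algebra R' C] [Algebra R C] [IsScalarTower R R' C] [IsScalarTower R T C]
    [Algebra R' D] [Algebra D C] [IsScalarTower R' D C]
    (p' : Ideal R') (z : Ideal C) (y : Ideal D) [p'.IsPrime] [z.IsPrime] [y.IsPrime]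
    [z.LiesOver p'] [z.LiesOver y] [y.LiesOver p']
    (etaleR : FlatCA.IsEtaleNhd R R' p p') (etaleT : FlatCA.IsEtaleNhd T C t z)
    (finiteDC : Module.Finite D C)
    (uniq : ∀ (z₁ : Ideal C) [z₁.IsPrime], z₁.LiesOver y → z₁ = z)
    (pureTrans : FlatCA.PurelyTranscendental p' y)
    (smooth : FlatCA.SmoothRelDim n R' D)
    (geomInt : FlatCA.GeomIntegralFibres R' D) :
    Nonempty (FlatCA.ElemDevissage R S N p q n) := by
  haveI := etaleR.1
  haveI := etaleT.1
  haveI hp'p : p'.LiesOver p := etaleR.2.1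
  haveI hzt : z.LiesOver t := etaleT.2.1
  -- `C` as an `S`-algebra
  letI aSC : Algebra S C := ((algebraMap T C).comp (algebraMap S T)).toAlgebra
  haveI tSTC : IsScalarTower S T C := IsScalarTower.of_algebraMap_eq' rfl
  haveI tRSC : IsScalarTower R S C := IsScalarTower.of_algebraMap_eq' (by
    rw [IsScalarTower.algebraMap_eq R T C, IsScalarTower.algebraMap_eq R S T,
      IsScalarTower.algebraMap_eq S T C, RingHom.comp_assoc])
  -- `S₁ = R' ⊗ S`
  let S₁ := R' ⊗[R] S
  haveI : Algebra.Etale S (S ⊗[R] R') := Algebra.Etale.baseChange R R' S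
  haveI : Algebra.Etale S S₁ := Algebra.Etale.of_equiv (Algebra.IsPushout.equiv R S R' S₁)
  let φ : S₁ →ₐ[R'] C := Algebra.TensorProduct.lift (Algebra.ofId R' C) (IsScalarTower.toAlgHom R S C)
    (fun _ _ => Commute.all _ _)
  letI aS₁C : Algebra S₁ C := φ.toRingHom.toAlgebra
  haveI tR'S₁C : IsScalarTower R' S₁ C := IsScalarTower.of_algebraMap_eq' φ.comp_algebraMap.symm
  haveI tSS₁C : IsScalarTower S S₁ C := IsScalarTower.of_algebraMap_eq' (by
    refine RingHom.ext fun s => ?_
    change algebraMap S C s = φ ((1 : R') ⊗ₜ[R] s)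
    rw [Algebra.TensorProduct.lift_tmul, map_one, one_mul]
    rfl)
  -- `T₁ = T ⊗_S S₁`
  let T₁ := T ⊗[S] S₁
  haveI : Algebra.Etale T T₁ := inferInstance
  let ψ : T₁ →ₐ[T] C := Algebra.TensorProduct.lift (Algebra.ofId T C) (IsScalarTower.toAlgHom S S₁ C)
    (fun _ _ => Commute.all _ _)
  letI aT₁C : Algebra T₁ C := ψ.toRingHom.toAlgebra
  haveI tTT₁C : IsScalarTower T T₁ C := IsScalarTower.of_algebraMap_eq' ψ.comp_algebraMap.symm
  haveI tS₁T₁C : IsScalarTower S₁ T₁ C := IsScalarTower.of_algebraMap_eq' (by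
    refine RingHom.ext fun s => ?_
    change algebraMap S₁ C s = ψ ((1 : T) ⊗ₜ[S] s)
    rw [Algebra.TensorProduct.lift_tmul, map_one, one_mul]
    rfl)
  haveI : Algebra.Etale T₁ C := Algebra.Etale.of_restrictScalars T T₁ C
  have hsurj₁ : Function.Surjective (algebraMap S₁ T₁) :=
    Algebra.TensorProduct.includeRight_surjective S₁ hsurj
  obtain ⟨S', _, _, _, ⟨e⟩⟩ := Proet.EtaleLift.exists_etale_lift S₁ T₁ C hsurj₁
  -- algebra structures on `S'`
  letI aSS' : Algebra S S' := ((algebraMap S₁ S').comp (algebraMap S S₁)).toAlgebra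
  haveI tSS₁S' : IsScalarTower S S₁ S' := IsScalarTower.of_algebraMap_eq' rfl
  letI aR'S' : Algebra R' S' := ((algebraMap S₁ S').comp (algebraMap R' S₁)).toAlgebra
  haveI tR'S₁S' : IsScalarTower R' S₁ S' := IsScalarTower.of_algebraMap_eq' rfl
  letI aRS' : Algebra R S' := ((algebraMap S S').comp (algebraMap R S)).toAlgebra
  haveI tRSS' : IsScalarTower R S S' := IsScalarTower.of_algebraMap_eq' rfl
  haveI tRR'S' : IsScalarTower R R' S' := IsScalarTower.of_algebraMap_eq' (by
    rw [IsScalarTower.algebraMap_eq R' S₁ S', RingHom.comp_assoc, ← IsScalarTower.algebraMap_eq R R' S₁,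
      IsScalarTower.algebraMap_eq R S S₁, ← RingHom.comp_assoc]
    rfl)
  letI aS'C : Algebra S' C := (e.toRingHom.comp (algebraMap S' (T₁ ⊗[S₁] S'))).toAlgebra
  haveI tS₁S'C : IsScalarTower S₁ S' C := IsScalarTower.of_algebraMap_eq' (by
    change _ = (e.toRingHom.comp (algebraMap S' (T₁ ⊗[S₁] S'))).comp (algebraMap S₁ S')
    rw [RingHom.comp_assoc, ← IsScalarTower.algebraMap_eq S₁ S' (T₁ ⊗[S₁] S'),
      IsScalarTower.algebraMap_eq S₁ T₁ (T₁ ⊗[S₁] S'), ← RingHom.comp_assoc,
      IsScalarTower.algebraMap_eq S₁ T₁ C]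
    congr 1
    exact e.toAlgHom.comp_algebraMap.symm)
  have hsurjC : Function.Surjective (algebraMap S' C) :=
    e.surjective.comp (Algebra.TensorProduct.includeRight_surjective S' hsurj₁)
  haveI tR'S'C : IsScalarTower R' S' C := IsScalarTower.of_algebraMap_eq' (by
    rw [IsScalarTower.algebraMap_eq R' S₁ S', ← RingHom.comp_assoc, ← IsScalarTower.algebraMap_eq S₁ S' C,
      ← IsScalarTower.algebraMap_eq R' S₁ C])
  haveI tSS'C : IsScalarTower S S' C := IsScalarTower.of_algebraMap_eq' (by
    rw [IsScalarTower.algebraMap_eq S S₁ S', ← RingHom.comp_assoc, ← IsScalarTower.algebraMap_eq S₁ S' C,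
      ← IsScalarTower.algebraMap_eq S S₁ C])
  haveI : Algebra.Etale S S' := Algebra.Etale.comp S S₁ S'
  -- finite presentation
  haveI hfpT : Algebra.FinitePresentation S T :=
    Algebra.FinitePresentation.of_surjective (f := Algebra.ofId S T) hsurj hfg
  haveI hfpT₁ : Algebra.FinitePresentation S₁ T₁ :=
    Algebra.FinitePresentation.equiv (Algebra.TensorProduct.commRight S S₁ T)
  have hfpC : Algebra.FinitePresentation S' C := by
    haveI h1 : Algebra.FinitePresentation S' (S' ⊗[S₁] T₁) := inferInstance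
    let f : S' ⊗[S₁] T₁ ≃+* C :=
      (Algebra.TensorProduct.comm S₁ S' T₁).toRingEquiv.trans e.toRingEquiv
    let f' : S' ⊗[S₁] T₁ ≃ₐ[S'] C := AlgEquiv.ofRingEquiv (f := f) (fun _ => rfl)
    exact Algebra.FinitePresentation.equiv (R := S') (A := S' ⊗[S₁] T₁) (B := C) f'
  -- the kernel
  have hk' : ∀ a : S', algebraMap S' C a = 0 → ∀ m : S' ⊗[S] N, a • m = 0 := by
    intro a ha m
    have h1 : (1 : T₁) ⊗ₜ[S₁] a = 0 := e.injective (by rw [map_zero]; exact ha)
    have h2 := mem_map_of_includeRight_eq_zero hsurj₁ a h1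
    have h3 : RingHom.ker (algebraMap S₁ T₁) ≤ (RingHom.ker (algebraMap S T)).map (algebraMap S S₁) :=
      fun b hb => mem_map_of_includeRight_eq_zero hsurj b hb
    have h4 := Ideal.map_mono (f := algebraMap S₁ S') h3 h2
    rw [Ideal.map_map, ← IsScalarTower.algebraMap_eq] at h4
    have h5 : (RingHom.ker (algebraMap S T)).map (algebraMap S S') ≤
        Module.annihilator S' (S' ⊗[S] N) := by
      rw [Ideal.map_le_iff_le_comap]
      intro s hs
      rw [Ideal.mem_comap, Module.mem_annihilator]
      intro m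
      rw [algebraMap_smul]
      induction m using TensorProduct.induction_on with
      | zero => rw [smul_zero]
      | tmul x y => rw [← TensorProduct.tmul_smul, hk s hs, TensorProduct.tmul_zero]
      | add x y hx hy => rw [smul_add, hx, hy, add_zero]
    exact Module.mem_annihilator.mp (h5 h4) m
  -- the primes
  haveI hzS : z.LiesOver q := Ideal.LiesOver.trans z t q
  let q' : Ideal S' := z.comap (algebraMap S' C)
  haveI hzq' : z.LiesOver q' := ⟨rfl⟩
  haveI hq'q : q'.LiesOver q := ⟨by
    rw [Ideal.over_def z q, Ideal.under_def, Ideal.under_def, Ideal.comap_comap,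
      ← IsScalarTower.algebraMap_eq]⟩
  haveI hq'p' : q'.LiesOver p' := ⟨by
    rw [Ideal.over_def z p', Ideal.under_def, Ideal.under_def, Ideal.comap_comap,
      ← IsScalarTower.algebraMap_eq]⟩
  have hres : EtaleNhd.ResTriv S S' q q' := by
    have h1 : EtaleNhd.ResTriv S T q t := EtaleNhd.resTriv_of_surjective hsurj q
      (Ideal.IsPrime.ne_top inferInstance) t
    have h2 : EtaleNhd.ResTriv S C q z := h1.trans (EtaleNhd.resTriv etaleT)
    exact h2.of_comp_left
  exact nonempty_of (S' := S') (C := C) (D := D) (N' := S' ⊗[S] N) p q n p' q' z y etaleR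
    (EtaleNhd.isEtaleNhd_of hres) (TensorProduct.mk S S' N 1) (TensorProduct.isBaseChange S N S')
    hsurjC hfpC hk' finiteDC uniq pureTrans smooth geomInt

end Groth.Agent.Flat2B.ElemDev
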