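import Groth.Prelude.Def_FlatCA
import Groth.Agent.Flat2B.ElemDev

/-!
Elementary dévissage (Stacks 057S) from the local structure theorem for finite type algebras.
-/

set_option autoImplicit false
universe u

namespace Groth.Agent.Flat2B.ElemDevOf

open TensorProduct TopologicalSpace Topology
open Groth.Agent.Flat2B Groth.Agent.Flat2B.DimFibre Groth.Agent.Flat2B.DimFibre2 Groth.Agent.Flat2B.DimFibre3

/-- An ideal whose extension is finitely generated contains a finitely generated ideal with the same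
extension. -/
theorem exists_fg_le_map_eq {A B : Type*} [CommRing A] [CommRing B] (f : A →+* B) (I : Ideal A)
    (h : (I.map f).FG) : ∃ J : Ideal A, J ≤ I ∧ J.FG ∧ J.map f = I.map f := by
  classical
  have h' : (Submodule.span B (f '' (I : Set A))).FG := h
  rw [Submodule.fg_span_iff_fg_span_finset_subset] at h'
  obtain ⟨T, hT, hT'⟩ := h'
  obtain ⟨T', hT1, rfl⟩ := Finset.subset_set_image_iff.mp hT
  refine ⟨Ideal.span T', Ideal.span_le.mpr hT1, ⟨T', rfl⟩, ?_⟩
  rw [Ideal.map_span, ← Finset.coe_image]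
  exact hT'.symm

attribute [local instance] Algebra.TensorProduct.rightAlgebra

theorem localDim_quotient {R S : Type u} [CommRing R] [CommRing S] [Algebra R S]
    (N : Type u) [AddCommGroup N] [Module S N] [Module.Finite S N]
    (p : Ideal R) [p.IsPrime] (q : Ideal S) [q.IsPrime] [q.LiesOver p]
    (x : PrimeSpectrum (p.Fiber S)) (hxq : x.asIdeal = FlatCA.fiberIdeal p q)
    (hx : x ∈ Module.support (p.Fiber S) (FlatCA.fiberMod p S N))
    (J : Ideal S) (hJ : J ≤ Module.annihilator S N)
    (hJ' : J.map (algebraMap S (p.Fiber S)) = (Module.annihilator S N).map (algebraMap S (p.Fiber S)))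
    (t : Ideal (S ⧸ J)) [t.IsPrime] [ht : t.LiesOver p] [ht' : t.LiesOver q] :
    FlatMor.localDim (PrimeSpectrum (p.Fiber (S ⧸ J))) (pt p t) =
      FlatMor.localDim (Module.support (p.Fiber S) (FlatCA.fiberMod p S N)) ⟨x, hx⟩ := by
  have hxpt : x = pt p q := eq_pt_of_asIdeal p q x hxq
  refine localDim_eq_of_range_eq
    (f := fun x : PrimeSpectrum (p.Fiber (S ⧸ J)) => PrimeSpectrum.comap (algebraMap S (S ⧸ J))
      (PrimeSpectrum.comap (algebraMap (S ⧸ J) (p.Fiber (S ⧸ J))) x))
    (g := fun x : Module.support (p.Fiber S) (FlatCA.fiberMod p S N) =>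
      PrimeSpectrum.comap (algebraMap S (p.Fiber S)) x.1)
    ((PrimeSpectrum.isClosedEmbedding_comap_of_surjective _ _ Ideal.Quotient.mk_surjective).isEmbedding.comp
      (isEmbedding_comap p (S ⧸ J)))
    ((isEmbedding_comap p S).comp IsEmbedding.subtypeVal) ?_ _ _ ?_
  · ext Q
    constructor
    · rintro ⟨P, rfl⟩
      set P' := PrimeSpectrum.comap (algebraMap (S ⧸ J) (p.Fiber (S ⧸ J))) P with hP'
      have h1 : P'.asIdeal.comap (algebraMap R (S ⧸ J)) = p := comap_comap p (S ⧸ J) P
      set Q := PrimeSpectrum.comap (algebraMap S (S ⧸ J)) P' with hQ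
      have h2 : Q.asIdeal.comap (algebraMap R S) = p := by
        rw [hQ, PrimeSpectrum.comap_asIdeal, Ideal.comap_comap, ← IsScalarTower.algebraMap_eq]
        exact h1
      obtain ⟨x', hx'⟩ := (range_comap p S).ge h2
      refine ⟨⟨x', ?_⟩, hx'⟩
      rw [mem_support_fiberMod_iff, hx', Module.mem_support_iff_of_finite]
      have h3 : J.map (algebraMap S (p.Fiber S)) ≤ x'.asIdeal := by
        rw [Ideal.map_le_iff_le_comap]
        intro j hj
        have h4 : j ∈ Q.asIdeal := by
          rw [hQ, PrimeSpectrum.comap_asIdeal, Ideal.mem_comap]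
          have : algebraMap S (S ⧸ J) j = 0 := Ideal.Quotient.eq_zero_iff_mem.mpr hj
          rw [this]
          exact Ideal.zero_mem _
        rw [← hx'] at h4
        exact h4
      rw [hJ', Ideal.map_le_iff_le_comap] at h3
      rw [← hx']
      exact h3
    · rintro ⟨⟨x', hx'⟩, rfl⟩
      rw [mem_support_fiberMod_iff, Module.mem_support_iff_of_finite] at hx'
      have h2 := comap_comap p S x'
      have h1 : (PrimeSpectrum.comap (algebraMap S (p.Fiber S)) x') ∈
          Set.range (PrimeSpectrum.comap (algebraMap S (S ⧸ J))) := by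
        rw [Ideal.Quotient.algebraMap_eq, _root_.range_comap_of_surjective _ _ Ideal.Quotient.mk_surjective,
          PrimeSpectrum.mem_zeroLocus]
        intro j hj
        have hj' : j ∈ J := Ideal.Quotient.eq_zero_iff_mem.mp hj
        exact hx' (hJ hj')
      obtain ⟨P', hP'⟩ := h1
      have h3 : P'.asIdeal.comap (algebraMap R (S ⧸ J)) = p := by
        rw [IsScalarTower.algebraMap_eq R S (S ⧸ J), ← Ideal.comap_comap, ← PrimeSpectrum.comap_asIdeal, hP']
        exact h2
      obtain ⟨P, rfl⟩ := (range_comap p (S ⧸ J)).ge h3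
      exact ⟨P, hP'⟩
  · change PrimeSpectrum.comap (algebraMap S (S ⧸ J)) (PrimeSpectrum.comap _ (pt p t)) =
      PrimeSpectrum.comap _ x
    rw [hxpt, comap_pt, comap_pt]
    exact PrimeSpectrum.ext ht'.over.symm

/-- The statement of the local structure theorem (see `Flat2B.LST.exists_localStructure`). -/
def LSTStatement : Prop :=
  ∀ {R S : Type u} [CommRing R] [CommRing S] [Algebra R S]
    [Algebra.FiniteType R S] (p : Ideal R) [p.IsPrime] (q : Ideal S) [q.IsPrime] [q.LiesOver p] (n : ℕ)
    (x : PrimeSpectrum (p.Fiber S)) (_ : x.asIdeal = FlatCA.fiberIdeal p q)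
    (_ : FlatMor.localDim (PrimeSpectrum (p.Fiber S)) x = n),
    ∃ (R' S' D : Type u) (_ : CommRing R') (_ : CommRing S') (_ : CommRing D) (_ : Algebra R R')
      (_ : Algebra S S') (_ : Algebra R' S') (_ : Algebra R S') (_ : IsScalarTower R R' S')
      (_ : IsScalarTower R S S') (_ : Algebra R' D) (_ : Algebra D S') (_ : IsScalarTower R' D S')
      (p' : Ideal R') (q' : Ideal S') (y : Ideal D) (_ : p'.IsPrime) (_ : q'.IsPrime) (_ : y.IsPrime)
      (_ : q'.LiesOver p') (_ : q'.LiesOver y) (_ : y.LiesOver p'),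
      FlatCA.IsEtaleNhd R R' p p' ∧ FlatCA.IsEtaleNhd S S' q q' ∧ Module.Finite D S' ∧
      (∀ (z₁ : Ideal S') [z₁.IsPrime], z₁.LiesOver y → z₁ = q') ∧ FlatCA.PurelyTranscendental p' y ∧
      FlatCA.SmoothRelDim n R' D ∧ FlatCA.GeomIntegralFibres R' D

/-- Stacks 057S, from the local structure theorem. -/
theorem nonempty_elemDevissage (H : LSTStatement.{u})
    {R S : Type u} [CommRing R] [CommRing S] [Algebra R S] [Algebra.FiniteType R S]
    (N : Type u) [AddCommGroup N] [Module S N] [Module.Finite S N]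
    (p : Ideal R) [p.IsPrime] (q : Ideal S) [q.IsPrime] [q.LiesOver p] (n : ℕ)
    (x : PrimeSpectrum (p.Fiber S)) (hxq : x.asIdeal = FlatCA.fiberIdeal p q)
    (hx : x ∈ Module.support (p.Fiber S) (FlatCA.fiberMod p S N))
    (hn : FlatMor.localDim (Module.support (p.Fiber S) (FlatCA.fiberMod p S N)) ⟨x, hx⟩ = n) :
    Nonempty (FlatCA.ElemDevissage R S N p q n) := by
  have hxpt : x = pt p q := eq_pt_of_asIdeal p q x hxq
  have hqN : (⟨q, inferInstance⟩ : PrimeSpectrum S) ∈ Module.support S N := by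
    have hx' := hx
    rw [hxpt, mem_support_fiberMod_iff, comap_pt] at hx'
    exact hx'
  rw [Module.mem_support_iff_of_finite] at hqN
  have : IsNoetherianRing (p.Fiber S) := Algebra.FiniteType.isNoetherianRing p.ResidueField (p.Fiber S)
  obtain ⟨J, hJ, hfg, hJ'⟩ := exists_fg_le_map_eq (algebraMap S (p.Fiber S)) (Module.annihilator S N)
    (IsNoetherian.noetherian _)
  have hJq : J ≤ q := hJ.trans hqN
  let t : Ideal (S ⧸ J) := q.map (Ideal.Quotient.mk J)
  have : t.IsPrime := Ideal.map_isPrime_of_surjective Ideal.Quotient.mk_surjective (by rwa [Ideal.mk_ker])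
  have htq : t.LiesOver q := ⟨by
    rw [Ideal.under_def, Ideal.Quotient.algebraMap_eq,
      Ideal.comap_map_of_surjective _ Ideal.Quotient.mk_surjective, ← RingHom.ker_eq_comap_bot, Ideal.mk_ker,
      sup_eq_left.mpr hJq]⟩
  have htp : t.LiesOver p := Ideal.LiesOver.trans t q p
  obtain ⟨R', C, D, _, _, _, _, _, _, _, _, _, _, _, _, p', z, y, _, _, _, _, _, _, h1, h2, h3, h4, h5, h6, h7⟩ :=
    H (R := R) (S := S ⧸ J) p t n (pt p t) (pt_asIdeal p t)
      ((localDim_quotient N p q x hxq hx J hJ hJ' t).trans hn)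
  refine ElemDev.nonempty_of_quotient (R := R) (S := S) (T := S ⧸ J) (N := N)
    Ideal.Quotient.mk_surjective ?_ ?_ p q t n p' z y h1 h2 h3 h4 h5 h6 h7
  · rw [Ideal.Quotient.algebraMap_eq, Ideal.mk_ker]
    exact hfg
  · intro a ha m
    exact Module.mem_annihilator.mp (hJ (Ideal.Quotient.eq_zero_iff_mem.mp ha)) m

end Groth.Agent.Flat2B.ElemDevOf
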