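import Groth.Agent.Flat2B.LSTOf
import Groth.Agent.Flat2B.GIN

/-!
# The local structure theorem (Stacks 052E, 057K, 057L), ring form
-/

set_option autoImplicit false
universe u

namespace Groth.Agent.Flat2B.LST

/-- Local structure theorem (Stacks 052E/057K/057L) in ring form, with pure transcendence and geometrically
integral fibres. -/
theorem exists_localStructure {R S : Type u} [CommRing R] [CommRing S] [Algebra R S]
    [Algebra.FiniteType R S] (p : Ideal R) [p.IsPrime] (q : Ideal S) [q.IsPrime] [q.LiesOver p] (n : ℕ)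
    (x : PrimeSpectrum (p.Fiber S)) (hxq : x.asIdeal = FlatCA.fiberIdeal p q)
    (hn : FlatMor.localDim (PrimeSpectrum (p.Fiber S)) x = n) :
    ∃ (R' S' D : Type u) (_ : CommRing R') (_ : CommRing S') (_ : CommRing D) (_ : Algebra R R')
      (_ : Algebra S S') (_ : Algebra R' S') (_ : Algebra R S') (_ : IsScalarTower R R' S')
      (_ : IsScalarTower R S S') (_ : Algebra R' D) (_ : Algebra D S') (_ : IsScalarTower R' D S')
      (p' : Ideal R') (q' : Ideal S') (y : Ideal D) (_ : p'.IsPrime) (_ : q'.IsPrime) (_ : y.IsPrime)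
      (_ : q'.LiesOver p') (_ : q'.LiesOver y) (_ : y.LiesOver p'),
      FlatCA.IsEtaleNhd R R' p p' ∧ FlatCA.IsEtaleNhd S S' q q' ∧ Module.Finite D S' ∧
      (∀ (z₁ : Ideal S') [z₁.IsPrime], z₁.LiesOver y → z₁ = q') ∧ FlatCA.PurelyTranscendental p' y ∧
      FlatCA.SmoothRelDim n R' D ∧ FlatCA.GeomIntegralFibres R' D :=
  LSTOf.exists_localStructure_of (fun _ _ _ _ _ _ p _ y _ _ h => GIN.exists_geomIntegral p y h)
    p q n x hxq hn

end Groth.Agent.Flat2B.LST
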