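import Mathlib.RingTheory.Flat.Tensor
import Mathlib.RingTheory.Flat.Stability
import Mathlib.RingTheory.IsTensorProduct
import Mathlib.LinearAlgebra.TensorProduct.Tower

set_option autoImplicit false

namespace Groth.Agent.Flat2B.FlatBC

open TensorProduct

universe u v w x

/-- If `N` is a `B`-module flat over `A` and `C` is a flat `B`-algebra (or module), then `C ⊗[B] N` is flat over `A`. -/
theorem flat_tensorProduct (A : Type u) (B : Type v) (C : Type w) (N : Type x) [CommRing A] [CommRing B] [CommRing C]
    [Algebra A B] [Algebra B C] [Algebra A C] [IsScalarTower A B C] [Module.Flat B C] [AddCommGroup N] [Module B N]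
    [Module A N] [IsScalarTower A B N] [Module.Flat A N] : Module.Flat A (C ⊗[B] N) := by
  rw [Module.Flat.iff_lTensor_injective']
  intro I
  have h1 : Function.Injective (AlgebraTensorModule.lTensor B N I.subtype) :=
    Module.Flat.lTensor_preserves_injective_linearMap (M := N) I.subtype Subtype.val_injective
  have h2 : Function.Injective ((AlgebraTensorModule.lTensor B N I.subtype).lTensor C) :=
    Module.Flat.lTensor_preserves_injective_linearMap (M := C) _ h1
  have h3 : ∀ z : (C ⊗[B] N) ⊗[A] I, AlgebraTensorModule.assoc A B C C N A (I.subtype.lTensor (C ⊗[B] N) z) =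
      (AlgebraTensorModule.lTensor B N I.subtype).lTensor C (AlgebraTensorModule.assoc A B C C N I z) := by
    intro z
    induction z with
    | zero => simp
    | add x y hx hy => rw [map_add, map_add, hx, hy, map_add, map_add]
    | tmul a b =>
      induction a with
      | zero => simp
      | add x y hx hy => rw [TensorProduct.add_tmul, map_add, map_add, hx, hy, map_add, map_add]
      | tmul c n => rfl
  intro x y hxy
  apply (AlgebraTensorModule.assoc A B C C N I).injective
  apply h2
  rw [← h3, ← h3, hxy]

/-- `IsBaseChange` version of `flat_tensorProduct`. -/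
theorem flat_of_isBaseChange {A : Type u} {B : Type v} {C : Type w} {N : Type x} {M : Type x} [CommRing A] [CommRing B]
    [CommRing C] [Algebra A B] [Algebra B C] [Algebra A C] [IsScalarTower A B C] [Module.Flat B C] [AddCommGroup N]
    [Module B N] [Module A N] [IsScalarTower A B N] [Module.Flat A N] [AddCommGroup M] [Module C M] [Module B M]
    [Module A M] [IsScalarTower B C M] [IsScalarTower A C M] (f : N →ₗ[B] M) (hf : IsBaseChange C f) :
    Module.Flat A M := by
  have := flat_tensorProduct A B C N
  exact Module.Flat.of_linearEquiv (hf.equiv.symm.restrictScalars A)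

end Groth.Agent.Flat2B.FlatBC
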