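import Groth.Agent.Flat2B.TensorAss3
import Mathlib.RingTheory.Smooth.Flat

set_option autoImplicit false
universe u

namespace Groth.Agent.Flat2B.TensorAss4

open TensorProduct Flat2A.Fiber Flat2A.FiberAss FibKer WeakAssElem TensorAss TensorAss2 InjTransfer AvoidAss TensorAss3

/-- comparison of iterated base changes -/
noncomputable def compEquiv {R S S₀ SA C : Type u} [CommRing R] [CommRing S] [CommRing S₀] [CommRing SA] [CommRing C]
    [Algebra R S] [Algebra S S₀] [Algebra S₀ SA] [Algebra SA C] [Algebra S₀ C] [IsScalarTower S₀ SA C]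
    [Algebra S C] [IsScalarTower S S₀ C] [Algebra R C] [IsScalarTower R S C]
    (N : Type u) [AddCommGroup N] [Module S N] [Module R N] [IsScalarTower R S N]
    (M : Type u) [AddCommGroup M] [Module R M] :
    (C ⊗[SA] (SA ⊗[S₀] (S₀ ⊗[S] N))) ⊗[R] M ≃ₗ[C] C ⊗[S] (N ⊗[R] M) :=
  (TensorProduct.AlgebraTensorModule.congr
    ((TensorProduct.AlgebraTensorModule.cancelBaseChange S₀ SA C C (S₀ ⊗[S] N)) ≪≫ₗ
      (TensorProduct.AlgebraTensorModule.cancelBaseChange S S₀ C C N)) (LinearEquiv.refl R M)) ≪≫ₗ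
    (TensorProduct.AlgebraTensorModule.assoc R S C C N M)

theorem core_aux {R S S₀ A SA C : Type u} [CommRing R] [CommRing S] [CommRing S₀] [CommRing A] [CommRing SA] [CommRing C]
    [Algebra R S] [Algebra S S₀] [Algebra R S₀] [IsScalarTower R S S₀] [Algebra R A] [Algebra R SA]
    [Algebra S₀ SA] [Algebra A SA] [IsScalarTower R S₀ SA] [IsScalarTower R A SA] [Algebra.IsPushout R S₀ A SA]
    [Algebra SA C] [Algebra S₀ C] [IsScalarTower S₀ SA C] [Algebra A C] [IsScalarTower A SA C]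
    [Algebra S C] [IsScalarTower S S₀ C] [Algebra R C] [IsScalarTower R S C] [IsScalarTower R A C]
    [Module.Flat SA C] [Module.Flat S C] [IsLocalRing A]
    (N : Type u) [AddCommGroup N] [Module S N] [Module R N] [IsScalarTower R S N]
    (M : Type u) [AddCommGroup M] [Module R M]
    (p : Ideal R) [p.IsPrime] [(IsLocalRing.maximalIdeal A).LiesOver p]
    (hpA : p.map (algebraMap R A) = IsLocalRing.maximalIdeal A)
    [Module.Free A (C ⊗[SA] (SA ⊗[S₀] (S₀ ⊗[S] N)))]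
    (q : Ideal S) (x' : Ideal C) (hx' : x' ≠ ⊤) (hq : q ≤ x'.comap (algebraMap S C))
    (z : N ⊗[R] M) (hz : ∀ s : S, s • z = 0 → s ∈ q) (Q : S → Prop)
    (hQ : ∀ g, Q g → Function.Injective ((mulBy R (S₀ ⊗[S] N) (algebraMap S S₀ g)).lTensor p.ResidueField)) :
    (∀ c : S, Q c → c • z ≠ 0) ∧
    ((∀ a ∈ p, ∃ s, Q s ∧ ∃ n : ℕ, (s * (algebraMap R S a) ^ n) • z = 0) →
      IsLocalRing.maximalIdeal A ∈ FlatCA.weakAss A (A ⊗[R] M)) := by
  let E := compEquiv (R := R) (S := S) (S₀ := S₀) (SA := SA) (C := C) N M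
  let z' : (C ⊗[SA] (SA ⊗[S₀] (S₀ ⊗[S] N))) ⊗[R] M := E.symm (1 ⊗ₜ[S] z)
  have hz' : z' ≠ 0 := by
    intro h0
    have h1 : (1 : C) ⊗ₜ[S] z = 0 := by
      have := congrArg E h0
      rw [map_zero] at this
      rw [← this]
      exact (E.apply_symm_apply _).symm
    exact one_tmul_ne_zero z q x' hx' hq hz h1
  have hsmulz : ∀ s : S, (algebraMap S C s) • z' = E.symm (1 ⊗ₜ[S] (s • z)) := by
    intro s
    rw [TensorProduct.tmul_smul, ← algebraMap_smul C s, map_smul]
  have hreg : ∀ g : S, Q g → ∀ w : (C ⊗[SA] (SA ⊗[S₀] (S₀ ⊗[S] N))) ⊗[R] M, algebraMap S C g • w = 0 → w = 0 := by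
    intro g hg w hw
    have h2 : Reg ((C ⊗[SA] (SA ⊗[S₀] (S₀ ⊗[S] N))) ⊗[R] M) (algebraMap SA C (algebraMap S₀ SA (algebraMap S S₀ g))) :=
      reg_of_free (R := R) (S₀ := S₀) (A := A) (SA := SA) (N₀ := S₀ ⊗[S] N) (C := C) p (algebraMap S S₀ g) (hQ g hg) M
    have h3 : algebraMap SA C (algebraMap S₀ SA (algebraMap S S₀ g)) = algebraMap S C g := by
      rw [← IsScalarTower.algebraMap_apply S₀ SA C, ← IsScalarTower.algebraMap_apply S S₀ C]
    rw [h3] at h2
    apply h2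
    change algebraMap S C g • w = algebraMap S C g • 0
    rw [hw, smul_zero]
  constructor
  · intro c hc h0
    have h1 : (algebraMap S C c) • z' = 0 := by rw [hsmulz, h0, TensorProduct.tmul_zero, map_zero]
    exact hz' (hreg c hc z' h1)
  · intro hnil
    refine maximalIdeal_mem_weakAss p hpA (F := C ⊗[SA] (SA ⊗[S₀] (S₀ ⊗[S] N))) z' hz' ?_
    intro a ha
    obtain ⟨s, hs, n, hsn⟩ := hnil a ha
    refine ⟨n, ?_⟩
    apply hreg s hs
    have h2 : (a ^ n) • z' = (algebraMap S C ((algebraMap R S a) ^ n)) • z' := by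
      rw [← map_pow, ← IsScalarTower.algebraMap_apply R S C, algebraMap_smul]
    rw [h2, smul_smul, ← map_mul, hsmulz, hsn, TensorProduct.tmul_zero, map_zero]

end Groth.Agent.Flat2B.TensorAss4
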