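import Groth.Prelude.Def_FlatCA
import Groth.Agent.Flat2B.LocTransfer
import Groth.Agent.Flat2B.FlatCrit
import Mathlib.RingTheory.Flat.Stability
import Mathlib.RingTheory.Spectrum.Prime.Chevalley
import Mathlib.RingTheory.Flat.FaithfullyFlat.Basic
import Mathlib.RingTheory.TensorProduct.Quotient
import Mathlib.LinearAlgebra.TensorProduct.Quotient
import Mathlib.LinearAlgebra.TensorProduct.RightExactness

/-!
# `FlatAt` and flat base change of the source; flatness on basic open neighbourhoods

* `flatAt_baseChange_iff`: `S → S'` flat, `q'` over `q`: `M` is flat over `R` at `q` iff `S' ⊗ M` is so at `q'`.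
* `flat_away_iff`: `M_g` is flat over `R` iff `M` is flat over `R` at all primes not containing `g`.
* `exists_flat_away_iff_of_exists_mul`: flatness on a basic open neighbourhood, along surjections and finite maps
  with a unique prime above.
-/

set_option autoImplicit false

namespace Groth.Agent.Flat2B.FlatEt

universe u v w

open TensorProduct

section Abstract

variable {S : Type u} {S' : Type v} [CommRing S] [CommRing S'] [Algebra S S'] [Module.Flat S S']
  (q : Ideal S) [q.IsPrime] (q' : Ideal S') [q'.IsPrime] (hq : q'.comap (algebraMap S S') = q)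
  {P P₂ : Type w} [AddCommGroup P] [Module S P] [AddCommGroup P₂] [Module S P₂] (φ : P →ₗ[S] P₂)

include hq in
theorem torsion_iff :
    (∀ x, φ x = 0 → ∃ t, t ∉ q ∧ t • x = 0) ↔
      (∀ x : S' ⊗[S] P, φ.baseChange S' x = 0 → ∃ t, t ∉ q' ∧ t • x = 0) := by
  constructor
  · intro h x hx
    have hex : Function.Exact ((LinearMap.ker φ).subtype.lTensor S') (φ.lTensor S') :=
      Module.Flat.lTensor_exact S' (LinearMap.exact_subtype_ker_map φ)
    obtain ⟨y, rfl⟩ := (hex x).1 hx
    have key : ∀ y : S' ⊗[S] (LinearMap.ker φ), ∃ t : S, t ∉ q ∧ t • y = 0 := by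
      intro y
      induction y using TensorProduct.induction_on with
      | zero => exact ⟨1, fun h ↦ (Ideal.IsPrime.ne_top (I := q) inferInstance) ((Ideal.eq_top_iff_one _).2 h), smul_zero _⟩
      | tmul s k =>
        obtain ⟨t, ht, htk⟩ := h k.1 k.2
        refine ⟨t, ht, ?_⟩
        rw [← TensorProduct.tmul_smul]
        have : t • k = 0 := Subtype.ext htk
        rw [this, TensorProduct.tmul_zero]
      | add y z hy hz =>
        obtain ⟨t, ht, hty⟩ := hy
        obtain ⟨t', ht', htz⟩ := hz
        refine ⟨t * t', fun hm ↦ ((Ideal.IsPrime.mem_or_mem (I := q) inferInstance hm).elim ht ht'), ?_⟩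
        rw [smul_add, mul_comm, mul_smul, hty, smul_zero, mul_comm, mul_smul, htz, smul_zero, add_zero]
    obtain ⟨t, ht, hty⟩ := key y
    refine ⟨algebraMap S S' t, fun h' ↦ ht (by rw [← hq]; exact h'), ?_⟩
    rw [algebraMap_smul, ← map_smul, hty, map_zero]
  · intro h x hx
    obtain ⟨t', ht', htx⟩ := h (1 ⊗ₜ x) (by rw [LinearMap.baseChange_tmul, hx, TensorProduct.tmul_zero])
    rw [TensorProduct.smul_tmul', smul_eq_mul, mul_one] at htx
    -- the annihilator
    let J : Ideal S := LinearMap.ker (LinearMap.toSpanSingleton S P x)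
    let l : (S ⧸ J) →ₗ[S] P := Submodule.liftQ J (LinearMap.toSpanSingleton S P x) le_rfl
    have hl : Function.Injective l := by
      rw [← LinearMap.ker_eq_bot]
      exact Submodule.ker_liftQ_eq_bot _ _ _ le_rfl
    have hl' : Function.Injective (l.lTensor S') := Module.Flat.lTensor_preserves_injective_linearMap l hl
    have h0 : t' ⊗ₜ[S] (Ideal.Quotient.mk J 1) = (0 : S' ⊗[S] (S ⧸ J)) := by
      apply hl'
      rw [LinearMap.lTensor_tmul, map_zero]
      have : l (Ideal.Quotient.mk J 1) = x := by
        change Submodule.liftQ J _ _ (Submodule.Quotient.mk 1) = x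
        rw [Submodule.liftQ_apply, LinearMap.toSpanSingleton_apply, one_smul]
      rw [this]; exact htx
    have h1 : t' ∈ (J • ⊤ : Submodule S S') := by
      have := congrArg (TensorProduct.tensorQuotEquivQuotSMul S' J) h0
      rwa [TensorProduct.tensorQuotEquivQuotSMul_tmul_mk, one_smul, map_zero, Submodule.Quotient.mk_eq_zero] at this
    have h2 : t' ∈ J.map (algebraMap S S') := by
      rwa [Ideal.smul_top_eq_map, Submodule.restrictScalars_mem] at h1
    by_contra hcon
    push Not at hcon
    have hJq : J ≤ q := by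
      intro t ht
      by_contra htq
      exact hcon t htq (by simpa [J] using ht)
    have : J.map (algebraMap S S') ≤ q' := by
      rw [Ideal.map_le_iff_le_comap, hq]
      exact hJq
    exact ht' (this h2)

end Abstract

section Main

variable {R S S' : Type u} [CommRing R] [CommRing S] [CommRing S'] [Algebra R S] [Algebra S S'] [Algebra R S']
  [IsScalarTower R S S'] [Module.Flat S S']

/-- flatness of `M` at `q` over `R` is equivalent to flatness of `S' ⊗ M` at `q'`, for `S → S'` flat. -/
theorem flatAt_tensor_iff (q : Ideal S) [q.IsPrime] (q' : Ideal S') [q'.IsPrime]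
    (hq : q'.comap (algebraMap S S') = q)
    (M : Type u) [AddCommGroup M] [Module S M] [Module R M] [IsScalarTower R S M] :
    FlatCA.FlatAt R q M ↔ FlatCA.FlatAt R q' (S' ⊗[S] M) := by
  rw [FlatCrit.flatAt_iff_forall_exists, FlatCrit.flatAt_iff_forall_exists]
  refine forall_congr' fun I ↦ ?_
  rw [show (∀ x : M ⊗[R] I, AlgebraTensorModule.lTensor S M I.subtype x = 0 → ∃ t, t ∉ q ∧ t • x = 0) ↔ _ from
    torsion_iff q q' hq (AlgebraTensorModule.lTensor S M I.subtype)]
  let e : ∀ (Q : Type u) [AddCommGroup Q] [Module R Q], (S' ⊗[S] M) ⊗[R] Q ≃ₗ[S'] S' ⊗[S] (M ⊗[R] Q) :=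
    fun Q _ _ ↦ AlgebraTensorModule.assoc R S S' S' M Q
  have hcomm : ∀ x : (S' ⊗[S] M) ⊗[R] I,
      (AlgebraTensorModule.lTensor S M I.subtype).baseChange S' (e I x) =
        e R (AlgebraTensorModule.lTensor S' (S' ⊗[S] M) I.subtype x) := by
    intro x
    induction x using TensorProduct.induction_on with
    | zero => simp
    | tmul y i =>
      induction y using TensorProduct.induction_on with
      | zero => simp
      | tmul s m => simp [e]
      | add y z hy hz => simp only [TensorProduct.add_tmul, map_add, hy, hz]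
    | add x y hx hy => simp only [map_add, hx, hy]
  constructor
  · intro h x hx
    obtain ⟨t, ht, htx⟩ := h (e I x) (by rw [hcomm, hx, map_zero])
    refine ⟨t, ht, (e I).injective ?_⟩
    rw [map_smul, htx, map_zero]
  · intro h x hx
    obtain ⟨t, ht, htx⟩ := h ((e I).symm x) ((e R).injective (by
      rw [← hcomm, LinearEquiv.apply_symm_apply, hx, map_zero]))
    refine ⟨t, ht, (e I).symm.injective ?_⟩
    rw [map_smul, htx, map_zero]

theorem flatAt_baseChange_iff (q : Ideal S) [q.IsPrime] (q' : Ideal S') [q'.IsPrime]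
    (hq : q'.comap (algebraMap S S') = q)
    (M : Type u) [AddCommGroup M] [Module S M] [Module R M] [IsScalarTower R S M]
    (M' : Type u) [AddCommGroup M'] [Module S' M'] [Module S M'] [IsScalarTower S S' M'] [Module R M']
    [IsScalarTower R S' M'] (f : M →ₗ[S] M') (hf : IsBaseChange S' f) :
    FlatCA.FlatAt R q M ↔ FlatCA.FlatAt R q' M' := by
  rw [flatAt_tensor_iff q q' hq M]
  exact LocTransfer.flatAt_congr q' hf.equiv

end Main

section Away

variable {R S : Type u} [CommRing R] [CommRing S] [Algebra R S]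
    (N : Type u) [AddCommGroup N] [Module S N] [Module R N] [IsScalarTower R S N]

theorem flat_away_iff_torsion (g : S) :
    Module.Flat R (LocalizedModule (Submonoid.powers g) N) ↔ ∀ (I : Ideal R) (x : N ⊗[R] I),
      AlgebraTensorModule.lTensor S N I.subtype x = 0 → ∃ n : ℕ, g ^ n • x = 0 := by
  rw [FlatCrit.flat_iff_forall_exists (Submonoid.powers g) (LocalizedModule.mkLinearMap (Submonoid.powers g) N)]
  refine forall_congr' fun I ↦ forall_congr' fun x ↦ forall_congr' fun _ ↦ ?_
  constructor
  · rintro ⟨_, ⟨n, rfl⟩, h⟩; exact ⟨n, h⟩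
  · rintro ⟨n, h⟩; exact ⟨_, ⟨n, rfl⟩, h⟩

/-- `N_g` is `R`-flat iff `N` is `R`-flat at all primes not containing `g`. -/
theorem flat_away_iff (g : S) :
    Module.Flat R (LocalizedModule (Submonoid.powers g) N) ↔
      ∀ (m : Ideal S) [m.IsPrime], g ∉ m → FlatCA.FlatAt R m N := by
  constructor
  · intro h m _ hg
    exact FlatCrit.flatAt_of_flat_away m N hg h
  · intro h
    rw [flat_away_iff_torsion]
    intro I x hx
    let J : Ideal S := (Submodule.span S {x}).annihilator
    have hJ : ∀ a : S, a ∈ J ↔ a • x = 0 := fun a ↦ Submodule.mem_annihilator_span_singleton x a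
    have hg : g ∈ J.radical := by
      rw [Ideal.radical_eq_sInf, Ideal.mem_sInf]
      rintro m ⟨hJm, hm⟩
      by_contra hgm
      obtain ⟨t, ht, htx⟩ := (FlatCrit.flatAt_iff_forall_exists m N).1 (h m hgm) I x hx
      exact ht (hJm ((hJ t).2 htx))
    obtain ⟨n, hn⟩ := hg
    exact ⟨n, (hJ _).1 hn⟩

theorem flat_away_of_flat_away {g h : S} (c : S) (hc : c * g = h)
    (H : Module.Flat R (LocalizedModule (Submonoid.powers g) N)) :
    Module.Flat R (LocalizedModule (Submonoid.powers h) N) := by
  rw [flat_away_iff_torsion] at H ⊢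
  intro I x hx
  obtain ⟨n, hn⟩ := H I x hx
  exact ⟨n, by rw [← hc, mul_pow, mul_smul, hn, smul_zero]⟩

end Away

section Transfer

variable {R B A : Type u} [CommRing R] [CommRing B] [CommRing A] [Algebra R B] [Algebra R A] [Algebra B A]
    (M : Type u) [AddCommGroup M] [Module A M] [Module B M] [IsScalarTower B A M] [Module R M]
    [IsScalarTower R B M] [IsScalarTower R A M]

theorem flat_away_algebraMap_iff (g : B) :
    Module.Flat R (LocalizedModule (Submonoid.powers (algebraMap B A g)) M) ↔
      Module.Flat R (LocalizedModule (Submonoid.powers g) M) := by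
  rw [flat_away_iff_torsion, flat_away_iff_torsion]
  refine forall_congr' fun I ↦ forall_congr' fun x ↦ forall_congr' fun _ ↦ exists_congr fun n ↦ ?_
  rw [← map_pow, algebraMap_smul]

theorem exists_flat_away_iff_of_exists_mul
    (q : Ideal B) (Q : Ideal A) [Q.IsPrime] (hQ : Q.comap (algebraMap B A) = q)
    (h : ∀ a : A, a ∉ Q → ∃ (a' : A) (s : B), s ∉ q ∧ a' * a = algebraMap B A s) :
    (∃ g : B, g ∉ q ∧ Module.Flat R (LocalizedModule (Submonoid.powers g) M)) ↔
      (∃ g : A, g ∉ Q ∧ Module.Flat R (LocalizedModule (Submonoid.powers g) M)) := by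
  constructor
  · rintro ⟨g, hg, H⟩
    exact ⟨algebraMap B A g, fun h' ↦ hg (by rw [← hQ]; exact h'), (flat_away_algebraMap_iff M g).2 H⟩
  · rintro ⟨a, ha, H⟩
    obtain ⟨a', s, hs, hsa⟩ := h a ha
    exact ⟨s, hs, (flat_away_algebraMap_iff M s).1 (flat_away_of_flat_away M a' hsa H)⟩

end Transfer

section Etale

variable {R S S' : Type u} [CommRing R] [CommRing S] [CommRing S'] [Algebra R S] [Algebra S S'] [Algebra R S']
  [IsScalarTower R S S'] [Module.Flat S S'] [Algebra.FinitePresentation S S']

/-- flatness on a basic open neighbourhood can be tested after a flat, finitely presented base change of the source. -/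
theorem exists_flat_away_baseChange_iff (q : Ideal S) [q.IsPrime] (q' : Ideal S') [q'.IsPrime]
    (hq : q'.comap (algebraMap S S') = q)
    (M : Type u) [AddCommGroup M] [Module S M] [Module R M] [IsScalarTower R S M]
    (M' : Type u) [AddCommGroup M'] [Module S' M'] [Module S M'] [IsScalarTower S S' M'] [Module R M']
    [IsScalarTower R S' M'] (f : M →ₗ[S] M') (hf : IsBaseChange S' f) :
    (∃ g : S, g ∉ q ∧ Module.Flat R (LocalizedModule (Submonoid.powers g) M)) ↔
      (∃ g : S', g ∉ q' ∧ Module.Flat R (LocalizedModule (Submonoid.powers g) M')) := by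
  constructor
  · rintro ⟨g, hg, H⟩
    refine ⟨algebraMap S S' g, fun h' ↦ hg (by rw [← hq]; exact h'), ?_⟩
    rw [flat_away_iff] at H ⊢
    intro m' _ hm'
    rw [← flatAt_baseChange_iff (m'.comap (algebraMap S S')) m' rfl M M' f hf]
    exact H _ hm'
  · rintro ⟨g', hg', H⟩
    have hopen : IsOpenMap (PrimeSpectrum.comap (algebraMap S S')) :=
      PrimeSpectrum.isOpenMap_comap_of_hasGoingDown_of_finitePresentation
    have hU := hopen _ (PrimeSpectrum.isOpen_basicOpen (a := g'))
    have hqU : (⟨q, inferInstance⟩ : PrimeSpectrum S) ∈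
        PrimeSpectrum.comap (algebraMap S S') '' (PrimeSpectrum.basicOpen g' : Set (PrimeSpectrum S')) :=
      ⟨⟨q', inferInstance⟩, hg', PrimeSpectrum.ext hq⟩
    obtain ⟨_, ⟨g, rfl⟩, hqg, hgU⟩ :=
      PrimeSpectrum.isTopologicalBasis_basic_opens.exists_subset_of_mem_open hqU hU
    refine ⟨g, hqg, ?_⟩
    rw [flat_away_iff] at H ⊢
    intro m _ hm
    obtain ⟨m', hm', hmm'⟩ := hgU (show (⟨m, inferInstance⟩ : PrimeSpectrum S) ∈ _ from hm)
    have hm'm : m'.asIdeal.comap (algebraMap S S') = m := congr(PrimeSpectrum.asIdeal $hmm')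
    rw [flatAt_baseChange_iff m m'.asIdeal hm'm M M' f hf]
    exact H _ hm'

end Etale

end Groth.Agent.Flat2B.FlatEt
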