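import Groth.Prelude.Def_FlatCA
import Groth.Agent.Flat2B.EtaleNhd
import Groth.Agent.Flat2B.BCTools
import Groth.Agent.Flat2B.FlatEt

/-!
# Quasi-compactness of fibres, approximation of functions on a fibre, base change of localized modules

* `exists_fin_of_forall_prime`: a fibre of a ring map is quasi-compact, stated with elements of the ring.
* `exists_approx`: if `A` has a prime `m` over `p` with trivial residue field extension, then on the fibre of
  `S ⊗_R A` over `m` every function is, up to a unit, the image of an element of `S`.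
* `loc_fp_of_isBaseChange`, `loc_flat_of_isBaseChange`: finite presentation/flatness of `N_g` is stable under base
  change (any models).
-/

set_option autoImplicit false

namespace Groth.Agent.Flat2B.FibreQC

universe u v w

open TensorProduct

section QC

variable {R : Type u} {S : Type v} [CommRing R] [CommRing S] [Algebra R S] (p : Ideal R) [p.IsPrime]

/-- Quasi-compactness of the fibre over `p`. -/
theorem exists_fin_of_forall_prime {ι : Type w} (s : ι → S)
    (h : ∀ (Q : Ideal S) [Q.IsPrime], Q.LiesOver p → ∃ i, s i ∉ Q) :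
    ∃ (k : ℕ) (i : Fin k → ι), ∀ (Q : Ideal S) [Q.IsPrime], Q.LiesOver p → ∃ j, s (i j) ∉ Q := by
  classical
  have hnd : ¬ Disjoint ((p.map (algebraMap R S) ⊔ Ideal.span (Set.range s) : Ideal S) : Set S)
      (Algebra.algebraMapSubmonoid S p.primeCompl) := by
    intro hd
    obtain ⟨Q, hQ, hle, hQd⟩ := Ideal.exists_le_prime_disjoint _ _ hd
    have hQp : Q.LiesOver p := by
      refine ⟨le_antisymm ?_ ?_⟩
      · exact Ideal.map_le_iff_le_comap.1 (le_sup_left.trans hle)
      · intro r hr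
        by_contra hrp
        exact Set.disjoint_left.1 hQd hr ⟨r, hrp, rfl⟩
    obtain ⟨i, hi⟩ := h Q hQp
    exact hi (hle (Ideal.mem_sup_right (Ideal.subset_span ⟨i, rfl⟩)))
  rw [Set.not_disjoint_iff] at hnd
  obtain ⟨_, hx, ⟨u, hu, rfl⟩⟩ := hnd
  obtain ⟨y, hy, z, hz, hyz⟩ := Submodule.mem_sup.1 hx
  obtain ⟨T, hT, hzT⟩ := Submodule.mem_span_finite_of_mem_span hz
  have hc : ∀ t : T, ∃ i, s i = t.1 := fun t ↦ hT t.2
  choose c hc using hc
  refine ⟨T.card, fun j ↦ c (T.equivFin.symm j), fun Q _ hQ ↦ ?_⟩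
  by_contra hcon
  push Not at hcon
  have h1 : z ∈ Q := by
    have : Ideal.span (T : Set S) ≤ Q := by
      rw [Ideal.span_le]
      intro t ht
      have := hcon (T.equivFin ⟨t, ht⟩)
      rw [Equiv.symm_apply_apply, hc] at this
      exact this
    exact this hzT
  have h2 : y ∈ Q := by
    have : p.map (algebraMap R S) ≤ Q := by
      rw [Ideal.map_le_iff_le_comap]
      exact hQ.over.le
    exact this hy
  apply hu
  change u ∈ p
  rw [hQ.over, Ideal.under_def, Ideal.mem_comap, ← hyz]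
  exact Q.add_mem h2 h1

end QC

section Approx

variable {R : Type u} {A : Type v} {S : Type w} [CommRing R] [CommRing A] [CommRing S]
  [Algebra R A] [Algebra R S] {SA : Type*} [CommRing SA] [Algebra R SA] [Algebra S SA]
  [Algebra A SA] [IsScalarTower R S SA] [IsScalarTower R A SA]

theorem exists_approx_aux [H : Algebra.IsPushout R S A SA] {p : Ideal R} [hp : p.IsPrime] {m : Ideal A}
    (h : EtaleNhd.ResTriv R A p m) (z : SA) :
    ∃ (a : S) (s : R), s ∉ p ∧ algebraMap R SA s * z - algebraMap S SA a ∈ m.map (algebraMap A SA) := by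
  induction z using H.out.inductionOn with
  | zero => exact ⟨0, 1, fun h => hp.ne_top ((Ideal.eq_top_iff_one _).mpr h), by simp⟩
  | tmul b =>
    obtain ⟨a, s, hs, hb⟩ := h b
    refine ⟨algebraMap R S a, s, hs, ?_⟩
    have := Ideal.mem_map_of_mem (algebraMap A SA) hb
    rw [AlgHom.toLinearMap_apply, IsScalarTower.coe_toAlgHom']
    simpa only [map_mul, map_sub, ← IsScalarTower.algebraMap_apply R A SA,
      ← IsScalarTower.algebraMap_apply R S SA] using this
  | smul t z hz =>
    obtain ⟨a, s, hs, hz⟩ := hz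
    refine ⟨t * a, s, hs, ?_⟩
    have := Ideal.mul_mem_left _ (algebraMap S SA t) hz
    rw [Algebra.smul_def, map_mul]
    convert this using 1
    ring
  | add x y hx hy =>
    obtain ⟨a, s, hs, hx⟩ := hx
    obtain ⟨a', s', hs', hy⟩ := hy
    refine ⟨algebraMap R S s' * a + algebraMap R S s * a', s * s', fun h => (hp.mem_or_mem h).elim hs hs', ?_⟩
    have h1 := Ideal.mul_mem_left _ (algebraMap R SA s') hx
    have h2 := Ideal.mul_mem_left _ (algebraMap R SA s) hy
    have h3 := Ideal.add_mem _ h1 h2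
    convert h3 using 1
    simp only [map_add, map_mul, ← IsScalarTower.algebraMap_apply R S SA]
    ring

/-- on the fibre over `m`, every function is the image of an element of `S` up to a unit of the base. -/
theorem exists_approx [H : Algebra.IsPushout R S A SA] {p : Ideal R} [hp : p.IsPrime] {m : Ideal A}
    (hm : m.LiesOver p) (h : EtaleNhd.ResTriv R A p m) (z : SA) :
    ∃ a : S, ∀ (Q : Ideal SA) [Q.IsPrime], Q.LiesOver m → (algebraMap S SA a ∉ Q ↔ z ∉ Q) := by
  obtain ⟨a, s, hs, hz⟩ := exists_approx_aux (S := S) (SA := SA) h z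
  refine ⟨a, fun Q hQp hQ ↦ not_congr ?_⟩
  have h1 : m.map (algebraMap A SA) ≤ Q := by
    rw [Ideal.map_le_iff_le_comap]
    exact hQ.over.le
  have h2 : algebraMap R SA s ∉ Q := by
    intro hsQ
    apply hs
    rw [hm.over, Ideal.under_def, Ideal.mem_comap, hQ.over, Ideal.under_def, Ideal.mem_comap,
      ← IsScalarTower.algebraMap_apply]
    exact hsQ
  constructor
  · intro ha
    have := Q.add_mem (h1 hz) ha
    rw [sub_add_cancel] at this
    exact (hQp.mem_or_mem this).resolve_left h2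
  · intro hzQ
    have := Q.sub_mem (Q.mul_mem_left (algebraMap R SA s) hzQ) (h1 hz)
    rwa [sub_sub_cancel] at this

end Approx

section LocBC

theorem fp_of_square {B₁ B L₁ L N₁ N P₁ P : Type*} [CommRing B₁] [CommRing B] [CommRing L₁] [CommRing L]
    [Algebra B₁ B] [Algebra B₁ L₁] [Algebra B L] (φ : L₁ →+* L)
    (hφ : ∀ b, φ (algebraMap B₁ L₁ b) = algebraMap B L (algebraMap B₁ B b))
    [AddCommGroup N₁] [Module B₁ N₁] [AddCommGroup N] [Module B N] [Module B₁ N] [IsScalarTower B₁ B N]
    [AddCommGroup P₁] [Module B₁ P₁] [Module L₁ P₁] [IsScalarTower B₁ L₁ P₁]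
    [AddCommGroup P] [Module B P] [Module L P] [IsScalarTower B L P]
    (f : N₁ →ₗ[B₁] N) (hf : IsBaseChange B f) (j : N₁ →ₗ[B₁] P₁) (hj : IsBaseChange L₁ j)
    (i : N →ₗ[B] P) (hi : IsBaseChange L i) (h : Module.FinitePresentation L₁ P₁) :
    Module.FinitePresentation L P := by
  let _ : Algebra L₁ L := φ.toAlgebra
  let _ : Algebra B₁ L := ((algebraMap B L).comp (algebraMap B₁ B)).toAlgebra
  have _ : IsScalarTower B₁ B L := IsScalarTower.of_algebraMap_eq' rfl
  have _ : IsScalarTower B₁ L₁ L := IsScalarTower.of_algebraMap_eq fun b ↦ (hφ b).symm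
  let _ : Module B₁ P := Module.compHom _ (algebraMap B₁ B)
  have _ : IsScalarTower B₁ B P := IsScalarTower.of_algebraMap_smul fun _ _ ↦ rfl
  let _ : Module L₁ P := Module.compHom _ (algebraMap L₁ L)
  have _ : IsScalarTower L₁ L P := IsScalarTower.of_algebraMap_smul fun _ _ ↦ rfl
  have _ : IsScalarTower B₁ L P := by
    refine IsScalarTower.of_algebraMap_smul fun r x ↦ ?_
    rw [IsScalarTower.algebraMap_apply B₁ B L, algebraMap_smul, algebraMap_smul]
  have _ : IsScalarTower B₁ L₁ P := by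
    refine IsScalarTower.of_algebraMap_smul fun r x ↦ ?_
    rw [← algebraMap_smul L, ← IsScalarTower.algebraMap_apply, algebraMap_smul]
  have hc : IsBaseChange L ((i.restrictScalars B₁) ∘ₗ f) := hf.comp hi
  let g : P₁ →ₗ[L₁] P := hj.lift ((i.restrictScalars B₁) ∘ₗ f)
  have hg : g.restrictScalars B₁ ∘ₗ j = (i.restrictScalars B₁) ∘ₗ f := by
    ext x
    exact hj.lift_eq _ x
  have hgbc : IsBaseChange L g := IsBaseChange.of_comp hj (by rw [hg]; exact hc)
  exact FinitePresentation.of_isBaseChange g hgbc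

theorem flat_of_square {A₁ A B₁ B L₁ L N₁ N P₁ P : Type u} [CommRing A₁] [CommRing A] [CommRing B₁] [CommRing B]
    [CommRing L₁] [CommRing L]
    [Algebra A₁ A] [Algebra A₁ B₁] [Algebra A₁ B] [Algebra A B]
    [Algebra B₁ B] [IsScalarTower A₁ A B] [IsScalarTower A₁ B₁ B]
    [Algebra.IsPushout A₁ B₁ A B]
    [Algebra B₁ L₁] [Algebra B L] (T₁ : Submonoid B₁)
    [IsLocalization T₁ L₁] [IsLocalization (Algebra.algebraMapSubmonoid B T₁) L]
    [AddCommGroup N₁] [Module B₁ N₁] [AddCommGroup N] [Module B N] [Module B₁ N] [IsScalarTower B₁ B N]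
    [AddCommGroup P₁] [Module B₁ P₁] [Module L₁ P₁] [IsScalarTower B₁ L₁ P₁] [Module A₁ P₁] [IsScalarTower A₁ B₁ P₁]
    [AddCommGroup P] [Module B P] [Module L P] [IsScalarTower B L P] [Module A P] [IsScalarTower A B P]
    (f : N₁ →ₗ[B₁] N) (hf : IsBaseChange B f) (j : N₁ →ₗ[B₁] P₁) (hj : IsBaseChange L₁ j)
    (i : N →ₗ[B] P) (hi : IsBaseChange L i) (h : Module.Flat A₁ P₁) :
    Module.Flat A P := by
  have hT : T₁ ≤ (Algebra.algebraMapSubmonoid B T₁).comap (algebraMap B₁ B) := fun t ht ↦ ⟨t, ht, rfl⟩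
  let _ : Algebra L₁ L := (IsLocalization.map L (algebraMap B₁ B) hT).toAlgebra
  let _ : Algebra B₁ L := ((algebraMap B L).comp (algebraMap B₁ B)).toAlgebra
  have _ : IsScalarTower B₁ B L := IsScalarTower.of_algebraMap_eq' rfl
  have _ : IsScalarTower B₁ L₁ L := IsScalarTower.of_algebraMap_eq' (by
    ext b
    change _ = IsLocalization.map L (algebraMap B₁ B) hT (algebraMap _ _ b)
    rw [IsLocalization.map_eq]
    rfl)
  let _ : Algebra A₁ L₁ := ((algebraMap B₁ L₁).comp (algebraMap A₁ B₁)).toAlgebra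
  have _ : IsScalarTower A₁ B₁ L₁ := IsScalarTower.of_algebraMap_eq' rfl
  let _ : Algebra A L := ((algebraMap B L).comp (algebraMap A B)).toAlgebra
  have _ : IsScalarTower A B L := IsScalarTower.of_algebraMap_eq' rfl
  let _ : Algebra A₁ L := ((algebraMap B L).comp (algebraMap A₁ B)).toAlgebra
  have _ : IsScalarTower A₁ B L := IsScalarTower.of_algebraMap_eq' rfl
  have _ : IsScalarTower A₁ A L := IsScalarTower.of_algebraMap_eq' (by
    ext b
    rw [IsScalarTower.algebraMap_apply A₁ B L, IsScalarTower.algebraMap_apply A₁ A B,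
      RingHom.comp_apply, IsScalarTower.algebraMap_apply A B L])
  have _ : IsScalarTower A₁ L₁ L := IsScalarTower.of_algebraMap_eq' (by
    ext b
    rw [IsScalarTower.algebraMap_apply A₁ B L, IsScalarTower.algebraMap_apply A₁ B₁ B,
      RingHom.comp_apply, IsScalarTower.algebraMap_apply A₁ B₁ L₁, ← IsScalarTower.algebraMap_apply B₁ L₁ L,
      ← IsScalarTower.algebraMap_apply B₁ B L])
  have po1 : Algebra.IsPushout B₁ L₁ B L :=
    (Algebra.isPushout_of_isLocalization T₁ L₁ (T := B) (B := L)).symm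
  have po2 : Algebra.IsPushout A₁ L₁ A L :=
    (Algebra.IsPushout.comp_iff A₁ B₁ A (S' := B)).2 po1
  let _ : Module B₁ P := Module.compHom _ (algebraMap B₁ B)
  have _ : IsScalarTower B₁ B P := IsScalarTower.of_algebraMap_smul fun _ _ ↦ rfl
  let _ : Module L₁ P := Module.compHom _ (algebraMap L₁ L)
  have _ : IsScalarTower L₁ L P := IsScalarTower.of_algebraMap_smul fun _ _ ↦ rfl
  have _ : IsScalarTower B₁ L P := by
    refine IsScalarTower.of_algebraMap_smul fun r x ↦ ?_
    rw [IsScalarTower.algebraMap_apply B₁ B L, algebraMap_smul, algebraMap_smul]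
  have _ : IsScalarTower B₁ L₁ P := by
    refine IsScalarTower.of_algebraMap_smul fun r x ↦ ?_
    rw [← algebraMap_smul L, ← IsScalarTower.algebraMap_apply, algebraMap_smul]
  have _ : IsScalarTower A L P := by
    refine IsScalarTower.of_algebraMap_smul fun r x ↦ ?_
    rw [IsScalarTower.algebraMap_apply A B L, algebraMap_smul, algebraMap_smul]
  let _ : Module A₁ P := Module.compHom _ (algebraMap A₁ A)
  have _ : IsScalarTower A₁ A P := IsScalarTower.of_algebraMap_smul fun _ _ ↦ rfl
  have _ : IsScalarTower A₁ L₁ P := by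
    refine IsScalarTower.of_algebraMap_smul fun r x ↦ ?_
    rw [← algebraMap_smul L, ← IsScalarTower.algebraMap_apply, IsScalarTower.algebraMap_apply A₁ A L,
      algebraMap_smul, algebraMap_smul]
  have _ : IsScalarTower A₁ L₁ P₁ := by
    refine IsScalarTower.of_algebraMap_smul fun r x ↦ ?_
    rw [IsScalarTower.algebraMap_apply A₁ B₁, algebraMap_smul, algebraMap_smul]
  have hc : IsBaseChange L ((i.restrictScalars B₁) ∘ₗ f) := hf.comp hi
  let g : P₁ →ₗ[L₁] P := hj.lift ((i.restrictScalars B₁) ∘ₗ f)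
  have hg : g.restrictScalars B₁ ∘ₗ j = (i.restrictScalars B₁) ∘ₗ f := by
    ext x
    exact hj.lift_eq _ x
  have hgbc : IsBaseChange L g := IsBaseChange.of_comp hj (by rw [hg]; exact hc)
  have := BCTools.isBaseChange_of_isPushout (S := A₁) (S₁ := A) g hgbc
  exact Module.Flat.isBaseChange A₁ A P₁ _ this

variable {A₁ A B₁ B N₁ N : Type u} [CommRing A₁] [CommRing A] [CommRing B₁] [CommRing B]
  [Algebra A₁ A] [Algebra A₁ B₁] [Algebra A₁ B] [Algebra A B] [Algebra B₁ B] [IsScalarTower A₁ A B]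
  [IsScalarTower A₁ B₁ B]
  [AddCommGroup N₁] [Module B₁ N₁]
  [AddCommGroup N] [Module B N] [Module B₁ N] [IsScalarTower B₁ B N]

omit [Algebra A₁ A] [Algebra A₁ B₁] [Algebra A₁ B] [Algebra A B] [IsScalarTower A₁ A B] [IsScalarTower A₁ B₁ B] in
theorem loc_fp_of_isBaseChange (f : N₁ →ₗ[B₁] N) (hf : IsBaseChange B f) (T₁ : Submonoid B₁) (T : Submonoid B)
    (hT : T₁ ≤ T.comap (algebraMap B₁ B))
    (h : Module.FinitePresentation (Localization T₁) (LocalizedModule T₁ N₁)) :
    Module.FinitePresentation (Localization T) (LocalizedModule T N) :=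
  fp_of_square (IsLocalization.map (Localization T) (algebraMap B₁ B) hT) (fun b ↦ IsLocalization.map_eq hT b)
    f hf (LocalizedModule.mkLinearMap T₁ N₁)
    ((isLocalizedModule_iff_isBaseChange T₁ (Localization T₁) (LocalizedModule.mkLinearMap T₁ N₁)).1 inferInstance)
    (LocalizedModule.mkLinearMap T N)
    ((isLocalizedModule_iff_isBaseChange T (Localization T) (LocalizedModule.mkLinearMap T N)).1 inferInstance) h

variable [Module A₁ N₁] [IsScalarTower A₁ B₁ N₁] [Module A N] [IsScalarTower A B N]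

/-- the localization at the image of `T₁`. -/
theorem loc_flat_of_isBaseChange_aux [Algebra.IsPushout A₁ B₁ A B]
    (f : N₁ →ₗ[B₁] N) (hf : IsBaseChange B f) (T₁ : Submonoid B₁)
    (h : Module.Flat A₁ (LocalizedModule T₁ N₁)) :
    Module.Flat A (LocalizedModule (Algebra.algebraMapSubmonoid B T₁) N) := by
  exact flat_of_square (L₁ := Localization T₁) (L := Localization (Algebra.algebraMapSubmonoid B T₁)) T₁
    f hf (LocalizedModule.mkLinearMap T₁ N₁)
    ((isLocalizedModule_iff_isBaseChange T₁ (Localization T₁) (LocalizedModule.mkLinearMap T₁ N₁)).1 inferInstance)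
    (LocalizedModule.mkLinearMap (Algebra.algebraMapSubmonoid B T₁) N)
    ((isLocalizedModule_iff_isBaseChange (Algebra.algebraMapSubmonoid B T₁) (Localization (Algebra.algebraMapSubmonoid B T₁))
      (LocalizedModule.mkLinearMap (Algebra.algebraMapSubmonoid B T₁) N)).1 inferInstance) h

theorem loc_flat_of_isBaseChange [Algebra.IsPushout A₁ B₁ A B]
    (f : N₁ →ₗ[B₁] N) (hf : IsBaseChange B f) (T₁ : Submonoid B₁) (T : Submonoid B)
    (hT : T₁ ≤ T.comap (algebraMap B₁ B))
    (h : Module.Flat A₁ (LocalizedModule T₁ N₁)) :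
    Module.Flat A (LocalizedModule T N) := by
  have h1 := loc_flat_of_isBaseChange_aux (A := A) f hf T₁ h
  rw [FlatCrit.flat_iff_forall_exists (Algebra.algebraMapSubmonoid B T₁) (LocalizedModule.mkLinearMap _ N)] at h1
  rw [FlatCrit.flat_iff_forall_exists T (LocalizedModule.mkLinearMap _ N)]
  intro I x hx
  obtain ⟨_, ⟨t, ht, rfl⟩, htx⟩ := h1 I x hx
  exact ⟨_, hT ht, htx⟩

/-- Two stages of base change `R → A → A₂` of an algebra `S` and of a module `N` over it, with any models: finite
presentation and flatness of localizations pass from stage `A` to stage `A₂`. -/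
theorem exists_transfer {R S A A₂ SA SA₂ N NA NA₂ : Type u} [CommRing R] [CommRing S] [CommRing A] [CommRing A₂]
    [CommRing SA] [CommRing SA₂] [Algebra R S] [Algebra R A] [Algebra R A₂] [Algebra A A₂] [IsScalarTower R A A₂]
    [Algebra R SA] [Algebra S SA] [Algebra A SA] [IsScalarTower R S SA] [IsScalarTower R A SA]
    [Algebra.IsPushout R S A SA]
    [Algebra R SA₂] [Algebra S SA₂] [Algebra A₂ SA₂] [IsScalarTower R S SA₂] [IsScalarTower R A₂ SA₂]
    [Algebra.IsPushout R S A₂ SA₂]
    [AddCommGroup N] [Module S N]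
    [AddCommGroup NA] [Module SA NA] [Module S NA] [IsScalarTower S SA NA] [Module A NA] [IsScalarTower A SA NA]
    [AddCommGroup NA₂] [Module SA₂ NA₂] [Module S NA₂] [IsScalarTower S SA₂ NA₂] [Module A₂ NA₂]
    [IsScalarTower A₂ SA₂ NA₂]
    (f : N →ₗ[S] NA) (hf : IsBaseChange SA f) (f₂ : N →ₗ[S] NA₂) (hf₂ : IsBaseChange SA₂ f₂) :
    ∃ φ : SA →+* SA₂, (∀ s, φ (algebraMap S SA s) = algebraMap S SA₂ s) ∧
      (∀ a, φ (algebraMap A SA a) = algebraMap A₂ SA₂ (algebraMap A A₂ a)) ∧
      (∀ (T₁ : Submonoid SA) (T : Submonoid SA₂), T₁ ≤ T.comap φ →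
        Module.FinitePresentation (Localization T₁) (LocalizedModule T₁ NA) →
        Module.FinitePresentation (Localization T) (LocalizedModule T NA₂)) ∧
      (∀ (T₁ : Submonoid SA) (T : Submonoid SA₂), T₁ ≤ T.comap φ →
        Module.Flat A (LocalizedModule T₁ NA) → Module.Flat A₂ (LocalizedModule T NA₂)) := by
  have hpo : Algebra.IsPushout R S A SA := inferInstance
  have hpo₂ : Algebra.IsPushout R S A₂ SA₂ := inferInstance
  let φ₀ : SA →ₐ[R] SA₂ := Algebra.pushoutDesc SA (IsScalarTower.toAlgHom R S SA₂)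
    ((IsScalarTower.toAlgHom R A₂ SA₂).comp (IsScalarTower.toAlgHom R A A₂)) fun _ _ ↦ mul_comm _ _
  have hφS : ∀ s, φ₀ (algebraMap S SA s) = algebraMap S SA₂ s := fun s ↦ Algebra.pushoutDesc_left _ _ _ _ s
  have hφA : ∀ a, φ₀ (algebraMap A SA a) = algebraMap A₂ SA₂ (algebraMap A A₂ a) := fun a ↦
    Algebra.pushoutDesc_right _ _ _ _ a
  let _ : Algebra SA SA₂ := φ₀.toRingHom.toAlgebra
  let _ : Algebra A SA₂ := ((algebraMap A₂ SA₂).comp (algebraMap A A₂)).toAlgebra
  have _ : IsScalarTower A A₂ SA₂ := IsScalarTower.of_algebraMap_eq' rfl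
  have _ : IsScalarTower A SA SA₂ := IsScalarTower.of_algebraMap_eq fun a ↦ (hφA a).symm
  have _ : IsScalarTower S SA SA₂ := IsScalarTower.of_algebraMap_eq fun a ↦ (hφS a).symm
  have po : Algebra.IsPushout A SA A₂ SA₂ := by
    have h1 : Algebra.IsPushout R A S SA := hpo.symm
    have h2 : Algebra.IsPushout R A₂ S SA₂ := hpo₂.symm
    have := (Algebra.IsPushout.comp_iff R A S (S' := SA)).1 h2
    exact this.symm
  let _ : Module SA NA₂ := Module.compHom _ (algebraMap SA SA₂)
  have _ : IsScalarTower SA SA₂ NA₂ := IsScalarTower.of_algebraMap_smul fun _ _ ↦ rfl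
  have _ : IsScalarTower S SA NA₂ := by
    refine IsScalarTower.of_algebraMap_smul fun r x ↦ ?_
    rw [← algebraMap_smul SA₂, ← IsScalarTower.algebraMap_apply, algebraMap_smul]
  let g : NA →ₗ[SA] NA₂ := hf.lift f₂
  have hg : g.restrictScalars S ∘ₗ f = f₂ := by
    ext x
    exact hf.lift_eq _ x
  have hgbc : IsBaseChange SA₂ g := IsBaseChange.of_comp hf (by rw [hg]; exact hf₂)
  exact ⟨φ₀.toRingHom, hφS, hφA, fun T₁ T hT ↦ loc_fp_of_isBaseChange g hgbc T₁ T hT,
    fun T₁ T hT ↦ loc_flat_of_isBaseChange g hgbc T₁ T hT⟩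

end LocBC

end Groth.Agent.Flat2B.FibreQC
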