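import Groth.Prelude.Def_FlatCA
import Groth.Agent.Flat2B.EtaleNhd
import Groth.Agent.Flat2B.FibreQC

/-!
# From a point to the whole fibre

`fibre_of_point`: if for every prime `q` of `S` over `p` there is an elementary étale neighbourhood `(R', p')` of
`(R, p)` such that, after base change to `A = R'_{p'}`, the module becomes flat (and finitely presented) on a basic
open neighbourhood of the point over `q`, then one `(R', p')` works for all `q`.
-/

set_option autoImplicit false

namespace Groth.Agent.Flat2B.FibreOfPoint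

universe u

open TensorProduct Groth.Agent.Flat2B.FibreQC Groth.Agent.Flat2B

variable {R S : Type u} [CommRing R] [CommRing S] [Algebra R S]
  {N : Type u} [AddCommGroup N] [Module S N]
  {p : Ideal R} [p.IsPrime]

theorem exists_model_aux {R S A N : Type u} [CommRing R] [CommRing S] [CommRing A] [Algebra R S] [Algebra R A]
    [AddCommGroup N] [Module S N] (SA NA : Type u) [CommRing SA] [Algebra R SA] [Algebra S SA] [Algebra A SA]
    [IsScalarTower R S SA] [IsScalarTower R A SA] [Algebra.IsPushout R S A SA] [AddCommGroup NA] [Module SA NA]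
    [Module S NA] [IsScalarTower S SA NA] (f : N →ₗ[S] NA) (hf : IsBaseChange SA f) :
    ∃ (SA NA : Type u) (_ : CommRing SA) (_ : Algebra R SA) (_ : Algebra S SA) (_ : Algebra A SA)
      (_ : IsScalarTower R S SA) (_ : IsScalarTower R A SA) (_ : Algebra.IsPushout R S A SA)
      (_ : AddCommGroup NA) (_ : Module SA NA) (_ : Module S NA) (_ : IsScalarTower S SA NA) (_ : Module A NA)
      (_ : IsScalarTower A SA NA) (f : N →ₗ[S] NA), IsBaseChange SA f := by
  let _ : Module A NA := Module.compHom _ (algebraMap A SA)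
  have _ : IsScalarTower A SA NA := IsScalarTower.of_algebraMap_smul fun _ _ ↦ rfl
  exact ⟨SA, NA, inferInstance, inferInstance, inferInstance, inferInstance, inferInstance,
    inferInstance, inferInstance, inferInstance, inferInstance, inferInstance, inferInstance, inferInstance,
    inferInstance, f, hf⟩

theorem exists_model (R S A N : Type u) [CommRing R] [CommRing S] [CommRing A] [Algebra R S] [Algebra R A]
    [AddCommGroup N] [Module S N] :
    ∃ (SA NA : Type u) (_ : CommRing SA) (_ : Algebra R SA) (_ : Algebra S SA) (_ : Algebra A SA)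
      (_ : IsScalarTower R S SA) (_ : IsScalarTower R A SA) (_ : Algebra.IsPushout R S A SA)
      (_ : AddCommGroup NA) (_ : Module SA NA) (_ : Module S NA) (_ : IsScalarTower S SA NA) (_ : Module A NA)
      (_ : IsScalarTower A SA NA) (f : N →ₗ[S] NA), IsBaseChange SA f := by
  let _ : Algebra A (S ⊗[R] A) := Algebra.TensorProduct.rightAlgebra
  exact exists_model_aux (R := R) (S := S) (A := A) (N := N) (S ⊗[R] A) ((S ⊗[R] A) ⊗[S] N)
    (TensorProduct.mk S _ N 1) (TensorProduct.isBaseChange S N _)

/-- the map between two stages -/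
theorem exists_approx_transfer {R S A A₂ SA SA₂ N NA NA₂ : Type u} [CommRing R] [CommRing S] [CommRing A] [CommRing A₂]
    [CommRing SA] [CommRing SA₂] [Algebra R S] [Algebra R A] [Algebra R A₂]
    (ψ : A →+* A₂) (hψ : ∀ r, ψ (algebraMap R A r) = algebraMap R A₂ r)
    [Algebra R SA] [Algebra S SA] [Algebra A SA] [IsScalarTower R S SA] [IsScalarTower R A SA]
    [Algebra.IsPushout R S A SA]
    [Algebra R SA₂] [Algebra S SA₂] [Algebra A₂ SA₂] [IsScalarTower R S SA₂] [IsScalarTower R A₂ SA₂]
    [Algebra.IsPushout R S A₂ SA₂]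
    [AddCommGroup N] [Module S N]
    [AddCommGroup NA] [Module SA NA] [Module S NA] [IsScalarTower S SA NA] [Module A NA] [IsScalarTower A SA NA]
    [AddCommGroup NA₂] [Module SA₂ NA₂] [Module S NA₂] [IsScalarTower S SA₂ NA₂] [Module A₂ NA₂]
    [IsScalarTower A₂ SA₂ NA₂]
    (f : N →ₗ[S] NA) (hf : IsBaseChange SA f) (f₂ : N →ₗ[S] NA₂) (hf₂ : IsBaseChange SA₂ f₂)
    (m : Ideal A) (m₂ : Ideal A₂) (hm : m₂.comap ψ = m) (s : S) (g : SA)
    (hs : ∀ (Q : Ideal SA) [Q.IsPrime], Q.LiesOver m → (algebraMap S SA s ∉ Q ↔ g ∉ Q))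
    (c : Prop)
    (hfp : c → Module.FinitePresentation (Localization.Away g) (LocalizedModule (Submonoid.powers g) NA))
    (hfl : Module.Flat A (LocalizedModule (Submonoid.powers g) NA))
    (Q : Ideal SA₂) [Q.IsPrime] (hQ : Q.LiesOver m₂) (hsQ : algebraMap S SA₂ s ∉ Q) :
    ∃ g : SA₂, g ∉ Q ∧
      (c → Module.FinitePresentation (Localization.Away g) (LocalizedModule (Submonoid.powers g) NA₂)) ∧
      Module.Flat A₂ (LocalizedModule (Submonoid.powers g) NA₂) := by
  let _ : Algebra A A₂ := ψ.toAlgebra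
  have _ : IsScalarTower R A A₂ := IsScalarTower.of_algebraMap_eq fun r ↦ (hψ r).symm
  obtain ⟨φ, hφS, hφA, hφfp, hφfl⟩ := exists_transfer (R := R) (S := S) (A := A) (A₂ := A₂) f hf f₂ hf₂
  have hpow : Submonoid.powers g ≤ (Submonoid.powers (φ g)).comap φ := by
    rintro _ ⟨n, rfl⟩
    exact ⟨n, by simp⟩
  refine ⟨φ g, ?_, fun hc ↦ hφfp _ _ hpow (hfp hc), hφfl _ _ hpow hfl⟩
  have hQ' : (Q.comap φ).LiesOver m := by
    refine ⟨?_⟩
    ext a
    rw [Ideal.under_def, Ideal.mem_comap, Ideal.mem_comap, hφA, ← Ideal.mem_comap (f := algebraMap _ SA₂),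
      ← Ideal.under_def, ← hQ.over, ← hm]
    rfl
  have h2 := (hs (Q.comap φ) hQ').1 (by rw [Ideal.mem_comap, hφS]; exact hsQ)
  rwa [Ideal.mem_comap] at h2

theorem step (c : Prop) {R' : Type u} [CommRing R'] [Algebra R R'] {p' : Ideal R'} [p'.IsPrime]
    (he : FlatCA.IsEtaleNhd R R' p p') (q : Ideal S) [q.IsPrime] [q.LiesOver p]
    (h : ∀ (SA NA : Type u) [CommRing SA] [Algebra R SA] [Algebra S SA] [Algebra (Localization.AtPrime p') SA]
        [IsScalarTower R S SA] [IsScalarTower R (Localization.AtPrime p') SA]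
        [Algebra.IsPushout R S (Localization.AtPrime p') SA]
        [AddCommGroup NA] [Module SA NA] [Module S NA] [IsScalarTower S SA NA]
        [Module (Localization.AtPrime p') NA] [IsScalarTower (Localization.AtPrime p') SA NA]
        (f : N →ₗ[S] NA), IsBaseChange SA f →
        ∃ g : SA, (∀ (Q : Ideal SA) [Q.IsPrime], Q.LiesOver q → Q.LiesOver (IsLocalRing.maximalIdeal (Localization.AtPrime p')) → g ∉ Q) ∧
          (c → Module.FinitePresentation (Localization.Away g) (LocalizedModule (Submonoid.powers g) NA)) ∧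
          Module.Flat (Localization.AtPrime p') (LocalizedModule (Submonoid.powers g) NA)) :
    ∃ s : S, s ∉ q ∧ ∀ (R₂ : Type u) [CommRing R₂] [Algebra R R₂] [Algebra R' R₂] [IsScalarTower R R' R₂]
      (p₂ : Ideal R₂) [p₂.IsPrime], p₂.LiesOver p' →
      ∀ (SA NA : Type u) [CommRing SA] [Algebra R SA] [Algebra S SA] [Algebra (Localization.AtPrime p₂) SA]
        [IsScalarTower R S SA] [IsScalarTower R (Localization.AtPrime p₂) SA]
        [Algebra.IsPushout R S (Localization.AtPrime p₂) SA]
        [AddCommGroup NA] [Module SA NA] [Module S NA] [IsScalarTower S SA NA]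
        [Module (Localization.AtPrime p₂) NA] [IsScalarTower (Localization.AtPrime p₂) SA NA]
        (f : N →ₗ[S] NA), IsBaseChange SA f →
        ∀ (Q : Ideal SA) [Q.IsPrime], Q.LiesOver (IsLocalRing.maximalIdeal (Localization.AtPrime p₂)) →
          algebraMap S SA s ∉ Q →
        ∃ g : SA, g ∉ Q ∧
          (c → Module.FinitePresentation (Localization.Away g) (LocalizedModule (Submonoid.powers g) NA)) ∧
          Module.Flat (Localization.AtPrime p₂) (LocalizedModule (Submonoid.powers g) NA) := by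
  have l1 := EtaleNhd.liesOver he
  have l2 := EtaleNhd.liesOver_maximalIdeal_atPrime p'
  have l3 : (IsLocalRing.maximalIdeal (Localization.AtPrime p')).LiesOver p := .trans _ p' p
  have hres : EtaleNhd.ResTriv R (Localization.AtPrime p') p
      (IsLocalRing.maximalIdeal (Localization.AtPrime p')) :=
    EtaleNhd.resTriv_localization_atPrime (EtaleNhd.resTriv he) _
  obtain ⟨SA₁, NA₁, _, _, _, _, _, _, _, _, _, _, _, _, _, f₁, hf₁⟩ := exists_model R S (Localization.AtPrime p') N
  obtain ⟨g, hg, hfp, hfl⟩ := h SA₁ NA₁ f₁ hf₁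
  obtain ⟨s, hs⟩ := exists_approx (R := R) (A := Localization.AtPrime p') (S := S) l3 hres g
  refine ⟨s, ?_, ?_⟩
  · obtain ⟨Q, hQ, hQq, hQm⟩ := EtaleNhd.exists_prime_of_isPushout (R := R) (R' := Localization.AtPrime p')
      (S := S) (S' := SA₁) p q (IsLocalRing.maximalIdeal (Localization.AtPrime p'))
    intro hsq
    have h1 := (hs Q hQm).2 (hg Q hQq hQm)
    apply h1
    rw [hQq.over] at hsq
    exact hsq
  · intro R₂ _ _ _ _ p₂ _ hp₂ SA NA _ _ _ _ _ _ _ _ _ _ _ _ _ f hf Q _ hQ hsQ
    refine exists_approx_transfer (R := R) (S := S) (Localization.localRingHom p' p₂ (algebraMap R' R₂) hp₂.over) ?_ f₁ hf₁ f hf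
      (IsLocalRing.maximalIdeal (Localization.AtPrime p')) (IsLocalRing.maximalIdeal (Localization.AtPrime p₂)) ?_
      s g hs c hfp hfl Q hQ hsQ
    · intro r
      rw [IsScalarTower.algebraMap_apply R R' (Localization.AtPrime p'),
        IsScalarTower.algebraMap_apply R R₂ (Localization.AtPrime p₂), IsScalarTower.algebraMap_apply R R' R₂]
      exact Localization.localRingHom_to_map p' p₂ (algebraMap R' R₂) hp₂.over _
    · have hl : IsLocalHom (Localization.localRingHom p' p₂ (algebraMap R' R₂) hp₂.over) :=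
        Localization.isLocalHom_localRingHom p' p₂ (algebraMap R' R₂) hp₂.over
      exact ((IsLocalRing.local_hom_TFAE _).out 0 4).1 hl

theorem fibre_of_point (c : Prop)
    (H : ∀ (q : Ideal S) [q.IsPrime] [q.LiesOver p],
      ∃ (R' : Type u) (_ : CommRing R') (_ : Algebra R R') (p' : Ideal R') (_ : p'.IsPrime), FlatCA.IsEtaleNhd R R' p p' ∧
      ∀ (SA NA : Type u) [CommRing SA] [Algebra R SA] [Algebra S SA] [Algebra (Localization.AtPrime p') SA]
        [IsScalarTower R S SA] [IsScalarTower R (Localization.AtPrime p') SA]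
        [Algebra.IsPushout R S (Localization.AtPrime p') SA]
        [AddCommGroup NA] [Module SA NA] [Module S NA] [IsScalarTower S SA NA]
        [Module (Localization.AtPrime p') NA] [IsScalarTower (Localization.AtPrime p') SA NA]
        (f : N →ₗ[S] NA), IsBaseChange SA f →
        ∃ g : SA, (∀ (Q : Ideal SA) [Q.IsPrime], Q.LiesOver q → Q.LiesOver (IsLocalRing.maximalIdeal (Localization.AtPrime p')) → g ∉ Q) ∧
          (c → Module.FinitePresentation (Localization.Away g) (LocalizedModule (Submonoid.powers g) NA)) ∧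
          Module.Flat (Localization.AtPrime p') (LocalizedModule (Submonoid.powers g) NA)) :
    ∃ (R' : Type u) (_ : CommRing R') (_ : Algebra R R') (p' : Ideal R') (_ : p'.IsPrime), FlatCA.IsEtaleNhd R R' p p' ∧
      ∀ (SA NA : Type u) [CommRing SA] [Algebra R SA] [Algebra S SA] [Algebra (Localization.AtPrime p') SA]
        [IsScalarTower R S SA] [IsScalarTower R (Localization.AtPrime p') SA]
        [Algebra.IsPushout R S (Localization.AtPrime p') SA]
        [AddCommGroup NA] [Module SA NA] [Module S NA] [IsScalarTower S SA NA]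
        [Module (Localization.AtPrime p') NA] [IsScalarTower (Localization.AtPrime p') SA NA]
        (f : N →ₗ[S] NA), IsBaseChange SA f →
        ∀ (Q : Ideal SA) [Q.IsPrime], Q.LiesOver (IsLocalRing.maximalIdeal (Localization.AtPrime p')) →
        ∃ g : SA, g ∉ Q ∧
          (c → Module.FinitePresentation (Localization.Away g) (LocalizedModule (Submonoid.powers g) NA)) ∧
          Module.Flat (Localization.AtPrime p') (LocalizedModule (Submonoid.powers g) NA) := by
  have H' : ∀ q : {q : Ideal S // q.IsPrime ∧ q.LiesOver p},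
      ∃ (R' : Type u) (_ : CommRing R') (_ : Algebra R R') (p' : Ideal R') (_ : p'.IsPrime),
        FlatCA.IsEtaleNhd R R' p p' ∧
      ∃ s : S, s ∉ q.1 ∧ ∀ (R₂ : Type u) [CommRing R₂] [Algebra R R₂] [Algebra R' R₂] [IsScalarTower R R' R₂]
      (p₂ : Ideal R₂) [p₂.IsPrime], p₂.LiesOver p' →
      ∀ (SA NA : Type u) [CommRing SA] [Algebra R SA] [Algebra S SA] [Algebra (Localization.AtPrime p₂) SA]
        [IsScalarTower R S SA] [IsScalarTower R (Localization.AtPrime p₂) SA]
        [Algebra.IsPushout R S (Localization.AtPrime p₂) SA]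
        [AddCommGroup NA] [Module SA NA] [Module S NA] [IsScalarTower S SA NA]
        [Module (Localization.AtPrime p₂) NA] [IsScalarTower (Localization.AtPrime p₂) SA NA]
        (f : N →ₗ[S] NA), IsBaseChange SA f →
        ∀ (Q : Ideal SA) [Q.IsPrime], Q.LiesOver (IsLocalRing.maximalIdeal (Localization.AtPrime p₂)) →
          algebraMap S SA s ∉ Q →
        ∃ g : SA, g ∉ Q ∧
          (c → Module.FinitePresentation (Localization.Away g) (LocalizedModule (Submonoid.powers g) NA)) ∧
          Module.Flat (Localization.AtPrime p₂) (LocalizedModule (Submonoid.powers g) NA) := by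
    intro q
    have i1 : q.1.IsPrime := q.2.1
    have i2 : q.1.LiesOver p := q.2.2
    obtain ⟨R', _, _, p', _, he, h⟩ := H q.1
    exact ⟨R', inferInstance, inferInstance, p', inferInstance, he, step c he q.1 h⟩
  choose R' i1 i2 p' i3 he s hs h using H'
  obtain ⟨k, q, hq⟩ := exists_fin_of_forall_prime p s (fun Q hQ hQp ↦ ⟨⟨Q, hQ, hQp⟩, hs ⟨Q, hQ, hQp⟩⟩)
  obtain ⟨R₂, _, _, _, _, p₂, _, h2, h3⟩ := EtaleNhd.exists_common_refinement_fin k (fun j ↦ R' (q j))
    (fun j ↦ p' (q j)) (fun j ↦ he (q j))
  refine ⟨R₂, inferInstance, inferInstance, p₂, inferInstance, h2, ?_⟩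
  intro SA NA _ _ _ _ _ _ _ _ _ _ _ _ _ f hf Q _ hQ
  have l1 := EtaleNhd.liesOver h2
  have l2 := EtaleNhd.liesOver_maximalIdeal_atPrime p₂
  have l3 : (IsLocalRing.maximalIdeal (Localization.AtPrime p₂)).LiesOver p := .trans _ p₂ p
  have hQp : (Q.comap (algebraMap S SA)).LiesOver p := by
    refine ⟨?_⟩
    rw [l3.over, hQ.over, Ideal.under_def, Ideal.under_def, Ideal.under_def, Ideal.comap_comap, Ideal.comap_comap,
      ← IsScalarTower.algebraMap_eq, ← IsScalarTower.algebraMap_eq]
  obtain ⟨j, hj⟩ := hq (Q.comap (algebraMap S SA)) hQp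
  exact h (q j) R₂ p₂ (EtaleNhd.liesOver (h3 j)) SA NA f hf Q hQ hj

end Groth.Agent.Flat2B.FibreOfPoint
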