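import Groth.Prelude.Def_FlatCA
import Groth.Agent.Flat2B.EtaleNhd
import Groth.Agent.Flat2B.BCTools
import Groth.Agent.Flat2B.FibreOfPoint
import Groth.Agent.Flat2B.LocTransfer

/-!
# Lifting étale neighbourhoods along a base change of the source

Used to pass from finitely presented algebras to finite type algebras: `S₁ = R[x] → S` surjective.
-/

set_option autoImplicit false

namespace Groth.Agent.Flat2B.FreeLift

universe u

open TensorProduct Groth.Agent.Flat2B

theorem free_of_linearEquiv {A C C₁ M M₁ : Type u} [CommRing A] [CommRing C] [CommRing C₁] [Algebra A C] [Algebra A C₁]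
    [Algebra C₁ C] [IsScalarTower A C₁ C] [AddCommGroup M] [Module C M] [Module C₁ M] [IsScalarTower C₁ C M]
    [AddCommGroup M₁] [Module C₁ M₁] (e : M₁ ≃ₗ[C₁] M)
    (h : Module.Free A (RestrictScalars A C₁ M₁)) : Module.Free A (RestrictScalars A C M) := by
  let e' : RestrictScalars A C₁ M₁ ≃+ RestrictScalars A C M :=
    (RestrictScalars.addEquiv A C₁ M₁).trans (e.toAddEquiv.trans (RestrictScalars.addEquiv A C M).symm)
  refine Module.Free.of_equiv (e'.toLinearEquiv (R := A) ?_)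
  intro a x
  change (RestrictScalars.addEquiv A C M).symm (e (RestrictScalars.addEquiv A C₁ M₁ (a • x))) = a •
    (RestrictScalars.addEquiv A C M).symm (e (RestrictScalars.addEquiv A C₁ M₁ x))
  apply (RestrictScalars.addEquiv A C M).injective
  rw [RestrictScalars.addEquiv_map_smul, AddEquiv.apply_symm_apply,
    RestrictScalars.addEquiv_map_smul, map_smul, AddEquiv.apply_symm_apply,
    IsScalarTower.algebraMap_apply A C₁ C, algebraMap_smul C (algebraMap A C₁ a)]

theorem lift_data_aux {A S₁ S S₁A SA NA : Type u} [CommRing A] [CommRing S₁] [CommRing S] [CommRing S₁A] [CommRing SA]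
    [Algebra A S₁A] [Algebra A SA] [Algebra S₁ S] [Algebra S₁ S₁A] [Algebra S SA] [Algebra S₁A SA] [Algebra S₁ SA]
    [IsScalarTower S₁ S SA] [IsScalarTower S₁ S₁A SA] [IsScalarTower A S₁A SA] (hpo : Algebra.IsPushout S₁ S S₁A SA)
    [AddCommGroup NA] [Module SA NA] [Module S₁A NA] [IsScalarTower S₁A SA NA]
    (q : Ideal S) [q.IsPrime] (q₁ : Ideal S₁) [q₁.IsPrime] [q.LiesOver q₁]
    (C₁ : Type u) [CommRing C₁] [Algebra S₁A C₁] [Algebra A C₁] [IsScalarTower A S₁A C₁] [Algebra S₁ C₁]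
    [IsScalarTower S₁ S₁A C₁] (x₁ : Ideal C₁) [x₁.IsPrime] [x₁.LiesOver q₁] [Algebra.Etale S₁A C₁]
    (hres : EtaleNhd.ResTriv S₁ C₁ q₁ x₁) (hfree : Module.Free A (RestrictScalars A C₁ (C₁ ⊗[S₁A] NA)))
    (C : Type u) [CommRing C] [Algebra SA C] [Algebra A C] [IsScalarTower A SA C] [Algebra S C] [IsScalarTower S SA C]
    [Algebra C₁ C] [Algebra S₁A C] [IsScalarTower S₁A SA C] [IsScalarTower S₁A C₁ C] [Algebra.IsPushout S₁A C₁ SA C] :
    ∃ (x' : Ideal C) (_ : x'.IsPrime) (hx : x'.LiesOver q),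
          Algebra.Etale SA C ∧ Function.Bijective (Ideal.ResidueField.mapₐ q x' (Algebra.ofId S C) hx.over) ∧
          Module.Free A (RestrictScalars A C (C ⊗[SA] NA)) := by
  have hC : Algebra.IsPushout S₁A C₁ SA C := inferInstance
  let _ : Algebra S₁ C := ((algebraMap SA C).comp (algebraMap S₁ SA)).toAlgebra
  have _ : IsScalarTower S₁ SA C := IsScalarTower.of_algebraMap_eq' rfl
  have _ : IsScalarTower S₁ S C := IsScalarTower.of_algebraMap_eq (by
    intro x
    rw [IsScalarTower.algebraMap_apply S₁ SA C, IsScalarTower.algebraMap_apply S₁ S SA,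
      ← IsScalarTower.algebraMap_apply S SA C])
  have _ : IsScalarTower S₁ S₁A C := IsScalarTower.of_algebraMap_eq (by
    intro x
    rw [IsScalarTower.algebraMap_apply S₁ SA C, IsScalarTower.algebraMap_apply S₁ S₁A SA,
      ← IsScalarTower.algebraMap_apply S₁A SA C])
  have _ : IsScalarTower S₁ C₁ C := IsScalarTower.of_algebraMap_eq (by
    intro x
    rw [IsScalarTower.algebraMap_apply S₁ S₁A C, IsScalarTower.algebraMap_apply S₁ S₁A C₁,
      ← IsScalarTower.algebraMap_apply S₁A C₁ C])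
  have _ : IsScalarTower A C₁ C := IsScalarTower.of_algebraMap_eq (by
    intro x
    rw [IsScalarTower.algebraMap_apply A SA C, IsScalarTower.algebraMap_apply A S₁A C₁,
      ← IsScalarTower.algebraMap_apply S₁A C₁ C, IsScalarTower.algebraMap_apply S₁A SA C,
      IsScalarTower.algebraMap_apply A S₁A SA])
  have hpo' : Algebra.IsPushout S₁ S₁A S SA := hpo.symm
  have hbig : Algebra.IsPushout S₁ C₁ S C :=
    (Algebra.IsPushout.comp_iff S₁ S₁A S (S' := SA)).2 hC
  have hbig' : Algebra.IsPushout S₁ S C₁ C := hbig.symm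
  obtain ⟨x', hx', hxq, hx1⟩ := EtaleNhd.exists_prime_of_isPushout (R := S₁) (R' := C₁) (S := S) (S' := C) q₁ q x₁
  refine ⟨x', hx', hxq, BCTools.etale_of_isPushout S₁A C₁ SA C, ?_, ?_⟩
  · rw [← EtaleNhd.resTriv_iff_bijective]
    exact hres.pushout (S := S) (q := q) x'
  · exact free_of_linearEquiv (Algebra.IsPushout.cancelBaseChange S₁A C₁ SA C NA).symm hfree

theorem lift_data {A S₁ S S₁A SA NA : Type u} [CommRing A] [CommRing S₁] [CommRing S] [CommRing S₁A] [CommRing SA]
    [Algebra A S₁A] [Algebra A SA] [Algebra S₁ S] [Algebra S₁ S₁A] [Algebra S SA] [Algebra S₁A SA] [Algebra S₁ SA]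
    [IsScalarTower S₁ S SA] [IsScalarTower S₁ S₁A SA] [IsScalarTower A S₁A SA] (hpo : Algebra.IsPushout S₁ S S₁A SA)
    [AddCommGroup NA] [Module SA NA] [Module S₁A NA] [IsScalarTower S₁A SA NA]
    (q : Ideal S) [q.IsPrime] (q₁ : Ideal S₁) [q₁.IsPrime] [q.LiesOver q₁]
    (C₁ : Type u) [CommRing C₁] [Algebra S₁A C₁] [Algebra A C₁] [IsScalarTower A S₁A C₁] [Algebra S₁ C₁]
    [IsScalarTower S₁ S₁A C₁] (x₁ : Ideal C₁) [x₁.IsPrime] [x₁.LiesOver q₁] [Algebra.Etale S₁A C₁]
    (hres : EtaleNhd.ResTriv S₁ C₁ q₁ x₁) (hfree : Module.Free A (RestrictScalars A C₁ (C₁ ⊗[S₁A] NA))) :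
    ∃ (C : Type u) (_ : CommRing C) (_ : Algebra SA C) (_ : Algebra A C)
          (_ : IsScalarTower A SA C) (_ : Algebra S C) (_ : IsScalarTower S SA C)
          (x' : Ideal C) (_ : x'.IsPrime) (hx : x'.LiesOver q),
          Algebra.Etale SA C ∧ Function.Bijective (Ideal.ResidueField.mapₐ q x' (Algebra.ofId S C) hx.over) ∧
          Module.Free A (RestrictScalars A C (C ⊗[SA] NA)) := by
  let _ : Algebra C₁ (SA ⊗[S₁A] C₁) := Algebra.TensorProduct.rightAlgebra
  have h1 : Algebra.IsPushout S₁A C₁ SA (SA ⊗[S₁A] C₁) := Algebra.IsPushout.symm inferInstance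
  obtain ⟨x', hx', hxq, h⟩ := lift_data_aux hpo q q₁ C₁ x₁ hres hfree (SA ⊗[S₁A] C₁)
  exact ⟨SA ⊗[S₁A] C₁, inferInstance, inferInstance, inferInstance, inferInstance, inferInstance, inferInstance,
    x', hx', hxq, h⟩

end Groth.Agent.Flat2B.FreeLift
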