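import Groth.Agent.Flat2B.StepBC

/-!
# Base change of complete dévissages along points with trivial residue field extension

`hasCompleteDevissageAt_baseChange`: a complete dévissage of `N/S/R` at `q` over `p` gives one of
`N₁/S₁/R₁` at `q₁` over `p₁`, for `R → R₁`, `p₁` over `p` with trivial residue field extension,
`S₁`, `N₁` any models of the base changes and `q₁` the prime over `q` and `p₁`.
-/

set_option autoImplicit false
universe u

namespace Groth.Agent.Flat2B.DevissageBC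

open FlatCA TensorProduct
open Groth.Agent.Flat2B.PointBC Groth.Agent.Flat2B.FibreBC Groth.Agent.Flat2B.BCTools
open Groth.Agent.Flat2B.DevissageRec Groth.Agent.Flat2B.StepBC

/-- The conclusion of the base change theorem for one step. -/
def StepBCConcl {R S : Type u} [CommRing R] [CommRing S] [Algebra R S] {N : Type u}
    [AddCommGroup N] [Module S N] {rr : Ideal R} [rr.IsPrime] (st : Step R S N rr)
    {R₁ : Type u} [CommRing R₁] [Algebra R R₁] (p₁ : Ideal R₁) [p₁.IsPrime]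
    (S₁ : Type u) [CommRing S₁] [Algebra S S₁] [Algebra R₁ S₁]
    (N₁ : Type u) [AddCommGroup N₁] [Module S₁ N₁] : Prop :=
  ∃ (st₁ : Step R₁ S₁ N₁ p₁) (_ : Algebra R st₁.B) (_ : Algebra st.B st₁.B)
    (_ : IsScalarTower R st.B st₁.B) (_ : IsScalarTower R R₁ st₁.B)
    (_ : Algebra.IsPushout R st.B R₁ st₁.B)
    (_ : Module st.B st₁.coker) (_ : IsScalarTower st.B st₁.B st₁.coker)
    (w : st.coker →ₗ[st.B] st₁.coker),
    IsBaseChange st₁.B w ∧
    (∀ (q : Ideal S) [q.IsPrime] (sa : StepAt R S N rr st q)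
      (q₁ : Ideal S₁) [q₁.IsPrime] [q₁.LiesOver q] [q₁.LiesOver p₁],
      ∃ sa₁ : StepAt R₁ S₁ N₁ p₁ st₁ q₁, sa₁.qB.LiesOver sa.qB)

theorem stepBC_aux1 {R S : Type u} [CommRing R] [CommRing S] [Algebra R S] {N : Type u}
    [AddCommGroup N] [Module S N] {rr : Ideal R} [rr.IsPrime] (st : Step R S N rr)
    {R₁ : Type u} [CommRing R₁] [Algebra R R₁] (p₁ : Ideal R₁) [p₁.IsPrime] (hp : ResTriv rr p₁)
    {S₁ : Type u} [CommRing S₁] [Algebra S S₁] [Algebra R₁ S₁] [Algebra R S₁]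
    [IsScalarTower R S S₁] [IsScalarTower R R₁ S₁] [Algebra.IsPushout R S R₁ S₁]
    {N₁ : Type u} [AddCommGroup N₁] [Module S₁ N₁] [Module S N₁] [IsScalarTower S S₁ N₁]
    (f : N →ₗ[S] N₁) (hf : IsBaseChange S₁ f)
    (A₁ B₁ M₁ : Type u) [CommRing A₁] [CommRing B₁] [Algebra R₁ A₁] [Algebra R₁ B₁]
    [Algebra B₁ A₁] [IsScalarTower R₁ B₁ A₁] [Algebra S₁ A₁] [IsScalarTower R₁ S₁ A₁]
    [iRB : Algebra R B₁] [iBB : Algebra st.B B₁] [IsScalarTower R st.B B₁]
    [IsScalarTower R R₁ B₁]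
    [Algebra.IsPushout R st.B R₁ B₁]
    [Algebra R A₁] [Algebra st.A A₁] [IsScalarTower R st.A A₁] [IsScalarTower R R₁ A₁]
    [Algebra.IsPushout R st.A R₁ A₁]
    [Algebra S A₁] [IsScalarTower S st.A A₁] [IsScalarTower S S₁ A₁]
    [Algebra st.B A₁] [IsScalarTower st.B st.A A₁] [IsScalarTower st.B B₁ A₁]
    [AddCommGroup M₁] [Module A₁ M₁] [Module st.A M₁] [IsScalarTower st.A A₁ M₁]
    (g : st.M →ₗ[st.A] M₁) (hg : IsBaseChange A₁ g) : StepBCConcl st p₁ S₁ N₁ := by
  let mB₁ : Module B₁ M₁ := Module.compHom M₁ (algebraMap B₁ A₁)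
  let mS₁ : Module S₁ M₁ := Module.compHom M₁ (algebraMap S₁ A₁)
  let mR₁ : Module R₁ M₁ := Module.compHom M₁ (algebraMap R₁ A₁)
  let mB : Module st.B M₁ := Module.compHom M₁ (algebraMap st.B A₁)
  let mS : Module S M₁ := Module.compHom M₁ (algebraMap S A₁)
  have t1 : IsScalarTower B₁ A₁ M₁ := IsScalarTower.of_algebraMap_smul fun _ _ => rfl
  have t2 : IsScalarTower S₁ A₁ M₁ := IsScalarTower.of_algebraMap_smul fun _ _ => rfl
  have t3 : IsScalarTower R₁ A₁ M₁ := IsScalarTower.of_algebraMap_smul fun _ _ => rfl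
  have t4 : IsScalarTower st.B A₁ M₁ := IsScalarTower.of_algebraMap_smul fun _ _ => rfl
  have t5 : IsScalarTower S A₁ M₁ := IsScalarTower.of_algebraMap_smul fun _ _ => rfl
  have t6 : IsScalarTower R₁ B₁ M₁ := IsScalarTower.of_algebraMap_smul fun r m => by
    rw [← algebraMap_smul A₁ (algebraMap R₁ B₁ r) m, ← IsScalarTower.algebraMap_apply,
      algebraMap_smul]
  have t7 : IsScalarTower st.B st.A M₁ := IsScalarTower.of_algebraMap_smul fun r m => by
    rw [← algebraMap_smul A₁ (algebraMap st.B st.A r) m, ← IsScalarTower.algebraMap_apply,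
      algebraMap_smul]
  have t8 : IsScalarTower st.B B₁ M₁ := IsScalarTower.of_algebraMap_smul fun r m => by
    rw [← algebraMap_smul A₁ (algebraMap st.B B₁ r) m, ← IsScalarTower.algebraMap_apply,
      algebraMap_smul]
  have t9 : IsScalarTower S st.A M₁ := IsScalarTower.of_algebraMap_smul fun r m => by
    rw [← algebraMap_smul A₁ (algebraMap S st.A r) m, ← IsScalarTower.algebraMap_apply,
      algebraMap_smul]
  have t10 : IsScalarTower S S₁ M₁ := IsScalarTower.of_algebraMap_smul fun r m => by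
    rw [← algebraMap_smul A₁ (algebraMap S S₁ r) m, ← IsScalarTower.algebraMap_apply,
      algebraMap_smul]
  have hBA : Algebra.IsPushout st.B st.A B₁ A₁ := pushout_right R st.B st.A R₁ B₁ A₁
  have hgB : IsBaseChange B₁ (g.restrictScalars st.B) := isBaseChange_of_isPushout g hg
  have hβ : IsBaseChange B₁ ((Algebra.linearMap st.B B₁).compLeft (Fin st.r)) :=
    IsBaseChange.finitePow (Fin st.r) (IsBaseChange.linearMap st.B B₁)
  have i3 : IsScalarTower R st.B B₁ := inferInstance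
  have i4 : IsScalarTower R R₁ B₁ := inferInstance
  have i5 : Algebra.IsPushout R st.B R₁ B₁ := inferInstance
  let i7 : Module st.B (M₁ ⧸ LinearMap.range (hβ.lift ((g.restrictScalars st.B).comp st.α))) :=
    Submodule.Quotient.module' _
  have i6 : IsScalarTower st.B B₁
      (M₁ ⧸ LinearMap.range (hβ.lift ((g.restrictScalars st.B).comp st.α))) := inferInstance
  obtain ⟨w, hw, -⟩ := isBaseChange_coker st.α hβ hgB (hβ.lift ((g.restrictScalars st.B).comp st.α))
    (fun x => hβ.lift_eq _ x)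
  exact ⟨mkStep st p₁ hp f hf A₁ B₁ M₁ g hg, iRB, iBB, i3, i4, i5, i7, i6, w, hw, fun q _ sa q₁ _ _ _ => exists_mkStepAt st p₁ hp f hf A₁ B₁ M₁ g hg q sa q₁⟩

theorem stepBC_aux2 {R S : Type u} [CommRing R] [CommRing S] [Algebra R S] {N : Type u}
    [AddCommGroup N] [Module S N] {rr : Ideal R} [rr.IsPrime] (st : Step R S N rr)
    {R₁ : Type u} [CommRing R₁] [Algebra R R₁] (p₁ : Ideal R₁) [p₁.IsPrime] (hp : ResTriv rr p₁)
    {S₁ : Type u} [CommRing S₁] [Algebra S S₁] [Algebra R₁ S₁] [Algebra R S₁]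
    [IsScalarTower R S S₁] [IsScalarTower R R₁ S₁] [Algebra.IsPushout R S R₁ S₁]
    {N₁ : Type u} [AddCommGroup N₁] [Module S₁ N₁] [Module S N₁] [IsScalarTower S S₁ N₁]
    (f : N →ₗ[S] N₁) (hf : IsBaseChange S₁ f)
    (A₁ B₁ : Type u) [CommRing A₁] [CommRing B₁] [Algebra R₁ A₁] [Algebra R₁ B₁]
    [Algebra R B₁] [Algebra st.B B₁] [IsScalarTower R st.B B₁] [IsScalarTower R R₁ B₁]
    [Algebra.IsPushout R st.B R₁ B₁]
    [Algebra R A₁] [Algebra st.A A₁] [IsScalarTower R st.A A₁] [IsScalarTower R R₁ A₁]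
    [Algebra.IsPushout R st.A R₁ A₁] : StepBCConcl st p₁ S₁ N₁ := by
  let aSA₁' : Algebra S A₁ := ((algebraMap st.A A₁).comp (algebraMap S st.A)).toAlgebra
  let aBA₁' : Algebra st.B A₁ := ((algebraMap st.A A₁).comp (algebraMap st.B st.A)).toAlgebra
  have tSAA : IsScalarTower S st.A A₁ := IsScalarTower.of_algebraMap_eq' rfl
  have tBAA : IsScalarTower st.B st.A A₁ := IsScalarTower.of_algebraMap_eq' rfl
  have tRSA : IsScalarTower R S A₁ := by
    refine IsScalarTower.of_algebraMap_eq fun x => ?_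
    rw [IsScalarTower.algebraMap_apply S st.A A₁, ← IsScalarTower.algebraMap_apply R S st.A,
      ← IsScalarTower.algebraMap_apply R st.A A₁]
  have tRBA : IsScalarTower R st.B A₁ := by
    refine IsScalarTower.of_algebraMap_eq fun x => ?_
    rw [IsScalarTower.algebraMap_apply st.B st.A A₁, ← IsScalarTower.algebraMap_apply R st.B st.A,
      ← IsScalarTower.algebraMap_apply R st.A A₁]
  let φ : S₁ →ₐ[R] A₁ := Algebra.pushoutDesc S₁ (IsScalarTower.toAlgHom R S A₁)
    (IsScalarTower.toAlgHom R R₁ A₁) (fun _ _ => mul_comm _ _)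
  let ψ : B₁ →ₐ[R] A₁ := Algebra.pushoutDesc B₁ (IsScalarTower.toAlgHom R st.B A₁)
    (IsScalarTower.toAlgHom R R₁ A₁) (fun _ _ => mul_comm _ _)
  let aSA₁ : Algebra S₁ A₁ := φ.toRingHom.toAlgebra
  let aBA₁ : Algebra B₁ A₁ := ψ.toRingHom.toAlgebra
  have tSSA : IsScalarTower S S₁ A₁ := IsScalarTower.of_algebraMap_eq fun x =>
    (Algebra.pushoutDesc_left S₁ (IsScalarTower.toAlgHom R S A₁)
      (IsScalarTower.toAlgHom R R₁ A₁) (fun _ _ => mul_comm _ _) x).symm
  have tRSA₁ : IsScalarTower R₁ S₁ A₁ := IsScalarTower.of_algebraMap_eq fun x =>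
    (Algebra.pushoutDesc_right S₁ (IsScalarTower.toAlgHom R S A₁)
      (IsScalarTower.toAlgHom R R₁ A₁) (fun _ _ => mul_comm _ _) x).symm
  have tBBA : IsScalarTower st.B B₁ A₁ := IsScalarTower.of_algebraMap_eq fun x =>
    (Algebra.pushoutDesc_left B₁ (IsScalarTower.toAlgHom R st.B A₁)
      (IsScalarTower.toAlgHom R R₁ A₁) (fun _ _ => mul_comm _ _) x).symm
  have tRBA₁ : IsScalarTower R₁ B₁ A₁ := IsScalarTower.of_algebraMap_eq fun x =>
    (Algebra.pushoutDesc_right B₁ (IsScalarTower.toAlgHom R st.B A₁)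
      (IsScalarTower.toAlgHom R R₁ A₁) (fun _ _ => mul_comm _ _) x).symm
  exact stepBC_aux1 st p₁ hp f hf A₁ B₁ (A₁ ⊗[st.A] st.M) (TensorProduct.mk st.A A₁ st.M 1)
    (TensorProduct.isBaseChange st.A st.M A₁)

attribute [local instance] Algebra.TensorProduct.rightAlgebra in
theorem exists_step_bc {R S : Type u} [CommRing R] [CommRing S] [Algebra R S] {N : Type u}
    [AddCommGroup N] [Module S N] {rr : Ideal R} [rr.IsPrime] (st : Step R S N rr)
    {R₁ : Type u} [CommRing R₁] [Algebra R R₁] (p₁ : Ideal R₁) [p₁.IsPrime] (hp : ResTriv rr p₁)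
    {S₁ : Type u} [CommRing S₁] [Algebra S S₁] [Algebra R₁ S₁] [Algebra R S₁]
    [IsScalarTower R S S₁] [IsScalarTower R R₁ S₁] [Algebra.IsPushout R S R₁ S₁]
    {N₁ : Type u} [AddCommGroup N₁] [Module S₁ N₁] [Module S N₁] [IsScalarTower S S₁ N₁]
    (f : N →ₗ[S] N₁) (hf : IsBaseChange S₁ f) : StepBCConcl st p₁ S₁ N₁ :=
  stepBC_aux2 st p₁ hp f hf (R₁ ⊗[R] st.A) (R₁ ⊗[R] st.B)


/-- If the cokernel vanishes it does so after base change. -/
theorem subsingleton_of_isBaseChange {A A₁ M M₁ : Type u} [CommRing A] [CommRing A₁] [Algebra A A₁]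
    [AddCommGroup M] [Module A M] [AddCommGroup M₁] [Module A₁ M₁] [Module A M₁]
    [IsScalarTower A A₁ M₁] {w : M →ₗ[A] M₁} (hw : IsBaseChange A₁ w) [Subsingleton M] :
    Subsingleton M₁ := by
  refine ⟨fun a b => ?_⟩
  have h : ∀ c : M₁, c = 0 := by
    intro c
    induction c using hw.inductionOn with
    | zero => rfl
    | tmul m => rw [Subsingleton.elim m 0, map_zero]
    | smul s n hn => rw [hn, smul_zero]
    | add a b ha hb => rw [ha, hb, add_zero]
  rw [h a, h b]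

theorem subsingleton_coker {R S : Type u} [CommRing R] [CommRing S] [Algebra R S] {N : Type u}
    [AddCommGroup N] [Module S N] {rr : Ideal R} [rr.IsPrime] {st : Step R S N rr}
    (h : Function.Surjective st.α) : Subsingleton st.coker := by
  have h1 : LinearMap.range st.α = ⊤ := LinearMap.range_eq_top.2 h
  exact Submodule.Quotient.subsingleton_iff.2 h1

theorem surjective_of_subsingleton_coker {R S : Type u} [CommRing R] [CommRing S] [Algebra R S]
    {N : Type u} [AddCommGroup N] [Module S N] {rr : Ideal R} [rr.IsPrime] {st : Step R S N rr}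
    (h : Subsingleton st.coker) : Function.Surjective st.α :=
  LinearMap.range_eq_top.1 (Submodule.Quotient.subsingleton_iff.1 h)

section Main

variable {R : Type u} [CommRing R] {p : Ideal R} [p.IsPrime]
  {R₁ : Type u} [CommRing R₁] [Algebra R R₁] {p₁ : Ideal R₁} [p₁.IsPrime]

/-- Base change of complete dévissages, keeping the length. -/
theorem exists_completeDevissage_bc (hp : ResTriv p p₁) (n : ℕ) :
    ∀ {S : Type u} [CommRing S] [Algebra R S] {N : Type u} [AddCommGroup N] [Module S N]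
      (D : CompleteDevissage R S N p) (_ : D.n = n + 1)
      {S₁ : Type u} [CommRing S₁] [Algebra S S₁] [Algebra R₁ S₁] [Algebra R S₁]
      [IsScalarTower R S S₁] [IsScalarTower R R₁ S₁] [Algebra.IsPushout R S R₁ S₁]
      {N₁ : Type u} [AddCommGroup N₁] [Module S₁ N₁] [Module S N₁] [IsScalarTower S S₁ N₁]
      (f : N →ₗ[S] N₁) (_ : IsBaseChange S₁ f),
      ∃ D₁ : CompleteDevissage R₁ S₁ N₁ p₁, D₁.n = n + 1 := by
  induction n with
  | zero =>
    intro S _ _ N _ _ D hD S₁ _ _ _ _ _ _ _ N₁ _ _ _ _ f hf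
    obtain ⟨st₁, _, _, _, _, _, _, _, w, hw, -⟩ := exists_step_bc (firstStep D) p₁ hp f hf
    have hs : Function.Surjective (firstStep D).α := by
      have h1 := D.cokerLast
      have h2 : D.n - 1 = 0 := by omega
      rw [h2] at h1
      exact h1
    have := subsingleton_coker hs
    have h3 := subsingleton_of_isBaseChange hw
    exact ⟨single st₁ (surjective_of_subsingleton_coker h3), rfl⟩
  | succ n ih =>
    intro S _ _ N _ _ D hD S₁ _ _ _ _ _ _ _ N₁ _ _ _ _ f hf
    obtain ⟨st₁, _, _, _, _, _, _, _, w, hw, -⟩ := exists_step_bc (firstStep D) p₁ hp f hf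
    obtain ⟨D₁, hD₁⟩ := ih (tail D (by omega)) (by change D.n - 1 = n + 1; omega) w hw
    exact ⟨cons st₁ D₁, by change D₁.n + 1 = _; rw [hD₁]⟩

/-- Base change of complete dévissages at a prime, keeping the length. -/
theorem exists_completeDevissageAt_bc (hp : ResTriv p p₁) (n : ℕ) :
    ∀ {S : Type u} [CommRing S] [Algebra R S] {N : Type u} [AddCommGroup N] [Module S N]
      (D : CompleteDevissage R S N p) (_ : D.n = n + 1)
      (q : Ideal S) [q.IsPrime] (_ : CompleteDevissageAt R S N p q D)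
      {S₁ : Type u} [CommRing S₁] [Algebra S S₁] [Algebra R₁ S₁] [Algebra R S₁]
      [IsScalarTower R S S₁] [IsScalarTower R R₁ S₁] [Algebra.IsPushout R S R₁ S₁]
      {N₁ : Type u} [AddCommGroup N₁] [Module S₁ N₁] [Module S N₁] [IsScalarTower S S₁ N₁]
      (f : N →ₗ[S] N₁) (_ : IsBaseChange S₁ f)
      (q₁ : Ideal S₁) [q₁.IsPrime] [q₁.LiesOver q] [q₁.LiesOver p₁],
      ∃ D₁ : CompleteDevissage R₁ S₁ N₁ p₁, D₁.n = n + 1 ∧
        Nonempty (CompleteDevissageAt R₁ S₁ N₁ p₁ q₁ D₁) := by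
  induction n with
  | zero =>
    intro S _ _ N _ _ D hD q _ E S₁ _ _ _ _ _ _ _ N₁ _ _ _ _ f hf q₁ _ _ _
    obtain ⟨st₁, _, _, _, _, _, _, _, w, hw, hAt⟩ := exists_step_bc (firstStep D) p₁ hp f hf
    obtain ⟨sa₁, hsa₁⟩ := hAt q (firstStepAt D q E) q₁
    have hs : Function.Surjective (firstStep D).α := by
      have h1 := D.cokerLast
      have h2 : D.n - 1 = 0 := by omega
      rw [h2] at h1
      exact h1
    have := subsingleton_coker hs
    have h3 := subsingleton_of_isBaseChange hw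
    exact ⟨single st₁ (surjective_of_subsingleton_coker h3), rfl,
      ⟨singleAt st₁ (surjective_of_subsingleton_coker h3) q₁ sa₁⟩⟩
  | succ n ih =>
    intro S _ _ N _ _ D hD q _ E S₁ _ _ _ _ _ _ _ N₁ _ _ _ _ f hf q₁ _ _ _
    obtain ⟨st₁, _, _, _, _, _, _, _, w, hw, hAt⟩ := exists_step_bc (firstStep D) p₁ hp f hf
    obtain ⟨sa₁, hsa₁⟩ := hAt q (firstStepAt D q E) q₁
    obtain ⟨D₁, hD₁, ⟨E₁⟩⟩ := ih (tail D (by omega)) (by change D.n - 1 = n + 1; omega)
      (firstStepAt D q E).qB (tailAt D (by omega) q E) w hw sa₁.qB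
    exact ⟨cons st₁ D₁, by change D₁.n + 1 = _; rw [hD₁], ⟨consAt st₁ D₁ q₁ sa₁ E₁⟩⟩

variable {S : Type u} [CommRing S] [Algebra R S] {N : Type u} [AddCommGroup N] [Module S N]
  {S₁ : Type u} [CommRing S₁] [Algebra S S₁] [Algebra R₁ S₁] [Algebra R S₁]
  [IsScalarTower R S S₁] [IsScalarTower R R₁ S₁] [Algebra.IsPushout R S R₁ S₁]
  {N₁ : Type u} [AddCommGroup N₁] [Module S₁ N₁] [Module S N₁] [IsScalarTower S S₁ N₁]

theorem nonempty_completeDevissage_baseChange (D : CompleteDevissage R S N p) (hp : ResTriv p p₁)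
    (f : N →ₗ[S] N₁) (hf : IsBaseChange S₁ f) : Nonempty (CompleteDevissage R₁ S₁ N₁ p₁) := by
  obtain ⟨D₁, -⟩ := exists_completeDevissage_bc hp (D.n - 1) D (by have := D.pos; omega) f hf
  exact ⟨D₁⟩

theorem hasCompleteDevissageAt_baseChange {q : Ideal S} [q.IsPrime]
    (h : HasCompleteDevissageAt R S N p q) (hp : ResTriv p p₁)
    (f : N →ₗ[S] N₁) (hf : IsBaseChange S₁ f) (q₁ : Ideal S₁) [q₁.IsPrime] [q₁.LiesOver q]
    [q₁.LiesOver p₁] : HasCompleteDevissageAt R₁ S₁ N₁ p₁ q₁ := by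
  obtain ⟨D, ⟨E⟩⟩ := h
  obtain ⟨D₁, -, hD₁⟩ := exists_completeDevissageAt_bc hp (D.n - 1) D (by have := D.pos; omega)
    q E f hf q₁
  exact ⟨D₁, hD₁⟩

end Main

end Groth.Agent.Flat2B.DevissageBC
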