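import Groth.Prelude.Def_FlatCA
import Groth.Agent.Flat2B.LocTransfer
import Groth.Agent.Flat2B.FlatEt
import Mathlib.Algebra.Module.FinitePresentation
import Mathlib.Algebra.Module.LocalizedModule.Submodule

/-!
# Finite presentation of localizations of modules

`FPOn T π`: for a surjection `π : P → N` from a finitely presented module, the localization of `N` at `T` is
finitely presented iff the kernel of `π` is, up to `T`-torsion, finitely generated.
-/

set_option autoImplicit false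

namespace Groth.Agent.Flat2B.FPTransfer

universe u v w

open TensorProduct

/-- the kernel of `π` is finitely generated up to `T`-torsion -/
def FPOn {S : Type u} [CommRing S] (T : Set S) {P : Type v} {N : Type w} [AddCommGroup P] [Module S P]
    [AddCommGroup N] [Module S N] (π : P →ₗ[S] N) : Prop :=
  ∃ K₀ : Submodule S P, K₀ ≤ LinearMap.ker π ∧ K₀.FG ∧ ∀ k, π k = 0 → ∃ t ∈ T, t • k ∈ K₀

theorem fpOn_iff_general {S : Type u} [CommRing S] (T : Submonoid S) {P : Type v} {N : Type w} [AddCommGroup P] [Module S P]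
    [AddCommGroup N] [Module S N] [Module.FinitePresentation S P] (π : P →ₗ[S] N) (hπ : Function.Surjective π)
    (ST : Type*) [CommRing ST] [Algebra S ST] [IsLocalization T ST]
    {PT : Type*} {NT : Type*} [AddCommGroup PT] [Module S PT] [Module ST PT] [IsScalarTower S ST PT]
    [AddCommGroup NT] [Module S NT] [Module ST NT] [IsScalarTower S ST NT]
    (iP : P →ₗ[S] PT) [IsLocalizedModule T iP] (iN : N →ₗ[S] NT) [IsLocalizedModule T iN] :
    FPOn (T : Set S) π ↔ Module.FinitePresentation ST NT := by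
  have hPT : Module.FinitePresentation ST PT :=
    FinitePresentation.of_isBaseChange iP ((isLocalizedModule_iff_isBaseChange T ST iP).1 inferInstance)
  let πT : PT →ₗ[ST] NT := (IsLocalizedModule.map T iP iN π).extendScalarsOfIsLocalization T ST
  have hπT : Function.Surjective πT := IsLocalizedModule.map_surjective T iP iN π hπ
  rw [← Module.FinitePresentation.fg_ker_iff πT hπT,
    ← LinearMap.localized'_ker_eq_ker_localizedMap ST T iP iN π]
  constructor
  · rintro ⟨K₀, hK₀, ⟨F, hF⟩, htor⟩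
    have : (LinearMap.ker π).localized' ST T iP = K₀.localized' ST T iP := by
      apply le_antisymm
      · rintro _ ⟨k, hk, s, rfl⟩
        obtain ⟨t, ht, htk⟩ := htor k hk
        refine ⟨t • k, htk, (⟨t, ht⟩ : T) * s, ?_⟩
        change IsLocalizedModule.mk' iP ((⟨t, ht⟩ : T) • k) _ = _
        rw [IsLocalizedModule.mk'_cancel_left]
      · rintro _ ⟨k, hk, s, rfl⟩
        exact ⟨k, hK₀ hk, s, rfl⟩
    rw [this, ← hF, Submodule.localized'_span]
    exact Submodule.fg_span (F.finite_toSet.image _)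
  · intro h
    rw [Submodule.localized'_eq_span, Submodule.fg_span_iff_fg_span_finset_subset] at h
    obtain ⟨F, hF, hspan⟩ := h
    classical
    obtain ⟨F₀, hF₀, rfl⟩ : ∃ F₀ : Finset P, (F₀ : Set P) ⊆ LinearMap.ker π ∧ F₀.image iP = F := by
      obtain ⟨F₀, h1, h2⟩ := Finset.subset_set_image_iff.1 hF
      exact ⟨F₀, h1, h2⟩
    refine ⟨Submodule.span S F₀, Submodule.span_le.2 hF₀, ⟨F₀, rfl⟩, ?_⟩
    intro k hk
    have h1 : iP k ∈ Submodule.span ST (iP '' (LinearMap.ker π : Set P)) :=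
      Submodule.subset_span ⟨k, hk, rfl⟩
    rw [hspan, Finset.coe_image, ← Submodule.localized'_span ST T iP] at h1
    obtain ⟨m, hm, s, hms⟩ := h1
    rw [IsLocalizedModule.mk'_eq_iff, Submonoid.smul_def, ← map_smul, IsLocalizedModule.eq_iff_exists T] at hms
    obtain ⟨c, hc⟩ := hms
    refine ⟨c * s, T.mul_mem c.2 s.2, ?_⟩
    rw [mul_smul]
    simp only [Submonoid.smul_def] at hc
    rw [← hc]
    exact Submodule.smul_mem _ _ hm

/-- version for the standard models -/
theorem fpOn_iff {S : Type u} [CommRing S] (T : Submonoid S) {P : Type v} {N : Type w} [AddCommGroup P] [Module S P]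
    [AddCommGroup N] [Module S N] [Module.FinitePresentation S P] (π : P →ₗ[S] N) (hπ : Function.Surjective π) :
    FPOn (T : Set S) π ↔ Module.FinitePresentation (Localization T) (LocalizedModule T N) :=
  fpOn_iff_general T π hπ (Localization T) (LocalizedModule.mkLinearMap T P) (LocalizedModule.mkLinearMap T N)

/-- independence of the model -/
theorem finitePresentation_localization_iff {S : Type u} [CommRing S] (T : Submonoid S) {N : Type w}
    [AddCommGroup N] [Module S N] [Module.Finite S N]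
    (ST : Type*) [CommRing ST] [Algebra S ST] [IsLocalization T ST]
    {NT : Type*} [AddCommGroup NT] [Module S NT] [Module ST NT] [IsScalarTower S ST NT]
    (iN : N →ₗ[S] NT) [IsLocalizedModule T iN] :
    Module.FinitePresentation ST NT ↔ Module.FinitePresentation (Localization T) (LocalizedModule T N) := by
  obtain ⟨n, π, hπ⟩ := Module.Finite.exists_fin' S N
  rw [← fpOn_iff T π hπ, ← fpOn_iff_general T π hπ ST (TensorProduct.mk S ST (Fin n → S) 1) iN]

section Flat

variable {S : Type u} {S' : Type v} [CommRing S] [CommRing S'] [Algebra S S'] [Module.Flat S S']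
  {P N : Type w} [AddCommGroup P] [Module S P] [AddCommGroup N] [Module S N] (π : P →ₗ[S] N)

omit [Module.Flat S S'] in
theorem mem_baseChange_iff (K₀ : Submodule S P) (x : S' ⊗[S] P) :
    x ∈ K₀.baseChange S' ↔ K₀.mkQ.baseChange S' x = 0 := by
  have hex : Function.Exact (K₀.subtype.lTensor S') (K₀.mkQ.lTensor S') :=
    lTensor_exact S' (LinearMap.exact_subtype_mkQ K₀) (Submodule.mkQ_surjective K₀)
  exact (hex x).symm

omit [Module.Flat S S'] in
/-- if `K₀ ≤ ker π`, the induced map `P/K₀ → N`. -/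
theorem liftQ_baseChange (K₀ : Submodule S P) (hK₀ : K₀ ≤ LinearMap.ker π) (x : S' ⊗[S] P) :
    (K₀.liftQ π hK₀).baseChange S' (K₀.mkQ.baseChange S' x) = π.baseChange S' x := by
  rw [← LinearMap.comp_apply, ← LinearMap.baseChange_comp, Submodule.liftQ_mkQ]

theorem torsion_of_fpOn {K₀ : Submodule S P} (hK₀ : K₀ ≤ LinearMap.ker π) (T : Set S) :
    (∀ k, π k = 0 → ∃ t ∈ T, t • k ∈ K₀) ↔ (∀ x, K₀.liftQ π hK₀ x = 0 → ∃ t ∈ T, t • x = 0) := by
  constructor
  · intro h x hx
    obtain ⟨k, rfl⟩ := Submodule.mkQ_surjective K₀ x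
    obtain ⟨t, ht, htk⟩ := h k (by simpa using hx)
    exact ⟨t, ht, by rw [← map_smul]; exact (Submodule.Quotient.mk_eq_zero _).2 htk⟩
  · intro h k hk
    obtain ⟨t, ht, htk⟩ := h (K₀.mkQ k) (by simpa using hk)
    exact ⟨t, ht, by rw [← map_smul] at htk; exact (Submodule.Quotient.mk_eq_zero _).1 htk⟩

omit [Module.Flat S S'] in
theorem torsion_baseChange {K₀ : Submodule S P} (hK₀ : K₀ ≤ LinearMap.ker π) (T' : Set S') :
    (∀ k, π.baseChange S' k = 0 → ∃ t ∈ T', t • k ∈ K₀.baseChange S') ↔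
      (∀ x, (K₀.liftQ π hK₀).baseChange S' x = 0 → ∃ t ∈ T', t • x = 0) := by
  constructor
  · intro h x hx
    obtain ⟨k, rfl⟩ := LinearMap.lTensor_surjective S' (Submodule.mkQ_surjective K₀) x
    obtain ⟨t, ht, htk⟩ := h k (by rw [← liftQ_baseChange π K₀ hK₀]; exact hx)
    refine ⟨t, ht, ?_⟩
    rw [mem_baseChange_iff, map_smul] at htk
    exact htk
  · intro h k hk
    obtain ⟨t, ht, htk⟩ := h (K₀.mkQ.baseChange S' k) (by rw [liftQ_baseChange, hk])
    refine ⟨t, ht, ?_⟩
    rw [mem_baseChange_iff, map_smul, htk]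

/-- enlarging a finitely generated submodule of the kernel after base change to one defined below -/
theorem exists_fg_le (K₀' : Submodule S' (S' ⊗[S] P)) (h : K₀' ≤ LinearMap.ker (π.baseChange S')) (hfg : K₀'.FG) :
    ∃ K₀ : Submodule S P, K₀ ≤ LinearMap.ker π ∧ K₀.FG ∧ K₀' ≤ K₀.baseChange S' := by
  classical
  obtain ⟨F, rfl⟩ := hfg
  have hker : LinearMap.ker (π.baseChange S') ≤ (LinearMap.ker π).baseChange S' := by
    intro x hx
    have hex : Function.Exact ((LinearMap.ker π).subtype.lTensor S') (π.lTensor S') :=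
      Module.Flat.lTensor_exact S' (LinearMap.exact_subtype_ker_map π)
    exact (hex x).1 hx
  have h1 : (F : Set (S' ⊗[S] P)) ⊆ Submodule.span S' (TensorProduct.mk S S' P 1 '' (LinearMap.ker π : Set P)) := by
    intro x hx
    have := hker (h (Submodule.subset_span hx))
    rwa [Submodule.baseChange_eq_span] at this
  obtain ⟨G, hG, hFG⟩ := Submodule.subset_span_finite_of_subset_span h1
  obtain ⟨G₀, hG₀, rfl⟩ := Finset.subset_set_image_iff.1 hG
  refine ⟨Submodule.span S G₀, Submodule.span_le.2 hG₀, ⟨G₀, rfl⟩, ?_⟩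
  rw [Submodule.span_le, Submodule.baseChange_span]
  rwa [Finset.coe_image] at hFG

theorem fpOn_baseChange_iff (q : Ideal S) [q.IsPrime] (q' : Ideal S') [q'.IsPrime]
    (hq : q'.comap (algebraMap S S') = q) :
    FPOn {t | t ∉ q} π ↔ FPOn {t | t ∉ q'} (π.baseChange S') := by
  constructor
  · rintro ⟨K₀, hK₀, hfg, htor⟩
    refine ⟨K₀.baseChange S', ?_, ?_, ?_⟩
    · intro x hx
      rw [mem_baseChange_iff] at hx
      rw [LinearMap.mem_ker, ← liftQ_baseChange π K₀ hK₀, hx, map_zero]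
    · obtain ⟨F, rfl⟩ := hfg
      rw [Submodule.baseChange_span]
      exact Submodule.fg_span (F.finite_toSet.image _)
    · rw [torsion_baseChange π hK₀]
      exact (FlatEt.torsion_iff q q' hq (K₀.liftQ π hK₀)).1 ((torsion_of_fpOn π hK₀ _).1 htor)
  · rintro ⟨K₀', hK₀', hfg, htor⟩
    obtain ⟨K₀, hK₀, hfg₀, hle⟩ := exists_fg_le π K₀' hK₀' hfg
    refine ⟨K₀, hK₀, hfg₀, ?_⟩
    rw [torsion_of_fpOn π hK₀]
    refine (FlatEt.torsion_iff q q' hq (K₀.liftQ π hK₀)).2 ?_
    refine (torsion_baseChange π hK₀ _).1 ?_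
    intro k hk
    obtain ⟨t, ht, htk⟩ := htor k hk
    exact ⟨t, ht, hle htk⟩

/-- torsion with respect to `powers g` can be tested at the primes not containing `g`. -/
theorem powers_torsion_iff (g : S) :
    (∀ k, π k = 0 → ∃ t ∈ (Submonoid.powers g : Set S), t • k = 0) ↔
      ∀ (m : Ideal S) [m.IsPrime], g ∉ m → ∀ k, π k = 0 → ∃ t, t ∉ m ∧ t • k = 0 := by
  constructor
  · intro h m _ hg k hk
    obtain ⟨_, ⟨n, rfl⟩, ht⟩ := h k hk
    exact ⟨g ^ n, fun hn ↦ hg (Ideal.IsPrime.mem_of_pow_mem inferInstance n hn), ht⟩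
  · intro h x hx
    let J : Ideal S := (Submodule.span S {x}).annihilator
    have hJ : ∀ a : S, a ∈ J ↔ a • x = 0 := fun a ↦ Submodule.mem_annihilator_span_singleton x a
    have hg : g ∈ J.radical := by
      rw [Ideal.radical_eq_sInf, Ideal.mem_sInf]
      rintro m ⟨hJm, hm⟩
      by_contra hgm
      obtain ⟨t, ht, htx⟩ := h m hgm x hx
      exact ht (hJm ((hJ t).2 htx))
    obtain ⟨n, hn⟩ := hg
    exact ⟨g ^ n, ⟨n, rfl⟩, (hJ _).1 hn⟩

theorem exists_fpOn_powers_baseChange_iff [Algebra.FinitePresentation S S'] (q : Ideal S) [q.IsPrime] (q' : Ideal S')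
    [q'.IsPrime] (hq : q'.comap (algebraMap S S') = q) :
    (∃ g, g ∉ q ∧ FPOn (Submonoid.powers g : Set S) π) ↔
      (∃ g, g ∉ q' ∧ FPOn (Submonoid.powers g : Set S') (π.baseChange S')) := by
  constructor
  · rintro ⟨g, hg, K₀, hK₀, hfg, htor⟩
    refine ⟨algebraMap S S' g, fun h' ↦ hg (by rw [← hq]; exact h'), K₀.baseChange S', ?_, ?_, ?_⟩
    · intro x hx
      rw [mem_baseChange_iff] at hx
      rw [LinearMap.mem_ker, ← liftQ_baseChange π K₀ hK₀, hx, map_zero]
    · obtain ⟨F, rfl⟩ := hfg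
      rw [Submodule.baseChange_span]
      exact Submodule.fg_span (F.finite_toSet.image _)
    · rw [torsion_baseChange π hK₀, powers_torsion_iff]
      intro m' _ hm'
      refine (FlatEt.torsion_iff (m'.comap (algebraMap S S')) m' rfl (K₀.liftQ π hK₀)).1 ?_
      exact (powers_torsion_iff (K₀.liftQ π hK₀) g).1 ((torsion_of_fpOn π hK₀ _).1 htor) _ hm'
  · rintro ⟨g', hg', K₀', hK₀', hfg, htor⟩
    obtain ⟨K₀, hK₀, hfg₀, hle⟩ := exists_fg_le π K₀' hK₀' hfg
    have hopen : IsOpenMap (PrimeSpectrum.comap (algebraMap S S')) :=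
      PrimeSpectrum.isOpenMap_comap_of_hasGoingDown_of_finitePresentation
    have hU := hopen _ (PrimeSpectrum.isOpen_basicOpen (a := g'))
    have hqU : (⟨q, inferInstance⟩ : PrimeSpectrum S) ∈
        PrimeSpectrum.comap (algebraMap S S') '' (PrimeSpectrum.basicOpen g' : Set (PrimeSpectrum S')) :=
      ⟨⟨q', inferInstance⟩, hg', PrimeSpectrum.ext hq⟩
    obtain ⟨_, ⟨g, rfl⟩, hqg, hgU⟩ :=
      PrimeSpectrum.isTopologicalBasis_basic_opens.exists_subset_of_mem_open hqU hU
    refine ⟨g, hqg, K₀, hK₀, hfg₀, ?_⟩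
    rw [torsion_of_fpOn π hK₀, powers_torsion_iff]
    intro m _ hm
    obtain ⟨m', hm', hmm'⟩ := hgU (show (⟨m, inferInstance⟩ : PrimeSpectrum S) ∈ _ from hm)
    have hm'm : m'.asIdeal.comap (algebraMap S S') = m := congr(PrimeSpectrum.asIdeal $hmm')
    refine (FlatEt.torsion_iff m m'.asIdeal hm'm (K₀.liftQ π hK₀)).2 ?_
    refine (powers_torsion_iff _ g').1 ?_ m'.asIdeal hm'
    rw [← torsion_baseChange π hK₀]
    intro k hk
    obtain ⟨t, ht, htk⟩ := htor k hk
    exact ⟨t, ht, hle htk⟩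

end Flat

section Finite

variable {B A : Type u} [CommRing B] [CommRing A] [Algebra B A] [Module.Finite B A]
    {P M : Type v} [AddCommGroup P] [Module A P] [Module B P] [IsScalarTower B A P]
    [AddCommGroup M] [Module A M] [Module B M] [IsScalarTower B A M] (π : P →ₗ[A] M)

omit [Module.Finite B A] in
theorem fpOn_of_restrictScalars (T : Set B) (T' : Set A) (hT : ∀ t ∈ T, algebraMap B A t ∈ T')
    (h : FPOn T (π.restrictScalars B)) : FPOn T' π := by
  obtain ⟨K₀, hK₀, ⟨F, rfl⟩, htor⟩ := h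
  refine ⟨Submodule.span A F, ?_, ⟨F, rfl⟩, ?_⟩
  · rw [Submodule.span_le]
    intro x hx
    exact hK₀ (Submodule.subset_span hx)
  · intro k hk
    obtain ⟨t, ht, htk⟩ := htor k hk
    refine ⟨algebraMap B A t, hT t ht, ?_⟩
    rw [algebraMap_smul]
    exact Submodule.span_le_restrictScalars B A _ htk

theorem fpOn_restrictScalars (T : Set B) (T' : Set A)
    (hT : ∀ t' ∈ T', ∃ (a : A) (t : B), t ∈ T ∧ a * t' = algebraMap B A t)
    (h : FPOn T' π) : FPOn T (π.restrictScalars B) := by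
  obtain ⟨K₀, hK₀, hfg, htor⟩ := h
  refine ⟨K₀.restrictScalars B, hK₀, hfg.restrictScalars, ?_⟩
  intro k hk
  obtain ⟨t', ht', htk⟩ := htor k hk
  obtain ⟨a, t, ht, hat⟩ := hT t' ht'
  refine ⟨t, ht, ?_⟩
  rw [Submodule.restrictScalars_mem, ← algebraMap_smul A t k, ← hat, mul_smul]
  exact K₀.smul_mem _ htk

theorem fpOn_restrictScalars_iff (q : Ideal B) (Q : Ideal A) (hQ : Q.comap (algebraMap B A) = q)
    (h : ∀ a : A, a ∉ Q → ∃ (a' : A) (s : B), s ∉ q ∧ a' * a = algebraMap B A s) :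
    FPOn {t | t ∉ q} (π.restrictScalars B) ↔ FPOn {t | t ∉ Q} π :=
  ⟨fpOn_of_restrictScalars π _ _ fun t ht h' ↦ ht (by rw [← hQ]; exact h'), fpOn_restrictScalars π _ _ h⟩

theorem exists_fpOn_powers_restrictScalars_iff (q : Ideal B) (Q : Ideal A)
    (hQ : Q.comap (algebraMap B A) = q)
    (h : ∀ a : A, a ∉ Q → ∃ (a' : A) (s : B), s ∉ q ∧ a' * a = algebraMap B A s) :
    (∃ g, g ∉ q ∧ FPOn (Submonoid.powers g : Set B) (π.restrictScalars B)) ↔
      (∃ g, g ∉ Q ∧ FPOn (Submonoid.powers g : Set A) π) := by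
  constructor
  · rintro ⟨g, hg, H⟩
    refine ⟨algebraMap B A g, fun h' ↦ hg (by rw [← hQ]; exact h'), fpOn_of_restrictScalars π _ _ ?_ H⟩
    rintro _ ⟨n, rfl⟩
    exact ⟨n, (map_pow _ _ _).symm⟩
  · rintro ⟨a, ha, H⟩
    obtain ⟨a', s, hs, hsa⟩ := h a ha
    refine ⟨s, hs, fpOn_restrictScalars π _ _ ?_ H⟩
    rintro _ ⟨n, rfl⟩
    exact ⟨a' ^ n, s ^ n, ⟨n, rfl⟩, by rw [map_pow, ← hsa, mul_pow]⟩

end Finite

end Groth.Agent.Flat2B.FPTransfer
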