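import Mathlib.RingTheory.IsTensorProduct
import Mathlib.RingTheory.TensorProduct.Basic

/-!
Existence of a model of the base change of an algebra `S` and of an `S`-module `N` along `R → A`, with all
the instances that the statements of the flatness block ask for.
-/

set_option autoImplicit false
universe u

namespace Groth.Agent.Flat2B.PushModel

open TensorProduct

attribute [local instance] Algebra.TensorProduct.rightAlgebra in
/-- Existence of models `SA` of `S ⊗ A` and `NA` of `SA ⊗ N`. -/
theorem exists_models {R S A : Type u} [CommRing R] [CommRing S] [CommRing A] [Algebra R S] [Algebra R A]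
    (N : Type u) [AddCommGroup N] [Module S N] :
    ∃ (SA NA : Type u) (_ : CommRing SA) (_ : Algebra R SA) (_ : Algebra S SA) (_ : Algebra A SA)
        (_ : IsScalarTower R S SA) (_ : IsScalarTower R A SA)
        (_ : Algebra.IsPushout R S A SA)
        (_ : AddCommGroup NA) (_ : Module SA NA) (_ : Module S NA) (_ : IsScalarTower S SA NA)
        (_ : Module A NA) (_ : IsScalarTower A SA NA)
        (f : N →ₗ[S] NA), IsBaseChange SA f := by
  refine ⟨S ⊗[R] A, (S ⊗[R] A) ⊗[S] N, inferInstance, inferInstance, inferInstance, inferInstance,
    inferInstance, inferInstance, inferInstance, inferInstance, inferInstance, inferInstance, inferInstance,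
    Module.compHom _ (algebraMap A (S ⊗[R] A)), ?_, TensorProduct.mk S (S ⊗[R] A) N 1,
    TensorProduct.isBaseChange S N _⟩
  let _ : Module A ((S ⊗[R] A) ⊗[S] N) := Module.compHom _ (algebraMap A (S ⊗[R] A))
  exact IsScalarTower.of_algebraMap_smul fun r x => rfl

end Groth.Agent.Flat2B.PushModel
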