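import Mathlib.Algebra.Exact.Basic
import Mathlib.Algebra.Module.Projective
import Mathlib.Algebra.Module.FinitePresentation
import Mathlib.LinearAlgebra.Pi
import Mathlib.LinearAlgebra.Quotient.Basic
import Mathlib.Algebra.DirectSum.Module

/-!
# Assembling a filtered module with projective pieces
-/

set_option autoImplicit false

namespace Groth.Agent.Flat2B.DevissageAux

universe u v

/-- splitting of an extension with projective quotient -/
theorem nonempty_equiv_prod {R : Type u} [CommRing R] {F M M' : Type v} [AddCommGroup F] [Module R F]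
    [AddCommGroup M] [Module R M] [AddCommGroup M'] [Module R M'] [Module.Projective R M']
    (a : F →ₗ[R] M) (ha : Function.Injective a) (g : M →ₗ[R] M') (hg : Function.Surjective g)
    (hag : Function.Exact a g) :
    Nonempty (M ≃ₗ[R] F × M') := by
  obtain ⟨l, hl⟩ := Module.projective_lifting_property g LinearMap.id hg
  exact ⟨(hag.splitSurjectiveEquiv ha ⟨l, hl⟩).1⟩

/-- a module with an iterated extension structure is the product of the pieces -/
theorem nonempty_equiv_pi {R : Type u} [CommRing R] (n : ℕ) :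
    ∀ (M F : ℕ → Type v) [∀ i, AddCommGroup (M i)] [∀ i, Module R (M i)]
      [∀ i, AddCommGroup (F i)] [∀ i, Module R (F i)]
      (_ : Nonempty (M n ≃ₗ[R] F n))
      (_ : ∀ i, i < n → Nonempty (M i ≃ₗ[R] F i × M (i + 1))),
      Nonempty (M 0 ≃ₗ[R] (∀ i : Fin (n + 1), F i)) := by
  induction n with
  | zero =>
    intro M F _ _ _ _ h0 _
    obtain ⟨e⟩ := h0
    exact ⟨e ≪≫ₗ (LinearEquiv.piUnique R (fun i : Fin 1 ↦ F i)).symm⟩
  | succ n ih =>
    intro M F _ _ _ _ hn hs
    obtain ⟨e⟩ := ih (fun i ↦ M (i + 1)) (fun i ↦ F (i + 1)) hn (fun i hi ↦ hs (i + 1) (by omega))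
    obtain ⟨e₀⟩ := hs 0 (by omega)
    exact ⟨e₀ ≪≫ₗ (LinearEquiv.refl R (F 0)).prodCongr e ≪≫ₗ
      Fin.consLinearEquiv R (fun i : Fin (n + 2) ↦ F i)⟩

theorem projective_pi (R : Type u) [CommRing R] (n : ℕ) (M : Type v) [AddCommGroup M] [Module R M]
    [Module.Projective R M] : Module.Projective R (Fin n → M) := by
  classical
  exact Module.Projective.of_equiv' (DirectSum.linearEquivFunOnFintype R (Fin n) (fun _ ↦ M))

end Groth.Agent.Flat2B.DevissageAux
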