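import Groth.Prelude.Def_FlatCA
import Groth.Agent.Flat2B.LocTransfer
import Mathlib.RingTheory.Smooth.Flat

/-!
# Scalar towers and finite presentation in a complete dévissage
-/

set_option autoImplicit false

namespace Groth.Agent.Flat2B.DevissageTower

universe u

variable {R S : Type u} [CommRing R] [CommRing S] [Algebra R S]
    {N : Type u} [AddCommGroup N] [Module S N] {rr : Ideal R} [rr.IsPrime]
    (D : FlatCA.CompleteDevissage R S N rr)

theorem tower_RAM (i : ℕ) : IsScalarTower R (D.A i) (D.M i) := by
  refine ⟨fun r a m ↦ ?_⟩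
  rw [← IsScalarTower.algebraMap_smul (D.B i) r a, ← IsScalarTower.algebraMap_smul (D.B i) r (a • m),
    smul_assoc]

theorem tower_RB'M (i : ℕ) : IsScalarTower R (D.B i) (D.M (i + 1)) := by
  have := tower_RAM D (i + 1)
  refine ⟨fun r b m ↦ ?_⟩
  rw [← IsScalarTower.algebraMap_smul (D.A (i + 1)) (r • b) m, ← IsScalarTower.algebraMap_smul (D.A (i + 1)) b m,
    ← IsScalarTower.algebraMap_smul (D.A (i + 1)) r (_ • m), smul_smul, IsScalarTower.algebraMap_apply R (D.B i) (D.A (i+1)),
    ← map_mul, Algebra.smul_def]

theorem tower_RSM : IsScalarTower R S (D.M 0) := by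
  have := tower_RAM D 0
  refine ⟨fun r b m ↦ ?_⟩
  rw [← IsScalarTower.algebraMap_smul (D.A 0) (r • b) m, ← IsScalarTower.algebraMap_smul (D.A 0) b m,
    ← IsScalarTower.algebraMap_smul (D.A 0) r (_ • m), smul_smul, IsScalarTower.algebraMap_apply R S (D.A 0),
    ← map_mul, Algebra.smul_def]

theorem finite_BM {i : ℕ} (hi : i < D.n) : Module.Finite (D.B i) (D.M i) := by
  have := D.finiteBA i hi
  have := D.finiteM i hi
  exact Module.Finite.trans (D.A i) (D.M i)

/-- `A i` is finitely presented over `B i`, if `A i` is of finite presentation over `R`. -/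
theorem fp_BA {i : ℕ} (hi : i < D.n) (hRA : Algebra.FinitePresentation R (D.A i)) :
    Algebra.FinitePresentation (D.B i) (D.A i) := by
  have := D.smooth i hi
  exact Algebra.FinitePresentation.of_restrict_scalars_finitePresentation R (D.B i) (D.A i)

theorem fp_RA [Algebra.FinitePresentation R S] {i : ℕ} (hi : i < D.n) :
    Algebra.FinitePresentation R (D.A i) := by
  cases i with
  | zero =>
    have := D.fpSA
    exact Algebra.FinitePresentation.trans R S (D.A 0)
  | succ i =>
    have := D.fpBA' i hi
    have := D.smooth i (by omega)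
    exact Algebra.FinitePresentation.trans R (D.B i) (D.A (i + 1))

/-- finite presentation of `M i` over `B i` and over `A i` are equivalent -/
theorem fp_BM_iff [Algebra.FinitePresentation R S] {i : ℕ} (hi : i < D.n) :
    Module.FinitePresentation (D.B i) (D.M i) ↔ Module.FinitePresentation (D.A i) (D.M i) := by
  have := D.finiteBA i hi
  have := fp_BA D hi (fp_RA D hi)
  exact LocTransfer.finitePresentation_iff_of_finite (D.B i) (D.A i) (D.M i)

theorem fp_B'M_iff {i : ℕ} (hi : i + 1 < D.n) :
    Module.FinitePresentation (D.B i) (D.M (i + 1)) ↔ Module.FinitePresentation (D.A (i + 1)) (D.M (i + 1)) := by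
  have := D.fpBA' i hi
  have : Module.Finite (D.B i) (D.A (i + 1)) := Module.Finite.of_surjective (Algebra.linearMap _ _) (D.surjBA' i hi)
  exact LocTransfer.finitePresentation_iff_of_finite (D.B i) (D.A (i + 1)) (D.M (i + 1))

theorem fp_S_iff :
    Module.FinitePresentation S N ↔ Module.FinitePresentation (D.A 0) (D.M 0) := by
  have := D.fpSA
  have : Module.Finite S (D.A 0) := Module.Finite.of_surjective (Algebra.linearMap _ _) D.surjSA
  rw [← LocTransfer.finitePresentation_iff_of_finite S (D.A 0) (D.M 0)]
  exact LinearEquiv.finitePresentation_iff D.isoN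

/-- the exact sequence `B_i^{r_i} → M_i → M_{i+1} → 0` -/
noncomputable def g {i : ℕ} (hi : i + 1 < D.n) : D.M i →ₗ[D.B i] D.M (i + 1) :=
  (D.isoCoker i hi).toLinearMap ∘ₗ (LinearMap.range (D.α i)).mkQ

theorem g_surjective {i : ℕ} (hi : i + 1 < D.n) : Function.Surjective (g D hi) :=
  (D.isoCoker i hi).surjective.comp (Submodule.mkQ_surjective _)

theorem ker_g {i : ℕ} (hi : i + 1 < D.n) : LinearMap.ker (g D hi) = LinearMap.range (D.α i) := by
  rw [g, LinearMap.ker_comp, LinearEquiv.ker, Submodule.comap_bot, Submodule.ker_mkQ]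

theorem exact_g {i : ℕ} (hi : i + 1 < D.n) : Function.Exact (D.α i) (g D hi) :=
  LinearMap.exact_iff.2 (ker_g D hi)

/-- `M (i+1)` is finitely presented over `B i` if `M i` is. -/
theorem fp_step {i : ℕ} (hi : i + 1 < D.n) (h : Module.FinitePresentation (D.B i) (D.M i)) :
    Module.FinitePresentation (D.B i) (D.M (i + 1)) := by
  refine Module.finitePresentation_of_surjective (g D hi) (g_surjective D hi) ?_
  rw [ker_g]
  exact Submodule.fg_range _

/-- `M i` is finitely presented over `B i` if `M (i+1)` is. -/
theorem fp_step' {i : ℕ} (hi : i + 1 < D.n) (hinj : Function.Injective (D.α i))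
    (h : Module.FinitePresentation (D.B i) (D.M (i + 1))) :
    Module.FinitePresentation (D.B i) (D.M i) := by
  have : Module.FinitePresentation (D.B i) (LinearMap.ker (g D hi)) := by
    rw [ker_g]
    exact Module.FinitePresentation.of_equiv (LinearEquiv.ofInjective (D.α i) hinj)
  exact Module.finitePresentation_of_ker (g D hi) (g_surjective D hi)

end Groth.Agent.Flat2B.DevissageTower
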