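import Groth.Agent.S0447
import Groth.Agent.S0582
import Groth.Agent.Flat2B.SmoothGeom
import Groth.Prelude.Def_FlatCA
import Mathlib.RingTheory.Smooth.Flat

/-!
# Projectivity of flat finitely presented algebras with geometrically integral fibres (ring form of S0447)
-/

set_option autoImplicit false

namespace Groth.Agent.Flat2B.ProjGeomInt

universe u

open AlgebraicGeometry CategoryTheory

/-- Ring form of Stacks 05FT. -/
theorem projective_of_geomIntegralFibres (R S : Type u) [CommRing R] [CommRing S] [Algebra R S]
    [Algebra.FinitePresentation R S] [Module.Flat R S] (h : FlatCA.GeomIntegralFibres R S) :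
    Module.Projective R S := by
  let f : Spec (.of S) ⟶ Spec (.of R) := Spec.map (CommRingCat.ofHom (algebraMap R S))
  have : Flat f := by
    rw [HasRingHomProperty.Spec_iff (P := @Flat)]
    exact (RingHom.flat_algebraMap_iff).2 inferInstance
  have : LocallyOfFinitePresentation f := by
    rw [HasRingHomProperty.Spec_iff (P := @LocallyOfFinitePresentation)]
    exact (RingHom.finitePresentation_algebraMap).2 inferInstance
  have : GeometricallyIntegral f := h
  have key := Groth.Agent.S0447.result f
  let _ : Algebra Γ(Spec (.of R), ⊤) Γ(Spec (.of S), ⊤) := (f.appTop).hom.toAlgebra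
  let eR : Γ(Spec (.of R), ⊤) ≃+* R := (Scheme.ΓSpecIso (.of R)).commRingCatIsoToRingEquiv
  let eS : Γ(Spec (.of S), ⊤) ≃+* S := (Scheme.ΓSpecIso (.of S)).commRingCatIsoToRingEquiv
  let _ := RingHomInvPair.of_ringEquiv eR
  let _ := RingHomInvPair.of_ringEquiv eR.symm
  have hcomm : ∀ x : Γ(Spec (.of R), ⊤), eS (f.appTop.hom x) = algebraMap R S (eR x) := by
    intro x
    have := Scheme.ΓSpecIso_naturality (CommRingCat.ofHom (algebraMap R S))
    exact congr($(this).hom x)
  let e₂ : Γ(Spec (.of S), ⊤) ≃ₛₗ[(eR : Γ(Spec (.of R), ⊤) →+* R)] S :=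
    { eS with
      map_smul' := by
        intro r x
        change eS (f.appTop.hom r * x) = eR r • eS x
        rw [map_mul, hcomm, Algebra.smul_def] }
  exact Module.Projective.of_equiv e₂

/-- A smooth algebra with geometrically irreducible fibres is projective as a module. -/
theorem projective_of_smooth (R S : Type u) [CommRing R] [CommRing S] [Algebra R S]
    [Algebra.Smooth R S] (h : FlatCA.GeomIrredFibres R S) :
    Module.Projective R S := by
  have := Groth.Agent.Flat2B.SmoothGeom.smooth_specMap R S
  have : GeometricallyIrreducible (Spec.map (CommRingCat.ofHom (algebraMap R S))) := h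
  exact projective_of_geomIntegralFibres R S
    (Groth.Agent.Flat2B.SmoothGeom.geometricallyIntegral_of_smooth _)

theorem geomIntegralFibres_of_smooth (R S : Type u) [CommRing R] [CommRing S] [Algebra R S]
    [Algebra.Smooth R S] (h : FlatCA.GeomIrredFibres R S) : FlatCA.GeomIntegralFibres R S := by
  have := Groth.Agent.Flat2B.SmoothGeom.smooth_specMap R S
  have : GeometricallyIrreducible (Spec.map (CommRingCat.ofHom (algebraMap R S))) := h
  exact Groth.Agent.Flat2B.SmoothGeom.geometricallyIntegral_of_smooth _

end Groth.Agent.Flat2B.ProjGeomInt
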