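import Groth.Agent.S1252
import Groth.Agent.S1253
import Groth.Agent.S1231
import Groth.Agent.Flat2A.FiberSupp
import Groth.Agent.Flat2B.DevissageBC
import Groth.Agent.Flat2B.EtaleNhd
import Groth.Agent.Flat2B.FlatEt
import Groth.Agent.Flat2B.FPTransfer
import Groth.Agent.Flat2B.PushModel

/-!
# Étale-local freeness over the local ring of an étale neighbourhood

The common core of Stacks Tags 05KY and 05I5.
-/

set_option autoImplicit false
universe u

namespace Groth.Agent.Flat2B.EtFree

open FlatCA TensorProduct IsLocalRing
open Groth.Agent.Flat2B.PointBC Groth.Agent.Flat2B.BCTools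

section Free

variable {A C : Type u} [CommRing A] [CommRing C] [Algebra A C] {M M' : Type u} [AddCommGroup M]
  [Module C M] [Module A M] [IsScalarTower A C M] [AddCommGroup M'] [Module C M']

theorem free_restrictScalars (e : M ≃ₗ[C] M') [Module.Free A M] :
    Module.Free A (RestrictScalars A C M') := by
  let e' : M ≃ₗ[A] RestrictScalars A C M' :=
    { (e.toAddEquiv.trans (RestrictScalars.addEquiv A C M').symm) with
      map_smul' := fun a m => by
        change (RestrictScalars.addEquiv A C M').symm (e (a • m)) = a • (RestrictScalars.addEquiv A C M').symm (e m)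
        rw [← algebraMap_smul C a m, map_smul]
        rfl }
  exact Module.Free.of_equiv e'

end Free

/-- the conclusion of the core theorem for a given model -/
def Concl {S : Type u} [CommRing S] (q : Ideal S) [q.IsPrime] (A SA NA : Type u) [CommRing A] [IsLocalRing A]
    [CommRing SA] [Algebra S SA] [Algebra A SA] [AddCommGroup NA] [Module SA NA] : Prop :=
  ∃ (C : Type u) (_ : CommRing C) (_ : Algebra SA C) (_ : Algebra A C)
    (_ : IsScalarTower A SA C) (_ : Algebra S C) (_ : IsScalarTower S SA C)
    (x' : Ideal C) (_ : x'.IsPrime), ResTriv q x' ∧ x'.LiesOver (maximalIdeal A) ∧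
    Algebra.Etale SA C ∧ Algebra.FinitePresentation A C ∧
    Module.FinitePresentation C (C ⊗[SA] NA) ∧
    Module.Free A (RestrictScalars A C (C ⊗[SA] NA))

section Case2

theorem concl_of_smul_eq_zero {R S : Type u} [CommRing R] [CommRing S] [Algebra R S]
    [Algebra.FinitePresentation R S]
    (N : Type u) [AddCommGroup N] [Module S N]
    (p : Ideal R) [p.IsPrime] (q : Ideal S) [q.IsPrime] [q.LiesOver p]
    {A : Type u} [CommRing A] [IsLocalRing A] [Algebra R A] (hA : ResTriv p (maximalIdeal A))
    (SA NA : Type u) [CommRing SA] [Algebra R SA] [Algebra S SA] [Algebra A SA]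
    [IsScalarTower R S SA] [IsScalarTower R A SA] [Algebra.IsPushout R S A SA]
    [AddCommGroup NA] [Module SA NA] [Module S NA] [IsScalarTower S SA NA]
    (f : N →ₗ[S] NA) (hf : IsBaseChange SA f)
    (g : S) (hg : g ∉ q) (hgN : ∀ n : N, g • n = 0) : Concl q A SA NA := by
  obtain ⟨Q, hQ, hqQ, hQm, -⟩ := exists_point (X₁ := SA) hA q
  have hqQl := hqQ.liesOver
  let g' := algebraMap S SA g
  have hg' : g' ∉ Q := fun h => hg (by rw [hqQl.over]; exact h)
  let C := Localization.Away g'
  let x' : Ideal C := Q.map (algebraMap SA C)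
  obtain ⟨hx', hx'Q⟩ := EtaleNhd.liesOver_map_away (R' := C) g' hg'
  have hnhd : IsEtaleNhd SA C Q x' := EtaleNhd.isEtaleNhd_of_isLocalization_away g' hg'
  have hx'm : x'.LiesOver (maximalIdeal A) := Ideal.LiesOver.trans x' Q (maximalIdeal A)
  have : Algebra.FinitePresentation A SA := finitePresentation_of_isPushout R S A SA
  have : Algebra.FinitePresentation A C :=
    have : Algebra.FinitePresentation SA C := IsLocalization.Away.finitePresentation g'
    Algebra.FinitePresentation.trans A SA C
  have hNA : ∀ n : NA, g' • n = 0 := by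
    intro n
    refine hf.inductionOn n (fun n => g' • n = 0) (smul_zero _) (fun x => ?_) (fun a n h => ?_)
      (fun x y hx hy => ?_)
    · rw [algebraMap_smul, ← map_smul, hgN, map_zero]
    · rw [smul_comm, h, smul_zero]
    · rw [smul_add, hx, hy, add_zero]
  have hsub : Subsingleton (C ⊗[SA] NA) := by
    refine subsingleton_of_forall_eq 0 fun y => ?_
    induction y using TensorProduct.induction_on with
    | zero => rfl
    | tmul c n =>
      obtain ⟨u, hu⟩ := IsLocalization.Away.algebraMap_isUnit (S := C) g'
      have : c = u * (↑u⁻¹ * c) := by rw [← mul_assoc, Units.mul_inv, one_mul]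
      rw [this, hu, ← Algebra.smul_def, TensorProduct.smul_tmul, hNA, TensorProduct.tmul_zero]
    | add x y hx hy => rw [hx, hy, add_zero]
  refine ⟨C, inferInstance, inferInstance, inferInstance, inferInstance, inferInstance, inferInstance,
    x', hx', hqQ.trans hnhd.2, hx'm, hnhd.1, inferInstance, inferInstance, ?_⟩
  have : Subsingleton (RestrictScalars A C (C ⊗[SA] NA)) := hsub
  exact Module.Free.of_subsingleton _ _

end Case2

section Case1

/-- The base change `SA → C` of the étale map `S_{R'} → S'` is étale. -/
theorem etale_aux {R S R' S' A SA C : Type u} [CommRing R] [CommRing S] [CommRing R'] [CommRing S']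
    [CommRing A] [CommRing SA] [CommRing C] [Algebra R S] [Algebra R R'] [Algebra S S'] [Algebra R' S']
    [Algebra R S'] [IsScalarTower R R' S'] [IsScalarTower R S S']
    [Algebra R' A] [Algebra R A] [IsScalarTower R R' A]
    [Algebra R SA] [Algebra S SA] [Algebra A SA]
    [IsScalarTower R S SA] [IsScalarTower R A SA] [Algebra.IsPushout R S A SA]
    [Algebra R' C] [Algebra S' C] [IsScalarTower R' S' C] [Algebra A C] [IsScalarTower R' A C]
    [Algebra.IsPushout R' S' A C] [Algebra S C] [IsScalarTower S S' C]
    [Algebra SA C] [IsScalarTower A SA C] [IsScalarTower S SA C]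
    [Algebra.Etale R R'] [Algebra.Etale S S'] : Algebra.Etale SA C := by
  let T := S ⊗[R] R'
  let _ : Algebra R' T := Algebra.TensorProduct.rightAlgebra
  have : Algebra.IsPushout R S R' T := inferInstance
  let fT : T →ₐ[R] S' := Algebra.pushoutDesc T (IsScalarTower.toAlgHom R S S')
    (IsScalarTower.toAlgHom R R' S') (fun _ _ => mul_comm _ _)
  have hfT1 : ∀ x, fT (algebraMap S T x) = algebraMap S S' x := fun x =>
    Algebra.pushoutDesc_left T _ _ _ x
  have hfT2 : ∀ x, fT (algebraMap R' T x) = algebraMap R' S' x := fun x =>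
    Algebra.pushoutDesc_right T _ _ _ x
  let _ : Algebra T S' := fT.toRingHom.toAlgebra
  have : IsScalarTower S T S' := IsScalarTower.of_algebraMap_eq fun x => (hfT1 x).symm
  have : IsScalarTower R' T S' := IsScalarTower.of_algebraMap_eq fun x => (hfT2 x).symm
  have : Algebra.Etale S T := etale_of_isPushout R R' S T
  have : Algebra.Etale T S' := Algebra.Etale.of_restrictScalars S T S'
  let _ : Algebra R' SA := ((algebraMap A SA).comp (algebraMap R' A)).toAlgebra
  have : IsScalarTower R' A SA := IsScalarTower.of_algebraMap_eq' rfl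
  have : IsScalarTower R R' SA := IsScalarTower.of_algebraMap_eq fun x => by
    rw [IsScalarTower.algebraMap_apply R' A SA, ← IsScalarTower.algebraMap_apply R R' A,
      ← IsScalarTower.algebraMap_apply R A SA]
  let fA : T →ₐ[R] SA := Algebra.pushoutDesc T (IsScalarTower.toAlgHom R S SA)
    (IsScalarTower.toAlgHom R R' SA) (fun _ _ => mul_comm _ _)
  have hfA1 : ∀ x, fA (algebraMap S T x) = algebraMap S SA x := fun x =>
    Algebra.pushoutDesc_left T _ _ _ x
  have hfA2 : ∀ x, fA (algebraMap R' T x) = algebraMap R' SA x := fun x =>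
    Algebra.pushoutDesc_right T _ _ _ x
  let _ : Algebra T SA := fA.toRingHom.toAlgebra
  have : IsScalarTower S T SA := IsScalarTower.of_algebraMap_eq fun x => (hfA1 x).symm
  have : IsScalarTower R' T SA := IsScalarTower.of_algebraMap_eq fun x => (hfA2 x).symm
  have : IsScalarTower R T SA := IsScalarTower.of_algebraMap_eq fun x => by
    rw [IsScalarTower.algebraMap_apply R S T, ← IsScalarTower.algebraMap_apply S T SA,
      ← IsScalarTower.algebraMap_apply R S SA]
  have hpo : Algebra.IsPushout R' T A SA := by
    have h1 : Algebra.IsPushout R R' S T := .symm inferInstance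
    have h2 : Algebra.IsPushout R A S SA := .symm inferInstance
    exact ((Algebra.IsPushout.comp_iff (T := A) (T' := SA) R R' S (S' := T)).1 h2).symm
  let _ : Algebra T C := ((algebraMap S' C).comp (algebraMap T S')).toAlgebra
  have : IsScalarTower T S' C := IsScalarTower.of_algebraMap_eq' rfl
  let _ : Algebra R C := ((algebraMap S C).comp (algebraMap R S)).toAlgebra
  have : IsScalarTower R S C := IsScalarTower.of_algebraMap_eq' rfl
  have : IsScalarTower T SA C := by
    let f1 : T →ₐ[R] C :=
      { (algebraMap T C : T →+* C) with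
        commutes' := fun r => by
          change algebraMap T C (algebraMap R T r) = algebraMap R C r
          rw [IsScalarTower.algebraMap_apply R S T, IsScalarTower.algebraMap_apply T S' C,
            ← IsScalarTower.algebraMap_apply S T S', ← IsScalarTower.algebraMap_apply S S' C,
            ← IsScalarTower.algebraMap_apply R S C] }
    let f2 : T →ₐ[R] C :=
      { ((algebraMap SA C).comp (algebraMap T SA) : T →+* C) with
        commutes' := fun r => by
          change algebraMap SA C (algebraMap T SA (algebraMap R T r)) = algebraMap R C r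
          rw [← IsScalarTower.algebraMap_apply R T SA, IsScalarTower.algebraMap_apply R S SA,
            ← IsScalarTower.algebraMap_apply S SA C,
            ← IsScalarTower.algebraMap_apply R S C] }
    have : f1 = f2 := by
      refine Algebra.IsPushout.algHom_ext (R := R) (S := S) (R' := R') (S' := T) (A := C) ?_ ?_
      · ext x
        change algebraMap T C (algebraMap R' T x) = algebraMap SA C (algebraMap T SA (algebraMap R' T x))
        rw [IsScalarTower.algebraMap_apply T S' C, ← IsScalarTower.algebraMap_apply R' T S',
          ← IsScalarTower.algebraMap_apply R' S' C, ← IsScalarTower.algebraMap_apply R' T SA,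
          IsScalarTower.algebraMap_apply R' A SA, ← IsScalarTower.algebraMap_apply A SA C,
          ← IsScalarTower.algebraMap_apply R' A C]
      · ext x
        change algebraMap T C (algebraMap S T x) = algebraMap SA C (algebraMap T SA (algebraMap S T x))
        rw [IsScalarTower.algebraMap_apply T S' C, ← IsScalarTower.algebraMap_apply S T S',
          ← IsScalarTower.algebraMap_apply S S' C, ← IsScalarTower.algebraMap_apply S T SA,
          ← IsScalarTower.algebraMap_apply S SA C]
    exact IsScalarTower.of_algebraMap_eq fun x => DFunLike.congr_fun this x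
  have : Algebra.IsPushout T S' SA C := StepBC.pushout_right R' T S' A SA C
  exact etale_of_isPushout T S' SA C

/-- Flatness at a prime over `R` and over the local ring `A` of an étale `R`-algebra agree. -/
theorem flatAt_iff_localRing {R R' A C : Type u} [CommRing R] [CommRing R'] [CommRing A] [CommRing C]
    [Algebra R R'] [Algebra.Etale R R'] [Algebra R' A] [Algebra R A] [IsScalarTower R R' A]
    [Algebra A C] [Algebra R' C] [IsScalarTower R' A C] [Algebra R C] [IsScalarTower R R' C]
    (p' : Ideal R') [p'.IsPrime] [IsLocalization.AtPrime A p']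
    (M : Type u) [AddCommGroup M] [Module C M] [Module A M] [IsScalarTower A C M]
    [Module R' M] [IsScalarTower R' C M] [Module R M] [IsScalarTower R C M]
    (x : Ideal C) [x.IsPrime] : FlatAt R x M ↔ FlatAt A x M := by
  have : IsScalarTower R R' M := IsScalarTower.of_algebraMap_smul fun r m => by
    rw [← algebraMap_smul C (algebraMap R R' r) m, ← IsScalarTower.algebraMap_apply R R' C,
      algebraMap_smul]
  rw [(S1231.result (R := R) (T := R') M x).1]
  unfold FlatAt
  have : IsScalarTower R' A (LocalizedModule x.primeCompl M) :=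
    IsScalarTower.of_algebraMap_smul fun r m => by
      rw [← algebraMap_smul C (algebraMap R' A r) m, ← IsScalarTower.algebraMap_apply R' A C,
        algebraMap_smul]
  exact (Module.flat_iff_of_isLocalization A p'.primeCompl _).symm

/-- The case of a complete dévissage. -/
theorem concl_of_devissage {R S : Type u} [CommRing R] [CommRing S] [Algebra R S]
    [Algebra.FinitePresentation R S]
    (N : Type u) [AddCommGroup N] [Module S N] [Module R N] [IsScalarTower R S N] [Module.Finite S N]
    (p : Ideal R) [p.IsPrime] (q : Ideal S) [q.IsPrime] [q.LiesOver p] (hflat : FlatCA.FlatAt R q N)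
    {R' S' : Type u} [CommRing R'] [CommRing S'] [Algebra R R'] [Algebra S S'] [Algebra R' S']
    [Algebra R S'] [IsScalarTower R R' S'] [IsScalarTower R S S']
    (p' : Ideal R') (q' : Ideal S') [p'.IsPrime] [q'.IsPrime]
    (hp : FlatCA.IsEtaleNhd R R' p p') (hq : FlatCA.IsEtaleNhd S S' q q') [q'.LiesOver p']
    (hdev : ∀ (N' : Type u) [AddCommGroup N'] [Module S' N'] [Module S N'] [IsScalarTower S S' N']
        (f : N →ₗ[S] N'), IsBaseChange S' f → FlatCA.HasCompleteDevissageAt R' S' N' p' q')
    {A : Type u} [CommRing A] [IsLocalRing A] [Algebra R' A] [IsLocalization.AtPrime A p']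
    [Algebra R A] [IsScalarTower R R' A]
    (SA NA : Type u) [CommRing SA] [Algebra R SA] [Algebra S SA] [Algebra A SA]
    [IsScalarTower R S SA] [IsScalarTower R A SA] [Algebra.IsPushout R S A SA]
    [AddCommGroup NA] [Module SA NA] [Module S NA] [IsScalarTower S SA NA]
    (f : N →ₗ[S] NA) (hf : IsBaseChange SA f) : Concl q A SA NA := by
  have hEtR := hp.1
  have hEtS := hq.1
  have hA : PointBC.ResTriv p' (maximalIdeal A) := resTriv_localization p' A
  obtain ⟨C, N'A, _, _, _, _, _, _, _, _, _, _, _, _, _, g, hg⟩ :=
    PushModel.exists_models (R := R') (S := S') (A := A) (S' ⊗[S] N)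
  let _ : Algebra S C := ((algebraMap S' C).comp (algebraMap S S')).toAlgebra
  have : IsScalarTower S S' C := IsScalarTower.of_algebraMap_eq' rfl
  let _ : Algebra R C := ((algebraMap S C).comp (algebraMap R S)).toAlgebra
  have : IsScalarTower R S C := IsScalarTower.of_algebraMap_eq' rfl
  have : IsScalarTower R R' C := IsScalarTower.of_algebraMap_eq fun r => by
    rw [IsScalarTower.algebraMap_apply R S C, IsScalarTower.algebraMap_apply S S' C,
      ← IsScalarTower.algebraMap_apply R S S', IsScalarTower.algebraMap_apply R R' S',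
      ← IsScalarTower.algebraMap_apply R' S' C]
  have : IsScalarTower R A C := IsScalarTower.of_algebraMap_eq fun r => by
    rw [IsScalarTower.algebraMap_apply R R' C, IsScalarTower.algebraMap_apply R' A C,
      ← IsScalarTower.algebraMap_apply R R' A]
  let fC : SA →ₐ[R] C := Algebra.pushoutDesc SA (IsScalarTower.toAlgHom R S C)
    (IsScalarTower.toAlgHom R A C) (fun _ _ => mul_comm _ _)
  have hfC1 : ∀ x, fC (algebraMap S SA x) = algebraMap S C x := fun x =>
    Algebra.pushoutDesc_left SA _ _ _ x
  have hfC2 : ∀ x, fC (algebraMap A SA x) = algebraMap A C x := fun x =>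
    Algebra.pushoutDesc_right SA _ _ _ x
  let _ : Algebra SA C := fC.toRingHom.toAlgebra
  have : IsScalarTower S SA C := IsScalarTower.of_algebraMap_eq fun x => (hfC1 x).symm
  have : IsScalarTower A SA C := IsScalarTower.of_algebraMap_eq fun x => (hfC2 x).symm
  have hEt : Algebra.Etale SA C := etale_aux (R := R) (S := S) (R' := R') (S' := S') (A := A)
  have hFP : Algebra.FinitePresentation A C := by
    have : Algebra.FinitePresentation R S' := Algebra.FinitePresentation.trans R S S'
    have : Algebra.FinitePresentation R' S' :=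
      Algebra.FinitePresentation.of_restrict_scalars_finitePresentation R R' S'
    exact finitePresentation_of_isPushout R' S' A C
  obtain ⟨x', hx', hqx', hmx', -⟩ := exists_point (X₁ := C) hA q'
  have hres : PointBC.ResTriv q x' := PointBC.ResTriv.trans (p₁ := q') hq.2 hqx'
  -- the dévissage over `A`
  let f' : N →ₗ[S] (S' ⊗[S] N) := TensorProduct.mk S S' N 1
  have hf' : IsBaseChange S' f' := TensorProduct.isBaseChange S N S'
  have hqx'l := hqx'.liesOver
  have hdevA : FlatCA.HasCompleteDevissageAt A C N'A (maximalIdeal A) x' :=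
    DevissageBC.hasCompleteDevissageAt_baseChange (hdev _ f' hf') hA g hg x'
  -- module structures
  let _ : Module S N'A := Module.compHom N'A (algebraMap S C)
  have : IsScalarTower S C N'A := IsScalarTower.of_algebraMap_smul fun _ _ => rfl
  let _ : Module R N'A := Module.compHom N'A (algebraMap R C)
  have : IsScalarTower R C N'A := IsScalarTower.of_algebraMap_smul fun _ _ => rfl
  let _ : Module R' N'A := Module.compHom N'A (algebraMap R' C)
  have : IsScalarTower R' C N'A := IsScalarTower.of_algebraMap_smul fun _ _ => rfl
  have : IsScalarTower S S' N'A := IsScalarTower.of_algebraMap_smul fun r m => by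
    rw [← algebraMap_smul C (algebraMap S S' r) m, ← IsScalarTower.algebraMap_apply S S' C,
      algebraMap_smul]
  let h : N →ₗ[S] N'A := (g.restrictScalars S).comp f'
  have hh : IsBaseChange C h := hf'.comp hg
  have : Module.Flat S C := by
    have : Module.Flat R' A := IsLocalization.flat A p'.primeCompl
    have : Algebra.IsPushout R' A S' C := .symm inferInstance
    have : Module.Flat S' C := flat_of_isPushout R' A S' C
    exact Module.Flat.trans S S' C
  have hxq : x'.comap (algebraMap S C) = q := hres.liesOver.over.symm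
  have hflatA : FlatCA.FlatAt A x' N'A := by
    rw [← flatAt_iff_localRing (R := R) p']
    exact (FlatEt.flatAt_baseChange_iff q x' hxq N N'A h hh).1 hflat
  have : Module.Finite C N'A := Module.Finite.equiv hh.equiv
  obtain ⟨D, hD⟩ := hdevA
  obtain ⟨h1, h2, -⟩ := S1253.result (R := A) (S := C) N'A x' hflatA D hD
  -- transfer
  have : IsScalarTower S SA (C ⊗[SA] NA) := inferInstance
  let k : N →ₗ[S] (C ⊗[SA] NA) := ((TensorProduct.mk SA C NA 1).restrictScalars S).comp f
  have hk : IsBaseChange C k := hf.comp (TensorProduct.isBaseChange SA NA C)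
  let e : N'A ≃ₗ[C] (C ⊗[SA] NA) := hh.equiv.symm.trans hk.equiv
  exact ⟨C, inferInstance, inferInstance, inferInstance, inferInstance, inferInstance, inferInstance,
    x', hx', hres, hmx', hEt, hFP, Module.FinitePresentation.of_equiv e, free_restrictScalars e⟩

end Case1

section Core

/-- If the point of the fibre is not in the support of the fibre module, an element outside `q`
kills `N`. -/
theorem exists_smul_eq_zero {R S : Type u} [CommRing R] [CommRing S] [Algebra R S]
    (N : Type u) [AddCommGroup N] [Module S N] [Module R N] [IsScalarTower R S N] [Module.Finite S N]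
    (p : Ideal R) [p.IsPrime] (q : Ideal S) [q.IsPrime] [q.LiesOver p]
    (hsupp : ¬ ∃ x ∈ Module.support (p.Fiber S) (FlatCA.fiberMod p S N), x.asIdeal = FlatCA.fiberIdeal p q) :
    ∃ g : S, g ∉ q ∧ ∀ n : N, g • n = 0 := by
  have h1 : (fiberIdeal p q).IsPrime := FibreBC.fiberIdeal_isPrime p q
  have h2 : (⟨fiberIdeal p q, h1⟩ : PrimeSpectrum (p.Fiber S)) ∉
      Module.support (p.Fiber S) (FlatCA.fiberMod p S N) := fun h => hsupp ⟨_, h, rfl⟩
  rw [Flat2A.FiberSupp.mem_support_fiberMod_iff] at h2
  obtain ⟨g, hg, hgq⟩ := Set.not_subset.1 h2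
  refine ⟨g, fun h => hgq ?_, fun n => Module.mem_annihilator.1 hg n⟩
  rw [← FibreBC.comap_fiberIdeal p q] at h
  exact h

theorem resTriv_of_nhd {R R' A : Type u} [CommRing R] [CommRing R'] [CommRing A] [Algebra R R']
    [aA : Algebra R' A] [aRA : Algebra R A] [t : IsScalarTower R R' A] {p : Ideal R} {p' : Ideal R'}
    [p.IsPrime] [p'.IsPrime] [IsLocalRing A] [l : IsLocalization.AtPrime A p']
    (hp : FlatCA.IsEtaleNhd R R' p p') : PointBC.ResTriv p (maximalIdeal A) :=
  PointBC.ResTriv.trans (p₁ := p') hp.2 (resTriv_localization p' A)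

theorem core {R S : Type u} [CommRing R] [CommRing S] [Algebra R S]
    [Algebra.FinitePresentation R S]
    (N : Type u) [AddCommGroup N] [Module S N] [Module R N] [IsScalarTower R S N] [Module.Finite S N]
    (p : Ideal R) [p.IsPrime] (q : Ideal S) [q.IsPrime] [q.LiesOver p] (hflat : FlatCA.FlatAt R q N) :
    ∃ (R' : Type u) (_ : CommRing R') (_ : Algebra R R') (p' : Ideal R') (_ : p'.IsPrime),
      FlatCA.IsEtaleNhd R R' p p' ∧
      ∀ (A : Type u) [CommRing A] [IsLocalRing A] [Algebra R' A] [IsLocalization.AtPrime A p']
        [Algebra R A] [IsScalarTower R R' A]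
        (SA NA : Type u) [CommRing SA] [Algebra R SA] [Algebra S SA] [Algebra A SA]
        [IsScalarTower R S SA] [IsScalarTower R A SA] [Algebra.IsPushout R S A SA]
        [AddCommGroup NA] [Module SA NA] [Module S NA] [IsScalarTower S SA NA]
        (f : N →ₗ[S] NA), IsBaseChange SA f → Concl q A SA NA := by
  by_cases hsupp : ∃ x ∈ Module.support (p.Fiber S) (FlatCA.fiberMod p S N),
    x.asIdeal = FlatCA.fiberIdeal p q
  · obtain ⟨R', S', _, _, _, _, _, _, _, _, p', q', _, _, hp, hq, hpq, hdev⟩ :=
      S1252.result N p q hsupp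
    refine ⟨R', inferInstance, inferInstance, p', inferInstance, hp, ?_⟩
    intro A _ _ _ _ _ _ SA NA _ _ _ _ _ _ _ _ _ _ _ f hf
    exact concl_of_devissage N p q hflat p' q' hp hq hdev SA NA f hf
  · obtain ⟨g, hg, hgN⟩ := exists_smul_eq_zero N p q hsupp
    refine ⟨R, inferInstance, inferInstance, p, inferInstance, EtaleNhd.isEtaleNhd_refl R p, ?_⟩
    intro A _ _ iA il i1 i2 SA NA _ _ _ _ _ _ _ _ _ _ _ f hf
    have hA : PointBC.ResTriv p (maximalIdeal A) :=
      resTriv_of_nhd (R := R) (R' := R) (aA := iA) (aRA := i1) (t := i2) (l := il)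
        (EtaleNhd.isEtaleNhd_refl R p)
    exact concl_of_smul_eq_zero N p q hA SA NA f hf g hg hgN

end Core

end Groth.Agent.Flat2B.EtFree
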