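import Groth.Agent.Flat2B.RepPred
import Mathlib.AlgebraicGeometry.Morphisms.Etale

/-!
# Predicates on `A`-algebras and on schemes over `Spec A`
-/

set_option autoImplicit false
universe u

open CategoryTheory CategoryTheory.Limits AlgebraicGeometry

namespace Groth.Agent.Flat2B.AlgPred

open RepPred

/-- A predicate on `A`-algebras, stable under base change and local for the etale topology. -/
structure EtAlgPred {A : Type u} [CommRing A]
    (P : ∀ (R : Type u) [CommRing R] [Algebra A R], Prop) : Prop where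
  map : ∀ (R R' : Type u) [CommRing R] [CommRing R'] [Algebra A R] [Algebra A R'] [Algebra R R']
    [IsScalarTower A R R'], P R → P R'
  desc : ∀ (R : Type u) [CommRing R] [Algebra A R] (ι : Type u) (R' : ι → Type u)
    [∀ i, CommRing (R' i)] [∀ i, Algebra A (R' i)] [∀ i, Algebra R (R' i)]
    [∀ i, IsScalarTower A R (R' i)] [∀ i, Algebra.Etale R (R' i)],
    (∀ (t : Ideal R) [t.IsPrime], ∃ (i : ι) (t' : Ideal (R' i)), t'.IsPrime ∧ t'.LiesOver t) →
    (∀ i, P (R' i)) → P R

variable {A : Type u} [CommRing A]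

/-- The predicate at a ring map. -/
def at' (P : ∀ (R : Type u) [CommRing R] [Algebra A R], Prop) (R : Type u) [CommRing R]
    (φ : A →+* R) : Prop := @P R _ φ.toAlgebra

theorem at'_algebraMap (P : ∀ (R : Type u) [CommRing R] [Algebra A R], Prop) (R : Type u)
    [CommRing R] [Algebra A R] : at' P R (algebraMap A R) ↔ P R := by
  unfold at'
  have : (algebraMap A R).toAlgebra = ‹Algebra A R› := Algebra.algebra_ext _ _ fun _ => rfl
  rw [this]

/-- The predicate on schemes over `Spec A` defined by a predicate on `A`-algebras. -/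
def toSch (P : ∀ (R : Type u) [CommRing R] [Algebra A R], Prop) :
    ∀ T : Scheme.{u}, (T ⟶ Spec (CommRingCat.of A)) → Prop := fun T h =>
  ∀ (R : CommRingCat.{u}) (t : Spec R ⟶ T) (φ : CommRingCat.of A ⟶ R), t ≫ h = Spec.map φ →
    at' P R φ.hom

variable {P : ∀ (R : Type u) [CommRing R] [Algebra A R], Prop}

theorem EtAlgPred.map' (hP : EtAlgPred P) {R R' : Type u} [CommRing R] [CommRing R'] (φ : A →+* R)
    (ψ : R →+* R') (h : at' P R φ) : at' P R' (ψ.comp φ) := by
  let _ := φ.toAlgebra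
  let _ := ψ.toAlgebra
  let _ := (ψ.comp φ).toAlgebra
  have : IsScalarTower A R R' := .of_algebraMap_eq fun _ => rfl
  exact hP.map R R' h

theorem toSch_Spec (hP : EtAlgPred P) {R : CommRingCat.{u}} (φ : CommRingCat.of A ⟶ R) :
    toSch P (Spec R) (Spec.map φ) ↔ at' P R φ.hom := by
  refine ⟨fun h => h R (𝟙 _) φ (Category.id_comp _), fun h R' t ψ ht => ?_⟩
  obtain ⟨θ, rfl⟩ := Spec.map_surjective t
  rw [← Spec.map_comp] at ht
  have := Spec.map_injective ht
  subst this
  exact hP.map' φ.hom θ.hom h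

theorem toSch_algebraMap (hP : EtAlgPred P) (R : Type u) [CommRing R] [Algebra A R] :
    toSch P (Spec (CommRingCat.of R)) (Spec.map (CommRingCat.ofHom (algebraMap A R))) ↔ P R := by
  rw [toSch_Spec hP]
  exact at'_algebraMap P R

theorem exists_affine_nhd (X : Scheme.{u}) (x : X) :
    ∃ (R : CommRingCat.{u}) (v : Spec R ⟶ X), IsOpenImmersion v ∧ x ∈ Set.range v := by
  obtain ⟨k, w, hw⟩ := X.affineCover.exists_eq x
  exact ⟨_, X.affineCover.f k, X.affineCover.map_prop k, w, hw⟩

theorem etSheafPred_toSch (hP : EtAlgPred P) : EtSheafPred (toSch P) where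
  map T T' g h hT R t φ ht := hT R (t ≫ g) φ (by rw [Category.assoc, ht])
  desc T h ι U g hg hcov hU R t φ ht := by
    -- choose affine etale neighbourhoods
    have key : ∀ r : Spec R, ∃ (R' : CommRingCat.{u}) (a : Spec R' ⟶ Spec R) (i : ι)
        (b : Spec R' ⟶ U i), Etale a ∧ r ∈ Set.range a ∧ a ≫ t = b ≫ g i := by
      intro r
      obtain ⟨i, y, hy⟩ := hcov (t r)
      have := hg i
      obtain ⟨z, hz1, hz2⟩ := Scheme.Pullback.exists_preimage_pullback (f := t) (g := g i) r y
        hy.symm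
      obtain ⟨R', v, hv, w, hw⟩ := exists_affine_nhd (pullback t (g i)) z
      refine ⟨R', v ≫ pullback.fst t (g i), i, v ≫ pullback.snd t (g i), inferInstance,
        ⟨w, ?_⟩, ?_⟩
      · rw [Scheme.Hom.comp_apply, hw, hz1]
      · rw [Category.assoc, pullback.condition, Category.assoc]
    choose R' a i b ha hr hab using key
    choose α hα using fun r => Spec.map_surjective (a r)
    let _ := φ.hom.toAlgebra
    let _ : ∀ r, Algebra R (R' r) := fun r => (α r).hom.toAlgebra
    let _ : ∀ r, Algebra A (R' r) := fun r => ((α r).hom.comp φ.hom).toAlgebra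
    have _ : ∀ r, IsScalarTower A R (R' r) := fun r => .of_algebraMap_eq fun _ => rfl
    have _ : ∀ r, Algebra.Etale R (R' r) := fun r => by
      have := ha r
      rw [← hα r, HasRingHomProperty.Spec_iff (P := @Etale)] at this
      exact this
    refine hP.desc R (Spec R) (fun r => R' r) ?_ ?_
    · intro p _
      obtain ⟨x, hx⟩ := hr ⟨p, ‹_›⟩
      refine ⟨⟨p, ‹_›⟩, x.asIdeal, x.2, ⟨?_⟩⟩
      rw [← hα] at hx
      exact congrArg PrimeSpectrum.asIdeal hx.symm
    · intro r
      refine hU (i r) (R' r) (b r) (φ ≫ α r) ?_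
      rw [← Category.assoc, ← hab, Category.assoc, ht, ← hα, Spec.map_comp]

/-- From schemes to algebras. -/
theorem exists_of_repOver_id (hP : EtAlgPred P) (h : RepOver (toSch P) (𝟙 _)) :
    ∃ (Z : Scheme.{u}) (i : Z ⟶ Spec (CommRingCat.of A)), Mono i ∧
      LocallyOfFinitePresentation i ∧ QuasiCompact i ∧
      ∀ (R : Type u) [CommRing R] [Algebra A R], P R ↔
        ∃ g, g ≫ i = Spec.map (CommRingCat.ofHom (algebraMap A R)) := by
  obtain ⟨Z, i, h1, h2, h3, h4⟩ := h
  refine ⟨Z, i, h1, h2, h3, fun R _ _ => ?_⟩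
  rw [← toSch_algebraMap hP, ← h4, Category.comp_id]

/-- From algebras to schemes. -/
theorem repOver_of_algebras (hP : EtAlgPred P) {A₁ : Type u} [CommRing A₁] [Algebra A A₁]
    (h : ∃ (Z : Scheme.{u}) (i : Z ⟶ Spec (CommRingCat.of A₁)), Mono i ∧
      LocallyOfFinitePresentation i ∧ QuasiCompact i ∧
      ∀ (R : Type u) [CommRing R] [Algebra A R] [Algebra A₁ R] [IsScalarTower A A₁ R], P R ↔
        ∃ g, g ≫ i = Spec.map (CommRingCat.ofHom (algebraMap A₁ R))) :
    RepOver (toSch P) (Spec.map (CommRingCat.ofHom (algebraMap A A₁))) := by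
  obtain ⟨Z, i, h1, h2, h3, h4⟩ := h
  have key : ∀ (R : CommRingCat.{u}) (φ : CommRingCat.of A₁ ⟶ R),
      toSch P (Spec R) (Spec.map φ ≫ Spec.map (CommRingCat.ofHom (algebraMap A A₁))) ↔
        ∃ g, g ≫ i = Spec.map φ := by
    intro R φ
    rw [← Spec.map_comp, toSch_Spec hP]
    let _ : Algebra A₁ R := φ.hom.toAlgebra
    let _ : Algebra A R := (φ.hom.comp (algebraMap A A₁)).toAlgebra
    have : IsScalarTower A A₁ R := .of_algebraMap_eq fun _ => rfl
    have := h4 R
    exact this
  have key' : ∀ (R : CommRingCat.{u}) (v : Spec R ⟶ Spec (CommRingCat.of A₁)),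
      toSch P (Spec R) (v ≫ Spec.map (CommRingCat.ofHom (algebraMap A A₁))) ↔
        ∃ g, g ≫ i = v := by
    intro R v
    obtain ⟨φ, rfl⟩ := Spec.map_surjective v
    exact key R φ
  refine ⟨Z, i, h1, h2, h3, fun T h => ⟨fun hT => ?_, ?_⟩⟩
  · refine factor_of_openCover i h T.affineCover fun k => ?_
    have aux : ∀ (U : Scheme.{u}) (v : U ⟶ T),
        toSch P U ((v ≫ h) ≫ Spec.map (CommRingCat.ofHom (algebraMap A A₁))) := fun U v => by
      rw [Category.assoc]
      exact (etSheafPred_toSch hP).map _ _ _ _ hT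
    exact (key' _ _).1 (aux _ _)
  · rintro ⟨g, rfl⟩ R t φ ht
    obtain ⟨ψ, hψ⟩ := Spec.map_surjective (t ≫ g ≫ i)
    have h5 := (key _ ψ).2 ⟨t ≫ g, by rw [hψ, Category.assoc]⟩
    have h6 : φ = CommRingCat.ofHom (algebraMap A A₁) ≫ ψ := by
      apply Spec.map_injective
      rw [← ht, Spec.map_comp, hψ]
      simp only [Category.assoc]
    rw [h6]
    rwa [← Spec.map_comp, toSch_Spec hP] at h5

end Groth.Agent.Flat2B.AlgPred
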