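import Groth.Prelude.Def_FlatCA
import Mathlib.RingTheory.Flat.EquationalCriterion
import Mathlib.RingTheory.Flat.Localization
import Mathlib.RingTheory.Artinian.Ring
import Mathlib.RingTheory.Nakayama
import Mathlib.LinearAlgebra.TensorProduct.RightExactness
import Mathlib.LinearAlgebra.TensorProduct.Quotient
import Mathlib.RingTheory.Flat.Stability

/-! Universal flattening of a module over an Artinian ring (Stacks 05PB). -/

set_option autoImplicit false
universe u v w

namespace Groth.Agent.Flat2B.ArtinFlat

open TensorProduct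

theorem injective_lTensor_of_ker {A : Type*} [CommRing A] {F N Q : Type*} [AddCommGroup F] [Module A F]
    [AddCommGroup N] [Module A N] [AddCommGroup Q] [Module A Q] (φ : F →ₗ[A] N) (hsurj : Function.Surjective φ)
    (h : ∀ (a : Q) (x : F), φ x = 0 → a ⊗ₜ[A] x = 0) : Function.Injective (φ.lTensor Q) := by
  rw [← LinearMap.ker_eq_bot, eq_bot_iff]
  intro z hz'
  have hex : Function.Exact (LinearMap.ker φ).subtype φ := LinearMap.exact_subtype_ker_map φ
  obtain ⟨y, rfl⟩ := (lTensor_exact Q hex hsurj _).mp hz'
  have : ∀ y : Q ⊗[A] (LinearMap.ker φ), (LinearMap.ker φ).subtype.lTensor Q y = 0 := by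
    intro y
    induction y with
    | zero => simp
    | add x y hx hy => rw [map_add, hx, hy, add_zero]
    | tmul a x =>
      rw [LinearMap.lTensor_tmul, Submodule.subtype_apply]
      exact h a x x.2
  exact this y

/-- Local case: the maximal ideal of `A` is nilpotent. -/
theorem exists_ideal_local {A : Type u} [CommRing A] (m : Ideal A) [hm : m.IsMaximal] (hnil : IsNilpotent m)
    (N : Type v) [AddCommGroup N] [Module A N] :
    ∃ I : Ideal A, ∀ (A' : Type w) [CommRing A'] [Algebra A A'],
      (Module.Flat A' (A' ⊗[A] N) ↔ I.map (algebraMap A A') = ⊥) := by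
  classical
  let _ : Field (A ⧸ m) := Ideal.Quotient.field m
  let V := N ⧸ (m • ⊤ : Submodule A N)
  let b := Module.Basis.ofVectorSpace (A ⧸ m) V
  let ι := Module.Basis.ofVectorSpaceIndex (A ⧸ m) V
  choose n hn using fun i : ι => Submodule.Quotient.mk_surjective (m • ⊤ : Submodule A N) (b i)
  let φ : (ι →₀ A) →ₗ[A] N := Finsupp.linearCombination A n
  -- coordinates
  let c : ι → N →ₗ[A] (A ⧸ m) := fun i =>
    ((b.coord i).restrictScalars A) ∘ₗ (Submodule.mkQ (m • ⊤ : Submodule A N))
  have hc : ∀ i l, c i (n l) = if l = i then 1 else 0 := by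
    intro i l
    change b.coord i (Submodule.Quotient.mk (n l)) = _
    rw [hn, Module.Basis.coord_apply, b.repr_self, Finsupp.single_apply]
  have hsurj : Function.Surjective φ := by
    have h1 : (⊤ : Submodule A N) ≤ LinearMap.range φ ⊔ m • ⊤ := by
      intro x _
      have hx : (Submodule.Quotient.mk x : V) = ∑ i ∈ (b.repr (Submodule.Quotient.mk x)).support,
          (b.repr (Submodule.Quotient.mk x)) i • b i := (b.linearCombination_repr _).symm
      choose a ha using fun i : ι => Ideal.Quotient.mk_surjective ((b.repr (Submodule.Quotient.mk x)) i)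
      have h2 : (Submodule.Quotient.mk x : V) = Submodule.Quotient.mk
          (∑ i ∈ (b.repr (Submodule.Quotient.mk x)).support, a i • n i) := by
        refine hx.trans ?_
        rw [← Submodule.mkQ_apply _ (∑ i ∈ (b.repr (Submodule.Quotient.mk x)).support, a i • n i), map_sum]
        refine Finset.sum_congr rfl fun i _ => ?_
        rw [map_smul, Submodule.mkQ_apply, hn, ← ha i]
        rfl
      rw [Submodule.Quotient.eq] at h2
      rw [← sub_add_cancel x (∑ i ∈ (b.repr (Submodule.Quotient.mk x)).support, a i • n i), add_comm]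
      refine Submodule.add_mem_sup ?_ h2
      refine Submodule.sum_mem _ fun i _ => Submodule.smul_mem _ _ ?_
      exact ⟨Finsupp.single i 1, by simp [φ]⟩
    obtain ⟨k, hk⟩ := hnil
    have h3 : ∀ k : ℕ, (⊤ : Submodule A N) ≤ LinearMap.range φ ⊔ m ^ k • ⊤ := by
      intro k
      induction k with
      | zero => simp
      | succ k ih =>
        refine ih.trans (sup_le le_sup_left ?_)
        refine (Submodule.smul_mono (le_refl (m ^ k)) h1).trans ?_
        rw [Submodule.smul_sup, ← Submodule.mul_smul, ← pow_succ]
        exact sup_le (Submodule.smul_le_right.trans le_sup_left) le_sup_right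
    have h4 := h3 k
    rw [hk] at h4
    simp only [Submodule.zero_eq_bot, Submodule.bot_smul, sup_bot_eq, top_le_iff] at h4
    exact LinearMap.range_eq_top.mp h4
  refine ⟨Ideal.span {a | ∃ x ∈ LinearMap.ker φ, ∃ i, x i = a}, fun A' _ _ => ⟨fun hflat => ?_, fun hI => ?_⟩⟩
  · rw [Ideal.map_span, Ideal.span_eq_bot]
    rintro _ ⟨_, ⟨x, hx, i, rfl⟩, rfl⟩
    -- relation
    by_contra hne
    have hi : i ∈ x.support := by
      rw [Finsupp.mem_support_iff]; rintro h; apply hne; rw [h, map_zero]
    have hrel : ∑ j : x.support, (algebraMap A A' (x j)) • ((1 : A') ⊗ₜ[A] n j) = 0 := by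
      have : (1 : A') ⊗ₜ[A] (φ x) = 0 := by rw [LinearMap.mem_ker.mp hx, tmul_zero]
      rw [Finsupp.linearCombination_apply, Finsupp.sum, tmul_sum] at this
      rw [Finset.sum_coe_sort x.support (fun j => (algebraMap A A' (x j)) • ((1 : A') ⊗ₜ[A] n j)), ← this]
      refine Finset.sum_congr rfl fun j _ => ?_
      rw [algebraMap_smul, tmul_smul]
    obtain ⟨κ, a, y, hy, ha⟩ := Module.Flat.isTrivialRelation_of_sum_smul_eq_zero hrel
    -- lift y
    have hsurj' : Function.Surjective (φ.lTensor A') := LinearMap.lTensor_surjective A' hsurj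
    choose w hw using fun j => hsurj' (y j)
    let e : A' ⊗[A] (ι →₀ A) ≃ₗ[A'] (ι →₀ A') := TensorProduct.finsuppScalarRight A A' A' ι
    let d : Fin κ → ι →₀ A' := fun j => e (w j)
    have hφe : ∀ z : ι →₀ A', φ.lTensor A' (e.symm z) = Finsupp.linearCombination A' (fun i => (1 : A') ⊗ₜ[A] n i) z := by
      intro z
      induction z using Finsupp.induction_linear with
      | zero => simp
      | add f g hf hg => rw [map_add, map_add, map_add, hf, hg]
      | single l a' =>
        have : e.symm (Finsupp.single l a') = a' ⊗ₜ[A] (Finsupp.single l (1 : A)) :=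
          finsuppScalarRight_symm_apply_single _ _
        rw [this, LinearMap.lTensor_tmul]
        simp [φ, TensorProduct.smul_tmul']
    -- coordinates mod m
    have hcoord : ∀ z : ι →₀ A', Finsupp.linearCombination A' (fun i => (1 : A') ⊗ₜ[A] n i) z = 0 →
        ∀ l, z l ∈ m.map (algebraMap A A') := by
      intro z hz l
      have h5 := congrArg ((c l).lTensor A') hz
      rw [map_zero, Finsupp.linearCombination_apply, Finsupp.sum, map_sum] at h5
      have h6 : ∑ i ∈ z.support, (c l).lTensor A' (z i • ((1 : A') ⊗ₜ[A] n i)) = (z l) ⊗ₜ[A] (1 : A ⧸ m) := by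
        simp only [TensorProduct.smul_tmul', smul_eq_mul, mul_one, LinearMap.lTensor_tmul, hc]
        by_cases hl : l ∈ z.support
        · rw [Finset.sum_eq_single l]
          · rw [if_pos rfl]
          · intro j _ hj
            rw [if_neg hj, tmul_zero]
          · exact fun h => absurd hl h
        · rw [Finset.sum_eq_zero]
          · rw [Finsupp.notMem_support_iff.mp hl, zero_tmul]
          · intro j hj
            rw [if_neg (by rintro rfl; exact hl hj), tmul_zero]
      rw [h6] at h5
      have h7 := congrArg (TensorProduct.tensorQuotEquivQuotSMul A' m) h5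
      rw [map_zero] at h7
      have h8 : (TensorProduct.tensorQuotEquivQuotSMul A' m) ((z l) ⊗ₜ[A] (1 : A ⧸ m)) = Submodule.Quotient.mk (z l) := by
        rw [show (1 : A ⧸ m) = Ideal.Quotient.mk m 1 from rfl, TensorProduct.tensorQuotEquivQuotSMul_tmul_mk, one_smul]
      rw [h8, Submodule.Quotient.mk_eq_zero, Ideal.smul_top_eq_map] at h7
      exact h7
    -- the matrix relation
    have hε : ∀ i : x.support, ∀ l : ι, (if (i : ι) = l then (1 : A') else 0) - ∑ j, a i j * d j l ∈ m.map (algebraMap A A') := by
      intro i l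
      have h9 : Finsupp.linearCombination A' (fun i => (1 : A') ⊗ₜ[A] n i)
          (Finsupp.single (i : ι) (1 : A') - ∑ j, a i j • d j) = 0 := by
        rw [map_sub, map_sum, Finsupp.linearCombination_single, one_smul, sub_eq_zero]
        refine (hy i).trans ?_
        refine Finset.sum_congr rfl fun j _ => ?_
        rw [map_smul, ← hφe, ← hw j]
        simp [d]
      have h10 := hcoord _ h9 l
      simpa [Finsupp.single_apply, Finsupp.finsetSum_apply] using h10
    let 𝔞 : Ideal A' := Ideal.span (Set.range fun j : x.support => algebraMap A A' (x j))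
    have hle : 𝔞 ≤ m.map (algebraMap A A') • 𝔞 := by
      rw [Ideal.span_le]
      rintro _ ⟨l, rfl⟩
      have h11 : algebraMap A A' (x l) = ∑ i : x.support, ((if (i : ι) = (l : ι) then (1 : A') else 0) - ∑ j, a i j * d j l) *
          algebraMap A A' (x i) := by
        have h12 : ∀ i : x.support, ((if (i : ι) = (l : ι) then (1 : A') else 0) - ∑ j, a i j * d j l) *
          algebraMap A A' (x i) = (if i = l then algebraMap A A' (x i) else 0) -
            ∑ j, (algebraMap A A' (x i) * a i j) * d j l := by
          intro i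
          rw [sub_mul, Finset.sum_mul]
          congr 1
          · by_cases h : i = l
            · subst h; simp
            · rw [if_neg h, if_neg (fun h' => h (Subtype.ext h')), zero_mul]
          · refine Finset.sum_congr rfl fun j _ => by ring
        simp_rw [h12]
        rw [Finset.sum_sub_distrib, Finset.sum_ite_eq' Finset.univ l, if_pos (Finset.mem_univ _), Finset.sum_comm]
        have : ∑ j, ∑ i : x.support, (algebraMap A A' (x i) * a i j) * d j l = 0 := by
          refine Finset.sum_eq_zero fun j _ => ?_
          rw [← Finset.sum_mul]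
          have := ha j
          simp only at this
          rw [this, zero_mul]
        rw [this, sub_zero]
      change algebraMap A A' (x l) ∈ m.map (algebraMap A A') • 𝔞
      rw [h11]
      refine Submodule.sum_mem _ fun i _ => ?_
      exact Submodule.smul_mem_smul (hε i l) (Ideal.subset_span ⟨i, rfl⟩)
    have hbot : 𝔞 = ⊥ := by
      refine Submodule.eq_bot_of_le_smul_of_le_jacobson_bot (m.map (algebraMap A A')) 𝔞 ?_ hle ?_
      · exact Submodule.fg_span (Set.finite_range _)
      · refine le_trans ?_ (Ideal.radical_le_jacobson)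
        obtain ⟨k, hk⟩ := hnil
        intro y hy
        refine ⟨k, ?_⟩
        have := Ideal.pow_mem_pow hy k
        rw [← Ideal.map_pow, hk] at this
        simpa using this
    apply hne
    have h13 : algebraMap A A' (x i) ∈ 𝔞 := Ideal.subset_span ⟨⟨i, hi⟩, rfl⟩
    rw [hbot] at h13
    exact h13
  · -- I A' = 0
    have hz : ∀ x ∈ LinearMap.ker φ, ∀ i, algebraMap A A' (x i) = 0 := by
      intro x hx i
      have : algebraMap A A' (x i) ∈ (Ideal.span {a | ∃ x ∈ LinearMap.ker φ, ∃ i, x i = a}).map (algebraMap A A') :=
        Ideal.mem_map_of_mem _ (Ideal.subset_span ⟨x, hx, i, rfl⟩)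
      rw [hI] at this
      exact this
    have hinj : Function.Injective (φ.lTensor A') := by
      refine injective_lTensor_of_ker φ hsurj fun a x hx => ?_
      conv_lhs => rw [← Finsupp.sum_single x]
      rw [Finsupp.sum, tmul_sum]
      refine Finset.sum_eq_zero fun i _ => ?_
      rw [← mul_one (x i), ← smul_eq_mul (x i), ← Finsupp.smul_single, ← smul_tmul,
        Algebra.smul_def, hz _ hx, zero_mul, zero_tmul]
    let e : A' ⊗[A] (ι →₀ A) ≃ₗ[A'] A' ⊗[A] N := LinearEquiv.ofBijective (φ.baseChange A')
      ⟨hinj, LinearMap.lTensor_surjective A' hsurj⟩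
    exact Module.Flat.of_linearEquiv e.symm

/-- Over an Artinian ring the flat locus of a base change is cut out by an ideal (Stacks 05PB, module form). -/
theorem exists_ideal {A : Type u} [CommRing A] [IsArtinianRing A] (N : Type v) [AddCommGroup N] [Module A N] :
    ∃ I : Ideal A, ∀ (A' : Type w) [CommRing A'] [Algebra A A'],
      (Module.Flat A' (A' ⊗[A] N) ↔ I.map (algebraMap A A') = ⊥) := by
  have hloc : ∀ m : MaximalSpectrum A, ∃ I : Ideal (Localization.AtPrime m.asIdeal),
      ∀ (A' : Type w) [CommRing A'] [Algebra (Localization.AtPrime m.asIdeal) A'],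
      (Module.Flat A' (A' ⊗[Localization.AtPrime m.asIdeal] ((Localization.AtPrime m.asIdeal) ⊗[A] N)) ↔
        I.map (algebraMap (Localization.AtPrime m.asIdeal) A') = ⊥) := by
    intro m
    refine exists_ideal_local (IsLocalRing.maximalIdeal (Localization.AtPrime m.asIdeal)) ?_ _
    rw [← IsLocalRing.jacobson_eq_maximalIdeal (⊥ : Ideal (Localization.AtPrime m.asIdeal)) bot_ne_top]
    exact IsArtinianRing.isNilpotent_jacobson_bot
  choose J hJ using hloc
  -- idempotents
  have hidem : ∀ m : MaximalSpectrum A, ∃ e : A, IsIdempotentElem e ∧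
      ({(⟨m.asIdeal, inferInstance⟩ : PrimeSpectrum A)} : Set (PrimeSpectrum A)) = PrimeSpectrum.basicOpen e := fun m =>
    PrimeSpectrum.exists_idempotent_basicOpen_eq_of_isClopen (isClopen_discrete _)
  choose e he he' using hidem
  have he1 : ∀ m : MaximalSpectrum A, algebraMap A (Localization.AtPrime m.asIdeal) (e m) = 1 := by
    intro m
    have h1 : e m ∉ m.asIdeal := by
      have : (⟨m.asIdeal, inferInstance⟩ : PrimeSpectrum A) ∈ (PrimeSpectrum.basicOpen (e m) : Set (PrimeSpectrum A)) := by
        rw [← he' m]; rfl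
      exact this
    have h2 : IsUnit (algebraMap A (Localization.AtPrime m.asIdeal) (e m)) :=
      IsLocalization.map_units (Localization.AtPrime m.asIdeal) (⟨e m, h1⟩ : m.asIdeal.primeCompl)
    have h3 : algebraMap A (Localization.AtPrime m.asIdeal) (e m) * algebraMap A (Localization.AtPrime m.asIdeal) (e m) =
      algebraMap A (Localization.AtPrime m.asIdeal) (e m) := (he m).map (algebraMap A (Localization.AtPrime m.asIdeal))
    exact h2.mul_left_cancel (by rw [mul_one]; exact h3)
  have he0 : ∀ m m' : MaximalSpectrum A, m ≠ m' → algebraMap A (Localization.AtPrime m'.asIdeal) (e m) = 0 := by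
    intro m m' hmm
    have h1 : e m ∈ m'.asIdeal := by
      by_contra hcon
      have : (⟨m'.asIdeal, inferInstance⟩ : PrimeSpectrum A) ∈ (PrimeSpectrum.basicOpen (e m) : Set (PrimeSpectrum A)) := hcon
      rw [← he' m, Set.mem_singleton_iff] at this
      apply hmm
      ext1
      exact (congrArg PrimeSpectrum.asIdeal this).symm
    have h2 : 1 - e m ∉ m'.asIdeal := fun h => by
      have := m'.asIdeal.add_mem h1 h
      rw [add_sub_cancel] at this
      exact (Ideal.ne_top_iff_one _).mp m'.isMaximal.ne_top this
    have h3 : IsUnit (algebraMap A (Localization.AtPrime m'.asIdeal) (1 - e m)) :=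
      IsLocalization.map_units (Localization.AtPrime m'.asIdeal) (⟨1 - e m, h2⟩ : m'.asIdeal.primeCompl)
    have h5 : algebraMap A (Localization.AtPrime m'.asIdeal) (1 - e m) * algebraMap A (Localization.AtPrime m'.asIdeal) (1 - e m) =
      algebraMap A (Localization.AtPrime m'.asIdeal) (1 - e m) := (he m).one_sub.map (algebraMap A (Localization.AtPrime m'.asIdeal))
    have h4 : algebraMap A (Localization.AtPrime m'.asIdeal) (1 - e m) = 1 :=
      h3.mul_left_cancel (by rw [mul_one]; exact h5)
    rw [map_sub, map_one] at h4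
    exact sub_eq_self.mp h4
  refine ⟨⨅ m : MaximalSpectrum A, (J m).comap (algebraMap A (Localization.AtPrime m.asIdeal)), fun A' _ _ => ?_⟩
  -- the key local equivalence
  have key : ∀ (Q : Ideal A') [Q.IsMaximal] (m : MaximalSpectrum A) [hQm : Q.LiesOver m.asIdeal],
      Module.Flat (Localization.AtPrime Q) ((Localization.AtPrime Q) ⊗[A'] (A' ⊗[A] N)) ↔
      ∀ y : A, algebraMap A (Localization.AtPrime m.asIdeal) y ∈ J m →
        algebraMap A (Localization.AtPrime Q) y = 0 := by
    intro Q _ m hQm
    let _ := Localization.AtPrime.algebraOfLiesOver m.asIdeal Q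
    have hst : IsScalarTower A (Localization.AtPrime m.asIdeal) (Localization.AtPrime Q) := inferInstance
    let e1 : (Localization.AtPrime Q) ⊗[A'] (A' ⊗[A] N) ≃ₗ[Localization.AtPrime Q] (Localization.AtPrime Q) ⊗[A] N :=
      AlgebraTensorModule.cancelBaseChange A A' (Localization.AtPrime Q) (Localization.AtPrime Q) N
    let e2 : (Localization.AtPrime Q) ⊗[Localization.AtPrime m.asIdeal] ((Localization.AtPrime m.asIdeal) ⊗[A] N)
        ≃ₗ[Localization.AtPrime Q] (Localization.AtPrime Q) ⊗[A] N :=
      AlgebraTensorModule.cancelBaseChange A (Localization.AtPrime m.asIdeal) (Localization.AtPrime Q) (Localization.AtPrime Q) N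
    have h1 : Module.Flat (Localization.AtPrime Q) ((Localization.AtPrime Q) ⊗[A'] (A' ⊗[A] N)) ↔
        Module.Flat (Localization.AtPrime Q) ((Localization.AtPrime Q) ⊗[Localization.AtPrime m.asIdeal]
          ((Localization.AtPrime m.asIdeal) ⊗[A] N)) :=
      ⟨fun _ => Module.Flat.of_linearEquiv (e2.trans e1.symm), fun _ => Module.Flat.of_linearEquiv (e1.trans e2.symm)⟩
    rw [h1, hJ m (Localization.AtPrime Q), Ideal.map_eq_bot_iff_le_ker]
    constructor
    · intro h y hy
      rw [IsScalarTower.algebraMap_apply A (Localization.AtPrime m.asIdeal) (Localization.AtPrime Q)]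
      exact h hy
    · intro h x hx
      obtain ⟨y, rfl⟩ := IsArtinianRing.localization_surjective m.asIdeal.primeCompl (Localization.AtPrime m.asIdeal) x
      have := h y hx
      rw [IsScalarTower.algebraMap_apply A (Localization.AtPrime m.asIdeal) (Localization.AtPrime Q)] at this
      exact this
  constructor
  · intro hflat
    rw [Ideal.map_eq_bot_iff_le_ker]
    intro x hx
    rw [RingHom.mem_ker]
    refine eq_zero_of_localization _ fun Q hQ => ?_
    let m : MaximalSpectrum A := ⟨Q.under A, inferInstance⟩
    have hlo : Q.LiesOver m.asIdeal := ⟨rfl⟩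
    have := (key Q m).mp inferInstance x ((Submodule.mem_iInf _).mp hx m)
    rw [← this, ← IsScalarTower.algebraMap_apply]
  · intro hI
    rw [Ideal.map_eq_bot_iff_le_ker] at hI
    refine Module.flat_of_isLocalized_maximal (R := A') A' (A' ⊗[A] N) (fun Q _ => (Localization.AtPrime Q) ⊗[A'] (A' ⊗[A] N))
      (fun Q _ => TensorProduct.mk A' (Localization.AtPrime Q) (A' ⊗[A] N) 1) fun Q hQ => ?_
    rw [← Module.flat_iff_of_isLocalization (Localization.AtPrime Q) Q.primeCompl]
    let m : MaximalSpectrum A := ⟨Q.under A, inferInstance⟩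
    have hlo : Q.LiesOver m.asIdeal := ⟨rfl⟩
    refine (key Q m).mpr fun y hy => ?_
    have h1 : e m * y ∈ ⨅ m : MaximalSpectrum A, (J m).comap (algebraMap A (Localization.AtPrime m.asIdeal)) := by
      rw [Submodule.mem_iInf]
      intro m'
      rw [Ideal.mem_comap, map_mul]
      by_cases h : m = m'
      · subst h; rw [he1, one_mul]; exact hy
      · rw [he0 m m' h, zero_mul]; exact zero_mem _
    have h2 : algebraMap A A' (e m * y) = 0 := hI h1
    have h3 := congrArg (algebraMap A' (Localization.AtPrime Q)) h2
    rw [map_zero, ← IsScalarTower.algebraMap_apply, map_mul] at h3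
    let _ := Localization.AtPrime.algebraOfLiesOver m.asIdeal Q
    have hst : IsScalarTower A (Localization.AtPrime m.asIdeal) (Localization.AtPrime Q) := inferInstance
    rwa [IsScalarTower.algebraMap_apply A (Localization.AtPrime m.asIdeal) (Localization.AtPrime Q) (e m), he1, map_one,
      one_mul] at h3

end Groth.Agent.Flat2B.ArtinFlat
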