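import Groth.Agent.Flat2B.InjTransfer
import Groth.Agent.Flat2B.LocTransfer

set_option autoImplicit false
universe u

namespace Groth.Agent.Flat2B.AvoidAss

open TensorProduct Flat2A.Fiber Flat2A.FiberAss FibKer InjTransfer

section

variable {R S : Type u} [CommRing R] [CommRing S] [Algebra R S]
  {N : Type u} [AddCommGroup N] [Module S N] [Module R N] [IsScalarTower R S N]

/-- some `h ∉ q` lies in all associated primes of the fibre not contained in `q`; for such `h` an element `g`
avoiding the associated primes contained in `q` acts injectively on the fibre after inverting `h`. -/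
theorem exists_notMem_avoid (N : Type u) [AddCommGroup N] [Module S N] [Module R N] [IsScalarTower R S N]
    [Module.Finite S N] (p : Ideal R) [p.IsPrime] (q : Ideal S) [q.IsPrime]
    [IsNoetherianRing (p.Fiber S)] :
    ∃ h ∉ q, ∀ g : S, (∀ P ∈ associatedPrimes S (FlatCA.fiberMod p S N), P ≤ q → g ∉ P) →
      ∀ x : FlatCA.fiberMod p S N, g • x = 0 → ∃ k : ℕ, h ^ k • x = 0 := by
  classical
  have : Module.Finite (p.Fiber S) (FlatCA.fiberMod p S N) := fiberMod_finite N p
  have hfin : (associatedPrimes S (FlatCA.fiberMod p S N)).Finite := associatedPrimes_fiberMod_finite p N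
  have h1 : ∀ P : Ideal S, ¬ P ≤ q → ∃ g ∈ P, g ∉ q := fun P hP => SetLike.not_le_iff_exists.mp hP
  choose! c hc hc' using h1
  let T := hfin.toFinset.filter (fun P => ¬ P ≤ q)
  let h : S := ∏ P ∈ T, c P
  have hhq : h ∉ q := by
    intro hmem
    rw [Ideal.IsPrime.prod_mem_iff] at hmem
    obtain ⟨P, hP, hP'⟩ := hmem
    exact hc' P (Finset.mem_filter.mp hP).2 hP'
  refine ⟨h, hhq, ?_⟩
  intro g hg x hx
  by_contra hcon
  push Not at hcon
  -- the set of annihilators
  let X := FlatCA.fiberMod p S N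
  let F := p.Fiber S
  let Ω : Set (Ideal F) := {I | ∃ y : X, g • y = 0 ∧ (∀ k : ℕ, h ^ k • y ≠ 0) ∧ I = (⊥ : Submodule F X).colon {y}}
  have hΩ : Ω.Nonempty := ⟨_, x, hx, hcon, rfl⟩
  obtain ⟨I, hI, hmax⟩ := set_has_maximal_iff_noetherian.mpr (inferInstance : IsNoetherian F F) Ω hΩ
  obtain ⟨y, hgy, hhy, hIy⟩ := hI
  have hmem : ∀ (a : F) (y : X), a ∈ (⊥ : Submodule F X).colon {y} ↔ a • y = 0 := by
    intro a y
    rw [Submodule.mem_colon_singleton, Submodule.mem_bot]
  have hsmul : ∀ (s : S) (a : F) (y : X), s • (a • y) = a • (s • y) := by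
    intro s a y
    rw [smul_fiberMod p N s, smul_fiberMod p N s y, smul_smul, smul_smul, mul_comm]
  have hle : ∀ (a : F) (y : X), (⊥ : Submodule F X).colon {y} ≤ (⊥ : Submodule F X).colon {a • y} := by
    intro a y b hb
    rw [hmem] at hb ⊢
    rw [smul_smul, mul_comm, mul_smul, hb, smul_zero]
  have hprime : Ideal.IsPrime (I : Ideal F) := by
    refine ⟨?_, ?_⟩
    · intro htop
      have : (1 : F) ∈ I := by rw [htop]; trivial
      rw [hIy, hmem, one_smul] at this
      exact hhy 0 (by rw [this, smul_zero])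
    · intro a b hab
      change a * b ∈ I at hab
      by_contra hcon2
      push Not at hcon2
      obtain ⟨ha, hb⟩ := hcon2
      -- b • y is nonzero; is it killed by a power of h?
      by_cases hk : ∀ k : ℕ, h ^ k • (b • y) ≠ 0
      · have h2 : (⊥ : Submodule F X).colon {b • y} ∈ Ω := by
          refine ⟨b • y, ?_, hk, rfl⟩
          rw [hsmul, hgy, smul_zero]
        have h3 := hmax _ h2
        have h4 : I ≤ (⊥ : Submodule F X).colon {b • y} := by
          rw [hIy]; exact hle b y
        have h5 : a ∈ (⊥ : Submodule F X).colon {b • y} := by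
          rw [hmem, smul_smul, ← hmem, ← hIy]
          exact hab
        exact h3 (lt_of_le_of_ne h4 (fun heq => ha (by rw [heq]; exact h5)))
      · push Not at hk
        obtain ⟨k, hk⟩ := hk
        have h2 : (⊥ : Submodule F X).colon {h ^ k • y} ∈ Ω := by
          refine ⟨h ^ k • y, ?_, ?_, rfl⟩
          · rw [smul_comm, hgy, smul_zero]
          · intro j
            rw [smul_smul, ← pow_add]
            exact hhy _
        have h3 := hmax _ h2
        have h4 : I ≤ (⊥ : Submodule F X).colon {h ^ k • y} := by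
          rw [hIy, smul_fiberMod p N (h ^ k)]
          exact hle _ y
        have h5 : b ∈ (⊥ : Submodule F X).colon {h ^ k • y} := by
          rw [hmem, ← hsmul]
          exact hk
        exact h3 (lt_of_le_of_ne h4 (fun heq => hb (by rw [heq]; exact h5)))
  let P : Ideal S := Ideal.comap (toFiber p S) I
  have hPprime : P.IsPrime := inferInstance
  have hPcolon : P = (⊥ : Submodule S X).colon {y} := by
    rw [colon_comap p N y, ← hIy]
  have hPass : P ∈ associatedPrimes S X := by
    refine ⟨hPprime, y, ?_⟩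
    rw [← hPcolon, hPprime.radical]
  have hgP : g ∈ P := by
    rw [hPcolon, Submodule.mem_colon_singleton, Submodule.mem_bot]
    exact hgy
  have hhP : h ∉ P := by
    rw [hPcolon, Submodule.mem_colon_singleton, Submodule.mem_bot]
    have := hhy 1
    rwa [pow_one] at this
  by_cases hPq : P ≤ q
  · exact hg P hPass hPq hgP
  · apply hhP
    have hPT : P ∈ T := Finset.mem_filter.mpr ⟨hfin.mem_toFinset.mpr hPass, hPq⟩
    exact Ideal.mem_of_dvd _ (Finset.dvd_prod_of_mem _ hPT) (hc P hPq)

/-- Transfer to the localization `S_h ⊗ N`. -/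
theorem lTensor_injective_away (p : Ideal R) [p.IsPrime] (h g : S)
    (hg : ∀ x : FlatCA.fiberMod p S N, g • x = 0 → ∃ k : ℕ, h ^ k • x = 0) :
    Function.Injective ((mulBy R ((Localization.Away h) ⊗[S] N) (algebraMap S (Localization.Away h) g)).lTensor
      p.ResidueField) := by
  let S₀ := Localization.Away h
  rw [lTensor_injective_iff_reg]
  let X := N ⊗[R] p.ResidueField
  let e : (S₀ ⊗[S] N) ⊗[R] p.ResidueField ≃ₗ[S₀] S₀ ⊗[S] X :=
    TensorProduct.AlgebraTensorModule.assoc R S S₀ S₀ N p.ResidueField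
  apply reg_of_equiv e.symm
  have hX : ∀ x : X, g • x = 0 → ∃ k : ℕ, h ^ k • x = 0 := by
    intro x hx
    obtain ⟨k, hk⟩ := hg ((fiberModEquiv (S := S) p N).symm x) (by rw [← map_smul, hx, map_zero])
    refine ⟨k, ?_⟩
    apply (fiberModEquiv (S := S) p N).symm.injective
    rw [map_smul, hk, map_zero]
  have key : ∀ y : S₀ ⊗[S] X, (algebraMap S S₀ g) • y = 0 → y = 0 := by
    intro y hy
    let ι := TensorProduct.mk S S₀ X 1
    obtain ⟨⟨x, s⟩, hxs⟩ := IsLocalizedModule.surj (Submonoid.powers h) ι y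
    have hxs' : (s : S) • y = ι x := hxs
    have h1 : ι (g • x) = 0 := by
      rw [map_smul, ← hxs', smul_comm, ← algebraMap_smul S₀ g, hy, smul_zero]
    rw [IsLocalizedModule.eq_zero_iff (Submonoid.powers h)] at h1
    obtain ⟨⟨_, k, rfl⟩, hk⟩ := h1
    have hk' : h ^ k • (g • x) = 0 := hk
    rw [smul_comm] at hk'
    obtain ⟨j, hj⟩ := hX _ hk'
    have h2 : ι x = 0 := by
      rw [IsLocalizedModule.eq_zero_iff (Submonoid.powers h)]
      refine ⟨⟨h ^ (j + k), j + k, rfl⟩, ?_⟩
      change h ^ (j + k) • x = 0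
      rw [pow_add, mul_smul, hj]
    rw [h2] at hxs'
    have h3 : s • y = s • (0 : S₀ ⊗[S] X) := by rw [smul_zero]; exact hxs'
    exact IsLocalizedModule.smul_injective ι s h3
  intro y y' hyy
  rw [← sub_eq_zero]
  apply key
  rw [smul_sub, sub_eq_zero]
  exact hyy

/-- Localizing at `h ∉ q` does not change the localization at `q`. -/
theorem isLocalizedModule_comp {S : Type u} [CommRing S] (T T' : Submonoid S) (hT : T ≤ T') {N N₀ N' : Type u}
    [AddCommMonoid N] [Module S N] [AddCommMonoid N₀] [Module S N₀] [AddCommMonoid N'] [Module S N']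
    (f : N →ₗ[S] N₀) (f' : N₀ →ₗ[S] N') [IsLocalizedModule T f] [IsLocalizedModule T' f'] :
    IsLocalizedModule T' (f' ∘ₗ f) := by
  constructor
  · exact IsLocalizedModule.map_units f'
  · intro y
    obtain ⟨⟨n₀, s⟩, hs⟩ := IsLocalizedModule.surj T' f' y
    obtain ⟨⟨n, t⟩, ht⟩ := IsLocalizedModule.surj T f n₀
    refine ⟨⟨n, ⟨t, hT t.2⟩ * s⟩, ?_⟩
    change (((t : S) * s) • y) = f' (f n)
    have hs' : (s : S) • y = f' n₀ := hs
    have ht' : (t : S) • n₀ = f n := ht
    rw [mul_smul, hs', ← map_smul, ht']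
  · intro x y hxy
    obtain ⟨s, hs⟩ := IsLocalizedModule.exists_of_eq (S := T') (f := f') hxy
    have hs' : (s : S) • f x = (s : S) • f y := hs
    rw [← map_smul, ← map_smul] at hs'
    obtain ⟨t, ht⟩ := IsLocalizedModule.exists_of_eq (S := T) (f := f) hs'
    refine ⟨⟨t, hT t.2⟩ * s, ?_⟩
    change (((t : S) * s) • x) = (((t : S) * s) • y)
    rw [mul_smul, mul_smul]
    exact ht

theorem flatAt_away (q : Ideal S) [q.IsPrime] (h : S) (hq : h ∉ q) (q₀ : Ideal (Localization.Away h)) [q₀.IsPrime]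
    (hq₀ : q₀.comap (algebraMap S (Localization.Away h)) = q) (hflat : FlatCA.FlatAt R q N) :
    FlatCA.FlatAt R q₀ ((Localization.Away h) ⊗[S] N) := by
  let S₀ := Localization.Away h
  rw [← LocTransfer.flatAt_iff_of_exists_mul (R := R) q q₀ hq₀ (by
    intro a ha
    obtain ⟨⟨s, t⟩, hst⟩ := IsLocalization.surj (Submonoid.powers h) a
    refine ⟨algebraMap S S₀ t, s, ?_, ?_⟩
    · intro hs
      apply ha
      rw [← hq₀, Ideal.mem_comap, ← hst] at hs
      rcases Ideal.IsPrime.mem_or_mem ‹q₀.IsPrime› hs with h1 | h1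
      · exact h1
      · exact absurd (Ideal.eq_top_of_isUnit_mem _ h1 (IsLocalization.map_units S₀ t)) (Ideal.IsPrime.ne_top ‹_›)
    · rw [mul_comm]; exact hst) (S₀ ⊗[S] N)]
  have hle : Submonoid.powers h ≤ q.primeCompl := by
    rw [Submonoid.powers_le]
    exact hq
  have hloc : IsLocalizedModule q.primeCompl
      (LocalizedModule.mkLinearMap q.primeCompl (S₀ ⊗[S] N) ∘ₗ (TensorProduct.mk S S₀ N 1)) :=
    isLocalizedModule_comp (Submonoid.powers h) q.primeCompl hle (TensorProduct.mk S S₀ N 1)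
      (LocalizedModule.mkLinearMap q.primeCompl (S₀ ⊗[S] N))
  rw [LocTransfer.flatAt_iff_of_isLocalizedModule q N (N' := LocalizedModule q.primeCompl (S₀ ⊗[S] N))
    (LocalizedModule.mkLinearMap q.primeCompl (S₀ ⊗[S] N) ∘ₗ (TensorProduct.mk S S₀ N 1))] at hflat
  exact hflat

end

end Groth.Agent.Flat2B.AvoidAss
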