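import Groth.Prelude.Def_FlatCA
import Groth.Agent.Flat2C.UnivInjMod
import Groth.Agent.Flat2A.GeomInt
import Mathlib.RingTheory.Flat.Localization

/-!
# Elements outside of `t D` for all `t`, for `D` projective with geometrically integral fibres
-/

set_option autoImplicit false

universe u v

namespace Groth.Agent.Flat2B.GenPt

open TensorProduct

theorem mem_map_of_tmul_eq_zero {A D K : Type u} [CommRing A] [CommRing D] [Algebra A D] [Module.Flat A D]
    [CommRing K] [Algebra A K] (h : D) (hh : (1 : K) ⊗ₜ[A] h = 0) :
    h ∈ (RingHom.ker (algebraMap A K)).map (algebraMap A D) := by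
  set t := RingHom.ker (algebraMap A K) with ht
  let f : (A ⧸ t) →+* K := RingHom.kerLift (algebraMap A K)
  have hf : Function.Injective f := RingHom.kerLift_injective (algebraMap A K)
  let g : (A ⧸ t) →ₗ[A] K :=
    { toFun := f
      map_add' := f.map_add
      map_smul' := by
        intro a x
        obtain ⟨x, rfl⟩ := Ideal.Quotient.mk_surjective x
        rw [Algebra.smul_def, Algebra.smul_def, Ideal.Quotient.algebraMap_eq, ← map_mul]
        change algebraMap A K (a * x) = algebraMap A K a * algebraMap A K x
        rw [map_mul] }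
  have hg : Function.Injective g := hf
  have h1 : Function.Injective (g.rTensor D) := Module.Flat.rTensor_preserves_injective_linearMap g hg
  have h2 : (1 : A ⧸ t) ⊗ₜ[A] h = 0 := by
    apply h1
    rw [LinearMap.rTensor_tmul, map_zero]
    have : g (1 : A ⧸ t) = 1 := map_one f
    rw [this, hh]
  have h3 := (Groth.Agent.Flat2C.UnivInjMod.mem_smul_top_iff t h).2 h2
  rwa [Ideal.smul_top_eq_map, Submodule.restrictScalars_mem] at h3

variable {A D : Type u} [CommRing A] [CommRing D] [Algebra A D]

theorem lTensor_mulLeft_iff (R : Type u) [CommRing R] [Algebra A R] (h : D) (Q : Type u) [AddCommGroup Q]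
    [Module R Q] [Module A Q] [IsScalarTower A R Q] :
    Function.Injective ((LinearMap.mulLeft R ((1 : R) ⊗ₜ[A] h)).lTensor Q) ↔
      Function.Injective ((LinearMap.mulLeft A h).lTensor Q) := by
  let e : Q ⊗[R] (R ⊗[A] D) ≃ₗ[R] Q ⊗[A] D := AlgebraTensorModule.cancelBaseChange A R R Q D
  have key : ∀ z, e ((LinearMap.mulLeft R ((1 : R) ⊗ₜ[A] h)).lTensor Q z) =
      (LinearMap.mulLeft A h).lTensor Q (e z) := by
    intro z
    induction z using TensorProduct.induction_on with
    | zero => simp
    | add x y hx hy => simp only [map_add, hx, hy]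
    | tmul q z =>
      induction z using TensorProduct.induction_on with
      | zero => simp
      | add x y hx hy => simp only [TensorProduct.tmul_add, map_add, hx, hy]
      | tmul r d =>
        simp only [LinearMap.lTensor_tmul, LinearMap.mulLeft_apply, Algebra.TensorProduct.tmul_mul_tmul,
          one_mul, e, AlgebraTensorModule.cancelBaseChange_tmul]
  have key' : (⇑e) ∘ ((LinearMap.mulLeft R ((1 : R) ⊗ₜ[A] h)).lTensor Q) =
      ((LinearMap.mulLeft A h).lTensor Q) ∘ (⇑e) := funext key
  constructor
  · intro H
    have h1 := e.injective.comp H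
    rw [key'] at h1
    intro x y hxy
    obtain ⟨x, rfl⟩ := e.surjective x
    obtain ⟨y, rfl⟩ := e.surjective y
    rw [h1 hxy]
  · intro H
    have h1 := H.comp e.injective
    rw [← key'] at h1
    exact h1.of_comp

/-- Multiplication by an element of `D` which is nonzero on all fibres over `Spec R` is injective on
`Q ⊗ D` for all `R`-modules `Q`. -/
theorem lTensor_mulLeft_injective (hGI : FlatCA.GeomIntegralFibres A D) [Module.Projective A D]
    (R : Type u) [CommRing R] [Algebra A R] (h : D)
    (hh : ∀ m : Ideal R, m.IsMaximal → h ∉ (m.comap (algebraMap A R)).map (algebraMap A D))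
    (Q : Type u) [AddCommGroup Q] [Module R Q] [Module A Q] [IsScalarTower A R Q] :
    Function.Injective ((LinearMap.mulLeft A h).lTensor Q) := by
  rw [← lTensor_mulLeft_iff R h Q]
  refine Groth.Agent.Flat2C.UnivInjMod.univInj_of_projective (A := R) (P := R ⊗[A] D) (M := R ⊗[A] D) _ ?_ Q
  intro m hm
  rw [lTensor_mulLeft_iff R h (R ⧸ m)]
  let _ : Field (R ⧸ m) := Ideal.Quotient.field m
  have hdom : IsDomain ((R ⧸ m) ⊗[A] D) := Groth.Agent.Flat2A.GeomInt.isDomain_tensor' hGI (R ⧸ m)
  have hne : (1 : R ⧸ m) ⊗ₜ[A] h ≠ 0 := by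
    intro h0
    have h1 := mem_map_of_tmul_eq_zero h h0
    have h2 : RingHom.ker (algebraMap A (R ⧸ m)) = m.comap (algebraMap A R) := by
      rw [IsScalarTower.algebraMap_eq A R (R ⧸ m), ← RingHom.comap_ker]
      congr 1
      exact Ideal.mk_ker
    rw [h2] at h1
    exact hh m hm h1
  have key : ∀ z : (R ⧸ m) ⊗[A] D, (LinearMap.mulLeft A h).lTensor (R ⧸ m) z = ((1 : R ⧸ m) ⊗ₜ[A] h) * z := by
    intro z
    induction z using TensorProduct.induction_on with
    | zero => simp
    | add x y hx hy => rw [map_add, mul_add, hx, hy]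
    | tmul q d => simp [Algebra.TensorProduct.tmul_mul_tmul]
  intro x y hxy
  rw [key, key] at hxy
  exact mul_left_cancel₀ hne hxy

theorem eq_zero_of_smul_eq_zero (hGI : FlatCA.GeomIntegralFibres A D) [Module.Projective A D]
    (R : Type u) [CommRing R] [Algebra A R] (h : D)
    (hh : ∀ m : Ideal R, m.IsMaximal → h ∉ (m.comap (algebraMap A R)).map (algebraMap A D))
    (Q : Type u) [AddCommGroup Q] [Module R Q] [Module A Q] [IsScalarTower A R Q] (x : D ⊗[A] Q)
    (hx : h • x = 0) : x = 0 := by
  have h1 := lTensor_mulLeft_injective hGI R h hh Q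
  have key : ∀ z : D ⊗[A] Q, (LinearMap.mulLeft A h).lTensor Q (TensorProduct.comm A D Q z) =
      TensorProduct.comm A D Q (h • z) := by
    intro z
    induction z using TensorProduct.induction_on with
    | zero => simp
    | add x y hx hy => simp only [map_add, smul_add, hx, hy]
    | tmul d q => simp [TensorProduct.smul_tmul']
  apply (TensorProduct.comm A D Q).injective
  apply h1
  rw [key, hx, map_zero, map_zero]

/-- An element of `D` killed by an element outside of `t D` is killed by an element outside of `t`. -/
theorem exists_smul_eq_zero (hGI : FlatCA.GeomIntegralFibres A D) [Module.Projective A D]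
    (t : Ideal A) [t.IsPrime] (h x : D) (hh : h ∉ t.map (algebraMap A D)) (hx : h * x = 0) :
    ∃ c ∉ t, c • x = 0 := by
  have h1 : (x ⊗ₜ[A] (1 : Localization.AtPrime t)) = 0 := by
    refine eq_zero_of_smul_eq_zero hGI (Localization.AtPrime t) h ?_ (Localization.AtPrime t) _ ?_
    · intro m hm
      have : m = IsLocalRing.maximalIdeal (Localization.AtPrime t) := IsLocalRing.eq_maximalIdeal hm
      rw [this]
      have h2 : (IsLocalRing.maximalIdeal (Localization.AtPrime t)).comap
          (algebraMap A (Localization.AtPrime t)) = t := Localization.AtPrime.under_maximalIdeal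
      rw [h2]
      exact hh
    · rw [TensorProduct.smul_tmul', smul_eq_mul, hx, TensorProduct.zero_tmul]
  have h3 : (1 : Localization.AtPrime t) ⊗ₜ[A] x = 0 := by
    have := congrArg (TensorProduct.comm A D (Localization.AtPrime t)) h1
    simpa using this
  have h4 : TensorProduct.mk A (Localization.AtPrime t) D 1 x = 0 := h3
  rw [IsLocalizedModule.eq_zero_iff t.primeCompl] at h4
  obtain ⟨c, hc⟩ := h4
  exact ⟨c.1, c.2, hc⟩

end Groth.Agent.Flat2B.GenPt
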