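import Groth.Agent.Flat2B.FlatFun
import Groth.Agent.Flat2B.BCTools
import Groth.Agent.Flat2B.GenPt
import Mathlib.LinearAlgebra.TensorProduct.RightExactness
import Mathlib.RingTheory.TensorProduct.IsBaseChangePi

/-!
# Transfer of flatness in dimensions `≥ n` from a module to the cokernel of a universally injective map
-/

set_option autoImplicit false
universe u

namespace Groth.Agent.Flat2B.CokerTr

open TensorProduct FlatDim FlatFun

section Pointwise

variable {A D M F : Type u} [CommRing A] [CommRing D] [Algebra A D]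
  [AddCommGroup M] [Module D M] [Module A M] [IsScalarTower A D M]
  [AddCommGroup F] [Module D F] [Module A F] [IsScalarTower A D F]

open TensorProduct.AlgebraTensorModule in
theorem flatAt_coker_iff [Module.Flat A F] (α : F →ₗ[D] M)
    (hα : ∀ (Q : Type u) [AddCommGroup Q] [Module A Q],
      Function.Injective (AlgebraTensorModule.rTensor A Q α))
    (q : Ideal D) [q.IsPrime] :
    FlatCA.FlatAt A q M ↔ FlatCA.FlatAt A q (M ⧸ LinearMap.range α) := by
  rw [Flat2C.FlatAtCriterion.flatAt_iff, Flat2C.FlatAtCriterion.flatAt_iff]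
  set π : M →ₗ[D] (M ⧸ LinearMap.range α) := (LinearMap.range α).mkQ with hπ
  have hex : Function.Exact (α.restrictScalars A) (π.restrictScalars A) := by
    intro x
    exact (LinearMap.exact_map_mkQ_range α) x
  have hπs' : Function.Surjective π := Submodule.mkQ_surjective _
  have hπs : Function.Surjective (π.restrictScalars A) := hπs'
  constructor
  · intro H I c hc
    obtain ⟨m, rfl⟩ := (LinearMap.rTensor_surjective I hπs) c
    have h1 : (π.restrictScalars A).rTensor A (I.subtype.lTensor M m) = 0 := by
      rw [← LinearMap.comp_apply, LinearMap.rTensor_comp_lTensor, ← LinearMap.lTensor_comp_rTensor,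
        LinearMap.comp_apply, hc]
    obtain ⟨d₀, hd₀⟩ := (rTensor_exact A hex hπs _).1 h1
    -- `d₀` comes from `F ⊗ I`
    have h2 : (Submodule.mkQ I).lTensor F d₀ = 0 := by
      apply hα (A ⧸ I)
      rw [map_zero]
      change (α.restrictScalars A).rTensor (A ⧸ I) ((Submodule.mkQ I).lTensor F d₀) = 0
      rw [← LinearMap.comp_apply, LinearMap.rTensor_comp_lTensor, ← LinearMap.lTensor_comp_rTensor,
        LinearMap.comp_apply, hd₀, ← LinearMap.comp_apply, ← LinearMap.lTensor_comp]
      have : (Submodule.mkQ I) ∘ₗ I.subtype = 0 := by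
        ext x
        exact Ideal.Quotient.eq_zero_iff_mem.2 x.2
      rw [this, LinearMap.lTensor_zero, LinearMap.zero_apply]
    obtain ⟨d, rfl⟩ := (lTensor_exact F (LinearMap.exact_subtype_mkQ I) (Submodule.mkQ_surjective I) _).1 h2
    have h3 : I.subtype.lTensor M (m - AlgebraTensorModule.rTensor A I α d) = 0 := by
      rw [map_sub, ← hd₀, sub_eq_zero]
      change _ = I.subtype.lTensor M ((α.restrictScalars A).rTensor I d)
      rw [← LinearMap.comp_apply, ← LinearMap.comp_apply, LinearMap.rTensor_comp_lTensor,
        LinearMap.lTensor_comp_rTensor]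
    obtain ⟨t, ht, h4⟩ := H I _ h3
    refine ⟨t, ht, ?_⟩
    change t • (AlgebraTensorModule.rTensor A I π m) = 0
    have h5 : AlgebraTensorModule.rTensor A I π (m - AlgebraTensorModule.rTensor A I α d) =
        AlgebraTensorModule.rTensor A I π m := by
      rw [map_sub]
      have : AlgebraTensorModule.rTensor A I π (AlgebraTensorModule.rTensor A I α d) = 0 :=
        (rTensor_exact I hex hπs).apply_apply_eq_zero d
      rw [this, sub_zero]
    rw [← h5, ← map_smul, h4, map_zero]
  · intro H I x hx
    have h1 : I.subtype.lTensor (M ⧸ LinearMap.range α) ((π.restrictScalars A).rTensor I x) = 0 := by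
      rw [← LinearMap.comp_apply, LinearMap.lTensor_comp_rTensor, ← LinearMap.rTensor_comp_lTensor,
        LinearMap.comp_apply, hx, map_zero]
    obtain ⟨t, ht, h2⟩ := H I _ h1
    have h3 : (π.restrictScalars A).rTensor I (t • x) = 0 := by
      change AlgebraTensorModule.rTensor A I π (t • x) = 0
      rw [map_smul]
      exact h2
    obtain ⟨d, hd⟩ := (rTensor_exact I hex hπs _).1 h3
    have h4 : (α.restrictScalars A).rTensor A (I.subtype.lTensor F d) = 0 := by
      rw [← LinearMap.comp_apply, LinearMap.rTensor_comp_lTensor, ← LinearMap.lTensor_comp_rTensor,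
        LinearMap.comp_apply, hd]
      have : I.subtype.lTensor M (t • x) = t • I.subtype.lTensor M x :=
        map_smul (AlgebraTensorModule.lTensor D M I.subtype) t x
      rw [this, hx, smul_zero]
    have h5 : I.subtype.lTensor F d = 0 := by
      apply hα A
      rw [map_zero]
      exact h4
    have h6 : d = 0 :=
      Module.Flat.lTensor_preserves_injective_linearMap I.subtype Subtype.val_injective
        (h5.trans (map_zero _).symm)
    exact ⟨t, ht, by rw [← hd, h6, map_zero]⟩

end Pointwise

section GenBC

variable {A D A' D' : Type u} [CommRing A] [CommRing D] [CommRing A'] [CommRing D'] [Algebra A D]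
  [Algebra A A'] [Algebra D D'] [Algebra A' D'] [Algebra A D'] [IsScalarTower A D D'] [IsScalarTower A A' D']
  [Algebra.IsPushout A D A' D']

theorem mem_of_mem_map_baseChange [Module.Flat A D] (I' : Ideal A') (g : D)
    (hg : algebraMap D D' g ∈ I'.map (algebraMap A' D')) :
    g ∈ (I'.comap (algebraMap A A')).map (algebraMap A D) := by
  have h : IsBaseChange A' (IsScalarTower.toAlgHom A D D').toLinearMap :=
    (Algebra.IsPushout.symm (inferInstance : Algebra.IsPushout A D A' D')).out
  have h2 : IsBaseChange (A' ⧸ I') (((TensorProduct.mk A' (A' ⧸ I') D' 1).restrictScalars A) ∘ₗ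
      (IsScalarTower.toAlgHom A D D').toLinearMap) :=
    h.comp (TensorProduct.isBaseChange A' D' (A' ⧸ I'))
  have h3 : (1 : A' ⧸ I') ⊗ₜ[A] g = 0 := by
    apply h2.equiv.injective
    rw [h2.equiv_tmul, map_zero, one_smul]
    change (1 : A' ⧸ I') ⊗ₜ[A'] (algebraMap D D' g) = 0
    rw [← Groth.Agent.Flat2C.UnivInjMod.mem_smul_top_iff, Ideal.smul_top_eq_map, Submodule.restrictScalars_mem]
    exact hg
  have h4 := GenPt.mem_map_of_tmul_eq_zero g h3
  have h5 : RingHom.ker (algebraMap A (A' ⧸ I')) = I'.comap (algebraMap A A') := by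
    rw [IsScalarTower.algebraMap_eq A A' (A' ⧸ I'), ← RingHom.comap_ker]
    congr 1
    exact Ideal.mk_ker
  rwa [h5] at h4

end GenBC

section BC

variable {A D M M₂ : Type u} [CommRing A] [CommRing D] [Algebra A D]
  [AddCommGroup M] [Module D M] [AddCommGroup M₂] [Module D M₂] {r : ℕ}

theorem flatP_coker_iff (hGI : FlatCA.GeomIntegralFibres A D) [Module.Projective A D]
    (α : (Fin r → D) →ₗ[D] M) (β : M →ₗ[D] (Fin r → D)) (g : D) (hβ : ∀ x, β (α x) = g • x)
    (e : (M ⧸ LinearMap.range α) ≃ₗ[D] M₂) (A' : Type u) [CommRing A'] [Algebra A A']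
    (hA' : ∀ m' : Ideal A', m'.IsMaximal → g ∉ (m'.comap (algebraMap A A')).map (algebraMap A D)) (n : ℕ) :
    FlatP n A D M A' ↔ FlatP n A D M₂ A' := by
  obtain ⟨D', M', _, _, _, _, _, _, _, _, _, _, _, _, _, f, hf⟩ :=
    PushModel.exists_models (R := A) (S := D) (A := A') M
  have hflat : Module.Flat A' D' := BCTools.flat_of_isPushout A D A' D'
  have hproj : Module.Projective A' D' := by
    have h : IsBaseChange A' (IsScalarTower.toAlgHom A D D').toLinearMap :=
      (Algebra.IsPushout.symm (inferInstance : Algebra.IsPushout A D A' D')).out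
    exact Module.Projective.of_equiv h.equiv
  have hGI' : FlatCA.GeomIntegralFibres A' D' := Flat2A.GeomInt.baseChange hGI A' D'
  -- base changes of `α` and `β`
  have hu : IsBaseChange D' ((Algebra.linearMap D D').compLeft (Fin r)) := IsBaseChange.finitePow (Fin r)
    (IsBaseChange.linearMap D D')
  let u : (Fin r → D) →ₗ[D] (Fin r → D') := (Algebra.linearMap D D').compLeft (Fin r)
  let α' : (Fin r → D') →ₗ[D'] M' := hu.lift (f ∘ₗ α)
  have hα' : ∀ x, α' (u x) = f (α x) := fun x => hu.lift_eq _ x
  let β' : M' →ₗ[D'] (Fin r → D') := hf.lift (u ∘ₗ β)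
  have hβ' : ∀ x, β' (f x) = u (β x) := fun x => hf.lift_eq _ x
  let g' : D' := algebraMap D D' g
  have hβα' : ∀ x, β' (α' x) = g' • x := by
    have h1 : β' ∘ₗ α' = g' • LinearMap.id := by
      refine hu.algHom_ext _ _ fun x => ?_
      change β' (α' (u x)) = g' • u x
      rw [hα', hβ', hβ, map_smul, algebraMap_smul]
    intro x
    exact LinearMap.congr_fun h1 x
  obtain ⟨w, hw, -⟩ := BCTools.isBaseChange_coker α hu hf α' hα'
  have hw' : IsBaseChange D' (w ∘ₗ e.symm.toLinearMap) := by
    refine IsBaseChange.of_equiv ((LinearEquiv.baseChange D D' _ _ e.symm) ≪≫ₗ hw.equiv) fun x => ?_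
    simp [hw.equiv_tmul]
  rw [flatP_iff f hf, flatP_iff (w ∘ₗ e.symm.toLinearMap) hw']
  have hinj : ∀ (Q : Type u) [AddCommGroup Q] [Module A' Q],
      Function.Injective (AlgebraTensorModule.rTensor A' Q α') := by
    intro Q _ _
    rw [injective_iff_map_eq_zero]
    intro x hx
    have key : ∀ z, AlgebraTensorModule.rTensor A' Q β' (AlgebraTensorModule.rTensor A' Q α' z) = g' • z := by
      intro z
      induction z using TensorProduct.induction_on with
      | zero => simp
      | add x y hx hy => simp only [map_add, smul_add, hx, hy]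
      | tmul x q => simp only [AlgebraTensorModule.rTensor_tmul, hβα', TensorProduct.smul_tmul']
    have h1 : g' • x = 0 := by rw [← key, hx, map_zero]
    -- components
    have h2 : ∀ i, AlgebraTensorModule.rTensor A' Q (LinearMap.proj i : (Fin r → D') →ₗ[D'] D') x = 0 := by
      intro i
      have h0 : ∀ m : Ideal A', m.IsMaximal → g' ∉ (m.comap (algebraMap A' A')).map (algebraMap A' D') := by
        intro m' hm' hg'
        rw [Algebra.algebraMap_self, Ideal.comap_id] at hg'
        exact hA' m' hm' (mem_of_mem_map_baseChange m' g hg')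
      have h00 : g' • AlgebraTensorModule.rTensor A' Q (LinearMap.proj i : (Fin r → D') →ₗ[D'] D') x = 0 := by
        rw [← map_smul, h1, map_zero]
      exact GenPt.eq_zero_of_smul_eq_zero hGI' A' g' h0 Q _ h00
    have h3 : ∀ z : (Fin r → D') ⊗[A'] Q, z = ∑ i, AlgebraTensorModule.rTensor A' Q
        (LinearMap.single D' (fun _ : Fin r => D') i)
        (AlgebraTensorModule.rTensor A' Q (LinearMap.proj i : (Fin r → D') →ₗ[D'] D') z) := by
      intro z
      induction z using TensorProduct.induction_on with
      | zero => simp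
      | add x y hx hy =>
        simp only [map_add, Finset.sum_add_distrib]
        rw [← hx, ← hy]
      | tmul x q =>
        simp only [AlgebraTensorModule.rTensor_tmul, LinearMap.proj_apply, LinearMap.coe_single]
        rw [← TensorProduct.sum_tmul, Finset.univ_sum_single]
    rw [h3 x]
    exact Finset.sum_eq_zero fun i _ => by rw [h2, map_zero]
  have hflat2 : Module.Flat A' (Fin r → D') := Module.Flat.trans A' D' (Fin r → D')
  rw [flatInDimGE_iff, flatInDimGE_iff]
  constructor
  · intro H t Q _ _ _ hQ
    exact H t Q fun h => hQ ((flatAt_coker_iff α' hinj Q).1 h)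
  · intro H t Q _ _ _ hQ
    exact H t Q fun h => hQ ((flatAt_coker_iff α' hinj Q).2 h)

end BC

end Groth.Agent.Flat2B.CokerTr
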