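import Groth.Prelude.Def_FlatCA
import Groth.Agent.Flat2C.UnivInjMod
import Groth.Agent.Flat2A.GeomInt
import Mathlib.RingTheory.Flat.Localization
import Mathlib.RingTheory.TensorProduct.IsBaseChangeFree
import Mathlib.RingTheory.Nakayama

/-!
# Content ideals

For an `A`-algebra `D` and an ideal `J` of `D` the content ideal `cont A J` is the ideal of `A` generated by all
`φ x` with `φ : D → A` linear over `A` and `x ∈ J`. If `D` is projective over `A` it is the smallest ideal `I`
with `J ≤ I D`, it is finitely generated when `J` is, and it commutes with base change.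
-/

set_option autoImplicit false

universe u v

namespace Groth.Agent.Flat2B.ContentLoc

open TensorProduct

section Def

variable (A : Type u) {D : Type v} [CommRing A] [CommRing D] [Algebra A D]

/-- The content ideal. -/
def cont (J : Ideal D) : Ideal A :=
  Ideal.span {a | ∃ (φ : D →ₗ[A] A) (x : D), x ∈ J ∧ a = φ x}

variable {A}

theorem apply_mem_cont {J : Ideal D} (φ : D →ₗ[A] A) {x : D} (hx : x ∈ J) : φ x ∈ cont A J :=
  Ideal.subset_span ⟨φ, x, hx, rfl⟩

theorem cont_mono {J J' : Ideal D} (h : J ≤ J') : cont A J ≤ cont A J' :=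
  Ideal.span_mono fun _ ⟨φ, x, hx, e⟩ => ⟨φ, x, h hx, e⟩

/-- Linear maps send `I D` into `I`. -/
theorem apply_mem_of_mem_map (I : Ideal A) (φ : D →ₗ[A] A) {x : D} (hx : x ∈ I.map (algebraMap A D)) :
    φ x ∈ I := by
  have h1 : x ∈ (I • ⊤ : Submodule A D) := by
    rwa [Ideal.smul_top_eq_map, Submodule.restrictScalars_mem]
  have h2 : φ x ∈ Submodule.map φ (I • ⊤ : Submodule A D) := ⟨x, h1, rfl⟩
  rw [Submodule.map_smul''] at h2
  have h3 : I • (Submodule.map φ ⊤) ≤ I := by
    intro y hy
    rw [smul_eq_mul] at hy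
    exact Ideal.mul_le_left hy
  exact h3 h2

theorem cont_le_of_le_map {J : Ideal D} {I : Ideal A} (h : J ≤ I.map (algebraMap A D)) : cont A J ≤ I := by
  refine Ideal.span_le.2 ?_
  rintro _ ⟨φ, x, hx, rfl⟩
  exact apply_mem_of_mem_map I φ (h hx)

/-- A dual basis. -/
theorem exists_dual [Module.Projective A D] :
    ∃ φ : D → D →ₗ[A] A, ∀ x : D, ∃ s : Finset D, (∀ d ∉ s, φ d x = 0) ∧ x = ∑ d ∈ s, φ d x • d := by
  obtain ⟨i, hi⟩ := Module.projective_def'.mp (inferInstance : Module.Projective A D)
  refine ⟨fun d => Finsupp.lapply d ∘ₗ i, fun x => ⟨(i x).support, ?_, ?_⟩⟩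
  · intro d hd
    exact Finsupp.notMem_support_iff.mp hd
  · have := LinearMap.congr_fun hi x
    exact this.symm

theorem le_map_cont [Module.Projective A D] (J : Ideal D) : J ≤ (cont A J).map (algebraMap A D) := by
  obtain ⟨φ, hφ⟩ := exists_dual (A := A) (D := D)
  intro x hx
  obtain ⟨s, -, hs⟩ := hφ x
  rw [hs]
  refine Ideal.sum_mem _ fun d _ => ?_
  rw [Algebra.smul_def]
  exact Ideal.mul_mem_right _ _ (Ideal.mem_map_of_mem _ (apply_mem_cont _ hx))

theorem cont_le_iff [Module.Projective A D] {J : Ideal D} {I : Ideal A} :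
    cont A J ≤ I ↔ J ≤ I.map (algebraMap A D) :=
  ⟨fun h => (le_map_cont J).trans (Ideal.map_mono h), cont_le_of_le_map⟩

theorem cont_fg [Module.Projective A D] {J : Ideal D} (hJ : J.FG) : (cont A J).FG := by
  classical
  obtain ⟨T, rfl⟩ := hJ
  obtain ⟨φ, hφ⟩ := exists_dual (A := A) (D := D)
  choose s hs1 hs2 using hφ
  let G : Finset A := T.biUnion fun x => (s x).image fun d => φ d x
  refine ⟨G, le_antisymm ?_ ?_⟩
  · refine Ideal.span_le.2 ?_
    intro a ha
    simp only [G, Finset.coe_biUnion, Set.mem_iUnion, Finset.coe_image, Set.mem_image] at ha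
    obtain ⟨x, hx, d, -, rfl⟩ := ha
    exact apply_mem_cont _ (Ideal.subset_span hx)
  · apply cont_le_of_le_map
    refine Ideal.span_le.2 ?_
    intro x hx
    have h2 := hs2 x
    rw [SetLike.mem_coe, h2]
    refine Ideal.sum_mem _ fun d hd => ?_
    rw [Algebra.smul_def]
    refine Ideal.mul_mem_right _ _ (Ideal.mem_map_of_mem _ (Ideal.subset_span ?_))
    simp only [G, Finset.coe_biUnion, Set.mem_iUnion, Finset.coe_image, Set.mem_image]
    exact ⟨x, hx, d, hd, rfl⟩

end Def

section BaseChange

variable {A D A' D' : Type u} [CommRing A] [CommRing D] [CommRing A'] [CommRing D'] [Algebra A D]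
  [Algebra A A'] [Algebra D D'] [Algebra A' D'] [Algebra A D'] [IsScalarTower A D D'] [IsScalarTower A A' D']
  [Algebra.IsPushout A D A' D']

theorem exists_extend (φ : D →ₗ[A] A) :
    ∃ φ' : D' →ₗ[A'] A', ∀ x, φ' (algebraMap D D' x) = algebraMap A A' (φ x) := by
  have h : IsBaseChange A' (IsScalarTower.toAlgHom A D D').toLinearMap :=
    (Algebra.IsPushout.symm (inferInstance : Algebra.IsPushout A D A' D')).out
  refine ⟨h.lift ((Algebra.linearMap A A') ∘ₗ φ), fun x => ?_⟩
  exact h.lift_eq _ x

theorem cont_map [Module.Projective A D] [Module.Projective A' D'] (J : Ideal D) :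
    cont A' (J.map (algebraMap D D')) = (cont A J).map (algebraMap A A') := by
  apply le_antisymm
  · apply cont_le_of_le_map
    rw [Ideal.map_map, ← IsScalarTower.algebraMap_eq, IsScalarTower.algebraMap_eq A D D', ← Ideal.map_map]
    exact Ideal.map_mono (le_map_cont J)
  · rw [Ideal.map_le_iff_le_comap]
    refine Ideal.span_le.2 ?_
    rintro _ ⟨φ, x, hx, rfl⟩
    obtain ⟨φ', hφ'⟩ := exists_extend (A := A) (D := D) (A' := A') (D' := D') φ
    rw [SetLike.mem_coe, Ideal.mem_comap, ← hφ']
    exact apply_mem_cont _ (Ideal.mem_map_of_mem _ hx)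

end BaseChange

section Idem

variable {A : Type u} [CommRing A]

/-- A finitely generated ideal is idempotent iff at each prime it is locally zero or locally the unit ideal. -/
theorem isIdempotentElem_iff (C : Ideal A) (hC : C.FG) :
    IsIdempotentElem C ↔ ∀ t : Ideal A, t.IsPrime → C ≤ t → ∃ c ∉ t, ∀ x ∈ C, c * x = 0 := by
  constructor
  · intro h t ht hle
    obtain ⟨r, hr, hr0⟩ := Submodule.exists_sub_one_mem_and_smul_eq_zero_of_fg_of_le_smul C C hC
      (by rw [smul_eq_mul, h.eq])
    refine ⟨r, fun hrt => ht.ne_top ?_, fun x hx => by simpa using hr0 x hx⟩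
    rw [Ideal.eq_top_iff_one]
    have := t.sub_mem hrt (hle hr)
    simpa using this
  · intro h
    refine le_antisymm Ideal.mul_le_left ?_
    -- the ideal of `r` with `r C ≤ C²`
    let T : Ideal A := (C * C).colon (C : Set A)
    by_cases hT : T = ⊤
    · intro x hx
      have h1 : (1 : A) ∈ T := by rw [hT]; trivial
      have := Submodule.mem_colon.1 h1 x hx
      simpa using this
    · exfalso
      obtain ⟨m, hm, hle⟩ := Ideal.exists_le_maximal T hT
      have hCT : C ≤ T := by
        intro y hy
        refine Submodule.mem_colon.2 fun x hx => ?_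
        rw [smul_eq_mul]
        exact Ideal.mul_mem_mul hy hx
      obtain ⟨c, hc, hc0⟩ := h m hm.isPrime (hCT.trans hle)
      apply hc
      apply hle
      refine Submodule.mem_colon.2 fun x hx => ?_
      rw [smul_eq_mul, hc0 x hx]
      exact Ideal.zero_mem _

end Idem

end Groth.Agent.Flat2B.ContentLoc
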