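import Groth.Agent.Flat2B.CutLoc
import Groth.Agent.Flat2B.DevissageTower
import Groth.Agent.Flat2B.ProjGeomInt

/-!
# The functor `F_n` of a module with a complete dévissage, near a prime of the base

`exists_ideals`: it is cut out by finitely many finitely generated ideals becoming idempotent.
-/

set_option autoImplicit false
universe u

namespace Groth.Agent.Flat2B.CutDev

open TensorProduct FlatDim FlatFun ContentLoc Groth.Agent.Books.Minors StratLoc CutLoc

/-- Away from some `f ∉ p` divisible by `f₀`, the predicate `P` on `A`-algebras says that finitely many finitely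
generated ideals of `A` become idempotent. -/
def Cut {A : Type u} [CommRing A] (p : Ideal A) (f₀ : A)
    (P : ∀ (A' : Type u) [CommRing A'] [Algebra A A'], Prop) : Prop :=
  ∃ f ∉ p, f₀ ∣ f ∧ ∃ (s : ℕ) (C : Fin s → Ideal A), (∀ j, (C j).FG) ∧
    ∀ (A' : Type u) [CommRing A'] [Algebra A A'], IsUnit (algebraMap A A' f) →
      (P A' ↔ ∀ j, IsIdempotentElem ((C j).map (algebraMap A A')))

theorem isUnit_of_dvd {A A' : Type u} [CommRing A] [CommRing A'] [Algebra A A'] {f f' : A} (h : f ∣ f')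
    (hu : IsUnit (algebraMap A A' f')) : IsUnit (algebraMap A A' f) :=
  isUnit_of_dvd_unit (map_dvd _ h) hu

theorem Cut.congr {A : Type u} [CommRing A] {p : Ideal A} {f₀ : A}
    {P Q : ∀ (A' : Type u) [CommRing A'] [Algebra A A'], Prop} (hP : Cut p f₀ P)
    (h : ∀ (A' : Type u) [CommRing A'] [Algebra A A'], IsUnit (algebraMap A A' f₀) → (Q A' ↔ P A')) :
    Cut p f₀ Q := by
  obtain ⟨f, hf, hdvd, s, C, hC, H⟩ := hP
  exact ⟨f, hf, hdvd, s, C, hC, fun A' _ _ hu => (h A' (isUnit_of_dvd hdvd hu)).trans (H A' hu)⟩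

theorem cut_of_forall {A : Type u} [CommRing A] {p : Ideal A} {f₀ : A} (hf₀ : f₀ ∉ p)
    {P : ∀ (A' : Type u) [CommRing A'] [Algebra A A'], Prop}
    (h : ∀ (A' : Type u) [CommRing A'] [Algebra A A'], IsUnit (algebraMap A A' f₀) → P A') :
    Cut p f₀ P :=
  ⟨f₀, hf₀, dvd_rfl, 0, Fin.elim0, fun j => j.elim0, fun A' _ _ hu => ⟨fun _ j => j.elim0, fun _ => h A' hu⟩⟩

theorem Cut.of_dvd {A : Type u} [CommRing A] {p : Ideal A} {f₀ f₁ : A} (hdvd : f₀ ∣ f₁)
    {P : ∀ (A' : Type u) [CommRing A'] [Algebra A A'], Prop} (h : Cut p f₁ P) : Cut p f₀ P := by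
  obtain ⟨f, hf, hdvd', H⟩ := h
  exact ⟨f, hf, hdvd.trans hdvd', H⟩

section Aux

variable {A D M M₂ : Type u} [CommRing A] [CommRing D] [Algebra A D]
  [AddCommGroup M] [Module D M] [AddCommGroup M₂] [Module D M₂]

theorem flatP_congr (e : M ≃ₗ[D] M₂) (n : ℕ) (A' : Type u) [CommRing A'] [Algebra A A'] :
    FlatP n A D M A' ↔ FlatP n A D M₂ A' := by
  obtain ⟨D', M', _, _, _, _, _, _, _, _, _, _, _, _, _, w, hw⟩ :=
    PushModel.exists_models (R := A) (S := D) (A := A') M
  have hw' : IsBaseChange D' (w ∘ₗ e.symm.toLinearMap) := by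
    refine IsBaseChange.of_equiv ((LinearEquiv.baseChange D D' _ _ e.symm) ≪≫ₗ hw.equiv) fun x => ?_
    simp [hw.equiv_tmul]
  rw [flatP_iff w hw, flatP_iff (w ∘ₗ e.symm.toLinearMap) hw']

theorem flatP_of_subsingleton [Subsingleton M] (n : ℕ) (A' : Type u) [CommRing A'] [Algebra A A'] :
    FlatP n A D M A' := by
  intro D' M' _ _ _ _ _ _ _ _ _ _ _ _ _ w hw
  have h1 : Subsingleton M' := hw.equiv.symm.toEquiv.subsingleton
  rw [flatInDimGE_iff]
  intro t' Q _ _ _ hQ
  refine absurd ?_ hQ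
  have h2 : Subsingleton (LocalizedModule Q.primeCompl M') :=
    IsLocalizedModule.subsingleton_of_subsingleton Q.primeCompl (LocalizedModule.mkLinearMap Q.primeCompl M')
  have h3 : Module.Flat A' (LocalizedModule Q.primeCompl M') := inferInstance
  exact h3

end Aux

section Step

variable {A D M : Type u} [CommRing A] [CommRing D] [Algebra A D] [AddCommGroup M] [Module D M]
  (p : Ideal A) [p.IsPrime] [(p.map (algebraMap A D)).IsPrime]

theorem flatAt_of_flatP {n n₀ : ℕ} (hn : n < n₀) [Module A M] [IsScalarTower A D M]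
    [(p.map (algebraMap A D)).LiesOver p] (hrtd : rtd p (p.map (algebraMap A D)) = n₀)
    {f₀ : A} (hf₀ : f₀ ∉ p) (hyp : FlatP (n + 1) A D M (Localization.Away f₀)) :
    FlatCA.FlatAt A (p.map (algebraMap A D)) M := by
  by_contra hcon
  let A₂ := Localization.Away f₀
  obtain ⟨D', M', _, _, _, _, _, _, _, _, _, _, _, _, _, w, hw⟩ :=
    PushModel.exists_models (R := A) (S := D) (A := A₂) M
  have hdis : Disjoint (Submonoid.powers f₀ : Set A) (p : Set A) := by
    rw [Set.disjoint_left]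
    rintro _ ⟨k, rfl⟩ hk
    exact hf₀ (Ideal.IsPrime.mem_of_pow_mem inferInstance k hk)
  have hp2 : (p.map (algebraMap A A₂)).IsPrime :=
    IsLocalization.isPrime_of_isPrime_disjoint (Submonoid.powers f₀) A₂ p inferInstance hdis
  have hp3 : (p.map (algebraMap A A₂)).LiesOver p :=
    ⟨(IsLocalization.under_map_of_isPrime_disjoint (Submonoid.powers f₀) A₂ inferInstance hdis).symm⟩
  have hflat : Module.Flat A A₂ := IsLocalization.flat A₂ (Submonoid.powers f₀)
  have h1 := rtd_lt_of_descend (n := n + 1) p (p.map (algebraMap A A₂)) (rtd_eq_zero_of_quasiFinite _ _) w hw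
    (hyp D' M' w hw) (p.map (algebraMap A D)) hcon
  rw [hrtd] at h1
  have h2 : n₀ < n + 1 := by exact_mod_cast h1
  omega

theorem cut_step [Algebra.Smooth A D] (hirr : FlatCA.GeomIrredFibres A D) [Module.FinitePresentation D M]
    {r : ℕ} (α : (Fin r → D) →ₗ[D] M)
    (hα : Function.Bijective (α.baseChange (p.map (algebraMap A D)).ResidueField)) (n : ℕ) (f₀ : A)
    (hf₀ : f₀ ∉ p) (hyp : ∀ (A' : Type u) [CommRing A'] [Algebra A A'], IsUnit (algebraMap A A' f₀) →
      FlatP (n + 1) A D M A')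
    (hnext : ∀ f₁ ∉ p, f₀ ∣ f₁ → (∀ (A' : Type u) [CommRing A'] [Algebra A A'], IsUnit (algebraMap A A' f₁) →
      FlatP (n + 1) A D (M ⧸ LinearMap.range α) A') →
      Cut p f₁ (fun A' _ _ => FlatP n A D (M ⧸ LinearMap.range α) A')) :
    Cut p f₀ (fun A' _ _ => FlatP n A D M A') := by
  have hGI := ProjGeomInt.geomIntegralFibres_of_smooth A D hirr
  have hproj := ProjGeomInt.projective_of_smooth A D hirr
  have hover := liesOver_map hGI p
  obtain ⟨g, hgη, n₀, hg⟩ := GenDim.exists_isStandardSmooth (A := A) (p.map (algebraMap A D))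
  obtain ⟨f₁, hf₁, hf₁p⟩ := exists_mem_cont p g hgη
  have hf₀₁ : f₀ * f₁ ∉ p := fun h => (Ideal.IsPrime.mem_or_mem inferInstance h).elim hf₀ hf₁p
  rcases lt_trichotomy n₀ n with hlt | heq | hgt
  · refine Cut.of_dvd (Dvd.intro _ rfl : f₀ ∣ f₀ * f₁) (cut_of_forall hf₀₁ ?_)
    intro A' _ _ hu
    exact flatP_of_lt hGI g n₀ hg f₁ hf₁ hlt A' (isUnit_of_dvd (Dvd.intro_left _ rfl) hu)
  · subst heq
    obtain ⟨m, k, π, φ, hπ, hex⟩ := Module.FinitePresentation.exists_fin' D M
    let e : ((Fin m → D) ⧸ LinearMap.range φ) ≃ₗ[D] M :=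
      (Submodule.quotEquivOfEq _ _ (LinearMap.exact_iff.1 hex).symm) ≪≫ₗ
        (LinearMap.quotKerEquivOfSurjective π hπ)
    have hfg : (LinearMap.range φ).FG := by
      rw [LinearMap.range_eq_map]
      exact Module.Finite.fg_top.map _
    refine ⟨f₀ * f₁, hf₀₁, Dvd.intro _ rfl, m + 1,
      fun j => cont A (minorsIdeal (LinearMap.range φ) j), fun j => cont_fg (MinorLoc.fg_minorsIdeal _ hfg _), ?_⟩
    intro A' _ _ hu
    refine (flatP_iff_idem hGI g n₀ hg f₁ hf₁ φ e A' (isUnit_of_dvd (Dvd.intro_left _ rfl) hu)).trans ?_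
    constructor
    · intro H j
      exact H j
    · intro H s
      by_cases hs : s < m + 1
      · exact H ⟨s, hs⟩
      · have h1 : minorsIdeal (LinearMap.range φ) s = ⊥ :=
          minorsIdeal_eq_bot _ (by rw [Fintype.card_fin]; omega)
        have h2 : cont A (⊥ : Ideal D) = ⊥ := by
          rw [eq_bot_iff]
          refine cont_le_of_le_map ?_
          rw [Ideal.map_bot]
        rw [h1, h2, Ideal.map_bot]
        exact Ideal.mul_bot _
  · let _ : Module A M := Module.compHom M (algebraMap A D)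
    have : IsScalarTower A D M := .of_algebraMap_smul fun _ _ => rfl
    have hrtd : rtd p (p.map (algebraMap A D)) = n₀ := GenDim.rtd_generic g n₀ hg p _ rfl hgη
    have hfl := flatAt_of_flatP p hgt hrtd hf₀
      (hyp (Localization.Away f₀) (IsLocalization.Away.algebraMap_isUnit f₀))
    obtain ⟨β, g₂, hg₂, hβ⟩ := exists_beta p (p.map (algebraMap A D)) rfl hfl α hα.1
    obtain ⟨f₂, hf₂, hf₂p⟩ := exists_mem_cont p g₂ hg₂
    have hf₀₂ : f₀ * f₂ ∉ p := fun h => (Ideal.IsPrime.mem_or_mem inferInstance h).elim hf₀ hf₂p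
    have key : ∀ (n : ℕ) (A' : Type u) [CommRing A'] [Algebra A A'], IsUnit (algebraMap A A' (f₀ * f₂)) →
        (FlatP n A D M A' ↔ FlatP n A D (M ⧸ LinearMap.range α) A') := by
      intro n A' _ _ hu
      refine CokerTr.flatP_coker_iff hGI α β g₂ hβ (LinearEquiv.refl D _) A' ?_ n
      intro m' hm'
      exact notMem_map_of_isUnit g₂ f₂ hf₂ A' (isUnit_of_dvd (Dvd.intro_left _ rfl) hu) m' hm'.ne_top
    refine Cut.of_dvd (Dvd.intro _ rfl : f₀ ∣ f₀ * f₂) (Cut.congr (hnext (f₀ * f₂) hf₀₂ (Dvd.intro _ rfl) ?_)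
      fun A' _ _ hu => key n A' hu)
    intro A' _ _ hu
    rw [← key (n + 1) A' hu]
    exact hyp A' (isUnit_of_dvd (Dvd.intro _ rfl) hu)

end Step

theorem isIntegral_of_surjective {R S : Type u} [CommRing R] [CommRing S] [Algebra R S]
    (h : Function.Surjective (algebraMap R S)) : Algebra.IsIntegral R S := by
  have : Module.Finite R S := Module.Finite.of_surjective (Algebra.linearMap R S) h
  infer_instance

section Dev

variable {A B N : Type u} [CommRing A] [CommRing B] [Algebra A B] [Algebra.FinitePresentation A B]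
  [AddCommGroup N] [Module B N] {p : Ideal A} [p.IsPrime] (D : FlatCA.CompleteDevissage A B N p)

include D

theorem cut_devissage (n : ℕ) : ∀ (k i : ℕ), i < D.n → D.n - i ≤ k →
    Module.FinitePresentation (D.B i) (D.M i) → ∀ f₀ ∉ p,
    (∀ (A' : Type u) [CommRing A'] [Algebra A A'], IsUnit (algebraMap A A' f₀) →
      FlatP (n + 1) A (D.B i) (D.M i) A') →
    Cut p f₀ (fun A' _ _ => FlatP n A (D.B i) (D.M i) A') := by
  intro k
  induction k with
  | zero =>
    intro i hi hk
    omega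
  | succ k ih =>
    intro i hi hk hfp f₀ hf₀ hyp
    have hsm := D.smooth i hi
    refine cut_step p (D.geomIrred i hi) (D.α i) (D.fibreIso i hi) n f₀ hf₀ hyp ?_
    intro f₁ hf₁ hdvd hyp₁
    by_cases hi' : i + 1 < D.n
    · have hint₁ : Algebra.IsIntegral (D.B i) (D.A (i + 1)) := isIntegral_of_surjective (D.surjBA' i hi')
      have hfin := D.finiteBA (i + 1) hi'
      have hint₂ : Algebra.IsIntegral (D.B (i + 1)) (D.A (i + 1)) := inferInstance
      have key : ∀ (n : ℕ) (A' : Type u) [CommRing A'] [Algebra A A'],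
          (FlatP n A (D.B i) (D.M i ⧸ LinearMap.range (D.α i)) A' ↔ FlatP n A (D.B (i + 1)) (D.M (i + 1)) A') := by
        intro n A' _ _
        rw [flatP_congr (D.isoCoker i hi') n A',
          FlatDimTr.flatP_iff_of_isIntegral (A := A) (B := D.B i) (C := D.A (i + 1)) (M := D.M (i + 1)) n A',
          FlatDimTr.flatP_iff_of_isIntegral (A := A) (B := D.B (i + 1)) (C := D.A (i + 1)) (M := D.M (i + 1)) n A']
      have hfp₁ := (DevissageTower.fp_B'M_iff D hi').1 (DevissageTower.fp_step D hi' hfp)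
      have hfp₂ := (DevissageTower.fp_BM_iff D hi').2 hfp₁
      refine Cut.congr (ih (i + 1) hi' (by omega) hfp₂ f₁ hf₁ ?_) fun A' _ _ _ => key n A'
      intro A' _ _ hu
      exact (key (n + 1) A').1 (hyp₁ A' hu)
    · have hlast : i = D.n - 1 := by omega
      have hsurj : Function.Surjective (D.α i) := by
        rw [hlast]; exact D.cokerLast
      have hsub : Subsingleton (D.M i ⧸ LinearMap.range (D.α i)) := by
        rw [Submodule.Quotient.subsingleton_iff]
        exact LinearMap.range_eq_top.2 hsurj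
      exact cut_of_forall hf₁ fun A' _ _ _ => flatP_of_subsingleton n A'

/-- Local representability in ring form. -/
theorem cut_of_completeDevissage [Module.FinitePresentation B N] (n : ℕ)
    (hyp : ∀ (A' : Type u) [CommRing A'] [Algebra A A'], FlatP (n + 1) A B N A') :
    Cut p 1 (fun A' _ _ => FlatP n A B N A') := by
  have hint₁ : Algebra.IsIntegral B (D.A 0) := isIntegral_of_surjective D.surjSA
  have hfin := D.finiteBA 0 D.pos
  have hint₂ : Algebra.IsIntegral (D.B 0) (D.A 0) := inferInstance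
  let _ : Module B (D.M 0) := D.mSM
  have key : ∀ (n : ℕ) (A' : Type u) [CommRing A'] [Algebra A A'],
      (FlatP n A B N A' ↔ FlatP n A (D.B 0) (D.M 0) A') := by
    intro n A' _ _
    rw [flatP_congr D.isoN n A',
      FlatDimTr.flatP_iff_of_isIntegral (A := A) (B := B) (C := D.A 0) (M := D.M 0) n A',
      FlatDimTr.flatP_iff_of_isIntegral (A := A) (B := D.B 0) (C := D.A 0) (M := D.M 0) n A']
  have hfp₁ := (DevissageTower.fp_S_iff D).1 inferInstance
  have hfp₂ := (DevissageTower.fp_BM_iff D D.pos).2 hfp₁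
  refine Cut.congr (cut_devissage D n D.n 0 D.pos (by omega) hfp₂ 1
    (fun h => Ideal.IsPrime.ne_top inferInstance ((Ideal.eq_top_iff_one p).2 h)) ?_) fun A' _ _ _ => key n A'
  intro A' _ _ _
  exact (key (n + 1) A').1 (hyp A')

/-- Ring form of the local part of 05UG: near `p`, the functor `F_n` is cut out by finitely many finitely generated
ideals becoming idempotent. -/
theorem exists_ideals [Module A N] [IsScalarTower A B N] [Module.FinitePresentation B N] (n : ℕ)
    (hfl : FlatCA.FlatInDimGE (n + 1) A B N) :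
    ∃ f ∉ p, ∃ (s : ℕ) (C : Fin s → Ideal A), (∀ j, (C j).FG) ∧
      ∀ (A' : Type u) [CommRing A'] [Algebra A A'], IsUnit (algebraMap A A' f) →
        (FlatP n A B N A' ↔ ∀ j, IsIdempotentElem ((C j).map (algebraMap A A'))) := by
  obtain ⟨f, hf, -, H⟩ := cut_of_completeDevissage D n fun A' _ _ =>
    FlatP.map (A₁ := A) ((flatP_self_iff (A := A) (B := B) (N := N)).2 hfl)
  exact ⟨f, hf, H⟩

end Dev

end Groth.Agent.Flat2B.CutDev
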