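import Groth.Agent.Flat2B.FlatFun
import Groth.Agent.Flat2B.BCTools
import Mathlib.RingTheory.LocalRing.ResidueField.Instances

/-!
# Transfer of flatness in dimensions `≥ n`

* along integral maps `B → C` for `C`-modules;
* from a module to the cokernel of a universally injective map from a finite free module.
-/

set_option autoImplicit false
universe u

namespace Groth.Agent.Flat2B.FlatDimTr

open TensorProduct FlatDim FlatFun Groth.Agent.CycB.TrdegAlg

section Integral

theorem rtd_eq_zero_of_isIntegral {A B : Type u} [CommRing A] [CommRing B] [Algebra A B]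
    [Algebra.IsIntegral A B] (t : Ideal A) (Q : Ideal B) [t.IsPrime] [Q.IsPrime]
    [Q.LiesOver t] : rtd t Q = 0 := by
  let := Localization.AtPrime.algebraOfLiesOver t Q
  have h1 : Algebra.IsAlgebraic t.ResidueField Q.ResidueField := inferInstance
  have h2 : algebraMap t.ResidueField Q.ResidueField = resMap t Q := by
    apply Ideal.ResidueField.ringHom_ext
    ext a
    rw [RingHom.comp_apply, RingHom.comp_apply, resMap_algebraMap,
      ← IsScalarTower.algebraMap_apply A t.ResidueField Q.ResidueField,
      ← IsScalarTower.algebraMap_apply A B Q.ResidueField]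
  rw [rtd, ← h2, trd_algebraMap]
  exact trdeg_eq_zero

variable {A B C M : Type u} [CommRing A] [CommRing B] [CommRing C] [Algebra A B] [Algebra A C]
  [Algebra B C] [IsScalarTower A B C] [Algebra.IsIntegral B C]
  [AddCommGroup M] [Module C M] [Module B M] [IsScalarTower B C M]

theorem flatInDimGE_iff_of_isIntegral [Module A M] [IsScalarTower A C M] [IsScalarTower A B M] (n : ℕ) :
    FlatCA.FlatInDimGE n A B M ↔ FlatCA.FlatInDimGE n A C M := by
  rw [flatInDimGE_iff, flatInDimGE_iff]
  constructor
  · intro H t Q _ _ _ hQ
    let P : Ideal B := Q.under B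
    have hP : P.LiesOver t := ⟨by
      rw [Ideal.over_def Q t]; exact (Ideal.under_under (A := A) (B := B) Q).symm⟩
    have h1 := H t P fun h => hQ (Flat2C.FlatAtCriterion.flatAt_of_liesOver P Q h)
    rw [rtd_add t P Q, rtd_eq_zero_of_isIntegral P Q, add_zero]
    exact h1
  · intro H t P _ _ _ hP
    rw [Flat2C.FlatAtCriterion.flatAt_iff_of_isIntegral (C' := C) P] at hP
    push Not at hP
    obtain ⟨Q, hQ, hQP, h1⟩ := hP
    have : Q.LiesOver t := Ideal.LiesOver.trans Q P t
    have h2 := H t Q h1
    rw [rtd_add t P Q, rtd_eq_zero_of_isIntegral P Q, add_zero] at h2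
    exact h2

theorem flatP_iff_of_isIntegral (n : ℕ) (A' : Type u) [CommRing A'] [Algebra A A'] :
    FlatP n A B M A' ↔ FlatP n A C M A' := by
  obtain ⟨C', M', _, _, _, _, _, _, _, _, _, _, _, _, _, f, hf⟩ :=
    PushModel.exists_models (R := A) (S := C) (A := A') M
  obtain ⟨B', _, _, _, _, _, _, _, _, _, _, _, _, _, _, _, _⟩ :=
    PushModel.exists_models (R := A) (S := B) (A := A') B
  -- the map `B' → C'`
  let a1 : Algebra B C' := ((algebraMap C C').comp (algebraMap B C)).toAlgebra
  have t1 : IsScalarTower B C C' := .of_algebraMap_eq fun _ => rfl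
  have t0 : IsScalarTower A B C' := .of_algebraMap_eq fun x => by
    rw [IsScalarTower.algebraMap_apply B C C', ← IsScalarTower.algebraMap_apply A B C,
      ← IsScalarTower.algebraMap_apply A C C']
  let φ : B' →ₐ[A] C' := Algebra.pushoutDesc B' (IsScalarTower.toAlgHom A B C')
    (IsScalarTower.toAlgHom A A' C') (fun _ _ => mul_comm _ _)
  let a2 : Algebra B' C' := φ.toRingHom.toAlgebra
  have t3 : IsScalarTower B B' C' := .of_algebraMap_eq fun x =>
    (Algebra.pushoutDesc_left B' (IsScalarTower.toAlgHom A B C')
      (IsScalarTower.toAlgHom A A' C') (fun _ _ => mul_comm _ _) x).symm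
  have t4 : IsScalarTower A' B' C' := .of_algebraMap_eq fun x =>
    (Algebra.pushoutDesc_right B' (IsScalarTower.toAlgHom A B C')
      (IsScalarTower.toAlgHom A A' C') (fun _ _ => mul_comm _ _) x).symm
  have t5 : IsScalarTower A B' C' := .of_algebraMap_eq fun x => (φ.commutes x).symm
  have p3 : Algebra.IsPushout B B' C C' := by
    have q1 : Algebra.IsPushout A A' B B' := .symm inferInstance
    have q2 : Algebra.IsPushout A A' C C' := .symm inferInstance
    exact ((Algebra.IsPushout.comp_iff (R := A) (S := B) (R' := A') (S' := B') (T := C) (T' := C')).1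
      inferInstance).symm
  have p4 : Algebra.IsPushout B C B' C' := p3.symm
  have hint : Algebra.IsIntegral B' C' := Algebra.IsPushout.isIntegral B B' C C'
  let m1 : Module B' M' := Module.compHom M' (algebraMap B' C')
  have t6 : IsScalarTower B' C' M' := .of_algebraMap_smul fun _ _ => rfl
  let m2 : Module B M' := Module.compHom M' (algebraMap B C)
  have t7 : IsScalarTower B C M' := .of_algebraMap_smul fun _ _ => rfl
  have t8 : IsScalarTower B B' M' := .of_algebraMap_smul fun b x => by
    rw [← algebraMap_smul C' (algebraMap B B' b) x, ← algebraMap_smul C b x,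
      ← algebraMap_smul C' (algebraMap B C b) x, ← IsScalarTower.algebraMap_apply,
      ← IsScalarTower.algebraMap_apply]
  have t9 : IsScalarTower A' B' M' := .of_algebraMap_smul fun a x => by
    rw [← algebraMap_smul C' (algebraMap A' B' a) x, ← algebraMap_smul C' a x,
      ← IsScalarTower.algebraMap_apply]
  have hb : IsBaseChange B' (f.restrictScalars B) := BCTools.isBaseChange_of_isPushout f hf
  rw [flatP_iff f hf, flatP_iff (f.restrictScalars B) hb]
  exact flatInDimGE_iff_of_isIntegral n

end Integral

end Groth.Agent.Flat2B.FlatDimTr
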