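import Groth.Agent.Flat2B.MinorLoc
import Groth.Agent.Flat2B.ContentLoc
import Groth.Agent.Flat2B.GenPt
import Groth.Agent.Flat2B.LocTransfer
import Mathlib.RingTheory.LocalRing.Module
import Mathlib.RingTheory.Localization.Submodule

/-!
# Flatness at the generic points of the fibres in terms of content ideals of minors
-/

set_option autoImplicit false

universe u v

namespace Groth.Agent.Flat2B.StratLoc

open TensorProduct Groth.Agent.Books.Minors MinorLoc ContentLoc

section Local

/-- Over a local ring `L`, flat over `A`, whose maximal ideal is generated by an ideal `t` of `A`: a finitely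
presented `L`-module flat over `A` is free. -/
theorem free_of_flat_base {A L N : Type u} [CommRing A] [CommRing L] [IsLocalRing L] [Algebra A L]
    [AddCommGroup N] [Module L N] [Module A N] [IsScalarTower A L N] [Module.FinitePresentation L N]
    (t : Ideal A) (ht : IsLocalRing.maximalIdeal L = t.map (algebraMap A L)) (hfl : Module.Flat A N) :
    Module.Free L N := by
  apply Module.free_of_maximalIdeal_rTensor_injective
  let j : t →ₗ[A] IsLocalRing.maximalIdeal L :=
    { toFun := fun a => ⟨algebraMap A L a, by rw [ht]; exact Ideal.mem_map_of_mem _ a.2⟩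
      map_add' := fun a b => Subtype.ext (map_add _ _ _)
      map_smul' := fun a b => Subtype.ext (by
        change algebraMap A L (a * b) = a • algebraMap A L b
        rw [map_mul, Algebra.smul_def]) }
  let ψ : t ⊗[A] N →ₗ[A] IsLocalRing.maximalIdeal L ⊗[L] N :=
    TensorProduct.lift (((TensorProduct.mk L (IsLocalRing.maximalIdeal L) N).restrictScalars₁₂ A A) ∘ₗ j)
  have hψ : ∀ (a : t) (n : N), ψ (a ⊗ₜ n) = j a ⊗ₜ[L] n := fun a n => rfl
  have hsurj : Function.Surjective ψ := by
    have h1 : ∀ x : L, ∀ hx : x ∈ IsLocalRing.maximalIdeal L, ∀ n : N,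
        (⟨x, hx⟩ : IsLocalRing.maximalIdeal L) ⊗ₜ[L] n ∈ LinearMap.range ψ := by
      intro x hx
      have hx' : x ∈ Submodule.span L (algebraMap A L '' (t : Set A)) := by
        rw [ht] at hx; exact hx
      induction hx' using Submodule.span_induction with
      | mem x hx' =>
        obtain ⟨a, ha, rfl⟩ := hx'
        intro n
        exact ⟨(⟨a, ha⟩ : t) ⊗ₜ n, rfl⟩
      | zero =>
        intro n
        have : (⟨0, hx⟩ : IsLocalRing.maximalIdeal L) = 0 := rfl
        rw [this, TensorProduct.zero_tmul]
        exact zero_mem _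
      | add x y hx1 hy1 ihx ihy =>
        intro n
        have hx2 : x ∈ IsLocalRing.maximalIdeal L := by rw [ht]; exact hx1
        have hy2 : y ∈ IsLocalRing.maximalIdeal L := by rw [ht]; exact hy1
        have : (⟨x + y, hx⟩ : IsLocalRing.maximalIdeal L) = ⟨x, hx2⟩ + ⟨y, hy2⟩ := rfl
        rw [this, TensorProduct.add_tmul]
        exact add_mem (ihx hx2 n) (ihy hy2 n)
      | smul l x hx1 ihx =>
        intro n
        have hx2 : x ∈ IsLocalRing.maximalIdeal L := by rw [ht]; exact hx1
        have : (⟨l • x, hx⟩ : IsLocalRing.maximalIdeal L) = l • ⟨x, hx2⟩ := rfl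
        rw [this, TensorProduct.smul_tmul]
        exact ihx hx2 (l • n)
    intro z
    induction z using TensorProduct.induction_on with
    | zero => exact ⟨0, map_zero _⟩
    | add x y hx hy =>
      obtain ⟨x, rfl⟩ := hx
      obtain ⟨y, rfl⟩ := hy
      exact ⟨x + y, map_add _ _ _⟩
    | tmul x n => exact h1 x.1 x.2 n
  have hinj : Function.Injective (t.subtype.rTensor N) :=
    Module.Flat.rTensor_preserves_injective_linearMap _ Subtype.val_injective
  rw [injective_iff_map_eq_zero]
  intro z hz
  obtain ⟨w, rfl⟩ := hsurj z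
  have key : ∀ w : t ⊗[A] N, TensorProduct.lid L N ((IsLocalRing.maximalIdeal L).subtype.rTensor N (ψ w)) =
      TensorProduct.lid A N (t.subtype.rTensor N w) := by
    intro w
    induction w using TensorProduct.induction_on with
    | zero => simp
    | add x y hx hy => simp only [map_add, hx, hy]
    | tmul a n =>
      rw [hψ, LinearMap.rTensor_tmul, LinearMap.rTensor_tmul, TensorProduct.lid_tmul, TensorProduct.lid_tmul]
      change algebraMap A L a • n = (a : A) • n
      rw [algebraMap_smul]
  have h2 := key w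
  rw [hz, map_zero] at h2
  have h3 : t.subtype.rTensor N w = 0 := by
    apply (TensorProduct.lid A N).injective
    rw [map_zero]
    exact h2.symm
  rw [hinj (h3.trans (map_zero _).symm), map_zero]

end Local

variable {A D : Type u} [CommRing A] [CommRing D] [Algebra A D] {m : ℕ}

theorem flatAt_iff_minors [Module.Flat A D] (t : Ideal A) (η : Ideal D) [η.IsPrime]
    (hη : η = t.map (algebraMap A D)) (K : Submodule D (Fin m → D)) (hK : K.FG) :
    FlatCA.FlatAt A η ((Fin m → D) ⧸ K) ↔ ∀ s,
      (minorsIdeal K s).map (algebraMap D (Localization.AtPrime η)) = ⊥ ∨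
      (minorsIdeal K s).map (algebraMap D (Localization.AtPrime η)) = ⊤ := by
  let L := Localization.AtPrime η
  let f : (Fin m → D) →ₗ[D] (Fin m → L) := LinearMap.pi fun i => Algebra.linearMap D L ∘ₗ LinearMap.proj i
  have hfl : IsLocalizedModule η.primeCompl f := inferInstance
  let KL : Submodule L (Fin m → L) := K.localized' L η.primeCompl f
  have hKL : KL = Submodule.span L ((fun x : Fin m → D => ((algebraMap D L) ∘ x : Fin m → L)) ''
      (K : Set (Fin m → D))) := Submodule.localized'_eq_span L η.primeCompl f K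
  have hmin : ∀ s, minorsIdeal KL s = (minorsIdeal K s).map (algebraMap D L) := by
    intro s
    rw [hKL, map_minorsIdeal]
  rw [LocTransfer.flatAt_iff_of_isLocalizedModule (q := η) _ (K.toLocalizedQuotient' L η.primeCompl f)]
  have hKLfg : KL.FG := by
    obtain ⟨T, rfl⟩ := hK
    have : KL = Submodule.span L (f '' (T : Set (Fin m → D))) := Submodule.localized'_span L η.primeCompl f _
    rw [this]
    exact Submodule.fg_span (T.finite_toSet.image _)
  have hfp : Module.FinitePresentation L ((Fin m → L) ⧸ KL) :=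
    Module.finitePresentation_of_free_of_surjective KL.mkQ KL.mkQ_surjective (by rwa [Submodule.ker_mkQ])
  have hAL : Module.Flat A L :=
    have : Module.Flat D L := IsLocalization.flat L η.primeCompl
    Module.Flat.trans A D L
  have hmax : IsLocalRing.maximalIdeal L = t.map (algebraMap A L) := by
    rw [← Localization.AtPrime.map_eq_maximalIdeal, IsScalarTower.algebraMap_eq A D L, ← Ideal.map_map, ← hη]
  have h1 : Module.Flat A ((Fin m → L) ⧸ KL) ↔ Module.Projective L ((Fin m → L) ⧸ KL) := by
    constructor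
    · intro h
      have := free_of_flat_base t hmax h
      infer_instance
    · intro h
      exact Module.Flat.trans A L _
  refine h1.trans ?_
  rw [projective_iff_dichotomy]
  refine forall_congr' fun s => ?_
  rw [hmin]

theorem map_le_primeCompl_eq_top_iff (η : Ideal D) [η.IsPrime] (J : Ideal D) :
    J.map (algebraMap D (Localization.AtPrime η)) = ⊤ ↔ ¬ J ≤ η := by
  rw [← not_iff_not, not_not, ← ne_eq, IsLocalization.map_algebraMap_ne_top_iff_disjoint η.primeCompl,
    Set.disjoint_left]
  constructor
  · intro h x hx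
    by_contra hx'
    exact h hx' hx
  · intro h x hx hx'
    exact hx (h hx')

theorem map_eq_bot_iff (η : Ideal D) [η.IsPrime] (J : Ideal D) :
    J.map (algebraMap D (Localization.AtPrime η)) = ⊥ ↔ ∀ x ∈ J, ∃ h ∉ η, h * x = 0 := by
  rw [Ideal.map_eq_bot_iff_le_ker]
  constructor
  · intro H x hx
    have := H hx
    rw [RingHom.mem_ker, IsLocalization.map_eq_zero_iff η.primeCompl] at this
    obtain ⟨c, hc⟩ := this
    exact ⟨c, c.2, hc⟩
  · intro H x hx
    obtain ⟨h, hh, e⟩ := H x hx
    rw [RingHom.mem_ker, IsLocalization.map_eq_zero_iff η.primeCompl]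
    exact ⟨⟨h, hh⟩, e⟩

theorem mem_map_iff [Module.Flat A D] (t : Ideal A) [t.IsPrime] (x : D) :
    x ∈ t.map (algebraMap A D) ↔ (1 : t.ResidueField) ⊗ₜ[A] x = 0 := by
  constructor
  · intro hx
    induction hx using Submodule.span_induction with
    | mem x hx =>
      obtain ⟨a, ha, rfl⟩ := hx
      rw [Algebra.algebraMap_eq_smul_one, ← TensorProduct.smul_tmul]
      have : a • (1 : t.ResidueField) = 0 := by
        rw [← Algebra.algebraMap_eq_smul_one]
        exact Ideal.algebraMap_residueField_eq_zero.2 ha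
      rw [this, TensorProduct.zero_tmul]
    | zero => exact TensorProduct.tmul_zero _ _
    | add x y _ _ hx hy => rw [TensorProduct.tmul_add, hx, hy, add_zero]
    | smul d x _ hx =>
      have : (1 : t.ResidueField) ⊗ₜ[A] (d • x) = ((1 : t.ResidueField) ⊗ₜ[A] d) * ((1 : t.ResidueField) ⊗ₜ[A] x) := by
        rw [Algebra.TensorProduct.tmul_mul_tmul, one_mul, smul_eq_mul]
      rw [this, hx, mul_zero]
  · intro hx
    have h1 := GenPt.mem_map_of_tmul_eq_zero x hx
    rwa [Ideal.ker_algebraMap_residueField] at h1

theorem isPrime_map [Module.Flat A D] (hGI : FlatCA.GeomIntegralFibres A D) (t : Ideal A) [t.IsPrime] :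
    (t.map (algebraMap A D)).IsPrime := by
  have hdom : IsDomain (t.ResidueField ⊗[A] D) := Groth.Agent.Flat2A.GeomInt.isDomain_tensor' hGI t.ResidueField
  refine ⟨?_, ?_⟩
  · intro h
    have h1 : (1 : D) ∈ t.map (algebraMap A D) := by rw [h]; trivial
    rw [mem_map_iff] at h1
    exact one_ne_zero (α := t.ResidueField ⊗[A] D) h1
  · intro x y hxy
    rw [mem_map_iff] at hxy ⊢
    rw [mem_map_iff]
    have : (1 : t.ResidueField) ⊗ₜ[A] (x * y) = ((1 : t.ResidueField) ⊗ₜ[A] x) * ((1 : t.ResidueField) ⊗ₜ[A] y) := by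
      rw [Algebra.TensorProduct.tmul_mul_tmul, one_mul]
    rw [this] at hxy
    exact mul_eq_zero.1 hxy

theorem comap_map [Module.Flat A D] (hGI : FlatCA.GeomIntegralFibres A D) (t : Ideal A) [t.IsPrime] :
    (t.map (algebraMap A D)).comap (algebraMap A D) = t := by
  have hdom : IsDomain (t.ResidueField ⊗[A] D) := Groth.Agent.Flat2A.GeomInt.isDomain_tensor' hGI t.ResidueField
  apply le_antisymm
  · intro a ha
    rw [Ideal.mem_comap, mem_map_iff, Algebra.algebraMap_eq_smul_one, ← TensorProduct.smul_tmul] at ha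
    by_contra hat
    have h1 : IsUnit (a • (1 : t.ResidueField)) := by
      rw [← Algebra.algebraMap_eq_smul_one, isUnit_iff_ne_zero]
      exact fun h => hat (Ideal.algebraMap_residueField_eq_zero.1 h)
    obtain ⟨u, hu⟩ := h1
    rw [← hu] at ha
    have h2 : ((u⁻¹ : t.ResidueFieldˣ) : t.ResidueField) • ((u : t.ResidueField) ⊗ₜ[A] (1 : D)) = 0 := by
      rw [ha, smul_zero]
    rw [TensorProduct.smul_tmul', smul_eq_mul, Units.inv_mul] at h2
    exact one_ne_zero (α := t.ResidueField ⊗[A] D) h2
  · exact Ideal.le_comap_map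

theorem liesOver_map [Module.Flat A D] (hGI : FlatCA.GeomIntegralFibres A D) (t : Ideal A) [t.IsPrime] :
    (t.map (algebraMap A D)).LiesOver t := ⟨(comap_map hGI t).symm⟩

theorem forall_exists_iff [Module.Projective A D] (hGI : FlatCA.GeomIntegralFibres A D) (t : Ideal A) [t.IsPrime]
    (J : Ideal D) (hJ : J.FG) :
    (∀ x ∈ J, ∃ h ∉ t.map (algebraMap A D), h * x = 0) ↔ ∃ c ∉ t, ∀ y ∈ cont A J, c * y = 0 := by
  classical
  constructor
  · intro H
    -- each element of the content ideal is killed by an element outside `t`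
    have h1 : ∀ y ∈ cont A J, ∃ c ∉ t, c * y = 0 := by
      intro y hy
      induction hy using Submodule.span_induction with
      | mem y hy =>
        obtain ⟨φ, x, hx, rfl⟩ := hy
        obtain ⟨h, hh, e⟩ := H x hx
        obtain ⟨c, hc, e'⟩ := GenPt.exists_smul_eq_zero hGI t h x hh e
        refine ⟨c, hc, ?_⟩
        rw [← smul_eq_mul, ← map_smul, e', map_zero]
      | zero => exact ⟨1, fun h => Ideal.IsPrime.ne_top ‹_› ((Ideal.eq_top_iff_one _).2 h), mul_zero _⟩
      | add x y _ _ hx hy =>
        obtain ⟨c, hc, e⟩ := hx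
        obtain ⟨d, hd, e'⟩ := hy
        refine ⟨c * d, fun h => (Ideal.IsPrime.mem_or_mem ‹_› h).elim hc hd, ?_⟩
        linear_combination d * e + c * e'
      | smul a x _ hx =>
        obtain ⟨c, hc, e⟩ := hx
        refine ⟨c, hc, ?_⟩
        rw [smul_eq_mul]
        linear_combination a * e
    obtain ⟨T, hT⟩ := cont_fg (A := A) hJ
    choose! c hc hc' using h1
    refine ⟨∏ y ∈ T, c y, ?_, ?_⟩
    · intro h
      obtain ⟨y, hy, hy'⟩ := (Ideal.IsPrime.prod_mem_iff (s := T) (x := c)).1 h
      exact hc y (by rw [← hT]; exact Ideal.subset_span hy) hy'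
    · intro y hy
      rw [← hT] at hy
      induction hy using Submodule.span_induction with
      | mem y hy =>
        have hy' : y ∈ T := hy
        rw [← Finset.prod_erase_mul T c hy', mul_assoc, hc' y (by rw [← hT]; exact Ideal.subset_span hy), mul_zero]
      | zero => exact mul_zero _
      | add x y _ _ hx hy => rw [mul_add, hx, hy, add_zero]
      | smul a x _ hx => rw [smul_eq_mul, mul_left_comm, hx, mul_zero]
  · rintro ⟨c, hc, H⟩ x hx
    refine ⟨algebraMap A D c, fun h => hc ?_, ?_⟩
    · rw [← comap_map hGI t]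
      exact h
    · obtain ⟨φ, hφ⟩ := exists_dual (A := A) (D := D)
      obtain ⟨s, -, hs⟩ := hφ x
      rw [hs, Finset.mul_sum]
      refine Finset.sum_eq_zero fun d _ => ?_
      rw [← Algebra.smul_def, smul_smul, H _ (apply_mem_cont _ hx), zero_smul]

/-- Flatness at the generic point of the fibre over `t` in terms of content ideals of minors. -/
theorem flatAt_iff_cont [Module.Projective A D] (hGI : FlatCA.GeomIntegralFibres A D) (t : Ideal A) [t.IsPrime]
    [(t.map (algebraMap A D)).IsPrime] (K : Submodule D (Fin m → D)) (hK : K.FG) :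
    FlatCA.FlatAt A (t.map (algebraMap A D)) ((Fin m → D) ⧸ K) ↔ ∀ s,
      cont A (minorsIdeal K s) ≤ t → ∃ c ∉ t, ∀ y ∈ cont A (minorsIdeal K s), c * y = 0 := by
  rw [flatAt_iff_minors t (t.map (algebraMap A D)) rfl K hK]
  refine forall_congr' fun s => ?_
  rw [map_le_primeCompl_eq_top_iff, map_eq_bot_iff, forall_exists_iff hGI t _ (fg_minorsIdeal K hK s),
    cont_le_iff, or_comm]
  exact imp_iff_not_or.symm

theorem forall_flatAt_iff [Module.Projective A D] (hGI : FlatCA.GeomIntegralFibres A D)
    (K : Submodule D (Fin m → D)) (hK : K.FG) :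
    (∀ (t : Ideal A) [t.IsPrime] [(t.map (algebraMap A D)).IsPrime],
      FlatCA.FlatAt A (t.map (algebraMap A D)) ((Fin m → D) ⧸ K)) ↔
      ∀ s, IsIdempotentElem (cont A (minorsIdeal K s)) := by
  constructor
  · intro H s
    rw [isIdempotentElem_iff _ (cont_fg (fg_minorsIdeal K hK s))]
    intro t ht hle
    have h1 := isPrime_map (D := D) hGI t
    exact (flatAt_iff_cont hGI t K hK).1 (H t) s hle
  · intro H t ht ht'
    rw [flatAt_iff_cont hGI t K hK]
    intro s
    exact (isIdempotentElem_iff _ (cont_fg (fg_minorsIdeal K hK s))).1 (H s) t ht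

end Groth.Agent.Flat2B.StratLoc
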