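import Groth.Agent.Flat2B.GenDim
import Groth.Agent.Flat2B.CokerTr
import Groth.Agent.Flat2B.FlatDimTr
import Groth.Agent.Flat2B.StratLoc
import Mathlib.Algebra.Module.FinitePresentation

/-!
# The functor `F_n` of a module over a smooth algebra, near a prime of the base
-/

set_option autoImplicit false
universe u

namespace Groth.Agent.Flat2B.CutLoc

open TensorProduct FlatDim FlatFun ContentLoc Groth.Agent.Books.Minors StratLoc

section Beta

variable {A D M : Type u} [CommRing A] [CommRing D] [Algebra A D]
  [AddCommGroup M] [Module D M] [Module A M] [IsScalarTower A D M] {r : ℕ}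

/-- A map from a finite free module to a finitely presented module, flat at `p D`, which is injective at the residue
field of `p D`, is split injective near `p D`. -/
theorem exists_beta (p : Ideal A) (η : Ideal D) [η.IsPrime] (hη : η = p.map (algebraMap A D))
    [Module.FinitePresentation D M] (hfl : FlatCA.FlatAt A η M) (α : (Fin r → D) →ₗ[D] M)
    (hα : Function.Injective (α.baseChange η.ResidueField)) :
    ∃ (β : M →ₗ[D] (Fin r → D)) (g : D), g ∉ η ∧ ∀ x, β (α x) = g • x := by
  let L := Localization.AtPrime η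
  have hfl' : Module.Flat A (L ⊗[D] M) :=
    (LocTransfer.flatAt_iff_of_isLocalizedModule η M (TensorProduct.mk D L M 1)).1 hfl
  have hmax : IsLocalRing.maximalIdeal L = p.map (algebraMap A L) := by
    rw [← Localization.AtPrime.map_eq_maximalIdeal, IsScalarTower.algebraMap_eq A D L, ← Ideal.map_map, ← hη]
  have hfree : Module.Free L (L ⊗[D] M) := free_of_flat_base p hmax hfl'
  let αL := α.baseChange L
  have hinj : Function.Injective (αL.lTensor (IsLocalRing.ResidueField L)) := by
    let e : ∀ (X : Type u) [AddCommGroup X] [Module D X],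
      (IsLocalRing.ResidueField L) ⊗[L] (L ⊗[D] X) ≃ₗ[IsLocalRing.ResidueField L]
        (IsLocalRing.ResidueField L) ⊗[D] X := fun X _ _ =>
      AlgebraTensorModule.cancelBaseChange D L (IsLocalRing.ResidueField L) (IsLocalRing.ResidueField L) X
    have key : ∀ z, e M (αL.lTensor (IsLocalRing.ResidueField L) z) =
        α.baseChange (IsLocalRing.ResidueField L) (e (Fin r → D) z) := by
      intro z
      induction z using TensorProduct.induction_on with
      | zero => simp
      | add x y hx hy => simp only [map_add, hx, hy]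
      | tmul k z =>
        induction z using TensorProduct.induction_on with
        | zero => simp
        | add x y hx hy => simp only [TensorProduct.tmul_add, map_add, hx, hy]
        | tmul l x =>
          simp only [LinearMap.lTensor_tmul, αL, LinearMap.baseChange_tmul, e,
            AlgebraTensorModule.cancelBaseChange_tmul]
    have h1 : (⇑(e M)) ∘ (αL.lTensor (IsLocalRing.ResidueField L)) =
        (α.baseChange (IsLocalRing.ResidueField L)) ∘ (⇑(e (Fin r → D))) := funext key
    have h2 : Function.Injective ((⇑(e M)) ∘ (αL.lTensor (IsLocalRing.ResidueField L))) := by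
      rw [h1]
      exact Function.Injective.comp hα (e (Fin r → D)).injective
    exact h2.of_comp
  obtain ⟨l', hl'⟩ := (IsLocalRing.split_injective_iff_lTensor_residueField_injective αL).2 hinj
  obtain ⟨h, s, hs⟩ := Module.FinitePresentation.exists_lift_of_isLocalizedModule η.primeCompl
    (TensorProduct.mk D L (Fin r → D) 1) ((l'.restrictScalars D) ∘ₗ (TensorProduct.mk D L M 1))
  have h1 : (TensorProduct.mk D L (Fin r → D) 1) ∘ₗ (h ∘ₗ α) =
      (TensorProduct.mk D L (Fin r → D) 1) ∘ₗ (s • LinearMap.id) := by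
    apply LinearMap.ext
    intro x
    have h2 := LinearMap.congr_fun hs (α x)
    have h3 : l' ((1 : L) ⊗ₜ[D] α x) = (1 : L) ⊗ₜ[D] x := LinearMap.congr_fun hl' ((1 : L) ⊗ₜ[D] x)
    change (1 : L) ⊗ₜ[D] h (α x) = (1 : L) ⊗ₜ[D] (s • x)
    refine Eq.trans h2 ?_
    change (s : D) • l' ((1 : L) ⊗ₜ[D] α x) = (1 : L) ⊗ₜ[D] ((s : D) • x)
    rw [h3, TensorProduct.tmul_smul]
  obtain ⟨s', hs'⟩ := Module.Finite.exists_smul_of_comp_eq_of_isLocalizedModule η.primeCompl _ _ _ h1
  refine ⟨(s' : D) • h, s' * s, (s' * s).2, fun x => ?_⟩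
  have := LinearMap.congr_fun hs' x
  change (s' : D) • h (α x) = _
  change (s' : D) • h (α x) = (s' : D) • ((s : D) • x) at this
  rw [this, smul_smul]

end Beta

section Good

variable {A D : Type u} [CommRing A] [CommRing D] [Algebra A D]

theorem notMem_map_of_isUnit (g : D) (f : A) (hf : f ∈ cont A (Ideal.span {g})) (A' : Type u) [CommRing A']
    [Algebra A A'] (hu : IsUnit (algebraMap A A' f)) (t' : Ideal A') (ht' : t' ≠ ⊤) :
    g ∉ (t'.comap (algebraMap A A')).map (algebraMap A D) := by
  intro hg
  have h1 : Ideal.span {g} ≤ (t'.comap (algebraMap A A')).map (algebraMap A D) := by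
    rw [Ideal.span_singleton_le_iff_mem]; exact hg
  have h2 := cont_le_of_le_map h1 hf
  exact ht' (Ideal.eq_top_of_isUnit_mem t' h2 hu)

theorem exists_mem_cont [Module.Projective A D] (p : Ideal A) (g : D) (hg : g ∉ p.map (algebraMap A D)) :
    ∃ f ∈ cont A (Ideal.span {g}), f ∉ p := by
  by_contra hcon
  push Not at hcon
  have h1 : cont A (Ideal.span {g}) ≤ p := hcon
  rw [cont_le_iff, Ideal.span_singleton_le_iff_mem] at h1
  exact hg h1

variable {A' D' : Type u} [CommRing A'] [CommRing D']
  [Algebra A A'] [Algebra D D'] [Algebra A' D'] [Algebra A D'] [IsScalarTower A D D'] [IsScalarTower A A' D']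
  [Algebra.IsPushout A D A' D']

theorem projective_of_isPushout (A D A' D' : Type u) [CommRing A] [CommRing D] [Algebra A D]
    [CommRing A'] [CommRing D']
    [Algebra A A'] [Algebra D D'] [Algebra A' D'] [Algebra A D'] [IsScalarTower A D D'] [IsScalarTower A A' D']
    [Algebra.IsPushout A D A' D'] [Module.Projective A D] : Module.Projective A' D' := by
  have h : IsBaseChange A' (IsScalarTower.toAlgHom A D D').toLinearMap :=
    (Algebra.IsPushout.symm (inferInstance : Algebra.IsPushout A D A' D')).out
  exact Module.Projective.of_equiv h.equiv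

theorem rtd_generic_baseChange [Module.Projective A D] (g : D) (n : ℕ)
    (hg : (algebraMap A (Localization.Away g)).IsStandardSmoothOfRelativeDimension n)
    (f : A) (hf : f ∈ cont A (Ideal.span {g})) (hu : IsUnit (algebraMap A A' f))
    (t' : Ideal A') [t'.IsPrime] (η' : Ideal D') [η'.IsPrime] [η'.LiesOver t']
    (hη' : η' = t'.map (algebraMap A' D')) : rtd t' η' = n := by
  have hproj := projective_of_isPushout A D A' D'
  refine GenDim.rtd_generic (algebraMap D D' g) n (GenDim.isStandardSmooth_baseChange g n hg) t' η' hη' ?_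
  intro h
  rw [hη'] at h
  exact notMem_map_of_isUnit g f hf A' hu t' (Ideal.IsPrime.ne_top inferInstance)
    (CokerTr.mem_of_mem_map_baseChange t' g h)

end Good

section Cases

variable {A D M : Type u} [CommRing A] [CommRing D] [Algebra A D] [Module.Projective A D]
  (hGI : FlatCA.GeomIntegralFibres A D) [AddCommGroup M] [Module D M]
  (g : D) (n₀ : ℕ) (hg : (algebraMap A (Localization.Away g)).IsStandardSmoothOfRelativeDimension n₀)
  (f : A) (hf : f ∈ cont A (Ideal.span {g}))

include hGI hg hf

theorem flatP_of_lt {n : ℕ} (hn : n₀ < n) (A' : Type u) [CommRing A'] [Algebra A A']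
    (hu : IsUnit (algebraMap A A' f)) : FlatP n A D M A' := by
  intro D' M' _ _ _ _ _ _ _ _ _ _ _ _ _ w hw
  rw [flatInDimGE_iff]
  intro t' Q _ _ _ _
  have hproj := projective_of_isPushout A D A' D'
  have hGI' : FlatCA.GeomIntegralFibres A' D' := Flat2A.GeomInt.baseChange hGI A' D'
  have h1 := isPrime_map hGI' t'
  have h2 := liesOver_map hGI' t'
  have hle : t'.map (algebraMap A' D') ≤ Q := by
    rw [Ideal.map_le_iff_le_comap]
    exact (Ideal.over_def Q t').le
  refine (rtd_le_of_le t' _ Q hle).trans_lt ?_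
  rw [rtd_generic_baseChange g n₀ hg f hf hu t' _ rfl]
  exact_mod_cast hn

theorem flatInDimGE_iff_forall [Algebra.FiniteType A D] {A' D' M' : Type u} [CommRing A'] [CommRing D']
    [Algebra A A'] [Algebra D D'] [Algebra A' D'] [Algebra A D'] [IsScalarTower A D D'] [IsScalarTower A A' D']
    [Algebra.IsPushout A D A' D'] [AddCommGroup M'] [Module D' M'] [Module A' M'] [IsScalarTower A' D' M']
    (hu : IsUnit (algebraMap A A' f)) :
    FlatCA.FlatInDimGE n₀ A' D' M' ↔ ∀ (t : Ideal A') [t.IsPrime] [(t.map (algebraMap A' D')).IsPrime],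
      FlatCA.FlatAt A' (t.map (algebraMap A' D')) M' := by
  have hproj := projective_of_isPushout A D A' D'
  have hGI' : FlatCA.GeomIntegralFibres A' D' := Flat2A.GeomInt.baseChange hGI A' D'
  have hft : Algebra.FiniteType A' D' := BCTools.finiteType_of_isPushout A D A' D'
  rw [flatInDimGE_iff]
  constructor
  · intro H t _ _
    by_contra hcon
    have h2 := liesOver_map hGI' t
    have h3 := H t (t.map (algebraMap A' D')) hcon
    rw [rtd_generic_baseChange g n₀ hg f hf hu t _ rfl] at h3
    exact lt_irrefl _ h3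
  · intro H t Q _ _ _ hQ
    have h1 := isPrime_map hGI' t
    have h2 := liesOver_map hGI' t
    have hle : t.map (algebraMap A' D') ≤ Q := by
      rw [Ideal.map_le_iff_le_comap]
      exact (Ideal.over_def Q t).le
    have hne : t.map (algebraMap A' D') ≠ Q := by
      rintro rfl
      exact hQ (H t)
    rw [← rtd_generic_baseChange g n₀ hg f hf hu t (t.map (algebraMap A' D')) rfl]
    exact GenDim.rtd_lt_of_lt t Q _ (lt_of_le_of_ne hle hne)

theorem flatP_iff_idem [Algebra.FiniteType A D] {k m : ℕ} (α : (Fin k → D) →ₗ[D] (Fin m → D))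
    (e : ((Fin m → D) ⧸ LinearMap.range α) ≃ₗ[D] M) (A' : Type u) [CommRing A'] [Algebra A A']
    (hu : IsUnit (algebraMap A A' f)) :
    FlatP n₀ A D M A' ↔ ∀ s : ℕ,
      IsIdempotentElem ((cont A (minorsIdeal (LinearMap.range α) s)).map (algebraMap A A')) := by
  obtain ⟨D', M', _, _, _, _, _, _, _, _, _, _, _, _, _, w₀, hw₀⟩ :=
    PushModel.exists_models (R := A) (S := D) (A := A') M
  have hproj := projective_of_isPushout A D A' D'
  have hGI' : FlatCA.GeomIntegralFibres A' D' := Flat2A.GeomInt.baseChange hGI A' D'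
  have hu₁ : IsBaseChange D' ((Algebra.linearMap D D').compLeft (Fin k)) := IsBaseChange.finitePow (Fin k)
    (IsBaseChange.linearMap D D')
  have hu₂ : IsBaseChange D' ((Algebra.linearMap D D').compLeft (Fin m)) := IsBaseChange.finitePow (Fin m)
    (IsBaseChange.linearMap D D')
  let u₁ : (Fin k → D) →ₗ[D] (Fin k → D') := (Algebra.linearMap D D').compLeft (Fin k)
  let u₂ : (Fin m → D) →ₗ[D] (Fin m → D') := (Algebra.linearMap D D').compLeft (Fin m)
  let α' : (Fin k → D') →ₗ[D'] (Fin m → D') := hu₁.lift (u₂ ∘ₗ α)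
  have hα' : ∀ x, α' (u₁ x) = u₂ (α x) := fun x => hu₁.lift_eq _ x
  obtain ⟨w, hw, -⟩ := BCTools.isBaseChange_coker α hu₁ hu₂ α' hα'
  have hw' : IsBaseChange D' (w ∘ₗ e.symm.toLinearMap) := by
    refine IsBaseChange.of_equiv ((LinearEquiv.baseChange D D' _ _ e.symm) ≪≫ₗ hw.equiv) fun x => ?_
    simp [hw.equiv_tmul]
  rw [flatP_iff (w ∘ₗ e.symm.toLinearMap) hw', flatInDimGE_iff_forall hGI g n₀ hg f hf hu]
  have hrange : LinearMap.range α' = Submodule.span D' ((fun x : Fin m → D => ((algebraMap D D') ∘ x : Fin m → D')) ''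
      (LinearMap.range α : Set (Fin m → D))) := by
    apply le_antisymm
    · rintro _ ⟨x, rfl⟩
      refine hu₁.inductionOn x (fun y => α' y ∈ _) ?_ ?_ ?_ ?_
      · rw [map_zero]; exact zero_mem _
      · intro x
        change α' (u₁ x) ∈ _
        rw [hα']
        exact Submodule.subset_span ⟨α x, ⟨x, rfl⟩, rfl⟩
      · intro d x hx
        rw [map_smul]
        exact Submodule.smul_mem _ _ hx
      · intro x y hx hy
        rw [map_add]
        exact add_mem hx hy
    · rw [Submodule.span_le]
      rintro _ ⟨_, ⟨x, rfl⟩, rfl⟩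
      exact ⟨u₁ x, hα' x⟩
  have hfg : (LinearMap.range α').FG := by
    rw [LinearMap.range_eq_map]
    exact Module.Finite.fg_top.map _
  rw [forall_flatAt_iff hGI' (LinearMap.range α') hfg]
  refine forall_congr' fun s => ?_
  rw [hrange, MinorLoc.map_minorsIdeal, cont_map (A := A)]

end Cases

end Groth.Agent.Flat2B.CutLoc
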