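import Groth.Agent.Flat2B.DevissageBC
import Groth.Agent.Flat2B.FibreOfPoint
import Groth.Agent.Flat2A.FiberSupp

/-!
# Complete dévissages on an étale cover of a fibre

* `nonempty_completeDevissage_of_subsingleton`: the zero module has a complete dévissage.
* `step_supp`, `step_nonsupp`: the local data at one prime of the fibre.
-/

set_option autoImplicit false
universe u

namespace Groth.Agent.Flat2B.DevissageCover

open FlatCA Groth.Agent.Flat2B.DevissageRec TensorProduct Groth.Agent.Flat2B

section Trivial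

open CategoryTheory AlgebraicGeometry Limits

theorem geometricallyIrreducible_of_isIso {X Y : Scheme.{u}} (f : X ⟶ Y) [IsIso f] : GeometricallyIrreducible f := by
  refine ⟨?_⟩
  intro K _ y Z fst snd h
  have : IsIso snd := h.isIso_snd_of_isIso
  have e : Z ≃ₜ Spec (.of K) := snd.homeomorph
  have : IrreducibleSpace (Spec (.of K)) := inferInstance
  exact e.symm.surjective.irreducibleSpace e.symm.continuous

theorem nonempty_completeDevissage_of_subsingleton (R S : Type u) [CommRing R] [CommRing S] [Algebra R S] (N : Type u)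
    [AddCommGroup N] [Module S N] [Subsingleton N] (rr : Ideal R) [rr.IsPrime] :
    Nonempty (CompleteDevissage R S N rr) := by
  have hs : Subsingleton (S ⧸ (⊤ : Ideal S)) := Ideal.Quotient.subsingleton_iff.2 rfl
  have hfg : (⊤ : Ideal S).FG := ⟨{1}, by simp⟩
  have hfp : Algebra.FinitePresentation S (S ⧸ (⊤ : Ideal S)) := Algebra.FinitePresentation.quotient hfg
  have hp : (rr.map (algebraMap R R)).IsPrime := by
    rw [Algebra.algebraMap_self, Ideal.map_id]; infer_instance
  have hg : GeomIrredFibres R R := by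
    have : IsIso (Spec.map (CommRingCat.ofHom (algebraMap R R))) := by
      rw [Algebra.algebraMap_self]
      change IsIso (Spec.map (𝟙 (CommRingCat.of R)))
      rw [Spec.map_id]
      infer_instance
    exact geometricallyIrreducible_of_isIso _
  let e : N ≃ₗ[S] (S ⧸ (⊤ : Ideal S)) :=
    { toFun := fun _ ↦ 0, invFun := fun _ ↦ 0, left_inv := fun _ ↦ Subsingleton.elim _ _
      right_inv := fun _ ↦ Subsingleton.elim _ _, map_add' := fun _ _ ↦ Subsingleton.elim _ _,
      map_smul' := fun _ _ ↦ Subsingleton.elim _ _ }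
  have hsub : ∀ (κ : Type u) [CommRing κ] [Algebra R κ] (M : Type u) [AddCommGroup M] [Module R M] [Subsingleton M],
      Subsingleton (κ ⊗[R] M) := by
    intro κ _ _ M _ _ _
    refine ⟨fun a b ↦ ?_⟩
    have h : ∀ x : κ ⊗[R] M, x = 0 := by
      intro x
      induction x using TensorProduct.induction_on with
      | zero => rfl
      | tmul a m => rw [Subsingleton.elim m 0, TensorProduct.tmul_zero]
      | add x y hx hy => rw [hx, hy, add_zero]
    rw [h a, h b]
  let st : Step R S N rr :=
    { A := S ⧸ (⊤ : Ideal S)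
      B := R
      M := S ⧸ (⊤ : Ideal S)
      r := 0
      α := 0
      hp := hp
      surjSA := Ideal.Quotient.mk_surjective
      fpSA := hfp
      finiteBA := inferInstance
      smooth := inferInstance
      geomIrred := hg
      finiteM := inferInstance
      isoN := e
      fibreIso := by
        have h1 : Subsingleton ((rr.map (algebraMap R R)).ResidueField ⊗[R] (Fin 0 → R)) := hsub _ _
        have h2 : Subsingleton ((rr.map (algebraMap R R)).ResidueField ⊗[R] (S ⧸ (⊤ : Ideal S))) := hsub _ _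
        exact ⟨fun a b _ ↦ Subsingleton.elim _ _, fun b ↦ ⟨0, Subsingleton.elim _ _⟩⟩ }
  exact ⟨single st (fun b ↦ ⟨0, Subsingleton.elim _ _⟩)⟩

end Trivial

/-- The conclusion at stage `A'`, on the part `D(s)` of the fibre. -/
def Concl (A : Type u) {B : Type u} [CommRing A] [CommRing B] [Algebra A B] (N : Type u) [AddCommGroup N] [Module B N]
    (A' : Type u) [CommRing A'] [Algebra A A'] (p' : Ideal A') [p'.IsPrime] (s : B) : Prop :=
  ∀ (BA NA : Type u) [CommRing BA] [Algebra B BA] [Algebra A' BA] [Algebra A BA] [IsScalarTower A B BA]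
    [IsScalarTower A A' BA] [Algebra.IsPushout A B A' BA]
    [AddCommGroup NA] [Module BA NA] [Module B NA] [IsScalarTower B BA NA]
    (fA : N →ₗ[B] NA), IsBaseChange BA fA →
    ∃ (C : Type u) (_ : CommRing C) (_ : Algebra BA C) (_ : Algebra A' C) (_ : IsScalarTower A' BA C)
      (Nc : Type u) (_ : AddCommGroup Nc) (_ : Module C Nc) (_ : Module BA Nc) (_ : IsScalarTower BA C Nc)
      (g : NA →ₗ[BA] Nc),
      (Algebra.Etale BA C ∧ IsBaseChange C g ∧ Nonempty (CompleteDevissage A' C Nc p')) ∧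
      ∀ (Q : Ideal BA) [Q.IsPrime], Q.LiesOver p' → algebraMap B BA s ∉ Q →
        ∃ Q' : Ideal C, Q'.IsPrime ∧ Q'.comap (algebraMap BA C) = Q

/-- Outside the support of the module. -/
theorem concl_of_smul_eq_zero {A B : Type u} [CommRing A] [CommRing B] [Algebra A B] {N : Type u} [AddCommGroup N]
    [Module B N] (s : B) (hs : ∀ n : N, s • n = 0) (A' : Type u) [CommRing A'] [Algebra A A'] (p' : Ideal A')
    [p'.IsPrime] : Concl A N A' p' s := by
  intro BA NA _ _ _ _ _ _ _ _ _ _ _ fA hfA
  have h0 : ∀ x : NA, algebraMap B BA s • x = 0 := by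
    intro x
    induction x using hfA.inductionOn with
    | zero => rw [smul_zero]
    | tmul m => rw [algebraMap_smul, ← map_smul, hs, map_zero]
    | smul t n hn => rw [smul_comm, hn, smul_zero]
    | add a b ha hb => rw [smul_add, ha, hb, add_zero]
  have hsub : Subsingleton (Localization.Away (algebraMap B BA s) ⊗[BA] NA) := by
    have hz : ∀ x : Localization.Away (algebraMap B BA s) ⊗[BA] NA, x = 0 := by
      intro x
      have hu : IsUnit (algebraMap BA (Localization.Away (algebraMap B BA s)) (algebraMap B BA s)) :=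
        IsLocalization.Away.algebraMap_isUnit _
      have h1 : algebraMap BA (Localization.Away (algebraMap B BA s)) (algebraMap B BA s) • x = 0 := by
        induction x using TensorProduct.induction_on with
        | zero => rw [smul_zero]
        | tmul a m => rw [algebraMap_smul, ← TensorProduct.tmul_smul, h0, TensorProduct.tmul_zero]
        | add x y hx hy => rw [smul_add, hx, hy, add_zero]
      exact (hu.smul_eq_zero).1 h1
    exact ⟨fun a b ↦ by rw [hz a, hz b]⟩
  refine ⟨Localization.Away (algebraMap B BA s), inferInstance, inferInstance, inferInstance, inferInstance,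
    Localization.Away (algebraMap B BA s) ⊗[BA] NA, inferInstance, inferInstance, inferInstance, inferInstance,
    TensorProduct.mk BA _ NA 1, ⟨Algebra.Etale.of_isLocalizationAway (algebraMap B BA s),
      TensorProduct.isBaseChange BA NA _, nonempty_completeDevissage_of_subsingleton _ _ _ _⟩, ?_⟩
  intro Q hQ _ hsQ
  have hd : Disjoint (Submonoid.powers (algebraMap B BA s) : Set BA) Q :=
    (Ideal.disjoint_powers_iff_notMem_of_isPrime (I := Q) _).mpr hsQ
  exact ⟨Q.map (algebraMap BA _), IsLocalization.isPrime_of_isPrime_disjoint (.powers (algebraMap B BA s)) _ _ hQ hd,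
    IsLocalization.under_map_of_isPrime_disjoint (.powers (algebraMap B BA s)) _ hQ hd⟩

/-- At a point where the module has a complete dévissage after elementary étale localization; `BA₁` is a model of
`A₁ ⊗_A B`. -/
theorem concl_of_completeDevissage {A B : Type u} [CommRing A] [CommRing B] [Algebra A B] {N : Type u} [AddCommGroup N]
    [Module B N] {A₁ B₁ BA₁ : Type u} [CommRing A₁] [CommRing B₁] [CommRing BA₁] [Algebra A A₁] [Algebra A B₁]
    [Algebra B B₁] [Algebra A₁ B₁] [IsScalarTower A A₁ B₁] [IsScalarTower A B B₁]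
    [Algebra A BA₁] [Algebra B BA₁] [Algebra A₁ BA₁] [IsScalarTower A B BA₁] [IsScalarTower A A₁ BA₁]
    [hpo₁ : Algebra.IsPushout A B A₁ BA₁]
    [Algebra BA₁ B₁] [IsScalarTower B BA₁ B₁] [IsScalarTower A₁ BA₁ B₁] [Algebra.Etale BA₁ B₁]
    (p₁ : Ideal A₁) [p₁.IsPrime]
    (N₁ : Type u) [AddCommGroup N₁] [Module B₁ N₁] [Module B N₁] [IsScalarTower B B₁ N₁]
    (f₁ : N →ₗ[B] N₁) (hf₁ : IsBaseChange B₁ f₁) (D : CompleteDevissage A₁ B₁ N₁ p₁)
    (g : BA₁) (hg : ∀ (Q : Ideal BA₁) [Q.IsPrime], g ∉ Q → ∃ Q' : Ideal B₁, Q'.IsPrime ∧ Q'.comap (algebraMap BA₁ B₁) = Q)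
    (s : B) (hs : ∀ (Q : Ideal BA₁) [Q.IsPrime], Q.LiesOver p₁ → (algebraMap B BA₁ s ∉ Q ↔ g ∉ Q))
    (A' : Type u) [CommRing A'] [Algebra A A'] [Algebra A₁ A'] [IsScalarTower A A₁ A'] (p' : Ideal A')
    [p'.IsPrime] (hres : PointBC.ResTriv p₁ p') : Concl A N A' p' s := by
  intro BA NA _ _ _ _ _ _ hpo _ _ _ _ fA hfA
  -- the map `BA₁ → BA`
  let φ₀ : BA₁ →ₐ[A] BA := Algebra.pushoutDesc BA₁ (IsScalarTower.toAlgHom A B BA)
    ((IsScalarTower.toAlgHom A A' BA).comp (IsScalarTower.toAlgHom A A₁ A')) fun _ _ ↦ mul_comm _ _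
  have hφS : ∀ s, φ₀ (algebraMap B BA₁ s) = algebraMap B BA s := fun s ↦ Algebra.pushoutDesc_left _ _ _ _ s
  have hφA : ∀ a, φ₀ (algebraMap A₁ BA₁ a) = algebraMap A' BA (algebraMap A₁ A' a) := fun a ↦
    Algebra.pushoutDesc_right _ _ _ _ a
  let _ : Algebra BA₁ BA := φ₀.toRingHom.toAlgebra
  let _ : Algebra A₁ BA := ((algebraMap A' BA).comp (algebraMap A₁ A')).toAlgebra
  have _ : IsScalarTower A₁ A' BA := IsScalarTower.of_algebraMap_eq' rfl
  have _ : IsScalarTower A₁ BA₁ BA := IsScalarTower.of_algebraMap_eq fun a ↦ (hφA a).symm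
  have _ : IsScalarTower B BA₁ BA := IsScalarTower.of_algebraMap_eq fun a ↦ (hφS a).symm
  have po : Algebra.IsPushout A₁ BA₁ A' BA := by
    have h1 : Algebra.IsPushout A A₁ B BA₁ := hpo₁.symm
    have h2 : Algebra.IsPushout A A' B BA := hpo.symm
    have := (Algebra.IsPushout.comp_iff A A₁ B (S' := BA₁)).1 h2
    exact this.symm
  -- the algebra `C`
  obtain ⟨C, Nc, _, _, _, _, _, _, hpoC, _, _, _, _, _, _, fc, hfc⟩ := FibreOfPoint.exists_model BA₁ B₁ BA N₁
  let _ : Algebra A' C := ((algebraMap BA C).comp (algebraMap A' BA)).toAlgebra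
  have _ : IsScalarTower A' BA C := IsScalarTower.of_algebraMap_eq' rfl
  let _ : Algebra A₁ C := ((algebraMap BA C).comp (algebraMap A₁ BA)).toAlgebra
  have _ : IsScalarTower A₁ BA C := IsScalarTower.of_algebraMap_eq' rfl
  have _ : IsScalarTower A₁ A' C := IsScalarTower.of_algebraMap_eq (by
    intro x
    rw [IsScalarTower.algebraMap_apply A₁ BA C, IsScalarTower.algebraMap_apply A₁ A' BA,
      ← IsScalarTower.algebraMap_apply A' BA C])
  have _ : IsScalarTower A₁ BA₁ C := IsScalarTower.of_algebraMap_eq (by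
    intro x
    rw [IsScalarTower.algebraMap_apply A₁ BA C, IsScalarTower.algebraMap_apply A₁ BA₁ BA,
      ← IsScalarTower.algebraMap_apply BA₁ BA C])
  have _ : IsScalarTower A₁ B₁ C := IsScalarTower.of_algebraMap_eq (by
    intro x
    rw [IsScalarTower.algebraMap_apply A₁ BA₁ C, IsScalarTower.algebraMap_apply A₁ BA₁ B₁,
      ← IsScalarTower.algebraMap_apply BA₁ B₁ C])
  have hpoC' : Algebra.IsPushout A₁ B₁ A' C := (Algebra.IsPushout.comp_iff A₁ BA₁ A' (S' := BA)).2 hpoC
  have het : Algebra.Etale BA C := BCTools.etale_of_isPushout BA₁ B₁ BA C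
  have hdev : Nonempty (CompleteDevissage A' C Nc p') :=
    DevissageBC.nonempty_completeDevissage_baseChange D hres fc hfc
  -- `Nc` is the base change of `NA`
  let _ : Algebra B C := ((algebraMap BA C).comp (algebraMap B BA)).toAlgebra
  have _ : IsScalarTower B BA C := IsScalarTower.of_algebraMap_eq' rfl
  have _ : IsScalarTower B B₁ C := IsScalarTower.of_algebraMap_eq (by
    intro x
    rw [IsScalarTower.algebraMap_apply B BA C, IsScalarTower.algebraMap_apply B BA₁ BA,
      ← IsScalarTower.algebraMap_apply BA₁ BA C, IsScalarTower.algebraMap_apply BA₁ B₁ C,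
      ← IsScalarTower.algebraMap_apply B BA₁ B₁])
  let _ : Module B Nc := Module.compHom _ (algebraMap B C)
  have _ : IsScalarTower B C Nc := IsScalarTower.of_algebraMap_smul fun _ _ ↦ rfl
  have _ : IsScalarTower B B₁ Nc := by
    refine IsScalarTower.of_algebraMap_smul fun r x ↦ ?_
    rw [← algebraMap_smul C, ← IsScalarTower.algebraMap_apply, algebraMap_smul]
  have _ : IsScalarTower B BA Nc := by
    refine IsScalarTower.of_algebraMap_smul fun r x ↦ ?_
    rw [← algebraMap_smul C, ← IsScalarTower.algebraMap_apply, algebraMap_smul]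
  have hc : IsBaseChange C ((fc.restrictScalars B) ∘ₗ f₁) := hf₁.comp hfc
  let γ : NA →ₗ[BA] Nc := hfA.lift ((fc.restrictScalars B) ∘ₗ f₁)
  have hγ : γ.restrictScalars B ∘ₗ fA = (fc.restrictScalars B) ∘ₗ f₁ := by
    ext x
    exact hfA.lift_eq _ x
  have hγbc : IsBaseChange C γ := IsBaseChange.of_comp hfA (by rw [hγ]; exact hc)
  refine ⟨C, inferInstance, inferInstance, inferInstance, inferInstance, Nc, inferInstance, inferInstance,
    inferInstance, inferInstance, γ, ⟨het, hγbc, hdev⟩, ?_⟩
  intro Q _ hQ hsQ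
  have hp : p'.LiesOver p₁ := hres.liesOver
  have hQ₁ : (Q.comap (algebraMap BA₁ BA)).LiesOver p₁ := by
    refine ⟨?_⟩
    rw [hp.over, hQ.over, Ideal.under_def, Ideal.under_def, Ideal.under_def, Ideal.comap_comap, Ideal.comap_comap,
      ← IsScalarTower.algebraMap_eq, ← IsScalarTower.algebraMap_eq]
  have h1 : g ∉ Q.comap (algebraMap BA₁ BA) := by
    rw [← hs _ hQ₁, Ideal.mem_comap, ← IsScalarTower.algebraMap_apply]
    exact hsQ
  obtain ⟨Q₂, _, hQ₂⟩ := hg _ h1
  have l1 : Q.LiesOver (Q.comap (algebraMap BA₁ BA)) := ⟨rfl⟩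
  have l2 : Q₂.LiesOver (Q.comap (algebraMap BA₁ BA)) := ⟨hQ₂.symm⟩
  obtain ⟨Q', hQ', -, h3⟩ := EtaleNhd.exists_prime_of_isPushout (R := BA₁) (R' := BA) (S := B₁) (S' := C)
    (Q.comap (algebraMap BA₁ BA)) Q₂ Q
  exact ⟨Q', hQ', h3.over.symm⟩

end Groth.Agent.Flat2B.DevissageCover
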