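import Groth.Agent.Dcoh.TensSingle
import Mathlib.Algebra.Homology.DerivedCategory.ShortExact
import Mathlib.CategoryTheory.Adjunction.Additive
import Mathlib.Algebra.Homology.HomotopyCategory.KProjective
import Mathlib.CategoryTheory.Triangulated.Adjunction

/-!
# `Hom(U, RT(K)⟦i⟧) ≃+ Hom(F', K⟦i⟧)` for a right adjoint `RT` of a derived tensor product `- ⊗ᴸ F`

Abstract form of the adjunction `Hom(1, RHom(F, K)⟦i⟧) = Hom(F, K⟦i⟧)`.
-/

set_option autoImplicit false

universe w w' v v' v₃ u u' u₃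

open CategoryTheory CategoryTheory.Limits HomologicalComplex

namespace Groth.Agent.Flat2B.DualAdjAbs

section Shift

variable {C : Type u} [Category.{v} C] [Preadditive C] [HasShift C ℤ]
  [∀ n : ℤ, (shiftFunctor C n).Additive]

/-- `Hom(A, B⟦i⟧) ≃+ Hom(A⟦-i⟧, B)`. -/
noncomputable def shiftHom (A B : C) (i : ℤ) : (A ⟶ B⟦i⟧) ≃+ (A⟦-i⟧ ⟶ B) :=
  have h : -i + i = 0 := by simp
  have : (shiftEquiv' C (-i) i h).functor.Additive :=
    inferInstanceAs (shiftFunctor C (-i)).Additive
  ((shiftEquiv' C (-i) i h).toAdjunction.homAddEquiv A B).symm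

/-- Composition with isomorphisms, as an additive equivalence. -/
def isoHom {A A' B B' : C} (e : A ≅ A') (e' : B ≅ B') : (A ⟶ B) ≃+ (A' ⟶ B') where
  toFun f := e.inv ≫ f ≫ e'.hom
  invFun f := e.hom ≫ f ≫ e'.inv
  left_inv f := by simp
  right_inv f := by simp
  map_add' f g := by simp

end Shift

variable {A : Type u} [Category.{v} A] [Abelian A] [HasDerivedCategory.{w} A]
  {B : Type u'} [Category.{v'} B] [Abelian B]
  {D : Type u₃} [Category.{v₃} D] [Abelian D] [HasDerivedCategory.{w'} D]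

lemma additive_of_rightAdjoint {LT : DerivedCategory A ⥤ DerivedCategory D}
    {RT : DerivedCategory D ⥤ DerivedCategory A} (adj : LT ⊣ RT) : LT.Additive := by
  have h1 : RT.IsRightAdjoint := adj.isRightAdjoint
  have h3 : PreservesLimits RT := adj.rightAdjoint_preservesLimits
  have h2 : RT.Additive := Functor.additive_of_preserves_binary_products RT
  exact adj.left_adjoint_additive

variable
  (T : A ⥤ B ⥤ D) [T.Additive] [∀ X, (T.obj X).Additive]
  [∀ (K₁ : CochainComplex A ℤ) (K₂ : CochainComplex B ℤ), CochainComplex.HasMapBifunctor K₁ K₂ T]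
  (P : ObjectProperty (CochainComplex A ℤ))

/-- The value of a derived tensor product on a shift of an object. -/
theorem nonempty_iso (F : B) (LT : DerivedCategory A ⥤ DerivedCategory D)
    (α : DerivedCategory.Q ⋙ LT ⟶
      T.map₂CochainComplex.flip.obj ((CochainComplex.singleFunctor B 0).obj F) ⋙ DerivedCategory.Q)
    (hα : ∀ K : CochainComplex A ℤ, P K → IsIso (α.app K))
    (U : A) (m : ℤ) (hU : P (((CochainComplex.singleFunctor A 0).obj U)⟦m⟧))
    (F' : D) (e : (T.obj U).obj F ≅ F') :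
    Nonempty (LT.obj ((DerivedCategory.Q.obj ((CochainComplex.singleFunctor A 0).obj U))⟦m⟧) ≅
      (DerivedCategory.Q.obj ((CochainComplex.singleFunctor D 0).obj F'))⟦m⟧) := by
  have := hα _ hU
  have : (T.flip.obj F).Additive := ⟨fun {X Y} {f g} => by simp [Functor.flip_obj_map, T.map_add]⟩
  let G := T.flip.obj F
  let e₁ : LT.obj ((DerivedCategory.Q.obj ((CochainComplex.singleFunctor A 0).obj U))⟦m⟧) ≅
      LT.obj (DerivedCategory.Q.obj (((CochainComplex.singleFunctor A 0).obj U)⟦m⟧)) :=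
    LT.mapIso ((DerivedCategory.Q.commShiftIso m).app _).symm
  let e₂ := asIso (α.app (((CochainComplex.singleFunctor A 0).obj U)⟦m⟧))
  let e₃ := ((Groth.Agent.Dcoh.TensSingle.singleRightIso T F).app
    (((CochainComplex.singleFunctor A 0).obj U)⟦m⟧)).symm
  let e₄ := ((G.mapHomologicalComplex (ComplexShape.up ℤ)).commShiftIso m).app
    ((CochainComplex.singleFunctor A 0).obj U)
  let e₅ : (G.mapHomologicalComplex (ComplexShape.up ℤ)).obj ((CochainComplex.singleFunctor A 0).obj U) ≅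
    (CochainComplex.singleFunctor D 0).obj F' :=
    (singleMapHomologicalComplex G (ComplexShape.up ℤ) 0).app U ≪≫
      (CochainComplex.singleFunctor D 0).mapIso e
  exact ⟨e₁ ≪≫ e₂ ≪≫ DerivedCategory.Q.mapIso (e₃ ≪≫ e₄ ≪≫ (shiftFunctor _ m).mapIso e₅) ≪≫
    (DerivedCategory.Q.commShiftIso m).app _⟩

/-- `Hom(U, RT(K)⟦i⟧) ≃+ Hom(F', K⟦i⟧)`. -/
theorem nonempty_homEquiv (F : B) (LT : DerivedCategory A ⥤ DerivedCategory D)
    (α : DerivedCategory.Q ⋙ LT ⟶
      T.map₂CochainComplex.flip.obj ((CochainComplex.singleFunctor B 0).obj F) ⋙ DerivedCategory.Q)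
    (hα : ∀ K : CochainComplex A ℤ, P K → IsIso (α.app K))
    (RT : DerivedCategory D ⥤ DerivedCategory A) (adj : LT ⊣ RT)
    (U : A) (hU : ∀ m : ℤ, P (((CochainComplex.singleFunctor A 0).obj U)⟦m⟧))
    (F' : D) (e : (T.obj U).obj F ≅ F') (K : DerivedCategory D) (i : ℤ) :
    Nonempty ((DerivedCategory.Q.obj ((CochainComplex.singleFunctor A 0).obj U) ⟶ (RT.obj K)⟦i⟧) ≃+
      (DerivedCategory.Q.obj ((CochainComplex.singleFunctor D 0).obj F') ⟶ K⟦i⟧)) := by
  have := additive_of_rightAdjoint adj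
  obtain ⟨e'⟩ := nonempty_iso T P F LT α hα U (-i) (hU _) F' e
  exact ⟨(shiftHom _ _ i).trans ((adj.homAddEquiv _ _).symm.trans
    ((isoHom e' (Iso.refl K)).trans (shiftHom _ _ i).symm))⟩

end Groth.Agent.Flat2B.DualAdjAbs
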