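import Groth.Agent.Sga4h.ModDRHom
import Groth.Agent.Flat2B.DualAdjAbs
import Mathlib.CategoryTheory.Sites.ConstantSheaf
import Groth.Prelude.Def_EtCore

/-!
# `Hom(Λ_X, RHom(F, K)⟦i⟧) ≃+ Hom(F, K⟦i⟧)` in `D(X_et, Λ)`
-/

set_option autoImplicit false

universe u

open CategoryTheory CategoryTheory.Limits AlgebraicGeometry Opposite HomologicalComplex MonoidalCategory

namespace Groth.Agent.Flat2B.DualAdj377

open Groth.Agent.Sga4h ModDTensor EtPts PModRes KProjFun ModDGood ModDLTensor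

attribute [local instance] HasDerivedCategory.standard

variable {Λ : Type (u + 1)} [CommRing Λ] {X : Scheme.{u}}

/-- `F ≅ a(i F)`. -/
noncomputable def shInc (F : EtModW.Mod Λ X) : F ≅ (sh Λ X).obj ((inc Λ X).obj F) :=
  (sheafificationNatIso X.smallEtaleTopology (ModuleCat.{u + 1} Λ)).app F

variable (Λ X) in
/-- The unit presheaf. -/
noncomputable abbrev onePre : PMod Λ X := (Functor.const X.Etaleᵒᵖ).obj (ModuleCat.of Λ Λ)

/-- `Λ_X ⊗ F ≅ F`. -/
noncomputable def unitTensor (F : EtModW.Mod Λ X) :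
    ((EtModD.tensorBi Λ X).obj (EtModW.constMod Λ X Λ)).obj F ≅ F :=
  ((EtModD.tensorBi Λ X).obj (EtModW.constMod Λ X Λ)).mapIso (shInc F) ≪≫
    (shIso (𝟙_ (PMod Λ X)) ((inc Λ X).obj F)).symm ≪≫
    (sh Λ X).mapIso (λ_ ((inc Λ X).obj F)) ≪≫ (shInc F).symm

instance projective_onePre : Projective (onePre Λ X) := by
  have h : Projective (ModuleCat.of Λ Λ) := ModuleCat.projective_of_free (Module.Free.chooseBasis Λ Λ)
  exact (constantPresheafAdj (ModuleCat.{u + 1} Λ) (EtCore.topIsTerminal X)).map_projective _ h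

lemma good_of_iso {P Q : CochainComplex (EtModW.Mod Λ X) ℤ} (e : P ≅ Q) (hP : good P) : good Q :=
  fun x => by
    have := hP x
    exact CochainComplex.isKProjective_of_iso
      (((stk Λ x).mapHomologicalComplex (ComplexShape.up ℤ)).mapIso e)

/-- `Λ_X⟦m⟧` is a good complex. -/
theorem good_one (m : ℤ) :
    good (((CochainComplex.singleFunctor (EtModW.Mod Λ X) 0).obj (EtModW.constMod Λ X Λ))⟦m⟧) := by
  have h0 : CochainComplex.IsKProjective
      ((CochainComplex.singleFunctor (PMod Λ X) 0).obj (onePre Λ X)) := by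
    have : ∀ n : ℤ, Projective
        (((CochainComplex.singleFunctor (PMod Λ X) 0).obj (onePre Λ X)).X n) := by
      intro n
      by_cases hn : n = 0
      · subst hn
        exact Projective.of_iso (singleObjXSelf (ComplexShape.up ℤ) 0 (onePre Λ X)).symm
          (projective_onePre)
      · exact (isZero_single_obj_X (ComplexShape.up ℤ) 0 (onePre Λ X) n hn).projective
    exact CochainComplex.isKProjective_of_projective _ 0
  have h1 := good_sh (((CochainComplex.singleFunctor (PMod Λ X) 0).obj (onePre Λ X))⟦m⟧)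
  refine good_of_iso ?_ h1
  exact ((((sh Λ X).mapHomologicalComplex (ComplexShape.up ℤ)).commShiftIso m).app _) ≪≫
    (shiftFunctor _ m).mapIso
      ((singleMapHomologicalComplex (sh Λ X) (ComplexShape.up ℤ) 0).app (onePre Λ X))

/-- `Hom(Λ_X, RHom(F, K)⟦i⟧) ≃+ Hom(F, K⟦i⟧)`. -/
theorem nonempty_homEquiv (F : EtModW.Mod Λ X)
    [EtModD.HasLTensorCx ((CochainComplex.singleFunctor (EtModW.Mod Λ X) 0).obj F)]
    [EtModD.HasRHom ((CochainComplex.singleFunctor (EtModW.Mod Λ X) 0).obj F)]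
    (K : EtModD.D Λ X) (i : ℤ) :
    Nonempty ((DerivedCategory.Q.obj ((CochainComplex.singleFunctor (EtModW.Mod Λ X) 0).obj
        (EtModW.constMod Λ X Λ)) ⟶
        (EtModD.dual K ((CochainComplex.singleFunctor (EtModW.Mod Λ X) 0).obj F))⟦i⟧) ≃+
      (DerivedCategory.Q.obj ((CochainComplex.singleFunctor (EtModW.Mod Λ X) 0).obj F) ⟶ K⟦i⟧)) :=
  DualAdjAbs.nonempty_homEquiv (EtModD.tensorBi Λ X) good F
    (EtModD.LTensorCx ((CochainComplex.singleFunctor (EtModW.Mod Λ X) 0).obj F))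
    ((EtModD.tensorCxQ ((CochainComplex.singleFunctor (EtModW.Mod Λ X) 0).obj F)).totalLeftDerivedCounit
      DerivedCategory.Q (HomologicalComplex.quasiIso (EtModW.Mod Λ X) (ComplexShape.up ℤ)))
    (fun P hP => isIso_counit _ P hP)
    (EtModD.RHom ((CochainComplex.singleFunctor (EtModW.Mod Λ X) 0).obj F))
    (EtModD.RHomAdj _) (EtModW.constMod Λ X Λ) good_one F (unitTensor F) K i

end Groth.Agent.Flat2B.DualAdj377
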