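import Groth.Agent.Sga4B.DualFormal
import Groth.Agent.Sga4h.X144Alg
import Groth.Agent.Flat2B.DualAdjAbs
import Mathlib.Algebra.Homology.DerivedCategory.TStructure
import Mathlib.Algebra.Homology.DerivedCategory.Ext.Basic

/-!
# Formal duality: vanishing above the top degree, double duals, and the form in the derived category
-/

set_option autoImplicit false

universe w w' w'' v v' u u' t

open CategoryTheory CategoryTheory.Limits CategoryTheory.Abelian HomologicalComplex

namespace Groth.Agent.Flat2B.DualGlueAbs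

open Groth.Agent.Sga4B.DualFormal

section Van

variable {A : Type u} [Category.{v} A] [Abelian A] [HasExt.{w} A]
variable {B : Type u'} [Category.{v'} B] [Abelian B] [HasExt.{w'} B]
variable {Ψ : A ⥤ B} [Ψ.Additive] [PreservesFiniteLimits Ψ] [PreservesFiniteColimits Ψ]
variable {Z : B} {K : A} {N : ℕ} {E : Type t} [AddCommGroup E]
variable (tr : Ext.{w'} Z (Ψ.obj K) N →+ E) [EnoughInjectives A]

include tr in
/-- If `φ^N` is bijective on all objects then `Ext^(N+1)(F, K) = 0` for all `F`. -/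
theorem ext_eq_zero_succ (hE : RelInj.{w'} Ψ Z E)
    (hb : ∀ F, Function.Bijective (phi Ψ Z tr F (q := N) (m := 0) (zero_add N))) (F : A)
    (e : Ext.{w} F K (N + 1)) : e = 0 := by
  obtain ⟨F', p, hp, hpe⟩ := exists_epi_kill N e
  let S := ShortComplex.mk _ _ (kernel.condition p)
  have hS : S.ShortExact := { exact := ShortComplex.exact_kernel p }
  obtain ⟨y, hy⟩ := Ext.contravariant_sequence_exact₃ hS K e hpe (n₀ := N) (add_comm 1 N)
  have hmono : Mono (Ψ.map S.f) := (hS.map_of_exact Ψ).mono_f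
  have h1 : ∀ z : Ext.{w'} Z (Ψ.obj S.X₁) 0,
      z.comp (Ext.mk₀ (Ψ.map S.f)) (add_zero _) = 0 →
      phi Ψ Z tr S.X₁ (q := N) (m := 0) (zero_add N) y z = 0 := by
    intro z hz
    obtain ⟨z, rfl⟩ := (Ext.mk₀_bijective _ _).2 z
    rw [Ext.mk₀_comp_mk₀] at hz
    have h2 : z ≫ Ψ.map S.f = 0 := (Ext.mk₀_bijective _ _).1 (by rw [hz, Ext.mk₀_zero])
    have h3 : z = 0 := by
      rw [← cancel_mono (Ψ.map S.f), h2, zero_comp]
    rw [h3, Ext.mk₀_zero, map_zero]
  obtain ⟨b, hb'⟩ := hE.exists_extend S.X₂ 0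
    (AddMonoidHom.mk' (fun z : Ext.{w'} Z (Ψ.obj S.X₁) 0 =>
      z.comp (Ext.mk₀ (Ψ.map S.f)) (add_zero _)) (fun _ _ => Ext.add_comp _ _ _ _))
    (phi Ψ Z tr S.X₁ (q := N) (m := 0) (zero_add N) y) h1
  obtain ⟨y', hy'⟩ := (hb S.X₂).2 b
  have h3 : (Ext.mk₀ S.f).comp y' (zero_add N) = y := by
    apply (hb S.X₁).1
    ext z
    rw [phi_comp, hy']
    exact hb' z
  rw [← hy, ← h3, ← Ext.comp_assoc _ _ _ (add_zero 1) (zero_add N) (by omega), hS.extClass_comp,
    Ext.zero_comp]

include tr in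
/-- If `φ^N` is bijective on all objects then `Ext^q(F, K) = 0` for all `F` and all `q > N`. -/
theorem ext_eq_zero (hE : RelInj.{w'} Ψ Z E)
    (hb : ∀ F, Function.Bijective (phi Ψ Z tr F (q := N) (m := 0) (zero_add N))) (q : ℕ) (hq : N < q)
    (F : A) (e : Ext.{w} F K q) : e = 0 := by
  induction q, hq using Nat.le_induction generalizing F with
  | base => exact ext_eq_zero_succ tr hE hb F e
  | succ q hq ih =>
    obtain ⟨F', p, hp, hpe⟩ := exists_epi_kill q e
    let S := ShortComplex.mk _ _ (kernel.condition p)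
    have hS : S.ShortExact := { exact := ShortComplex.exact_kernel p }
    obtain ⟨y, hy⟩ := Ext.contravariant_sequence_exact₃ hS K e hpe (n₀ := q) (add_comm 1 q)
    rw [← hy, ih _ y, Ext.comp_zero]

end Van

section Dual

/-- A finite abelian group killed by `n` is isomorphic to its `ℤ/n`-double dual. -/
theorem nonempty_doubleDual (n : ℕ) (hn : n ≠ 0) (M : Type t) [AddCommGroup M] [Finite M]
    (hM : ∀ x : M, n • x = 0) : Nonempty (M ≃+ ((M →+ ZMod n) →+ ZMod n)) := by
  have : NeZero n := ⟨hn⟩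
  have hM' : ∀ x : M →+ ZMod n, n • x = 0 := by
    intro x
    ext m
    change n • x m = 0
    rw [← map_nsmul, hM, map_zero]
  have hinj1 : Finite (M →+ ZMod n) := Finite.of_injective (fun f : M →+ ZMod n => (f : M → ZMod n))
    DFunLike.coe_injective
  have hinj2 : Finite ((M →+ ZMod n) →+ ZMod n) :=
    Finite.of_injective (fun f : (M →+ ZMod n) →+ ZMod n => (f : (M →+ ZMod n) → ZMod n))
      DFunLike.coe_injective
  let ev : M →+ ((M →+ ZMod n) →+ ZMod n) :=
    AddMonoidHom.mk' (fun m => AddMonoidHom.mk' (fun f => f m) (fun _ _ => rfl))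
      (fun a b => by ext f; exact map_add f a b)
  have hev : Function.Injective ev := by
    rw [injective_iff_map_eq_zero]
    intro m hm
    by_contra hne
    obtain ⟨f, hf⟩ := Groth.Agent.Sga4h.X144Alg.exists_hom_ne_zero n hM hne
    exact hf (DFunLike.congr_fun hm f)
  have hcard : Nat.card M = Nat.card ((M →+ ZMod n) →+ ZMod n) := by
    rw [Groth.Agent.Sga4h.X144Alg.card_hom n hM', Groth.Agent.Sga4h.X144Alg.card_hom n hM]
  have hbij : Function.Bijective ev := by
    have : Fintype M := Fintype.ofFinite M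
    have : Fintype ((M →+ ZMod n) →+ ZMod n) := Fintype.ofFinite _
    rw [Fintype.bijective_iff_injective_and_card]
    exact ⟨hev, by rw [← Nat.card_eq_fintype_card, ← Nat.card_eq_fintype_card, hcard]⟩
  exact ⟨AddEquiv.ofBijective ev hbij⟩

/-- Homomorphisms between duals. -/
def congrDual {M M' : Type*} [AddCommGroup M] [AddCommGroup M'] (n : ℕ) (e : M ≃+ M') :
    (M →+ ZMod n) ≃+ (M' →+ ZMod n) where
  toFun f := f.comp e.symm.toAddMonoidHom
  invFun f := f.comp e.toAddMonoidHom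
  left_inv f := by ext x; simp
  right_inv f := by ext x; simp
  map_add' f g := by ext x; simp

/-- Change of the dualizing group. -/
def congrTarget {M E E' : Type*} [AddCommGroup M] [AddCommGroup E] [AddCommGroup E'] (e : E ≃+ E') :
    (M →+ E) ≃+ (M →+ E') where
  toFun f := e.toAddMonoidHom.comp f
  invFun f := e.symm.toAddMonoidHom.comp f
  left_inv f := by ext x; simp
  right_inv f := by ext x; simp
  map_add' f g := by ext x; simp

end Dual

section Derived

open DerivedCategory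

variable {C : Type u} [Category.{v} C] [Abelian C] [HasDerivedCategory.{w} C]

/-- No morphisms into a negative shift. -/
theorem hom_eq_zero (X Y : C) (i : ℤ) (hi : i < 0)
    (f : Q.obj ((CochainComplex.singleFunctor C 0).obj X) ⟶
      (Q.obj ((CochainComplex.singleFunctor C 0).obj Y))⟦i⟧) : f = 0 := by
  have h1 : TStructure.t.IsLE (Q.obj ((CochainComplex.singleFunctor C 0).obj X)) 0 :=
    inferInstanceAs (((singleFunctor C 0).obj X).IsLE 0)
  have h2 : TStructure.t.IsGE (Q.obj ((CochainComplex.singleFunctor C 0).obj Y)) 0 :=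
    inferInstanceAs (((singleFunctor C 0).obj Y).IsGE 0)
  have h3 : TStructure.t.IsGE ((Q.obj ((CochainComplex.singleFunctor C 0).obj Y))⟦i⟧) (-i) :=
    TStructure.t.isGE_shift _ 0 i (-i) (by lia)
  exact TStructure.t.zero_of_isLE_of_isGE f 0 (-i) (by lia) h1 h3

variable [HasExt.{w'} C]

/-- Morphisms in the derived category and `Ext`. -/
noncomputable def homExt (X Y : C) (m : ℕ) (i : ℤ) (h : (m : ℤ) = i) :
    (Q.obj ((CochainComplex.singleFunctor C 0).obj X) ⟶
      (Q.obj ((CochainComplex.singleFunctor C 0).obj Y))⟦i⟧) ≃+ Ext.{w'} X Y m :=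
  by subst h; exact (Ext.homAddEquiv (X := X) (Y := Y) (n := m)).symm

/-- `Y[-2]` (placed in degree `-2`) is `Y⟦2⟧`. -/
noncomputable def singleShift (Y : C) :
    (Q.obj ((CochainComplex.singleFunctor C 0).obj Y))⟦(2 : ℤ)⟧ ≅
      Q.obj ((CochainComplex.singleFunctor C (-2)).obj Y) :=
  ((Q.commShiftIso (2 : ℤ)).app _).symm ≪≫
    Q.mapIso (((CochainComplex.singleFunctors C).shiftIso 2 (-2) 0 (by simp)).app Y)

/-- `Hom(X, Y[2]⟦-i⟧) ≃+ Hom(X, Y⟦j⟧)`, `j = 2 - i`. -/
noncomputable def homShift (X : DerivedCategory C) (Y : C) (i j : ℤ) (h : j = 2 + -i) :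
    (X ⟶ (Q.obj ((CochainComplex.singleFunctor C (-2)).obj Y))⟦-i⟧) ≃+
      (X ⟶ (Q.obj ((CochainComplex.singleFunctor C 0).obj Y))⟦j⟧) :=
  DualAdjAbs.isoHom (Iso.refl _) ((shiftFunctor _ (-i)).mapIso (singleShift Y).symm ≪≫
    ((shiftFunctorAdd' (DerivedCategory C) 2 (-i) j h.symm).app _).symm)

omit [HasExt.{w'} C] [HasDerivedCategory.{w} C] [Abelian C] [Category.{v} C] in
theorem nonempty_dual_zero {G : Type t} {G' : Type w} [AddCommGroup G] [AddCommGroup G'] (n : ℕ)
    (h : Subsingleton G) (h' : Subsingleton G') : Nonempty (G ≃+ (G' →+ ZMod n)) := by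
  have : Subsingleton (G' →+ ZMod n) := ⟨fun f g => by
    ext x
    rw [Subsingleton.elim x 0, map_zero, map_zero]⟩
  exact ⟨AddEquiv.mk' (equivOfSubsingletonOfSubsingleton (fun _ => 0) (fun _ => 0))
    (fun _ _ => Subsingleton.elim _ _)⟩

/-- **Glue**: duality in terms of `Ext` implies duality in terms of the derived category. -/
theorem nonempty_dual (n : ℕ) (hn : n ≠ 0) (one F μ : C)
    (H : ℕ → Type t) [∀ m, AddCommGroup (H m)] (hH : ∀ m, Nonempty (Ext.{w'} one F m ≃+ H m))
    (hk : ∀ m (x : H m), n • x = 0) (hfin : ∀ m, m ≤ 2 → Finite (H m))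
    (hd : ∀ q m : ℕ, m + q = 2 → Nonempty (Ext.{w'} F μ q ≃+ (H m →+ ZMod n)))
    (hvan : ∀ q : ℕ, 2 < q → Subsingleton (Ext.{w'} F μ q))
    (hvan' : ∀ m : ℕ, 2 < m → Subsingleton (H m)) (i : ℤ) :
    Nonempty ((Q.obj ((CochainComplex.singleFunctor C 0).obj one) ⟶
        (Q.obj ((CochainComplex.singleFunctor C 0).obj F))⟦i⟧) ≃+
      ((Q.obj ((CochainComplex.singleFunctor C 0).obj F) ⟶
        (Q.obj ((CochainComplex.singleFunctor C (-2)).obj μ))⟦-i⟧) →+ ZMod n)) := by
  rcases lt_or_ge i 0 with hi | hi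
  · refine nonempty_dual_zero n ⟨fun f g => ?_⟩ ?_
    · rw [hom_eq_zero _ _ i hi f, hom_eq_zero _ _ i hi g]
    · obtain ⟨q, hq⟩ : ∃ q : ℕ, (q : ℤ) = 2 + -i := ⟨(2 + -i).toNat, by lia⟩
      have := hvan q (by lia)
      exact ((homShift _ μ i _ rfl).trans (homExt F μ q _ hq)).toEquiv.subsingleton
  · obtain ⟨m, rfl⟩ : ∃ m : ℕ, (m : ℤ) = i := ⟨i.toNat, by lia⟩
    obtain ⟨eH⟩ := hH m
    rcases lt_or_ge 2 m with hm | hm
    · refine nonempty_dual_zero n ?_ ⟨fun f g => ?_⟩
      · have := hvan' m hm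
        exact ((homExt one F m _ rfl).trans eH).toEquiv.subsingleton
      · apply (homShift _ μ m _ rfl).injective
        rw [hom_eq_zero _ _ _ (by lia) (homShift _ μ m _ rfl f),
          hom_eq_zero _ _ _ (by lia) (homShift _ μ m _ rfl g)]
    · obtain ⟨ed⟩ := hd (2 - m) m (by lia)
      have := hfin m hm
      obtain ⟨edd⟩ := nonempty_doubleDual n hn (H m) (hk m)
      exact ⟨((homExt one F m _ rfl).trans eH).trans (edd.trans
        (congrDual n (((homShift _ μ m _ rfl).trans (homExt F μ (2 - m) _ (by lia))).trans ed).symm))⟩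

end Derived

end Groth.Agent.Flat2B.DualGlueAbs
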