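import Groth.Agent.Flat2B.DualAdj377
import Groth.Agent.Flat2B.DualGlueAbs
import Groth.Agent.Sga4B.DualAsm

/-!
# Poincaré duality: from `Ext` to the derived category
-/

set_option autoImplicit false
universe u

open CategoryTheory CategoryTheory.Limits AlgebraicGeometry Opposite CategoryTheory.Abelian

namespace Groth.Agent.Flat2B.DualRow

open Groth.Agent.Sga4B Groth.Agent.Sga4B.DualAsm Groth.Agent.Sga4B.LMLS

attribute [local instance] HasDerivedCategory.standard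

variable {X : Scheme.{u}}

/-- The row from duality for all sheaves of modules, finiteness and cohomological dimension two. -/
theorem nonempty_row (n : ℕ) (hn : 0 < n) (K : EtModW.Mod (Lam.{u} n) X)
    (tr : Ext.{u + 1} (Z X) ((Psi (𝟙 X) n).obj K) 2 →+ E.{u} n)
    (hphi : ∀ (q m : ℕ) (h : m + q = 2) (F : EtModW.Mod (Lam.{u} n) X),
      Function.Bijective (DualFormal.phi (Psi (𝟙 X) n) (Z X) tr F h))
    (μ : EtModW.Mod (Lam.{u} n) X) (eμ : K ≅ μ) (F : EtModW.Mod (Lam.{u} n) X)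
    (hH : ∀ m : ℕ, Nonempty (Ext.{u + 1} (EtModW.constMod (Lam.{u} n) X (Lam.{u} n)) F m ≃+
      Ext.{u + 1} (Z X) ((Psi (𝟙 X) n).obj F) m))
    (hfin : ∀ m : ℕ, m ≤ 2 → Finite (Ext.{u + 1} (Z X) ((Psi (𝟙 X) n).obj F) m))
    (hcd : ∀ m : ℕ, 2 < m → Subsingleton (Ext.{u + 1} (Z X) ((Psi (𝟙 X) n).obj F) m))
    [EtModD.HasLTensorCx ((CochainComplex.singleFunctor (EtModW.Mod (Lam.{u} n) X) 0).obj F)]
    [EtModD.HasRHom ((CochainComplex.singleFunctor (EtModW.Mod (Lam.{u} n) X) 0).obj F)] (i : ℤ) :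
    Nonempty (((DerivedCategory.Q.obj ((CochainComplex.singleFunctor (EtModW.Mod (Lam.{u} n) X) 0).obj
        (EtModW.constMod (Lam.{u} n) X (Lam.{u} n)))) ⟶
        (DerivedCategory.Q.obj ((CochainComplex.singleFunctor (EtModW.Mod (Lam.{u} n) X) 0).obj F))⟦i⟧) ≃+
      (((DerivedCategory.Q.obj ((CochainComplex.singleFunctor (EtModW.Mod (Lam.{u} n) X) 0).obj
        (EtModW.constMod (Lam.{u} n) X (Lam.{u} n)))) ⟶
        (EtModD.dual (DerivedCategory.Q.obj
          ((CochainComplex.singleFunctor (EtModW.Mod (Lam.{u} n) X) (-2)).obj μ))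
          ((CochainComplex.singleFunctor (EtModW.Mod (Lam.{u} n) X) 0).obj F))⟦-i⟧) →+ ZMod n)) := by
  obtain ⟨e1⟩ := DualAdj377.nonempty_homEquiv F (DerivedCategory.Q.obj
          ((CochainComplex.singleFunctor (EtModW.Mod (Lam.{u} n) X) (-2)).obj μ)) (-i)
  have hrel : DualFormal.RelInj.{u + 1} (Psi (𝟙 X) n) (Z X) (E.{u} n) :=
    DualExist.relInj_zmod (Psi (𝟙 X) n) (Z X) n hn (fun F m x => nsmul_ext (𝟙 X) F m x)
  obtain ⟨e2⟩ := DualGlueAbs.nonempty_dual n hn.ne' (EtModW.constMod (Lam.{u} n) X (Lam.{u} n)) F K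
    (fun m => Ext.{u + 1} (Z X) ((Psi (𝟙 X) n).obj F) m) hH (fun m x => nsmul_ext (𝟙 X) F m x) hfin
    (fun q m h => ⟨(AddEquiv.ofBijective _ (hphi q m h F)).trans
      (DualGlueAbs.congrTarget AddEquiv.ulift)⟩)
    (fun q hq => ⟨fun a b => by
      rw [DualGlueAbs.ext_eq_zero tr hrel (hphi 2 0 (zero_add 2)) q hq F a,
        DualGlueAbs.ext_eq_zero tr hrel (hphi 2 0 (zero_add 2)) q hq F b]⟩) hcd i
  have e3 : (DerivedCategory.Q.obj ((CochainComplex.singleFunctor (EtModW.Mod (Lam.{u} n) X) (-2)).obj K))⟦-i⟧ ≅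
      (DerivedCategory.Q.obj ((CochainComplex.singleFunctor (EtModW.Mod (Lam.{u} n) X) (-2)).obj μ))⟦-i⟧ :=
    (shiftFunctor _ (-i)).mapIso (DerivedCategory.Q.mapIso
      ((CochainComplex.singleFunctor (EtModW.Mod (Lam.{u} n) X) (-2)).mapIso eμ))
  exact ⟨e2.trans (DualGlueAbs.congrDual n ((DualAdjAbs.isoHom (Iso.refl _) e3).trans e1.symm))⟩

end Groth.Agent.Flat2B.DualRow
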