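import Groth.Agent.Flat2A.FiberAss
import Mathlib.RingTheory.Ideal.AssociatedPrime.Localization
import Mathlib.RingTheory.Flat.Stability
import Mathlib.RingTheory.IsTensorProduct
import Mathlib.LinearAlgebra.TensorProduct.Basis

set_option autoImplicit false
universe u v w

namespace Groth.Agent.Flat2B.RelAss

open TensorProduct

/-- associated primes contract along ring maps -/
theorem comap_mem_associatedPrimes {B : Type u} {C : Type v} {M : Type w} [CommRing B] [CommRing C] [Algebra B C]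
    [AddCommGroup M] [Module C M] [Module B M] [IsScalarTower B C M] {P : Ideal C}
    (h : P ∈ associatedPrimes C M) : P.comap (algebraMap B C) ∈ associatedPrimes B M := by
  obtain ⟨hP, y, hy⟩ := h
  refine ⟨inferInstance, y, ?_⟩
  rw [hy, Ideal.comap_radical]
  congr 1
  ext b
  rw [Ideal.mem_comap, Submodule.mem_colon_singleton, Submodule.mem_colon_singleton]
  simp

theorem colon_bot_singleton_mem {B : Type u} {M : Type w} [CommRing B] [AddCommGroup M] [Module B M] (y : M) (b : B) :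
    b ∈ (⊥ : Submodule B M).colon {y} ↔ b • y = 0 := by
  rw [Submodule.mem_colon_singleton]; simp

/-- a jointly injective, pointwise finitely supported family of linear maps into `M` -/
theorem associatedPrimes_subset_of_family {B : Type u} {M : Type v} {F : Type w} {ι : Type*} [CommRing B]
    [AddCommGroup M] [Module B M] [AddCommGroup F] [Module B F] (φ : F →ₗ[B] (ι →₀ M))
    (hφ : Function.Injective φ) : associatedPrimes B F ⊆ associatedPrimes B M := by
  classical
  rintro P ⟨hP, y, hy⟩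
  have hcol : (⊥ : Submodule B F).colon {y} = (φ y).support.inf (fun i => (⊥ : Submodule B M).colon {φ y i}) := by
    ext b
    rw [colon_bot_singleton_mem, Submodule.mem_finsetInf]
    constructor
    · intro h i _
      rw [colon_bot_singleton_mem]
      have := congrArg (fun z => z i) (congrArg φ h)
      simpa using this
    · intro h
      apply hφ
      rw [map_smul, map_zero]
      ext i
      by_cases hi : i ∈ (φ y).support
      · have := h i hi
        rw [colon_bot_singleton_mem] at this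
        simpa using this
      · have : φ y i = 0 := by simpa using hi
        simp [this]
  have h1 : (φ y).support.inf (fun i => ((⊥ : Submodule B M).colon {φ y i})) ≤ P := by
    rw [← hcol, hy]
    exact Ideal.le_radical
  obtain ⟨i, hi, hi'⟩ := (Ideal.IsPrime.inf_le' hP).mp h1
  refine ⟨hP, φ y i, le_antisymm ?_ ?_⟩
  · rw [hy]
    apply Ideal.radical_mono
    rw [hcol]
    exact Finset.inf_le hi
  · exact (Ideal.IsPrime.radical_le_iff hP).mpr hi'

/-- associated primes (over a third ring) of the base change of a vector space along a field extension -/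
theorem associatedPrimes_subset_of_isBaseChange_field {k : Type u} {K : Type v} {B : Type w} {F₁ F₂ : Type*}
    [Field k] [Field K] [Algebra k K] [CommRing B] [AddCommGroup F₁] [AddCommGroup F₂]
    [Module k F₁] [Module B F₁] [SMulCommClass B k F₁] [Module k F₂] [Module K F₂] [IsScalarTower k K F₂]
    [Module B F₂] [SMulCommClass B K F₂] (g : F₁ →ₗ[k] F₂) (hg : IsBaseChange K g)
    (hgB : ∀ (b : B) (x : F₁), g (b • x) = b • g x) :
    associatedPrimes B F₂ ⊆ associatedPrimes B F₁ := by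
  let bas := Module.Free.chooseBasis k K
  let E : F₂ ≃ₗ[k] (_ →₀ F₁) := (hg.equiv.symm.restrictScalars k) ≪≫ₗ TensorProduct.equivFinsuppOfBasisLeft bas
  have hE : ∀ (b : B) (y : F₂), E (b • y) = b • E y := by
    intro b y
    obtain ⟨z, rfl⟩ := hg.equiv.surjective y
    have h1 : ∀ z : K ⊗[k] F₁, b • hg.equiv z =
        hg.equiv (LinearMap.lTensor K (LinearMap.mk (AddHom.mk (fun x : F₁ => b • x) (by intros; simp)) (by intro c x; exact smul_comm b c x)) z) := by
      intro z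
      induction z with
      | zero => simp
      | add x y hx hy => simp only [map_add, smul_add, hx, hy]
      | tmul c x =>
        simp only [LinearMap.lTensor_tmul, IsBaseChange.equiv_tmul]
        rw [smul_comm]
        congr 1
        exact (hgB b x).symm
    rw [h1]
    simp only [E, LinearEquiv.trans_apply, LinearEquiv.restrictScalars_apply, LinearEquiv.symm_apply_apply]
    induction z with
    | zero => simp
    | add x y hx hy => simp only [map_add, smul_add, hx, hy]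
    | tmul c x =>
      ext i
      simp [smul_comm]
  exact associatedPrimes_subset_of_family
    { toFun := E, map_add' := map_add E, map_smul' := hE } E.injective

theorem annihilator_tensor_quotient {R : Type u} {S : Type v} [CommRing R] [CommRing S] [Algebra R S] (P : Ideal R) :
    Module.annihilator S (S ⊗[R] (R ⧸ P)) = P.map (algebraMap R S) := by
  apply le_antisymm
  · intro s hs
    rw [Module.mem_annihilator] at hs
    have h1 := hs ((1 : S) ⊗ₜ[R] (Ideal.Quotient.mk P 1))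
    rw [TensorProduct.smul_tmul', smul_eq_mul, mul_one] at h1
    have h2 := congrArg (TensorProduct.tensorQuotEquivQuotSMul S P) h1
    rw [map_zero, TensorProduct.tensorQuotEquivQuotSMul_tmul_mk, one_smul, Submodule.Quotient.mk_eq_zero,
      Ideal.smul_top_eq_map] at h2
    exact h2
  · rw [Ideal.map_le_iff_le_comap]
    intro r hr
    rw [Ideal.mem_comap, Module.mem_annihilator]
    intro z
    induction z with
    | zero => simp
    | add x y hx hy => rw [smul_add, hx, hy, add_zero]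
    | tmul x y =>
      rw [algebraMap_smul, ← TensorProduct.tmul_smul]
      obtain ⟨y, rfl⟩ := Ideal.Quotient.mk_surjective y
      have : r • (Ideal.Quotient.mk P y) = 0 := by
        rw [← Ideal.Quotient.mk_eq_mk, ← Submodule.Quotient.mk_smul, Submodule.Quotient.mk_eq_zero]
        exact Ideal.mul_mem_right _ _ hr
      rw [this, TensorProduct.tmul_zero]

/-- flat base change over Noetherian rings: a prime minimal over the extension of an associated prime is associated -/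
theorem mem_associatedPrimes_of_flat_isBaseChange {R : Type u} {S : Type v} {M : Type*} {M' : Type*} [CommRing R] [CommRing S]
    [Algebra R S] [Module.Flat R S] [IsNoetherianRing R] [IsNoetherianRing S] [AddCommGroup M] [Module R M]
    [AddCommGroup M'] [Module S M'] [Module R M'] [IsScalarTower R S M'] (g : M →ₗ[R] M') (hg : IsBaseChange S g)
    {P : Ideal R} (hP : P ∈ associatedPrimes R M) {Q : Ideal S} (hQ : Q ∈ (P.map (algebraMap R S)).minimalPrimes) :
    Q ∈ associatedPrimes S M' := by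
  obtain ⟨hPp, φ, hφ⟩ := (isAssociatedPrime_iff_exists_injective_linearMap (I := P) (M := M)).mp hP
  -- S ⊗ R/P → S ⊗ M ≃ M'
  let ψ : S ⊗[R] (R ⧸ P) →ₗ[S] M' := hg.equiv.toLinearMap ∘ₗ φ.baseChange S
  have hψ : Function.Injective ψ := by
    apply hg.equiv.injective.comp
    exact Module.Flat.lTensor_preserves_injective_linearMap φ hφ
  apply associatedPrimes.subset_of_injective hψ
  apply Module.associatedPrimes.minimalPrimes_annihilator_subset_associatedPrimes S
  rw [annihilator_tensor_quotient]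
  exact hQ

/-- incomparability: in an integral extension, a prime over `P` is minimal over the extension of `P` -/
theorem mem_minimalPrimes_map_of_isIntegral {R : Type u} {S : Type v} [CommRing R] [CommRing S] [Algebra R S]
    [Algebra.IsIntegral R S] (P : Ideal R) (Q : Ideal S) [Q.IsPrime] (h : Q.comap (algebraMap R S) = P) :
    Q ∈ (P.map (algebraMap R S)).minimalPrimes := by
  refine ⟨⟨inferInstance, Ideal.map_le_iff_le_comap.mpr h.ge⟩, ?_⟩
  rintro Q' ⟨hQ', hle⟩ hQ'Q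
  by_contra hne
  have hlt : Q' < Q := lt_of_le_not_ge hQ'Q hne
  have h2 : Q'.comap (algebraMap R S) < Q.comap (algebraMap R S) := by
    obtain ⟨x, hxQ, hxQ'⟩ := Set.exists_of_ssubset hlt
    exact Ideal.comap_lt_comap_of_integral_mem_sdiff hQ'Q ⟨hxQ, hxQ'⟩ (Algebra.IsIntegral.isIntegral x)
  rw [h] at h2
  exact absurd (Ideal.map_le_iff_le_comap.mp hle) (not_le_of_gt h2)

section abstractSetting

theorem associatedPrimes_subset_of_pushout (k K : Type u) {S₁ S₂ F₁ F₂ : Type u} [Field k] [Field K] [Algebra k K] [CommRing S₁] [CommRing S₂]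
    [Algebra k S₁] [Algebra K S₂] [Algebra k S₂] [Algebra S₁ S₂] [IsScalarTower k K S₂] [IsScalarTower k S₁ S₂]
    [Algebra.IsPushout k K S₁ S₂] [AddCommGroup F₁] [AddCommGroup F₂] [Module S₁ F₁] [Module S₂ F₂] [Module S₁ F₂]
    [IsScalarTower S₁ S₂ F₂] (g : F₁ →ₗ[S₁] F₂) (hg : IsBaseChange S₂ g) {B₁ : Type u} [CommRing B₁] [Algebra B₁ S₁] [Module B₁ F₁]
    [IsScalarTower B₁ S₁ F₁] [Module B₁ F₂] [IsScalarTower B₁ S₁ F₂] :
    associatedPrimes B₁ F₂ ⊆ associatedPrimes B₁ F₁ := by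
  let _ : Module k F₁ := Module.compHom F₁ (algebraMap k S₁)
  have _ : IsScalarTower k S₁ F₁ := ⟨fun c s x => by
    rw [Algebra.smul_def, mul_smul]; rfl⟩
  let _ : Module K F₂ := Module.compHom F₂ (algebraMap K S₂)
  have _ : IsScalarTower K S₂ F₂ := ⟨fun c s x => by
    rw [Algebra.smul_def, mul_smul]; rfl⟩
  let _ : Module k F₂ := Module.compHom F₂ (algebraMap k S₂)
  have _ : IsScalarTower k S₂ F₂ := ⟨fun c s x => by
    rw [Algebra.smul_def, mul_smul]; rfl⟩
  have _ : IsScalarTower k K F₂ := ⟨fun c d x => by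
    change (algebraMap K S₂ (c • d)) • x = algebraMap k S₂ c • (algebraMap K S₂ d • x)
    rw [Algebra.smul_def, map_mul, ← IsScalarTower.algebraMap_apply, mul_smul]⟩
  have _ : IsScalarTower k S₁ F₂ := ⟨fun c s x => by
    rw [Algebra.smul_def, mul_smul]
    change (algebraMap k S₁ c) • (s • x) = algebraMap k S₂ c • (s • x)
    rw [IsScalarTower.algebraMap_apply k S₁ S₂, algebraMap_smul S₂ (algebraMap k S₁ c)]⟩
  have hgk : IsBaseChange K (g.restrictScalars k) := by
    refine IsBaseChange.of_equiv ((Algebra.IsPushout.cancelBaseChange k K S₁ S₂ F₁).symm ≪≫ₗ hg.equiv.restrictScalars K) ?_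
    intro x
    simp
  have _ : SMulCommClass B₁ k F₁ := ⟨fun b c x => by
    rw [← algebraMap_smul S₁ b, ← algebraMap_smul S₁ b, ← algebraMap_smul S₁ c, ← algebraMap_smul S₁ c, smul_comm]⟩
  have _ : SMulCommClass B₁ K F₂ := ⟨fun b c x => by
    rw [← algebraMap_smul S₁ b, ← algebraMap_smul S₁ b, ← algebraMap_smul S₂ c, ← algebraMap_smul S₂ c,
      ← algebraMap_smul S₂ (algebraMap B₁ S₁ b), ← algebraMap_smul S₂ (algebraMap B₁ S₁ b), smul_comm]⟩
  refine associatedPrimes_subset_of_isBaseChange_field (g.restrictScalars k) hgk ?_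
  intro b x
  rw [LinearMap.restrictScalars_apply, LinearMap.restrictScalars_apply, ← algebraMap_smul S₁ b, map_smul, algebraMap_smul]

theorem mem_associatedPrimes_of_pushout (k K : Type u) {S₁ S₂ F₁ F₂ : Type u} [Field k] [Field K] [Algebra k K] [CommRing S₁] [CommRing S₂]
    [Algebra k S₁] [Algebra K S₂] [Algebra k S₂] [Algebra S₁ S₂] [IsScalarTower k K S₂] [IsScalarTower k S₁ S₂]
    [Algebra.IsPushout k K S₁ S₂] [AddCommGroup F₁] [AddCommGroup F₂] [Module S₁ F₁] [Module S₂ F₂] [Module S₁ F₂]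
    [IsScalarTower S₁ S₂ F₂] (g : F₁ →ₗ[S₁] F₂) (hg : IsBaseChange S₂ g) [Algebra.IsAlgebraic k K] [IsNoetherianRing S₁] [IsNoetherianRing S₂]
    (P₁ : Ideal S₁) (hP₁ : P₁ ∈ associatedPrimes S₁ F₁) (P₂ : Ideal S₂) [P₂.IsPrime]
    (h : P₂.comap (algebraMap S₁ S₂) = P₁) : P₂ ∈ associatedPrimes S₂ F₂ := by
  have hsymm : Algebra.IsPushout k S₁ K S₂ := Algebra.IsPushout.symm inferInstance
  let e := Algebra.IsPushout.equiv k S₁ K S₂
  have _ : Algebra.IsIntegral S₁ S₂ := Algebra.IsIntegral.of_surjective e.toAlgHom e.surjective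
  have _ : Module.Flat S₁ S₂ := Module.Flat.of_linearEquiv e.symm.toLinearEquiv
  exact mem_associatedPrimes_of_flat_isBaseChange g hg hP₁ (mem_minimalPrimes_map_of_isIntegral P₁ P₂ h)

end abstractSetting

section concrete

attribute [local instance] Algebra.TensorProduct.rightAlgebra

/-- Comparison of the fibre rings and the fibre modules in a base change square: the statement packs the common
consequences (05DB and the converse for algebraic residue field extensions). -/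
theorem relAss_main {A₁ A₂ B₁ B₂ : Type u} [CommRing A₁] [CommRing A₂] [CommRing B₁] [CommRing B₂]
    [Algebra A₁ A₂] [Algebra A₁ B₁] [Algebra A₂ B₂] [Algebra B₁ B₂] [Algebra A₁ B₂]
    [IsScalarTower A₁ A₂ B₂] [IsScalarTower A₁ B₁ B₂] [Algebra.IsPushout A₁ B₁ A₂ B₂]
    {N₁ N₂ : Type u} [AddCommGroup N₁] [Module B₁ N₁] [Module A₁ N₁] [IsScalarTower A₁ B₁ N₁]
    [AddCommGroup N₂] [Module B₂ N₂] [Module A₂ N₂] [IsScalarTower A₂ B₂ N₂] [Module B₁ N₂] [IsScalarTower B₁ B₂ N₂]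
    (f : N₁ →ₗ[B₁] N₂) (hf : IsBaseChange B₂ f) (t₁ : Ideal A₁) (t₂ : Ideal A₂) [t₁.IsPrime] [t₂.IsPrime] [ht : t₂.LiesOver t₁] :
    (∀ P₂ ∈ associatedPrimes B₂ (FlatCA.fiberMod t₂ B₂ N₂),
      P₂.comap (algebraMap B₁ B₂) ∈ associatedPrimes B₁ (FlatCA.fiberMod t₁ B₁ N₁)) ∧
    (IsNoetherianRing (t₁.Fiber B₁) → IsNoetherianRing (t₂.Fiber B₂) →
      (Ideal.ResidueField.mapₐ t₁ t₂ (Algebra.ofId A₁ A₂) ht.over).toRingHom.IsIntegral →
      ∀ (P₁ : Ideal B₁) (P₂ : Ideal B₂), P₁ ∈ associatedPrimes B₁ (FlatCA.fiberMod t₁ B₁ N₁) → P₂.IsPrime →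
        P₂.comap (algebraMap B₁ B₂) = P₁ → P₂.LiesOver t₂ → P₂ ∈ associatedPrimes B₂ (FlatCA.fiberMod t₂ B₂ N₂)) := by
  let _ : Algebra t₁.ResidueField t₂.ResidueField := (Ideal.ResidueField.mapₐ t₁ t₂ (Algebra.ofId A₁ A₂) ht.over).toRingHom.toAlgebra
  have _ : IsScalarTower A₁ t₁.ResidueField t₂.ResidueField := IsScalarTower.of_algebraMap_eq fun x => by
    exact ((Ideal.ResidueField.mapₐ t₁ t₂ (Algebra.ofId A₁ A₂) ht.over).commutes x).symm
  let κ₁ := t₁.ResidueField
  let κ₂ := t₂.ResidueField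
  let S₁ := t₁.Fiber B₁
  let S₂ := t₂.Fiber B₂
  let _ : Algebra B₁ S₂ := ((algebraMap B₂ S₂).comp (algebraMap B₁ B₂)).toAlgebra
  have _ : IsScalarTower B₁ B₂ S₂ := IsScalarTower.of_algebraMap_eq fun x => rfl
  have _ : IsScalarTower A₁ B₂ S₂ := IsScalarTower.of_algebraMap_eq fun x => by
    rw [IsScalarTower.algebraMap_apply A₁ A₂ B₂, ← IsScalarTower.algebraMap_apply A₂ B₂ S₂]
    rfl
  have _ : IsScalarTower A₁ B₁ S₂ := IsScalarTower.of_algebraMap_eq fun x => by
    rw [IsScalarTower.algebraMap_apply B₁ B₂ S₂, ← IsScalarTower.algebraMap_apply A₁ B₁ B₂,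
      IsScalarTower.algebraMap_apply A₁ B₂ S₂]
  let φ : S₁ →ₐ[A₁] S₂ := Algebra.TensorProduct.lift (IsScalarTower.toAlgHom A₁ κ₁ S₂) (IsScalarTower.toAlgHom A₁ B₁ S₂)
    (fun _ _ => Commute.all _ _)
  let _ : Algebra S₁ S₂ := φ.toRingHom.toAlgebra
  have _ : IsScalarTower κ₁ κ₂ S₂ := inferInstance
  have _ : IsScalarTower κ₁ S₁ S₂ := IsScalarTower.of_algebraMap_eq fun x => by
    change _ = φ (x ⊗ₜ 1)
    rw [Algebra.TensorProduct.lift_tmul, map_one, mul_one]
    rfl
  have _ : IsScalarTower B₁ S₁ S₂ := IsScalarTower.of_algebraMap_eq fun x => by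
    change _ = φ (1 ⊗ₜ x)
    rw [Algebra.TensorProduct.lift_tmul, map_one, one_mul]
    rfl
  have _ : IsScalarTower A₁ S₁ S₂ := IsScalarTower.of_algebraMap_eq fun x => (φ.commutes x).symm
  have _ : IsScalarTower A₁ κ₂ S₂ := inferInstance
  have hp1 : Algebra.IsPushout A₁ A₂ B₁ B₂ := Algebra.IsPushout.symm inferInstance
  have hp2 : Algebra.IsPushout A₂ κ₂ B₂ S₂ := inferInstance
  have hp3 : Algebra.IsPushout A₁ κ₂ B₁ S₂ := (Algebra.IsPushout.comp_iff A₁ A₂ B₁ B₂).mpr hp2
  have hp4 : Algebra.IsPushout A₁ κ₁ B₁ S₁ := inferInstance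
  have hp5 : Algebra.IsPushout κ₁ κ₂ S₁ S₂ := (Algebra.IsPushout.comp_iff A₁ κ₁ B₁ S₁).mp hp3
  let h₁ : IsBaseChange S₁ (TensorProduct.mk B₁ S₁ N₁ 1) := TensorProduct.isBaseChange B₁ N₁ S₁
  have h₂ : IsBaseChange S₂ (TensorProduct.mk B₂ S₂ N₂ 1) := TensorProduct.isBaseChange B₂ N₂ S₂
  have h₃ := IsBaseChange.comp hf h₂
  let g : S₁ ⊗[B₁] N₁ →ₗ[S₁] S₂ ⊗[B₂] N₂ := h₁.lift ((TensorProduct.mk B₂ S₂ N₂ 1).restrictScalars B₁ ∘ₗ f)
  have hg : IsBaseChange S₂ g := by
    apply IsBaseChange.of_comp h₁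
    rw [h₁.lift_comp]
    exact h₃
  constructor
  · intro P₂ hP₂
    have key : P₂.comap (algebraMap B₁ B₂) ∈ associatedPrimes B₁ (S₁ ⊗[B₁] N₁) :=
      associatedPrimes_subset_of_pushout κ₁ κ₂ g hg (comap_mem_associatedPrimes (B := B₁) (C := B₂) (M := S₂ ⊗[B₂] N₂) hP₂)
    exact key
  · intro hn₁ hn₂ hint P₁ P₂ hP₁ hP₂ hcomap hover
    have _ : Algebra.IsAlgebraic κ₁ κ₂ := by
      have : Algebra.IsIntegral κ₁ κ₂ := ⟨hint⟩
      infer_instance
    rw [Flat2A.FiberAss.mem_associatedPrimes_fiberMod_iff] at hP₁ ⊢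
    refine ⟨hP₂, hover, ?_⟩
    obtain ⟨h1, h2, h3⟩ := hP₁
    have : (FlatCA.fiberIdeal t₂ P₂).IsPrime := Flat2A.Fiber.fiberIdeal_isPrime t₂ P₂
    refine mem_associatedPrimes_of_pushout κ₁ κ₂ g hg (FlatCA.fiberIdeal t₁ P₁) h3 (FlatCA.fiberIdeal t₂ P₂) ?_
    rw [← Flat2A.Fiber.fiberIdeal_comap t₁ ((FlatCA.fiberIdeal t₂ P₂).comap (algebraMap S₁ S₂))]
    congr 1
    rw [← hcomap, Ideal.comap_comap]
    conv_rhs => rw [← Flat2A.Fiber.comap_fiberIdeal t₂ P₂, Ideal.comap_comap]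
    congr 1
    ext x
    change φ (1 ⊗ₜ x) = _
    rw [Algebra.TensorProduct.lift_tmul, map_one, one_mul]
    rfl

/-- Stacks 05DB: relatively associated primes of a base change contract to relatively associated primes. -/
theorem relAss_comap {A₁ A₂ B₁ B₂ : Type u} [CommRing A₁] [CommRing A₂] [CommRing B₁] [CommRing B₂]
    [Algebra A₁ A₂] [Algebra A₁ B₁] [Algebra A₂ B₂] [Algebra B₁ B₂] [Algebra A₁ B₂]
    [IsScalarTower A₁ A₂ B₂] [IsScalarTower A₁ B₁ B₂] [Algebra.IsPushout A₁ B₁ A₂ B₂]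
    {N₁ N₂ : Type u} [AddCommGroup N₁] [Module B₁ N₁] [Module A₁ N₁] [IsScalarTower A₁ B₁ N₁]
    [AddCommGroup N₂] [Module B₂ N₂] [Module A₂ N₂] [IsScalarTower A₂ B₂ N₂] [Module B₁ N₂] [IsScalarTower B₁ B₂ N₂]
    (f : N₁ →ₗ[B₁] N₂) (hf : IsBaseChange B₂ f) (t₁ : Ideal A₁) (t₂ : Ideal A₂) [t₁.IsPrime] [t₂.IsPrime] [t₂.LiesOver t₁]
    {P₂ : Ideal B₂} (h : P₂ ∈ associatedPrimes B₂ (FlatCA.fiberMod t₂ B₂ N₂)) :
    P₂.comap (algebraMap B₁ B₂) ∈ associatedPrimes B₁ (FlatCA.fiberMod t₁ B₁ N₁) :=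
  (relAss_main f hf t₁ t₂).1 P₂ h

/-- finite type passes to pushouts -/
theorem finiteType_of_isPushout {A₁ A₂ B₁ B₂ : Type u} [CommRing A₁] [CommRing A₂] [CommRing B₁] [CommRing B₂]
    [Algebra A₁ A₂] [Algebra A₁ B₁] [Algebra A₂ B₂] [Algebra B₁ B₂] [Algebra A₁ B₂]
    [IsScalarTower A₁ A₂ B₂] [IsScalarTower A₁ B₁ B₂] [Algebra.IsPushout A₁ B₁ A₂ B₂] [Algebra.FiniteType A₁ B₁] :
    Algebra.FiniteType A₂ B₂ := by
  have : Algebra.IsPushout A₁ A₂ B₁ B₂ := Algebra.IsPushout.symm inferInstance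
  exact Algebra.FiniteType.equiv (inferInstance : Algebra.FiniteType A₂ (A₂ ⊗[A₁] B₁)) (Algebra.IsPushout.equiv A₁ A₂ B₁ B₂)

/-- A prime of the base change over a relatively associated prime is relatively associated when the residue field
extension of the base is algebraic. -/
theorem relAss_lift {A₁ A₂ B₁ B₂ : Type u} [CommRing A₁] [CommRing A₂] [CommRing B₁] [CommRing B₂]
    [Algebra A₁ A₂] [Algebra A₁ B₁] [Algebra A₂ B₂] [Algebra B₁ B₂] [Algebra A₁ B₂]
    [IsScalarTower A₁ A₂ B₂] [IsScalarTower A₁ B₁ B₂] [Algebra.IsPushout A₁ B₁ A₂ B₂] [Algebra.FiniteType A₁ B₁]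
    {N₁ N₂ : Type u} [AddCommGroup N₁] [Module B₁ N₁] [Module A₁ N₁] [IsScalarTower A₁ B₁ N₁]
    [AddCommGroup N₂] [Module B₂ N₂] [Module A₂ N₂] [IsScalarTower A₂ B₂ N₂] [Module B₁ N₂] [IsScalarTower B₁ B₂ N₂]
    (f : N₁ →ₗ[B₁] N₂) (hf : IsBaseChange B₂ f) (t₁ : Ideal A₁) (t₂ : Ideal A₂) [t₁.IsPrime] [t₂.IsPrime] [ht : t₂.LiesOver t₁]
    (hint : (Ideal.ResidueField.mapₐ t₁ t₂ (Algebra.ofId A₁ A₂) ht.over).toRingHom.IsIntegral)
    {P₁ : Ideal B₁} (h : P₁ ∈ associatedPrimes B₁ (FlatCA.fiberMod t₁ B₁ N₁)) (P₂ : Ideal B₂) [P₂.IsPrime]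
    (hP : P₂.comap (algebraMap B₁ B₂) = P₁) [h2 : P₂.LiesOver t₂] :
    P₂ ∈ associatedPrimes B₂ (FlatCA.fiberMod t₂ B₂ N₂) := by
  have : Algebra.FiniteType A₂ B₂ := finiteType_of_isPushout (A₁ := A₁) (B₁ := B₁)
  exact (relAss_main f hf t₁ t₂).2 (Flat2A.Fiber.fiber_isNoetherianRing t₁) (Flat2A.Fiber.fiber_isNoetherianRing t₂)
    hint P₁ P₂ h inferInstance hP h2

end concrete

end Groth.Agent.Flat2B.RelAss
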