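import Groth.Agent.Flat2A.AssBaseChange
import Groth.Agent.Flat2B.RelAss
import Groth.Agent.Flat2B.BCTools
import Mathlib.RingTheory.QuasiFinite.Basic
import Mathlib.RingTheory.Unramified.LocalStructure

set_option autoImplicit false
universe u

/-!
# Relative associated primes under étale (flat) maps over the same base
-/

namespace Groth.Agent.Flat2B.EtAss

open TensorProduct Flat2A.Fiber Flat2A.FiberAss Flat2A.AssBaseChange

section main

variable {A C D : Type u} [CommRing A] [CommRing C] [CommRing D] [Algebra A C] [Algebra A D] [Algebra C D]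
  [IsScalarTower A C D]
  {N N' : Type u} [AddCommGroup N] [Module C N] [Module A N] [IsScalarTower A C N]
  [AddCommGroup N'] [Module D N'] [Module C N'] [Module A N'] [IsScalarTower C D N'] [IsScalarTower A D N']

/-- the map of fibre rings -/
noncomputable abbrev fmap (C D : Type u) [CommRing C] [CommRing D] [Algebra A C] [Algebra A D] [Algebra C D]
    [IsScalarTower A C D] (t : Ideal A) [t.IsPrime] : t.Fiber C →ₐ[t.ResidueField] t.Fiber D :=
  Algebra.TensorProduct.map (AlgHom.id t.ResidueField t.ResidueField) (IsScalarTower.toAlgHom A C D)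

theorem fmap_toFiber (t : Ideal A) [t.IsPrime] (c : C) :
    fmap C D t (toFiber t C c) = toFiber t D (algebraMap C D c) := by
  simp [fmap, toFiber]

theorem fmap_comp_toFiber (t : Ideal A) [t.IsPrime] :
    ((fmap C D t).toRingHom).comp (toFiber t C) = (toFiber t D).comp (algebraMap C D) := by
  ext c
  exact fmap_toFiber t c

attribute [local instance] Algebra.TensorProduct.rightAlgebra in
/-- the master statement: comparison of the fibre modules -/
theorem main (t : Ideal A) [t.IsPrime] (f : N →ₗ[C] N') (hf : IsBaseChange D f) :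
    ∃ (_ : Algebra (t.Fiber C) (t.Fiber D)) (_ : Module (t.Fiber C) (FlatCA.fiberMod t D N')),
      (algebraMap (t.Fiber C) (t.Fiber D)) = (fmap C D t).toRingHom ∧
      (Module.Flat C D → Module.Flat (t.Fiber C) (t.Fiber D)) ∧
      (Algebra.Etale C D → Algebra.Etale (t.Fiber C) (t.Fiber D)) ∧
      ∃ (_ : IsScalarTower (t.Fiber C) (t.Fiber D) (FlatCA.fiberMod t D N')),
      ∃ g : FlatCA.fiberMod t C N →ₗ[t.Fiber C] FlatCA.fiberMod t D N', IsBaseChange (t.Fiber D) g := by
  let G₁ : Type u := (t.Fiber C) ⊗[C] N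
  let G₂ : Type u := (t.Fiber D) ⊗[D] N'
  let u₁ : N →ₗ[C] G₁ := TensorProduct.mk C (t.Fiber C) N 1
  let u₂ : N' →ₗ[D] G₂ := TensorProduct.mk D (t.Fiber D) N' 1
  have hu₁ : IsBaseChange (t.Fiber C) u₁ := TensorProduct.isBaseChange _ _ _
  have hu₂ : IsBaseChange (t.Fiber D) u₂ := TensorProduct.isBaseChange _ _ _
  let _ : Algebra (t.Fiber C) (t.Fiber D) := (fmap C D t).toRingHom.toAlgebra
  let _ : Algebra C (t.Fiber D) := Algebra.compHom _ (algebraMap C D)
  have : IsScalarTower C D (t.Fiber D) := IsScalarTower.of_algebraMap_eq' rfl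
  have : IsScalarTower C (t.Fiber C) (t.Fiber D) := IsScalarTower.of_algebraMap_eq' (by
    exact (fmap_comp_toFiber t).symm)
  have : IsScalarTower C D G₂ := inferInstance
  have : IsScalarTower (t.Fiber C) (t.Fiber D) G₂ := inferInstance
  have : IsScalarTower C (t.Fiber D) G₂ := inferInstance
  have : IsScalarTower C (t.Fiber C) G₂ := inferInstance
  have : IsScalarTower t.ResidueField (t.Fiber C) (t.Fiber D) :=
    IsScalarTower.of_algebraMap_eq' ((fmap C D t).comp_algebraMap).symm
  have : IsScalarTower A D (t.Fiber D) := inferInstance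
  have : IsScalarTower A C (t.Fiber D) := by
    refine IsScalarTower.of_algebraMap_eq' ?_
    rw [IsScalarTower.algebraMap_eq A D (t.Fiber D), IsScalarTower.algebraMap_eq A C D, ← RingHom.comp_assoc]
    rfl
  have : IsScalarTower A (t.Fiber C) (t.Fiber D) :=
    IsScalarTower.of_algebraMap_eq' (((fmap C D t).restrictScalars A).comp_algebraMap).symm
  -- pushout
  have hrect : Algebra.IsPushout A D t.ResidueField (t.Fiber D) := inferInstance
  have hl : Algebra.IsPushout A C t.ResidueField (t.Fiber C) := inferInstance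
  have hpo : Algebra.IsPushout C D (t.Fiber C) (t.Fiber D) := by
    rw [← Algebra.IsPushout.comp_iff A C t.ResidueField (S' := t.Fiber C) (T := D) (T' := t.Fiber D)]
    exact hrect
  refine ⟨(fmap C D t).toRingHom.toAlgebra, (inferInstance : Module (t.Fiber C) G₂), rfl, ?_, ?_, ?_, ?_⟩
  · intro h
    exact BCTools.flat_of_isPushout C D (t.Fiber C) (t.Fiber D)
  · intro h
    exact BCTools.etale_of_isPushout C D (t.Fiber C) (t.Fiber D)
  · exact (inferInstance : IsScalarTower (t.Fiber C) (t.Fiber D) G₂)
  · have h := exists_isBaseChange_square (F₁ := t.Fiber C) (F₂ := t.Fiber D) (G₁ := G₁) (G₂ := G₂) hf hu₁ hu₂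
    exact h

/-- Relatively associated primes of a flat localization contract to relatively associated primes. -/
theorem comap_mem_of_flat [Algebra.FiniteType A C] [Algebra.FiniteType A D] [Module.Flat C D]
    (t : Ideal A) [t.IsPrime] (f : N →ₗ[C] N') (hf : IsBaseChange D f)
    {P : Ideal D} (h : P ∈ associatedPrimes D (FlatCA.fiberMod t D N')) :
    P.comap (algebraMap C D) ∈ associatedPrimes C (FlatCA.fiberMod t C N) := by
  obtain ⟨i1, i2, heq, hfl, -, i3, g, hg⟩ := main t f hf
  have := hfl inferInstance
  have hn1 : IsNoetherianRing (t.Fiber C) := fiber_isNoetherianRing t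
  have hn2 : IsNoetherianRing (t.Fiber D) := fiber_isNoetherianRing t
  obtain ⟨hP, hover, hQ⟩ := (mem_associatedPrimes_fiberMod_iff t N' P).mp h
  have h1 := comap_mem_ass_of_flat g hg _ hQ
  have hprime := h1.1
  have h2 : (P.comap (algebraMap C D)) =
      ((FlatCA.fiberIdeal t P).comap (algebraMap (t.Fiber C) (t.Fiber D))).comap (toFiber t C) := by
    rw [heq, Ideal.comap_comap, fmap_comp_toFiber t, ← Ideal.comap_comap]
    congr 1
    exact (comap_fiberIdeal t P).symm
  rw [h2, mem_associatedPrimes_fiberMod_iff]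
  refine ⟨inferInstance, liesOver_of_comap t _ hprime.ne_top, ?_⟩
  have := fiberIdeal_comap t ((FlatCA.fiberIdeal t P).comap (algebraMap (t.Fiber C) (t.Fiber D)))
  rw [this]
  exact h1

/-- A prime of an étale algebra over a relatively associated prime is relatively associated. -/
theorem mem_of_etale [Algebra.FiniteType A C] [Algebra.FiniteType A D] [Algebra.Etale C D]
    (t : Ideal A) [t.IsPrime] (f : N →ₗ[C] N') (hf : IsBaseChange D f)
    {P : Ideal D} [P.IsPrime] (h : P.comap (algebraMap C D) ∈ associatedPrimes C (FlatCA.fiberMod t C N)) :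
    P ∈ associatedPrimes D (FlatCA.fiberMod t D N') := by
  obtain ⟨i1, i2, heq, -, het, i3, g, hg⟩ := main t f hf
  have := het inferInstance
  have : Module.Flat (t.Fiber C) (t.Fiber D) := inferInstance
  have hn1 : IsNoetherianRing (t.Fiber C) := fiber_isNoetherianRing t
  have hn2 : IsNoetherianRing (t.Fiber D) := fiber_isNoetherianRing t
  obtain ⟨hP, hover, hQ⟩ := (mem_associatedPrimes_fiberMod_iff t N (P.comap (algebraMap C D))).mp h
  have hover' : P.LiesOver t := by
    constructor
    rw [hover.over]
    exact (Ideal.under_under ..)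
  have hpr : (FlatCA.fiberIdeal t P).IsPrime := fiberIdeal_isPrime t P
  have hcomap : (FlatCA.fiberIdeal t P).comap (algebraMap (t.Fiber C) (t.Fiber D)) =
      FlatCA.fiberIdeal t (P.comap (algebraMap C D)) := by
    rw [← fiberIdeal_comap t ((FlatCA.fiberIdeal t P).comap (algebraMap (t.Fiber C) (t.Fiber D))), heq]
    congr 1
    change Ideal.comap (toFiber t C) _ = _
    rw [Ideal.comap_comap, fmap_comp_toFiber t, ← Ideal.comap_comap]
    congr 1
    exact (comap_fiberIdeal t P)
  rw [mem_associatedPrimes_fiberMod_iff]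
  refine ⟨inferInstance, hover', ?_⟩
  refine RelAss.mem_associatedPrimes_of_flat_isBaseChange g hg hQ ?_
  refine ⟨⟨inferInstance, ?_⟩, ?_⟩
  · rw [Ideal.map_le_iff_le_comap, hcomap]
  · rintro Q' ⟨hQ', hle⟩ hle'
    rw [Ideal.map_le_iff_le_comap] at hle
    have heq' : Q'.under (t.Fiber C) = (FlatCA.fiberIdeal t P).under (t.Fiber C) := by
      apply le_antisymm
      · exact Ideal.comap_mono hle'
      · exact hcomap.le.trans hle
    exact (Algebra.QuasiFinite.eq_of_le_of_under_eq (R := t.Fiber C) Q' _ hle' heq').ge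

end main

end Groth.Agent.Flat2B.EtAss
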