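import Groth.Agent.Flat2B.EtFree

/-!
# From étale-local freeness to flatness and finite presentation near a point
-/

set_option autoImplicit false
universe u

namespace Groth.Agent.Flat2B.EtFree2

open FlatCA TensorProduct IsLocalRing
open Groth.Agent.Flat2B.PointBC Groth.Agent.Flat2B.BCTools Groth.Agent.Flat2B.EtFree

theorem fpOn_powers_mul {S : Type u} [CommRing S] {P N : Type u} [AddCommGroup P] [Module S P]
    [AddCommGroup N] [Module S N] (π : P →ₗ[S] N) (g h : S)
    (H : FPTransfer.FPOn (Submonoid.powers g : Set S) π) :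
    FPTransfer.FPOn (Submonoid.powers (h * g) : Set S) π := by
  obtain ⟨K₀, h1, h2, h3⟩ := H
  refine ⟨K₀, h1, h2, fun k hk => ?_⟩
  obtain ⟨_, ⟨n, rfl⟩, hn⟩ := h3 k hk
  refine ⟨(h * g) ^ n, ⟨n, rfl⟩, ?_⟩
  rw [mul_pow, mul_smul]
  exact K₀.smul_mem _ hn

theorem flat_of_restrictScalars (A C M : Type u) [CommRing A] [CommRing C] [Algebra A C] [AddCommGroup M]
    [Module C M] [Module A M] [IsScalarTower A C M] [Module.Flat A (RestrictScalars A C M)] :
    Module.Flat A M := by
  let e' : RestrictScalars A C M ≃ₗ[A] M :=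
    { (RestrictScalars.addEquiv A C M) with
      map_smul' := fun a m => by
        change RestrictScalars.addEquiv A C M (a • m) = a • (RestrictScalars.addEquiv A C M m)
        rw [← algebraMap_smul C a (RestrictScalars.addEquiv A C M m)]
        rfl }
  exact Module.Flat.of_linearEquiv e'.symm

theorem exists_of_concl {S : Type u} [CommRing S] (q : Ideal S) [q.IsPrime] (A SA NA : Type u)
    [CommRing A] [IsLocalRing A]
    [CommRing SA] [Algebra S SA] [Algebra A SA] [AddCommGroup NA] [Module SA NA] [Module A NA]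
    [IsScalarTower A SA NA] [Module.Finite SA NA] (h : Concl q A SA NA) :
    ∃ (Q : Ideal SA) (_ : Q.IsPrime), Q.LiesOver q ∧ Q.LiesOver (maximalIdeal A) ∧
      ∃ g : SA, g ∉ Q ∧
        Module.FinitePresentation (Localization.Away g) (LocalizedModule (Submonoid.powers g) NA) ∧
        Module.Flat A (LocalizedModule (Submonoid.powers g) NA) := by
  obtain ⟨C, _, _, _, _, _, _, x', _, hres, hm, hEt, hFP, h1, h2⟩ := h
  have hxq := hres.liesOver
  let Q : Ideal SA := x'.comap (algebraMap SA C)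
  have hQq : Q.LiesOver q := ⟨by
    rw [hxq.over]
    ext s
    rw [Ideal.under_def, Ideal.under_def, Ideal.mem_comap, Ideal.mem_comap, Ideal.mem_comap,
      ← IsScalarTower.algebraMap_apply S SA C]⟩
  have hQm : Q.LiesOver (maximalIdeal A) := ⟨by
    rw [hm.over]
    ext s
    rw [Ideal.under_def, Ideal.under_def, Ideal.mem_comap, Ideal.mem_comap, Ideal.mem_comap,
      ← IsScalarTower.algebraMap_apply A SA C]⟩
  have hx1 : (1 : C) ∉ x' := fun h => Ideal.IsPrime.ne_top (I := x') inferInstance ((Ideal.eq_top_iff_one _).2 h)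
  refine ⟨Q, inferInstance, hQq, hQm, ?_⟩
  obtain ⟨n, π, hπ⟩ := Module.Finite.exists_fin' SA NA
  have hπC : Function.Surjective (π.baseChange C) := LinearMap.lTensor_surjective C hπ
  have hfpC : FPTransfer.FPOn (Submonoid.powers (1 : C) : Set C) (π.baseChange C) := by
    have : Module.FinitePresentation C (C ⊗[SA] (Fin n → SA)) := inferInstance
    have hk : (LinearMap.ker (π.baseChange C)).FG :=
      Module.FinitePresentation.fg_ker _ hπC
    exact ⟨_, le_rfl, hk, fun k hk' => ⟨1, ⟨0, by simp⟩, by rw [one_smul]; exact hk'⟩⟩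
  obtain ⟨g₁, hg₁, H₁⟩ := (FPTransfer.exists_fpOn_powers_baseChange_iff π Q x' rfl).2
    ⟨1, hx1, hfpC⟩
  -- flatness
  have hfr : Module.Flat A (C ⊗[SA] NA) := flat_of_restrictScalars A C _
  have hfl : Module.Flat A (LocalizedModule (Submonoid.powers (1 : C)) (C ⊗[SA] NA)) := by
    rw [FlatEt.flat_away_iff_torsion]
    intro I x hx
    exact ⟨0, by
      rw [pow_zero, one_smul]
      exact Module.Flat.lTensor_preserves_injective_linearMap (M := C ⊗[SA] NA) I.subtype
        Subtype.val_injective (hx.trans (map_zero _).symm)⟩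
  obtain ⟨g₂, hg₂, H₂⟩ := (FlatEt.exists_flat_away_baseChange_iff Q x' rfl NA (C ⊗[SA] NA)
    (TensorProduct.mk SA C NA 1) (TensorProduct.isBaseChange SA NA C)).2 ⟨1, hx1, hfl⟩
  refine ⟨g₂ * g₁, fun h => (Ideal.IsPrime.mem_or_mem (I := Q) inferInstance h).elim hg₂ hg₁, ?_, ?_⟩
  · exact (FPTransfer.fpOn_iff _ π hπ).1 (fpOn_powers_mul π g₁ g₂ H₁)
  · exact FlatEt.flat_away_of_flat_away NA g₁ (mul_comm _ _) H₂

end Groth.Agent.Flat2B.EtFree2
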