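import Groth.Prelude.Def_CohB1
import Groth.Prelude.Def_FlatMod2
import Groth.Agent.FormalA.ExProj
import Groth.Agent.Ega3B.FlatRestrict
import Groth.Agent.Dcoh.FTFP
import Groth.Agent.FormalA.PullbackQC
import Groth.Agent.PerfA.ExtZero
import Groth.Agent.Models2.FlatIso
import Groth.Agent.Models2.FPCoh

/-!
# Extension by zero of modules with closed support along open immersions

Let `i : X ⟶ Y` be an open immersion and `M` an `O_X`-module with support in a subset `C` such that `i(C)`
is closed in `Y`.  Then `i_* M` is an extension by zero: it restricts to `M` on `X` and to zero on the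
complement of `i(C)`.
-/

set_option autoImplicit false
universe u

open CategoryTheory CategoryTheory.Limits AlgebraicGeometry TopologicalSpace Opposite

namespace Groth.Agent.Flat2B.ExtZero

open Groth.Agent.FormalA Groth.Agent.FormalA.ExPush Groth.Agent.FormalA.ExProj

variable {X Y S : Scheme.{u}}

/-- A module all whose sections vanish is zero. -/
theorem isZero_of_subsingleton {N : Y.Modules} (h : ∀ V : Y.Opens, Subsingleton Γ(N, V)) : IsZero N := by
  rw [IsZero.iff_id_eq_zero]
  apply Scheme.Modules.hom_ext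
  intro V
  ext s
  exact (h V).elim _ _

/-- A module with support outside the range of an open immersion restricts to zero. -/
theorem isZero_restrict_of_support {N : Y.Modules} {V : Scheme.{u}} (j : V ⟶ Y) [IsOpenImmersion j]
    (h : ∀ y, j y ∉ CohB1.support N) : IsZero (N.restrict j) := by
  refine isZero_of_subsingleton fun W => subsingleton_of_forall_eq 0 fun s => ?_
  refine section_eq_zero_of_support N (j ''ᵁ W) s ?_
  rintro _ ⟨y, -, rfl⟩
  exact h y

/-- A zero module is finitely presented. -/
theorem isFP_of_isZero {N : Y.Modules} (h : IsZero N) : CohB1.IsFP N := by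
  rw [Dcoh.FTFP.isFP_iff']
  intro y
  refine ⟨Y, 𝟙 Y, inferInstance, ⟨y, rfl⟩, ?_⟩
  have h1 : IsZero (N.restrict (𝟙 Y)) := (Scheme.Modules.restrictFunctor (𝟙 Y)).map_isZero h
  have h0 : IsZero (FlatMod.freeMod Y 0) := by
    rw [IsZero.iff_id_eq_zero]
    exact Sigma.hom_ext _ _ fun b => b.elim0
  refine Dcoh.FTFP.gfp_of_cokernel (0 : FlatMod.freeMod Y 0 ⟶ FlatMod.freeMod Y 0) 0 comp_zero ?_
  exact CokernelCofork.IsColimit.ofπ _ _ (fun g hg => 0) (fun g hg => h0.eq_of_src _ _)
    (fun g hg m hm => h1.eq_of_src _ _)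

/-- A morphism of modules is an isomorphism if it is bijective on all sections. -/
theorem isIso_of_bijective {N N' : Y.Modules} (φ : N ⟶ N')
    (h : ∀ V : Y.Opens, Function.Bijective (φ.app V)) : IsIso φ := by
  rw [Scheme.Modules.Hom.isIso_iff_isIso_app]
  intro V
  rw [ConcreteCategory.isIso_iff_bijective]
  exact h V

variable (i : X ⟶ Y) [IsOpenImmersion i]

/-- If the support of `N` is contained in a closed set contained in the range of `i` then
`N ⟶ i_* (N|_X)` is an isomorphism. -/
theorem isIso_unit (N : Y.Modules) (D : Set Y) (hD : IsClosed D) (hDi : D ⊆ Set.range i)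
    (hN : CohB1.support N ⊆ D) : IsIso ((Scheme.Modules.restrictAdjunction i).unit.app N) := by
  refine isIso_of_bijective _ fun V => ?_
  change Function.Bijective (N.presheaf.map (homOfLE (i.image_preimage_le V)).op)
  let V₁ : Y.Opens := i ''ᵁ (i ⁻¹ᵁ V)
  let V₂ : Y.Opens := V ⊓ ⟨Dᶜ, hD.isOpen_compl⟩
  have h1 : V₁ ≤ V := i.image_preimage_le V
  have h2 : V₂ ≤ V := inf_le_left
  have h3 : V ≤ V₁ ⊔ V₂ := by
    intro y hy
    by_cases hyD : y ∈ D
    · obtain ⟨x, rfl⟩ := hDi hyD
      exact Or.inl ⟨x, hy, rfl⟩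
    · exact Or.inr ⟨hy, hyD⟩
  have hz : ∀ {W : Y.Opens} (_ : W ≤ V₂) (s : Γ(N, W)), s = 0 := fun hW s =>
    section_eq_zero_of_support N _ s fun y hy hyN => (hW hy).2 (hN hyN)
  constructor
  · intro s t hst
    have h4 : N.presheaf.map (homOfLE h1).op s = N.presheaf.map (homOfLE h1).op t := hst
    refine TopCat.Sheaf.eq_of_locally_eq₂ ⟨N.presheaf, N.isSheaf⟩ (homOfLE h1) (homOfLE h2) h3 s t h4 ?_
    exact (hz le_rfl _).trans (hz le_rfl _).symm
  · intro t
    obtain ⟨r, hr, -⟩ := PerfA.ExtZero.exists_glue V₁ V₂ N t 0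
      ((hz inf_le_right _).trans (hz inf_le_right _).symm)
    refine ⟨N.presheaf.map (homOfLE h3).op r, ?_⟩
    rw [← hr, ← ConcreteCategory.comp_apply, ← Functor.map_comp]
    rfl

/-- `(i_* M)|_X ≅ M`. -/
noncomputable def restrictPushIso (M : X.Modules) :
    ((Scheme.Modules.pushforward i).obj M).restrict i ≅ M :=
  (Scheme.Modules.restrictFunctorAdjCounitIso i).app M

variable (C : Set X) (hC : IsClosed (i '' C))

include hC

/-- The extension by zero of a finitely presented module is finitely presented. -/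
theorem isFP_pushforward (M : X.Modules) (hM : CohB1.support M ⊆ C) (h : CohB1.IsFP M) :
    CohB1.IsFP ((Scheme.Modules.pushforward i).obj M) := by
  refine Dcoh.FTFP.isFP_of_cover fun y => ?_
  by_cases hy : y ∈ Set.range i
  · exact ⟨X, i, inferInstance, hy, Dcoh.FTFP.isFP_of_iso (restrictPushIso i M).symm h⟩
  · let W : Y.Opens := ⟨(i '' C)ᶜ, hC.isOpen_compl⟩
    refine ⟨W, W.ι, inferInstance, ?_, ?_⟩
    · rw [Scheme.Opens.range_ι]
      rintro ⟨x, -, rfl⟩
      exact hy ⟨x, rfl⟩
    · have h0 : IsZero (((Scheme.Modules.pushforward i).obj M).restrict W.ι) :=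
        isZero_restrict_of_support W.ι fun w hw => w.2 (support_pushforward_subset i C hC M hM hw)
      exact isFP_of_isZero h0

/-- The extension by zero of a flat module is flat. -/
theorem isFlatOver_pushforward (p : Y ⟶ S) (M : X.Modules) (hM : CohB1.support M ⊆ C)
    (h : FlatMod.IsFlatOver (i ≫ p) M) :
    FlatMod.IsFlatOver p ((Scheme.Modules.pushforward i).obj M) := by
  intro y
  by_cases hy : y ∈ Set.range i
  · obtain ⟨x, rfl⟩ := hy
    rw [← Ega3B.FlatRestrict.isFlatOverAt_restrict_iff_comp]
    exact Models2.FlatIso.isFlatOverAt_of_iso _ (restrictPushIso i M).symm x (h x)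
  · have : Subsingleton (((Scheme.Modules.pushforward i).obj M).presheaf.stalk y) := by
      by_contra hc
      obtain ⟨x, -, rfl⟩ := support_pushforward_subset i C hC M hM hc
      exact hy ⟨x, rfl⟩
    let _ := FlatMod.moduleStalkOver p ((Scheme.Modules.pushforward i).obj M) y
    change Module.Flat (S.presheaf.stalk (p.base y)) (((Scheme.Modules.pushforward i).obj M).presheaf.stalk y)
    infer_instance

/-- Extension by zero commutes with pull-back. -/
theorem nonempty_pullback_iso {X' Y' : Scheme.{u}} (a : X' ⟶ X) (b : Y' ⟶ Y) (i' : X' ⟶ Y')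
    [IsOpenImmersion i'] (sq : IsPullback a i' i b) (M : X.Modules) (hM : CohB1.support M ⊆ C)
    (h : CohB1.IsFP M) :
    Nonempty ((Scheme.Modules.pullback b).obj ((Scheme.Modules.pushforward i).obj M) ≅
      (Scheme.Modules.pushforward i').obj ((Scheme.Modules.pullback a).obj M)) := by
  have h1 : CohB1.IsFP ((Scheme.Modules.pushforward i).obj M) := isFP_pushforward i C hC M hM h
  have h1' : CohB1.IsFT ((Scheme.Modules.pushforward i).obj M) := Models2.FPCoh.isFT_of_isFP h1
  have h2 : CohB1.support ((Scheme.Modules.pullback b).obj ((Scheme.Modules.pushforward i).obj M)) ⊆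
      b ⁻¹' (i '' C) :=
    (Support.support_pullback_subset b _ h1').trans
      (Set.preimage_mono (support_pushforward_subset i C hC M hM))
  have h3 : b ⁻¹' (i '' C) ⊆ Set.range i' := by
    rintro y ⟨x, -, hx⟩
    obtain ⟨z, -, hz⟩ := Scheme.exists_preimage_of_isPullback sq x y hx
    exact ⟨z, hz⟩
  have h4 := isIso_unit i' _ _ (hC.preimage b.continuous) h3 h2
  have e1 := asIso ((Scheme.Modules.restrictAdjunction i').unit.app
    ((Scheme.Modules.pullback b).obj ((Scheme.Modules.pushforward i).obj M)))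
  have e2 := PullbackQC.restrictPullbackIso' b i' i a sq.w.symm ((Scheme.Modules.pushforward i).obj M)
  exact ⟨e1 ≪≫ (Scheme.Modules.pushforward i').mapIso (e2 ≪≫
    (Scheme.Modules.pullback a).mapIso (restrictPushIso i M))⟩

end Groth.Agent.Flat2B.ExtZero
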