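import Mathlib.Algebra.Module.FinitePresentation
import Mathlib.Algebra.Module.LocalizedModule.Submodule
import Mathlib.Algebra.Module.LocalizedModule.Away
import Mathlib.RingTheory.Flat.Localization
import Mathlib.RingTheory.Localization.Finiteness
import Mathlib.RingTheory.Spectrum.Prime.Topology
import Groth.Agent.Flat2C.FlatAtCriterion

/-!
# Finitely generated submodules and localization

* `exists_fg_of_localized_fg`: if the localization of a submodule `K` is finitely generated then
  some finitely generated `K' ≤ K` has the same localization (elementwise form).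
* `exists_fg_ker_of_localized_fp`: for a surjection from a finitely presented module onto `N` with
  `S⁻¹N` finitely presented, a finitely generated submodule of the kernel with the same
  localization.
* `fp_localized_of_ker`: if `K' ≤ ker φ` is finitely generated and has the same localization as
  `ker φ` then `S⁻¹N` is finitely presented.
* `flat_localizedAway_of_forall_prime`: flatness of `N_g` from flatness at all primes of `D(g)`.
-/

set_option autoImplicit false

namespace Groth.Agent.Flat2B.FgLoc

variable {R : Type*} [CommRing R] (S : Submonoid R)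

theorem exists_fg_of_localized_fg {F : Type*} [AddCommGroup F] [Module R F] (K : Submodule R F)
    (h : (K.localized S).FG) :
    ∃ K' : Submodule R F, K' ≤ K ∧ K'.FG ∧ ∀ x ∈ K, ∃ s ∈ S, s • x ∈ K' := by
  classical
  rw [Submodule.localized, Submodule.localized'_eq_span,
    Submodule.fg_span_iff_fg_span_finset_subset] at h
  obtain ⟨Y, hY, hYspan⟩ := h
  obtain ⟨t, ht, rfl⟩ := Finset.subset_set_image_iff.mp hY
  refine ⟨Submodule.span R t, Submodule.span_le.mpr ht, ⟨t, rfl⟩, ?_⟩
  intro x hx
  have hx' : LocalizedModule.mkLinearMap S F x ∈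
      (Submodule.span R (t : Set F)).localized' (Localization S) S
        (LocalizedModule.mkLinearMap S F) := by
    rw [Submodule.localized'_span, ← Finset.coe_image, ← hYspan]
    exact Submodule.subset_span ⟨x, hx, rfl⟩
  rw [Submodule.mem_localized'] at hx'
  obtain ⟨m, hm, s, hms⟩ := hx'
  have h1 : LocalizedModule.mkLinearMap S F m = LocalizedModule.mkLinearMap S F (s • x) := by
    rw [LinearMap.map_smul_of_tower, ← hms]
    exact (IsLocalizedModule.mk'_cancel' _ _ s).symm
  obtain ⟨s', hs'⟩ := IsLocalizedModule.exists_of_eq (S := S) h1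
  refine ⟨s' * s, mul_mem s'.2 s.2, ?_⟩
  have : ((s' : R) * (s : R)) • x = s' • m := by
    rw [hs', mul_smul]; rfl
  rw [this]
  exact Submodule.smul_mem _ _ hm

theorem exists_fg_ker_of_localized_fp {F N : Type*} [AddCommGroup F] [Module R F] [AddCommGroup N]
    [Module R N] [Module.Finite R F] (φ : F →ₗ[R] N) (hφ : Function.Surjective φ)
    [Module.FinitePresentation (Localization S) (LocalizedModule S N)] :
    ∃ K' : Submodule R F, K' ≤ LinearMap.ker φ ∧ K'.FG ∧
      ∀ x ∈ LinearMap.ker φ, ∃ s ∈ S, s • x ∈ K' := by
  apply exists_fg_of_localized_fg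
  rw [Submodule.localized, LinearMap.localized'_ker_eq_ker_localizedMap (Localization S) S _
    (LocalizedModule.mkLinearMap S N) φ]
  apply Module.FinitePresentation.fg_ker
  exact LocalizedModule.map_surjective S φ hφ

/-- If `K' ≤ ker φ` has the same localization as `ker φ` then the localization of
`F ⧸ K' → N` is bijective. -/
theorem bijective_map_liftQ {F N : Type*} [AddCommGroup F] [Module R F] [AddCommGroup N]
    [Module R N] (φ : F →ₗ[R] N) (hφ : Function.Surjective φ) (K' : Submodule R F)
    (hK' : K' ≤ LinearMap.ker φ) (h : ∀ x ∈ LinearMap.ker φ, ∃ s ∈ S, s • x ∈ K') :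
    Function.Bijective (LocalizedModule.map S (K'.liftQ φ hK')) := by
  constructor
  · rw [injective_iff_map_eq_zero]
    intro x hx
    induction x using LocalizedModule.induction_on with
    | h m s =>
      obtain ⟨m, rfl⟩ := K'.mkQ_surjective m
      rw [LocalizedModule.map_mk] at hx
      have hx' : LocalizedModule.mk ((K'.liftQ φ hK') (K'.mkQ m)) s =
        LocalizedModule.mk 0 s := by rw [hx, LocalizedModule.zero_mk]
      obtain ⟨u, hu⟩ := LocalizedModule.mk_eq.mp hx'
      simp only [Submodule.mkQ_apply, Submodule.liftQ_apply, smul_zero] at hu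
      have hmem : (u * s : S) • m ∈ LinearMap.ker φ := by
        rw [LinearMap.mem_ker, LinearMap.map_smul_of_tower, mul_smul]
        exact hu
      obtain ⟨v, hv, hv'⟩ := h _ hmem
      rw [← LocalizedModule.zero_mk 1]
      refine LocalizedModule.mk_eq.mpr ⟨⟨v, hv⟩ * (u * s), ?_⟩
      rw [smul_zero, smul_zero, one_smul, mul_smul]
      have : (⟨v, hv⟩ : S) • ((u * s : S) • K'.mkQ m) = K'.mkQ (v • ((u * s : S) • m)) := by
        rw [map_smul, LinearMap.map_smul_of_tower]; rfl
      rw [this, Submodule.mkQ_apply, Submodule.Quotient.mk_eq_zero]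
      exact hv'
  · apply LocalizedModule.map_surjective
    intro n
    obtain ⟨m, rfl⟩ := hφ n
    exact ⟨K'.mkQ m, by simp⟩

theorem fp_localized_of_ker {F N : Type*} [AddCommGroup F] [Module R F] [AddCommGroup N]
    [Module R N] [Module.FinitePresentation R F] (φ : F →ₗ[R] N) (hφ : Function.Surjective φ)
    (K' : Submodule R F) (hK' : K' ≤ LinearMap.ker φ) (hfg : K'.FG)
    (h : ∀ x ∈ LinearMap.ker φ, ∃ s ∈ S, s • x ∈ K') :
    Module.FinitePresentation (Localization S) (LocalizedModule S N) := by
  have hfp : Module.FinitePresentation R (F ⧸ K') :=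
    Module.finitePresentation_of_surjective K'.mkQ K'.mkQ_surjective (by simpa using hfg)
  have hb := bijective_map_liftQ S φ hφ K' hK' h
  exact Module.finitePresentation_of_surjective (LocalizedModule.map S (K'.liftQ φ hK')) hb.2
    (by rw [LinearMap.ker_eq_bot.mpr hb.1]; exact Submodule.fg_bot)

open TensorProduct in
/-- Flatness over the base of `N_g` from flatness at all primes of `D(g)`. -/
theorem flat_localizedAway_of_forall_prime {A B N : Type*} [CommRing A] [CommRing B] [Algebra A B]
    [AddCommGroup N] [Module B N] [Module A N] [IsScalarTower A B N] (g : B)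
    (h : ∀ (Q : Ideal B) [Q.IsPrime], g ∉ Q → Module.Flat A (LocalizedModule Q.primeCompl N)) :
    Module.Flat A (LocalizedModule (Submonoid.powers g) N) := by
  rw [Flat2C.FlatAtCriterion.flat_isLocalizedModule_iff (Submonoid.powers g)
    (LocalizedModule.mkLinearMap (Submonoid.powers g) N)]
  intro I x hx
  have hrad : g ∈ Ideal.radical (LinearMap.ker (LinearMap.toSpanSingleton B (N ⊗[A] I) x)) := by
    rw [Ideal.radical_eq_sInf, Ideal.mem_sInf]
    rintro Q ⟨hQ, hQp⟩
    by_contra hg
    obtain ⟨t, ht, htx⟩ := (Flat2C.FlatAtCriterion.flat_isLocalizedModule_iff Q.primeCompl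
      (LocalizedModule.mkLinearMap Q.primeCompl N)).mp (h Q hg) I x hx
    exact ht (hQ (by simpa using htx))
  obtain ⟨k, hk⟩ := hrad
  exact ⟨g ^ k, ⟨k, rfl⟩, by simpa using hk⟩

end Groth.Agent.Flat2B.FgLoc
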