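import Mathlib.RingTheory.Spectrum.Prime.Chevalley
import Mathlib.RingTheory.Valuation.LocalSubring
import Mathlib.RingTheory.TensorProduct.MvPolynomial
import Mathlib.RingTheory.MvPolynomial.Ideal
import Mathlib.RingTheory.Flat.Stability
import Mathlib.RingTheory.Flat.TorsionFree
import Mathlib.RingTheory.LocalRing.ResidueField.Fiber
import Mathlib.Topology.Constructible
import Mathlib.RingTheory.AlgebraicIndependent.AlgebraicClosure

/-!
# Generization of relative transcendence degree along flat maps

Let `A → B` be flat, `q` a prime of `B` over `p` and `t_1, …, t_d ∈ B` algebraically independent over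
`κ(p)` modulo `q`. Then for every prime `p₀ ≤ p` there is a prime `q₀ ≤ q` of `B` over `p₀` modulo which
the `t_i` are algebraically independent over `κ(p₀)`.
-/

set_option autoImplicit false

universe u v w

namespace Groth.Agent.Flat2B.FibGen

open TensorProduct MvPolynomial

/-- Points of the closure of a constructible set are specializations of points of the set. -/
theorem exists_specializes_of_mem_closure {R : Type u} [CommRing R] {Z : Set (PrimeSpectrum R)}
    (hZ : Topology.IsConstructible Z) {p : PrimeSpectrum R} (hp : p ∈ closure Z) :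
    ∃ z ∈ Z, z ⤳ p := by
  obtain ⟨S, _, f, rfl⟩ := PrimeSpectrum.exists_range_eq_of_isConstructible hZ
  rw [PrimeSpectrum.closure_range_comap, PrimeSpectrum.mem_zeroLocus] at hp
  obtain ⟨P, hP, hPp⟩ := Ideal.exists_minimalPrimes_le (I := RingHom.ker f) (J := p.asIdeal) hp
  obtain ⟨Q, hQ, -, hQP⟩ := Ideal.exists_comap_eq_of_mem_minimalPrimes f (I := ⊥) P
    (by rwa [← RingHom.ker_eq_comap_bot])
  refine ⟨PrimeSpectrum.comap f ⟨Q, hQ⟩, ⟨_, rfl⟩, ?_⟩
  rw [← PrimeSpectrum.le_iff_specializes]
  change Q.comap f ≤ p.asIdeal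
  rw [hQP]
  exact hPp

/-- The valuation ring case. -/
theorem exists_comap_eq_bot_of_valuationRing {V : Type u} [CommRing V] [IsDomain V] [ValuationRing V]
    {C : Type v} [CommRing C] [Algebra V C] [Module.Flat V C] {σ : Type w}
    (φ : MvPolynomial σ V →ₐ[V] C) (q : Ideal C) [q.IsPrime]
    (hq : q.comap φ.toRingHom = (IsLocalRing.maximalIdeal V).map MvPolynomial.C) :
    ∃ q' : Ideal C, q'.IsPrime ∧ q' ≤ q ∧ q'.comap φ.toRingHom = ⊥ := by
  have key : ∀ F : MvPolynomial σ V, F ≠ 0 → ∃ (c : V) (F₁ : MvPolynomial σ V), c ≠ 0 ∧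
      F = MvPolynomial.C c * F₁ ∧ φ F₁ ∉ q := by
    intro F hF
    have hsupp : F.support.Nonempty := by rwa [Finset.nonempty_iff_ne_empty, Ne, support_eq_empty]
    have aux : ∀ s : Finset (σ →₀ ℕ), s.Nonempty → ∃ m ∈ s, ∀ m' ∈ s, coeff m F ∣ coeff m' F := by
      intro s hs
      induction hs using Finset.Nonempty.cons_induction with
      | singleton a => exact ⟨a, by simp, by simp⟩
      | cons a s h hs ih =>
        obtain ⟨m, hm, hdvd⟩ := ih
        rcases ValuationRing.dvd_total (coeff m F) (coeff a F) with h1 | h1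
        · refine ⟨m, by simp [hm], ?_⟩
          intro m' hm'
          rw [Finset.mem_cons] at hm'
          rcases hm' with rfl | hm'
          · exact h1
          · exact hdvd _ hm'
        · refine ⟨a, by simp, ?_⟩
          intro m' hm'
          rw [Finset.mem_cons] at hm'
          rcases hm' with rfl | hm'
          · exact dvd_rfl
          · exact h1.trans (hdvd _ hm')
    obtain ⟨m, hm, hdvd⟩ := aux _ hsupp
    obtain ⟨F₁, hF₁⟩ : MvPolynomial.C (coeff m F) ∣ F := by
      rw [C_dvd_iff_dvd_coeff]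
      intro m'
      by_cases hm' : m' ∈ F.support
      · exact hdvd _ hm'
      · rw [notMem_support_iff.mp hm']; exact dvd_zero _
    have hc : coeff m F ≠ 0 := mem_support_iff.mp hm
    refine ⟨coeff m F, F₁, hc, hF₁, fun h ↦ ?_⟩
    have h1 : F₁ ∈ q.comap φ.toRingHom := h
    rw [hq, mem_map_C_iff] at h1
    have h2 : coeff m F = coeff m F * coeff m F₁ := by
      conv_lhs => rw [hF₁, coeff_C_mul]
    have h3 : coeff m F₁ = 1 := (mul_right_cancel₀ hc (by rw [one_mul, mul_comm]; exact h2)).symm
    have := h1 m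
    rw [h3] at this
    exact (Ideal.ne_top_iff_one _).mp (IsLocalRing.maximalIdeal.isMaximal V).ne_top this
  let M : Submonoid C :=
    { carrier := {x | ∃ (s : C) (F : MvPolynomial σ V), s ∉ q ∧ F ≠ 0 ∧ x = s * φ F}
      mul_mem' := by
        rintro _ _ ⟨s, F, hs, hF, rfl⟩ ⟨s', F', hs', hF', rfl⟩
        refine ⟨s * s', F * F', ?_, mul_ne_zero hF hF', ?_⟩
        · intro h
          exact (Ideal.IsPrime.mem_or_mem ‹_› h).elim hs hs'
        · rw [map_mul]; ring
      one_mem' := ⟨1, 1, q.one_notMem, one_ne_zero, by simp⟩ }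
  have h0 : (0 : C) ∉ M := by
    rintro ⟨s, F, hs, hF, h⟩
    obtain ⟨c, F₁, hc, rfl, hF₁⟩ := key F hF
    have h1 : c • (s * φ F₁) = 0 := by
      rw [h, map_mul, Algebra.smul_def]
      have : φ (MvPolynomial.C c) = algebraMap V C c := by
        rw [← MvPolynomial.algebraMap_eq, AlgHom.commutes]
      rw [this]; ring
    have h2 : s * φ F₁ = 0 :=
      Module.Flat.isSMulRegular_of_nonZeroDivisors (mem_nonZeroDivisors_of_ne_zero hc)
        (by simpa using h1)
    have h3 : s * φ F₁ ∈ q := by rw [h2]; exact zero_mem _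
    exact (Ideal.IsPrime.mem_or_mem ‹_› h3).elim hs hF₁
  obtain ⟨q', hq', -, hdisj⟩ := Ideal.exists_le_prime_disjoint (⊥ : Ideal C) M (by
    rw [Set.disjoint_left]
    rintro x hx hxM
    rw [SetLike.mem_coe, Ideal.mem_bot] at hx
    subst hx
    exact h0 hxM)
  rw [Set.disjoint_left] at hdisj
  refine ⟨q', hq', ?_, ?_⟩
  · intro x hx
    by_contra hxq
    exact hdisj hx ⟨x, 1, hxq, one_ne_zero, by simp⟩
  · rw [eq_bot_iff]
    intro F hF
    rw [Ideal.mem_bot]
    by_contra hF0
    exact hdisj hF ⟨1, F, q.one_notMem, hF0, by simp⟩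

/-- Algebraic independence is preserved by extension of the ground field. -/
theorem algebraicIndependent_tmul {k : Type u} {K : Type v} {L : Type w} [Field k] [Field K]
    [Algebra k K] [CommRing L] [Algebra k L] {σ : Type*} {x : σ → L}
    (hx : AlgebraicIndependent k x) :
    AlgebraicIndependent K (fun i ↦ (1 : K) ⊗ₜ[k] x i) := by
  have h1 : (aeval (fun i ↦ (1 : K) ⊗ₜ[k] x i) : MvPolynomial σ K →ₐ[K] K ⊗[k] L) =
      (Algebra.TensorProduct.map (AlgHom.id K K) (aeval x : MvPolynomial σ k →ₐ[k] L)).comp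
        (algebraTensorAlgEquiv k K (σ := σ)).symm.toAlgHom := by
    ext i
    simp
  rw [AlgebraicIndependent, h1]
  have h2 : Function.Injective (Algebra.TensorProduct.map (AlgHom.id K K)
      (aeval x : MvPolynomial σ k →ₐ[k] L)) :=
    Module.Flat.lTensor_preserves_injective_linearMap (M := K)
      (aeval x : MvPolynomial σ k →ₐ[k] L).toLinearMap hx
  exact h2.comp (algebraTensorAlgEquiv k K (σ := σ)).symm.injective

/-- `t` is algebraically independent modulo `q` over `A ⧸ p`. -/
theorem algebraicIndependent_residueField {A B : Type u} [CommRing A] [CommRing B] [Algebra A B]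
    (p : Ideal A) [p.IsPrime] (q : Ideal B) [q.IsPrime] {σ : Type v} (t : σ → B)
    [Algebra p.ResidueField q.ResidueField] [IsScalarTower A p.ResidueField q.ResidueField]
    (hq : q.comap (aeval t : MvPolynomial σ A →ₐ[A] B).toRingHom = p.map MvPolynomial.C) :
    AlgebraicIndependent p.ResidueField (fun i ↦ algebraMap B q.ResidueField (t i)) := by
  let iB : Algebra (A ⧸ p) q.ResidueField :=
    ((algebraMap p.ResidueField q.ResidueField).comp (algebraMap (A ⧸ p) p.ResidueField)).toAlgebra
  have hst2 : IsScalarTower (A ⧸ p) p.ResidueField q.ResidueField := .of_algebraMap_eq fun r ↦ rfl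
  have hst3 : IsScalarTower A (A ⧸ p) q.ResidueField := .of_algebraMap_eq fun r ↦ by
    rw [IsScalarTower.algebraMap_apply (A ⧸ p) p.ResidueField q.ResidueField,
      ← IsScalarTower.algebraMap_apply A (A ⧸ p) p.ResidueField,
      ← IsScalarTower.algebraMap_apply A p.ResidueField q.ResidueField]
  have hind : AlgebraicIndependent (A ⧸ p) (fun i ↦ algebraMap B q.ResidueField (t i)) := by
    rw [algebraicIndependent_iff]
    intro F hF
    obtain ⟨G, rfl⟩ := MvPolynomial.map_surjective (Ideal.Quotient.mk p) Ideal.Quotient.mk_surjective F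
    have h1 : aeval (fun i ↦ algebraMap B q.ResidueField (t i)) (MvPolynomial.map (Ideal.Quotient.mk p) G) =
        algebraMap B q.ResidueField (aeval t G) := by
      have : (aeval (fun i ↦ algebraMap B q.ResidueField (t i)) :
          MvPolynomial _ (A ⧸ p) →ₐ[A ⧸ p] q.ResidueField).toRingHom.comp
          (MvPolynomial.map (Ideal.Quotient.mk p)) =
          (algebraMap B q.ResidueField).comp (aeval t : MvPolynomial σ A →ₐ[A] B).toRingHom := by
        apply MvPolynomial.ringHom_ext
        · intro r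
          simp only [AlgHom.toRingHom_eq_coe, RingHom.coe_comp, RingHom.coe_coe, Function.comp_apply,
            map_C, aeval_C]
          rw [← Ideal.Quotient.algebraMap_eq, ← IsScalarTower.algebraMap_apply A (A ⧸ p),
            ← IsScalarTower.algebraMap_apply A B]
        · intro i
          simp
      exact congr($this G)
    rw [h1, Ideal.algebraMap_residueField_eq_zero] at hF
    have h2 : G ∈ q.comap (aeval t : MvPolynomial σ A →ₐ[A] B).toRingHom := hF
    rw [hq, mem_map_C_iff] at h2
    ext m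
    rw [coeff_map, coeff_zero, Ideal.Quotient.eq_zero_iff_mem]
    exact h2 m
  have halg : Algebra.IsAlgebraic (A ⧸ p) p.ResidueField :=
    IsLocalization.isAlgebraic _ (nonZeroDivisors (A ⧸ p))
  exact hind.extendScalars p.ResidueField

theorem exists_tensor_lift {A V B E : Type*} [CommRing A] [CommRing V] [CommRing B] [CommRing E]
    [Algebra A V] [Algebra A B] (α : V →+* E) (β : B →+* E)
    (h : α.comp (algebraMap A V) = β.comp (algebraMap A B)) :
    ∃ Φ : V ⊗[A] B →+* E, (∀ v, Φ (v ⊗ₜ 1) = α v) ∧ ∀ b, Φ (1 ⊗ₜ b) = β b := by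
  let := (α.comp (algebraMap A V)).toAlgebra
  let α' : V →ₐ[A] E := { toRingHom := α, commutes' := fun a ↦ rfl }
  let β' : B →ₐ[A] E := { toRingHom := β, commutes' := fun a ↦ congr($h a).symm }
  refine ⟨(Algebra.TensorProduct.lift α' β' (fun _ _ ↦ Commute.all _ _)).toRingHom, ?_, ?_⟩
  · intro v
    simp [α']
  · intro b
    simp [β']

/-- The key lemma over a domain. -/
theorem exists_comap_eq_bot {A B : Type u} [CommRing A] [IsDomain A] [CommRing B] [Algebra A B]
    [Module.Flat A B] (p : Ideal A) [p.IsPrime] (q : Ideal B) [q.IsPrime] [q.LiesOver p]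
    {σ : Type v} (t : σ → B)
    (hq : q.comap (aeval t : MvPolynomial σ A →ₐ[A] B).toRingHom = p.map MvPolynomial.C) :
    ∃ q' : Ideal B, q'.IsPrime ∧ q' ≤ q ∧
      q'.comap (aeval t : MvPolynomial σ A →ₐ[A] B).toRingHom = ⊥ := by
  -- a valuation ring dominating `A_p`
  let K := FractionRing A
  let f : Localization.AtPrime p →+* K := IsLocalization.lift (M := p.primeCompl) (g := algebraMap A K)
    (fun y ↦ by
      rw [isUnit_iff_ne_zero, Ne, IsFractionRing.to_map_eq_zero_iff]
      rintro h
      exact y.2 (h ▸ zero_mem p))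
  obtain ⟨V, hV, hloc⟩ := IsLocalRing.exists_factor_valuationRing f
  let g₀ : Localization.AtPrime p →+* V := f.codRestrict V.toSubring hV
  have hloc₀ : IsLocalHom g₀ := hloc
  let g : A →+* V := g₀.comp (algebraMap A (Localization.AtPrime p))
  have hginj : Function.Injective g := by
    have h1 : (V.subtype).comp g = algebraMap A K := by
      ext a
      change f (algebraMap A (Localization.AtPrime p) a) = _
      simp [f]
    have h2 : Function.Injective (algebraMap A K) := IsFractionRing.injective A K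
    rw [← h1, RingHom.coe_comp] at h2
    exact h2.of_comp
  have hgp : (IsLocalRing.maximalIdeal V).comap g = p := by
    rw [← Ideal.comap_comap]
    have : (IsLocalRing.maximalIdeal V).comap g₀ =
        IsLocalRing.maximalIdeal (Localization.AtPrime p) :=
      ((IsLocalRing.local_hom_TFAE g₀).out 0 4 rfl rfl).mp hloc₀
    rw [this]
    exact IsLocalization.AtPrime.under_maximalIdeal _ p
  let iAV : Algebra A V := g.toAlgebra
  let κV := IsLocalRing.ResidueField V
  let r : A →+* κV := (IsLocalRing.residue V).comp g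
  have hr : ∀ a : A, r a = 0 ↔ a ∈ p := by
    intro a
    rw [← hgp, Ideal.mem_comap, ← IsLocalRing.residue_eq_zero_iff]
    rfl
  let iκ : p.ResidueField →+* κV := Ideal.ResidueField.lift p r
    (fun a ha ↦ (hr a).mpr ha) (fun a ha ↦ by
      change IsUnit (r a)
      rw [isUnit_iff_ne_zero, Ne, hr]; exact ha)
  let iκV : Algebra p.ResidueField κV := iκ.toAlgebra
  let iκq : Algebra p.ResidueField q.ResidueField :=
    (Ideal.ResidueField.mapₐ p q (Algebra.ofId A B) (q.over_def p)).toRingHom.toAlgebra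
  have tq : IsScalarTower A p.ResidueField q.ResidueField := .of_algebraMap_eq fun a ↦
    ((Ideal.ResidueField.mapₐ p q (Algebra.ofId A B) (q.over_def p)).commutes a).symm
  have hind := algebraicIndependent_tmul (K := κV) (algebraicIndependent_residueField p q t hq)
  let E := κV ⊗[p.ResidueField] q.ResidueField
  let x : σ → E := fun i ↦ (1 : κV) ⊗ₜ[p.ResidueField] algebraMap B q.ResidueField (t i)
  have hindx : AlgebraicIndependent κV x := hind
  -- the prime of `E`
  let M : Submonoid E :=
    { carrier := {z | ∃ F : MvPolynomial σ κV, F ≠ 0 ∧ z = aeval x F}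
      mul_mem' := by
        rintro _ _ ⟨F, hF, rfl⟩ ⟨F', hF', rfl⟩
        exact ⟨F * F', mul_ne_zero hF hF', by rw [map_mul]⟩
      one_mem' := ⟨1, one_ne_zero, by simp⟩ }
  obtain ⟨P, hP, -, hdisj⟩ := Ideal.exists_le_prime_disjoint (⊥ : Ideal E) M (by
    rw [Set.disjoint_left]
    rintro z hz ⟨F, hF, rfl⟩
    rw [SetLike.mem_coe, Ideal.mem_bot] at hz
    exact hF (hindx (by rw [hz, map_zero])))
  rw [Set.disjoint_left] at hdisj
  obtain ⟨Φ, hΦ1, hΦ2⟩ := exists_tensor_lift (A := A) (V := V) (B := B) (E := E)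
    ((algebraMap κV E).comp (IsLocalRing.residue V))
    ((Algebra.TensorProduct.includeRight (R := p.ResidueField) (A := κV)
        (B := q.ResidueField)).toRingHom.comp (algebraMap B q.ResidueField)) (by
      ext a
      simp only [AlgHom.toRingHom_eq_coe, RingHom.coe_comp, RingHom.coe_coe,
          Function.comp_apply]
      rw [← IsScalarTower.algebraMap_apply A B q.ResidueField,
          IsScalarTower.algebraMap_apply A p.ResidueField q.ResidueField, AlgHom.commutes,
          IsScalarTower.algebraMap_apply p.ResidueField κV E]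
      congr 1
      exact (Ideal.ResidueField.lift_algebraMap p r _ _ a).symm)
  let Q : Ideal (V ⊗[A] B) := P.comap Φ
  have hQ : Q.comap (aeval (fun i ↦ (1 : V) ⊗ₜ[A] t i) : MvPolynomial σ V →ₐ[V] V ⊗[A] B).toRingHom =
      (IsLocalRing.maximalIdeal V).map MvPolynomial.C := by
    have h1 : Φ.comp (aeval (fun i ↦ (1 : V) ⊗ₜ[A] t i) : MvPolynomial σ V →ₐ[V] V ⊗[A] B).toRingHom =
        (aeval x : MvPolynomial σ κV →ₐ[κV] E).toRingHom.comp (MvPolynomial.map (IsLocalRing.residue V)) := by
      apply MvPolynomial.ringHom_ext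
      · intro v
        simp only [AlgHom.toRingHom_eq_coe, RingHom.coe_comp, RingHom.coe_coe, Function.comp_apply,
          aeval_C, map_C, Algebra.TensorProduct.algebraMap_apply, Algebra.algebraMap_self,
          RingHom.id_apply]
        rw [hΦ1]
        rfl
      · intro i
        simp only [AlgHom.toRingHom_eq_coe, RingHom.coe_comp, RingHom.coe_coe, Function.comp_apply,
          aeval_X, map_X]
        rw [hΦ2]
        rfl
    ext F
    rw [Ideal.comap_comap, Ideal.mem_comap, h1, mem_map_C_iff]
    constructor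
    · intro hF
      have h2 : MvPolynomial.map (IsLocalRing.residue V) F = 0 := by
        by_contra h3
        exact hdisj hF ⟨_, h3, rfl⟩
      intro m
      rw [← IsLocalRing.residue_eq_zero_iff, ← coeff_map, h2, coeff_zero]
    · intro hF
      have h2 : MvPolynomial.map (IsLocalRing.residue V) F = 0 := by
        ext m
        rw [coeff_map, coeff_zero, IsLocalRing.residue_eq_zero_iff]
        exact hF m
      rw [RingHom.comp_apply, h2, map_zero]
      exact zero_mem _
  obtain ⟨Q', hQ', hQQ, hQ0⟩ := exists_comap_eq_bot_of_valuationRing _ Q hQ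
  refine ⟨Q'.comap (Algebra.TensorProduct.includeRight (R := A) (A := V) (B := B)).toRingHom,
    inferInstance, ?_, ?_⟩
  · intro b hb
    have h1 : Φ (1 ⊗ₜ b) ∈ P := hQQ hb
    rw [hΦ2] at h1
    by_contra hbq
    have h3 : algebraMap B q.ResidueField b ≠ 0 := by
      rw [Ne, Ideal.algebraMap_residueField_eq_zero]; exact hbq
    refine hP.ne_top (Ideal.eq_top_of_isUnit_mem _ h1 ?_)
    exact (isUnit_iff_ne_zero.mpr h3).map (Algebra.TensorProduct.includeRight (R := p.ResidueField)
      (A := κV) (B := q.ResidueField)).toRingHom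
  · rw [eq_bot_iff]
    intro F hF
    have h1 : (Algebra.TensorProduct.includeRight (R := A) (A := V) (B := B)).toRingHom.comp
        (aeval t : MvPolynomial σ A →ₐ[A] B).toRingHom =
        (aeval (fun i ↦ (1 : V) ⊗ₜ[A] t i) : MvPolynomial σ V →ₐ[V] V ⊗[A] B).toRingHom.comp
          (MvPolynomial.map (algebraMap A V)) := by
      apply MvPolynomial.ringHom_ext
      · intro a
        simp only [AlgHom.toRingHom_eq_coe, RingHom.coe_comp, RingHom.coe_coe, Function.comp_apply,
          aeval_C, map_C, AlgHom.commutes, Algebra.TensorProduct.algebraMap_apply,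
          Algebra.algebraMap_self, RingHom.id_apply]
      · intro i
        simp only [AlgHom.toRingHom_eq_coe, RingHom.coe_comp, RingHom.coe_coe, Function.comp_apply,
          aeval_X, map_X, Algebra.TensorProduct.includeRight_apply]
    have h2 : MvPolynomial.map (algebraMap A V) F ∈ Q'.comap (aeval (fun i ↦ (1 : V) ⊗ₜ[A] t i) :
        MvPolynomial σ V →ₐ[V] V ⊗[A] B).toRingHom := by
      rw [Ideal.comap_comap, h1, ← Ideal.comap_comap] at hF
      exact hF
    rw [hQ0, Ideal.mem_bot] at h2
    rw [Ideal.mem_bot]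
    exact MvPolynomial.map_injective _ hginj (h2.trans (map_zero _).symm)

/-- **Generization of relative transcendence degree.** -/
theorem exists_comap_eq_map {A B : Type u} [CommRing A] [CommRing B] [Algebra A B]
    [Module.Flat A B] (p : Ideal A) [p.IsPrime] (q : Ideal B) [q.IsPrime]
    {σ : Type v} (t : σ → B)
    (hq : q.comap (aeval t : MvPolynomial σ A →ₐ[A] B).toRingHom = p.map MvPolynomial.C)
    (p₀ : Ideal A) [p₀.IsPrime] (hp : p₀ ≤ p) :
    ∃ q' : Ideal B, q'.IsPrime ∧ q' ≤ q ∧
      q'.comap (aeval t : MvPolynomial σ A →ₐ[A] B).toRingHom = p₀.map MvPolynomial.C := by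
  classical
  let π : B →ₐ[A] (A ⧸ p₀) ⊗[A] B := Algebra.TensorProduct.includeRight
  have hπ : Function.Surjective π := by
    intro z
    induction z using TensorProduct.induction_on with
    | zero => exact ⟨0, map_zero _⟩
    | add a b ha hb =>
      obtain ⟨a, rfl⟩ := ha
      obtain ⟨b, rfl⟩ := hb
      exact ⟨a + b, map_add _ _ _⟩
    | tmul a b =>
      obtain ⟨a, rfl⟩ := Ideal.Quotient.mk_surjective a
      refine ⟨a • b, ?_⟩
      simp only [π, Algebra.TensorProduct.includeRight_apply]
      rw [TensorProduct.tmul_smul, TensorProduct.smul_tmul', ← Ideal.Quotient.algebraMap_eq,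
        Algebra.algebraMap_eq_smul_one]
  -- kernel of `π`
  have hker : RingHom.ker π.toRingHom ≤ q := by
    intro b hb
    obtain ⟨Φ, hΦ1, hΦ2⟩ := exists_tensor_lift (A := A) (V := A ⧸ p₀) (B := B) (E := B ⧸ q)
      (Ideal.Quotient.lift p₀ ((Ideal.Quotient.mk q).comp (algebraMap A B)) (fun a ha ↦ by
        rw [RingHom.comp_apply, Ideal.Quotient.eq_zero_iff_mem]
        have h1 : (MvPolynomial.C a : MvPolynomial σ A) ∈ q.comap (aeval t :
            MvPolynomial σ A →ₐ[A] B).toRingHom := by
          rw [hq]; exact Ideal.mem_map_of_mem _ (hp ha)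
        simpa using h1)) (Ideal.Quotient.mk q) (by
        ext a
        simp)
    have h1 : Φ (π b) = 0 := by
      have : π b = 0 := hb
      rw [this, map_zero]
    rw [← Ideal.Quotient.eq_zero_iff_mem, ← hΦ2]
    exact h1
  let q₁ : Ideal ((A ⧸ p₀) ⊗[A] B) := q.map π.toRingHom
  have hq₁ : q₁.IsPrime := Ideal.map_isPrime_of_surjective hπ hker
  have hq₁c : q₁.comap π.toRingHom = q := by
    have h1 := Ideal.comap_map_of_surjective π.toRingHom hπ q
    rw [← RingHom.ker_eq_comap_bot, sup_eq_left.mpr hker] at h1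
    exact h1
  let p₁ : Ideal (A ⧸ p₀) := p.map (Ideal.Quotient.mk p₀)
  have hp₁ : p₁.IsPrime := Ideal.map_isPrime_of_surjective Ideal.Quotient.mk_surjective
    (by rwa [Ideal.mk_ker])
  have hp₁c : p₁.comap (Ideal.Quotient.mk p₀) = p := by
    rw [Ideal.comap_map_of_surjective _ Ideal.Quotient.mk_surjective, ← RingHom.ker_eq_comap_bot,
      Ideal.mk_ker, sup_eq_left]
    exact hp
  -- compatibility
  have hcomm : π.toRingHom.comp (aeval t : MvPolynomial σ A →ₐ[A] B).toRingHom =
      (aeval (fun i ↦ π (t i)) : MvPolynomial σ (A ⧸ p₀) →ₐ[A ⧸ p₀] (A ⧸ p₀) ⊗[A] B).toRingHom.comp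
        (MvPolynomial.map (Ideal.Quotient.mk p₀)) := by
    apply MvPolynomial.ringHom_ext
    · intro a
      simp only [AlgHom.toRingHom_eq_coe, RingHom.coe_comp, RingHom.coe_coe, Function.comp_apply,
        aeval_C, map_C, AlgHom.commutes, Algebra.TensorProduct.algebraMap_apply,
        Algebra.algebraMap_self, RingHom.id_apply]
      rfl
    · intro i
      simp only [AlgHom.toRingHom_eq_coe, RingHom.coe_comp, RingHom.coe_coe, Function.comp_apply,
        aeval_X, map_X]
  have hlift : ∀ (Q : Ideal ((A ⧸ p₀) ⊗[A] B)) (F : MvPolynomial σ A),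
      MvPolynomial.map (Ideal.Quotient.mk p₀) F ∈ Q.comap (aeval (fun i ↦ π (t i)) :
        MvPolynomial σ (A ⧸ p₀) →ₐ[A ⧸ p₀] (A ⧸ p₀) ⊗[A] B).toRingHom ↔
      F ∈ (Q.comap π.toRingHom).comap (aeval t : MvPolynomial σ A →ₐ[A] B).toRingHom := by
    intro Q F
    rw [Ideal.comap_comap, hcomm, ← Ideal.comap_comap]
    rfl
  have hlo : q₁.LiesOver p₁ := by
    constructor
    ext a
    obtain ⟨a, rfl⟩ := Ideal.Quotient.mk_surjective a
    have h1 := hlift q₁ (MvPolynomial.C a)
    rw [hq₁c, hq, mem_map_C_iff] at h1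
    simp only [map_C, Ideal.mem_comap, AlgHom.toRingHom_eq_coe, RingHom.coe_coe, aeval_C] at h1
    rw [Ideal.under, Ideal.mem_comap, h1, ← Ideal.mem_comap, hp₁c]
    constructor
    · intro h m
      rw [coeff_C]
      split_ifs
      · exact h
      · exact zero_mem _
    · intro h
      simpa using h 0
  obtain ⟨q', hq', hle, hq'0⟩ := exists_comap_eq_bot p₁ q₁ (fun i ↦ π (t i)) (by
    ext F
    obtain ⟨F, rfl⟩ := MvPolynomial.map_surjective (Ideal.Quotient.mk p₀) Ideal.Quotient.mk_surjective F
    rw [hlift, hq₁c, hq, mem_map_C_iff, mem_map_C_iff]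
    refine forall_congr' fun m ↦ ?_
    rw [coeff_map, ← Ideal.mem_comap, hp₁c])
  refine ⟨q'.comap π.toRingHom, inferInstance, ?_, ?_⟩
  · rw [← hq₁c]
    exact Ideal.comap_mono hle
  · ext F
    rw [← hlift, hq'0, Ideal.mem_bot, mem_map_C_iff, MvPolynomial.ext_iff]
    refine forall_congr' fun m ↦ ?_
    rw [coeff_map, coeff_zero, Ideal.Quotient.eq_zero_iff_mem]

theorem isPrime_map_C {A : Type u} [CommRing A] {σ : Type v} (p : Ideal A) [p.IsPrime] :
    (p.map (MvPolynomial.C : A →+* MvPolynomial σ A)).IsPrime := by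
  have h : p.map (MvPolynomial.C : A →+* MvPolynomial σ A) =
      RingHom.ker (MvPolynomial.map (Ideal.Quotient.mk p) : MvPolynomial σ A →+* _) := by
    ext F
    rw [mem_map_C_iff, RingHom.mem_ker, MvPolynomial.ext_iff]
    refine forall_congr' fun m ↦ ?_
    rw [coeff_map, coeff_zero, Ideal.Quotient.eq_zero_iff_mem]
  rw [h]
  exact RingHom.ker_isPrime _

/-- The generic point section `Spec A → Spec A[x]`. -/
noncomputable def gsec (A : Type u) [CommRing A] (σ : Type v) (η : PrimeSpectrum A) :
    PrimeSpectrum (MvPolynomial σ A) :=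
  ⟨η.asIdeal.map MvPolynomial.C, isPrime_map_C η.asIdeal⟩

theorem gsec_preimage_basicOpen {A : Type u} [CommRing A] {σ : Type v} (F : MvPolynomial σ A) :
    gsec A σ ⁻¹' (PrimeSpectrum.basicOpen F : Set (PrimeSpectrum (MvPolynomial σ A))) =
      ⋃ m ∈ F.support, (PrimeSpectrum.basicOpen (coeff m F) : Set (PrimeSpectrum A)) := by
  ext η
  simp only [Set.mem_preimage, SetLike.mem_coe, PrimeSpectrum.mem_basicOpen, Set.mem_iUnion,
    exists_prop]
  change ¬ F ∈ η.asIdeal.map MvPolynomial.C ↔ _
  rw [mem_map_C_iff]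
  push Not
  constructor
  · rintro ⟨m, hm⟩
    exact ⟨m, mem_support_iff.mpr fun h ↦ hm (h ▸ zero_mem _), hm⟩
  · rintro ⟨m, -, hm⟩
    exact ⟨m, hm⟩

theorem continuous_gsec (A : Type u) [CommRing A] (σ : Type v) : Continuous (gsec A σ) := by
  rw [PrimeSpectrum.isTopologicalBasis_basic_opens.continuous_iff]
  rintro _ ⟨F, rfl⟩
  rw [gsec_preimage_basicOpen]
  exact isOpen_biUnion fun m _ ↦ (PrimeSpectrum.basicOpen _).isOpen

theorem isConstructible_gsec_preimage {A : Type u} [CommRing A] {σ : Type v}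
    {Z : Set (PrimeSpectrum (MvPolynomial σ A))} (hZ : Topology.IsConstructible Z) :
    Topology.IsConstructible (gsec A σ ⁻¹' Z) := by
  refine hZ.preimage (continuous_gsec A σ) fun U hU hUr ↦ ?_
  refine IsCompact.isRetrocompact ?_ (hU.preimage (continuous_gsec A σ))
  have hUc : IsCompact U := hUr.isCompact
  obtain ⟨s, hs, rfl⟩ := (isCompact_open_iff_eq_finite_iUnion_of_isTopologicalBasis
    (fun F : MvPolynomial σ A ↦ (PrimeSpectrum.basicOpen F : Set (PrimeSpectrum (MvPolynomial σ A))))
    PrimeSpectrum.isTopologicalBasis_basic_opens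
    (fun F ↦ PrimeSpectrum.isCompact_basicOpen F) U).mp ⟨hUc, hU⟩
  rw [Set.preimage_iUnion₂]
  refine hs.isCompact_biUnion fun F _ ↦ ?_
  rw [gsec_preimage_basicOpen]
  exact F.support.isCompact_biUnion fun m _ ↦ PrimeSpectrum.isCompact_basicOpen _

/-- The locally finitely presented case: points with large relative transcendence degree spread out. -/
theorem exists_of_dense {A B : Type u} [CommRing A] [CommRing B] [Algebra A B]
    [Module.Flat A B] [Algebra.FinitePresentation A B] (p : Ideal A) [p.IsPrime] (q : Ideal B)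
    [q.IsPrime] {σ : Type v} [Finite σ] (t : σ → B)
    (hq : q.comap (aeval t : MvPolynomial σ A →ₐ[A] B).toRingHom = p.map MvPolynomial.C)
    (U : Set (PrimeSpectrum A)) (hU : Dense U) :
    ∃ (p' : PrimeSpectrum A) (q' : Ideal B), p' ∈ U ∧ q'.IsPrime ∧
      q'.comap (aeval t : MvPolynomial σ A →ₐ[A] B).toRingHom = p'.asIdeal.map MvPolynomial.C := by
  let φ : MvPolynomial σ A →+* B := (aeval t : MvPolynomial σ A →ₐ[A] B).toRingHom
  have hfp : φ.FinitePresentation := by
    refine RingHom.FinitePresentation.of_comp_finiteType (f := algebraMap A (MvPolynomial σ A)) ?_ ?_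
    · have h1 : φ.comp (algebraMap A (MvPolynomial σ A)) = algebraMap A B := by
        ext a
        simp [φ]
      rw [h1]
      exact RingHom.finitePresentation_algebraMap.mpr ‹_›
    · exact RingHom.finiteType_algebraMap.mpr inferInstance
  have hI := PrimeSpectrum.isConstructible_range_comap hfp
  have hJ := isConstructible_gsec_preimage hI.compl
  have hpcl : (⟨p, ‹_›⟩ : PrimeSpectrum A) ∉ closure (gsec A σ ⁻¹' (Set.range (PrimeSpectrum.comap φ))ᶜ) := by
    intro hcl
    obtain ⟨η, hη, hηp⟩ := exists_specializes_of_mem_closure hJ hcl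
    rw [← PrimeSpectrum.le_iff_specializes] at hηp
    obtain ⟨q', hq', -, h⟩ := exists_comap_eq_map p q t hq η.asIdeal hηp
    exact hη ⟨⟨q', hq'⟩, PrimeSpectrum.ext h⟩
  obtain ⟨p', hp'U, hp'⟩ := hU.exists_mem_open isClosed_closure.isOpen_compl ⟨_, hpcl⟩
  have h1 : p' ∉ gsec A σ ⁻¹' (Set.range (PrimeSpectrum.comap φ))ᶜ := fun h ↦ hp' (subset_closure h)
  rw [Set.mem_preimage, Set.notMem_compl_iff] at h1
  obtain ⟨q', hq'⟩ := h1
  exact ⟨p', q'.asIdeal, hp'U, q'.isPrime, congr($(hq').asIdeal)⟩

end Groth.Agent.Flat2B.FibGen
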