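import Groth.Agent.Flat2B.FibGenSch

/-!
# 081L: the main statement on relative transcendence degrees
-/

set_option autoImplicit false

universe u

namespace Groth.Agent.Flat2B.FibGenMain

open MvPolynomial Cardinal AlgebraicGeometry CategoryTheory TopologicalSpace
open Groth.Agent.CycB.TrdegAlg Groth.Agent.CycB.RelDim
open Groth.Agent.Flat2B.FibGen Groth.Agent.Flat2B.FibGenSch

variable {X S : Scheme.{u}}

theorem primeIdealOf_fromSpec {U : X.Opens} (hU : IsAffineOpen U) (y : Spec Γ(X, U))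
    (hy : hU.fromSpec y ∈ U) : hU.primeIdealOf ⟨hU.fromSpec y, hy⟩ = y := by
  apply hU.fromSpec.isOpenEmbedding.injective
  rw [hU.fromSpec_primeIdealOf]

theorem fromSpec_mem {U : X.Opens} (hU : IsAffineOpen U) (y : Spec Γ(X, U)) :
    hU.fromSpec y ∈ U := by
  have : hU.fromSpec y ∈ Set.range hU.fromSpec := ⟨y, rfl⟩
  rwa [hU.range_fromSpec] at this

/-- Lower bounds for the relative transcendence degree in a chart. -/
theorem le_rtd_iff (f : X ⟶ S) {U : S.Opens} (hU : IsAffineOpen U) {V : X.Opens}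
    (hV : IsAffineOpen V) (e : V ≤ f ⁻¹ᵁ U) (x : X) (hx : x ∈ V) (d : ℕ) :
    letI := (f.appLE U V e).hom.toAlgebra
    (d : Cardinal) ≤ rtd f x ↔
      ∃ t : Fin d → Γ(X, V), (hV.primeIdealOf ⟨x, hx⟩).asIdeal.comap
        (aeval t : MvPolynomial (Fin d) Γ(S, U) →ₐ[Γ(S, U)] Γ(X, V)).toRingHom =
        (hU.primeIdealOf ⟨f x, e hx⟩).asIdeal.map MvPolynomial.C := by
  let _ := (f.appLE U V e).hom.toAlgebra
  have hq : (hU.primeIdealOf ⟨f x, e hx⟩).asIdeal =
      (hV.primeIdealOf ⟨x, hx⟩).asIdeal.comap (f.appLE U V e).hom :=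
    congrArg PrimeSpectrum.asIdeal (IsAffineOpen.comap_primeIdealOf_appLE U hU V hV e hx).symm
  rw [rtd_eq_trd_quotientMap f hU hV e x hx (e hx) _ rfl hq.le]
  exact le_trd_iff (hU.primeIdealOf ⟨f x, e hx⟩).asIdeal (hV.primeIdealOf ⟨x, hx⟩).asIdeal hq d

theorem aux (f : X ⟶ S) [Flat f] [LocallyOfFiniteType f]
    (W : S.Opens) (hW : Dense (W : Set S)) (d : ℕ)
    (h : LocallyOfFinitePresentation f ∨ IsRetrocompact (W : Set S)) (x : X)
    (hd : (d : Cardinal) ≤ rtd f x) :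
    ∃ z : X, f z ∈ W ∧ (d : Cardinal) ≤ rtd f z := by
  obtain ⟨U, V, hU, hV, e, hx⟩ := exists_affine_nhds f x
  let _ := (f.appLE U V e).hom.toAlgebra
  obtain ⟨t, ht⟩ := (le_rtd_iff f hU hV e x hx d).mp hd
  have : Module.Flat Γ(S, U) Γ(X, V) := f.flat_appLE hU hV e
  -- reduce to finding primes
  suffices H : ∃ (p' : PrimeSpectrum Γ(S, U)) (q' : Ideal Γ(X, V)),
      p' ∈ hU.fromSpec ⁻¹' (W : Set S) ∧ q'.IsPrime ∧
      q'.comap (aeval t : MvPolynomial (Fin d) Γ(S, U) →ₐ[Γ(S, U)] Γ(X, V)).toRingHom =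
        p'.asIdeal.map MvPolynomial.C by
    obtain ⟨p', q', hp', hq', hqp⟩ := H
    let y : Spec Γ(X, V) := ⟨q', hq'⟩
    have hy : hV.fromSpec y ∈ V := fromSpec_mem hV y
    have hyp : hV.primeIdealOf ⟨hV.fromSpec y, hy⟩ = y := primeIdealOf_fromSpec hV y hy
    have hcomap : y.comap (f.appLE U V e).hom = p' := by
      ext a
      have h1 : a ∈ p'.asIdeal ↔ (MvPolynomial.C a : MvPolynomial (Fin d) Γ(S, U)) ∈
          p'.asIdeal.map MvPolynomial.C := by
        rw [mem_map_C_iff]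
        constructor
        · intro ha m
          rw [coeff_C]
          split_ifs
          · exact ha
          · exact zero_mem _
        · intro ha
          simpa using ha 0
      rw [h1, ← hqp]
      change (f.appLE U V e).hom a ∈ q' ↔ aeval t (MvPolynomial.C a) ∈ q'
      rw [aeval_C]
      rfl
    have hfy : hU.primeIdealOf ⟨f (hV.fromSpec y), e hy⟩ = p' := by
      rw [← IsAffineOpen.comap_primeIdealOf_appLE U hU V hV e hy, hyp]
      exact hcomap
    refine ⟨hV.fromSpec y, ?_, ?_⟩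
    · have h2 : hU.fromSpec p' ∈ W := hp'
      rw [← hfy, hU.fromSpec_primeIdealOf] at h2
      exact h2
    · rw [le_rtd_iff f hU hV e _ hy d, hyp, hfy]
      exact ⟨t, hqp⟩
  rcases h with h | h
  · have : Algebra.FinitePresentation Γ(S, U) Γ(X, V) := f.finitePresentation_appLE hU hV e
    exact exists_of_dense _ _ t ht _ (hW.preimage hU.fromSpec.isOpenEmbedding.isOpenMap)
  · have hc : Topology.IsConstructible (hU.fromSpec ⁻¹' (W : Set S)) :=
      (h.isConstructible W.2).preimage_of_isOpenEmbedding hU.fromSpec.isOpenEmbedding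
    have hdense : Dense (hU.fromSpec ⁻¹' (W : Set S)) :=
      hW.preimage hU.fromSpec.isOpenEmbedding.isOpenMap
    obtain ⟨p₀, hp₀, hsp⟩ := exists_specializes_of_mem_closure hc (hdense (hU.primeIdealOf ⟨f x, e hx⟩))
    obtain ⟨q', hq', -, hqq⟩ := exists_comap_eq_map (hU.primeIdealOf ⟨f x, e hx⟩).asIdeal
      (hV.primeIdealOf ⟨x, hx⟩).asIdeal t ht p₀.asIdeal ((PrimeSpectrum.le_iff_specializes _ _).mpr hsp)
    exact ⟨p₀, q', hp₀, hq', hqq⟩

end Groth.Agent.Flat2B.FibGenMain
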