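import Groth.Agent.Flat2B.FibGen
import Groth.Agent.VarietyA.LocDim
import Mathlib.AlgebraicGeometry.Morphisms.Flat
import Mathlib.AlgebraicGeometry.Morphisms.FinitePresentation

/-!
# Relative transcendence degree under generization along flat morphisms (scheme form)
-/

set_option autoImplicit false

universe u

namespace Groth.Agent.Flat2B.FibGenSch

open MvPolynomial Cardinal AlgebraicGeometry CategoryTheory TopologicalSpace
open Groth.Agent.CycB.TrdegAlg Groth.Agent.CycB.RelDim

/-- Algebraic independence modulo `q` in terms of primes of the polynomial ring. -/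
theorem algebraicIndependent_iff_comap_eq {A B : Type u} [CommRing A] [CommRing B] [Algebra A B]
    (p : Ideal A) (q : Ideal B) (h : p ≤ q.comap (algebraMap A B)) {σ : Type*} (t : σ → B) :
    letI := (Ideal.quotientMap q (algebraMap A B) h).toAlgebra
    AlgebraicIndependent (A ⧸ p) (fun i ↦ Ideal.Quotient.mk q (t i)) ↔
      q.comap (aeval t : MvPolynomial σ A →ₐ[A] B).toRingHom = p.map MvPolynomial.C := by
  let _ := (Ideal.quotientMap q (algebraMap A B) h).toAlgebra
  have h1 : ∀ F : MvPolynomial σ A, aeval (fun i ↦ Ideal.Quotient.mk q (t i))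
      (MvPolynomial.map (Ideal.Quotient.mk p) F) = Ideal.Quotient.mk q (aeval t F) := by
    intro F
    have : (aeval (fun i ↦ Ideal.Quotient.mk q (t i)) : MvPolynomial σ (A ⧸ p) →ₐ[A ⧸ p] B ⧸ q).toRingHom.comp
        (MvPolynomial.map (Ideal.Quotient.mk p)) =
        (Ideal.Quotient.mk q).comp (aeval t : MvPolynomial σ A →ₐ[A] B).toRingHom := by
      apply MvPolynomial.ringHom_ext
      · intro a
        simp only [AlgHom.toRingHom_eq_coe, RingHom.coe_comp, RingHom.coe_coe, Function.comp_apply,
          map_C, aeval_C]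
        exact Ideal.quotientMap_mk
      · intro i
        simp
    exact congr($this F)
  rw [algebraicIndependent_iff]
  constructor
  · intro H
    ext F
    rw [mem_map_C_iff]
    have h2 : F ∈ q.comap (aeval t : MvPolynomial σ A →ₐ[A] B).toRingHom ↔
        aeval (fun i ↦ Ideal.Quotient.mk q (t i)) (MvPolynomial.map (Ideal.Quotient.mk p) F) = 0 := by
      rw [h1, Ideal.Quotient.eq_zero_iff_mem]; rfl
    rw [h2]
    constructor
    · intro h3 m
      have := H _ h3
      rw [← Ideal.Quotient.eq_zero_iff_mem, ← coeff_map, this, coeff_zero]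
    · intro h3
      have : MvPolynomial.map (Ideal.Quotient.mk p) F = 0 := by
        ext m
        rw [coeff_map, coeff_zero, Ideal.Quotient.eq_zero_iff_mem]
        exact h3 m
      rw [this, map_zero]
  · intro H F hF
    obtain ⟨F, rfl⟩ := MvPolynomial.map_surjective (Ideal.Quotient.mk p) Ideal.Quotient.mk_surjective F
    rw [h1, Ideal.Quotient.eq_zero_iff_mem] at hF
    have h2 : F ∈ q.comap (aeval t : MvPolynomial σ A →ₐ[A] B).toRingHom := hF
    rw [H, mem_map_C_iff] at h2
    ext m
    rw [coeff_map, coeff_zero, Ideal.Quotient.eq_zero_iff_mem]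
    exact h2 m

theorem le_trd_iff {A B : Type u} [CommRing A] [CommRing B] [Algebra A B]
    (p : Ideal A) [p.IsPrime] (q : Ideal B) [q.IsPrime] (hp : p = q.comap (algebraMap A B)) (d : ℕ) :
    (d : Cardinal) ≤ trd (Ideal.quotientMap q (algebraMap A B) hp.le) ↔
      ∃ t : Fin d → B, q.comap (aeval t : MvPolynomial (Fin d) A →ₐ[A] B).toRingHom =
        p.map MvPolynomial.C := by
  let iAB := (Ideal.quotientMap q (algebraMap A B) hp.le).toAlgebra
  have hinj : Function.Injective (algebraMap (A ⧸ p) (B ⧸ q)) :=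
    Ideal.quotientMap_injective' (H := hp.le) hp.ge
  have : FaithfulSMul (A ⧸ p) (B ⧸ q) := (faithfulSMul_iff_algebraMap_injective _ _).mpr hinj
  change (d : Cardinal) ≤ Algebra.trdeg (A ⧸ p) (B ⧸ q) ↔ _
  constructor
  · intro hd
    obtain ⟨s, hs⟩ := exists_isTranscendenceBasis (A ⧸ p) (B ⧸ q)
    have hcard : #s = Algebra.trdeg (A ⧸ p) (B ⧸ q) := hs.cardinalMk_eq_trdeg
    rw [← hcard] at hd
    have h1 : lift.{u} #(Fin d) ≤ lift.{0} #s := by simpa using hd
    obtain ⟨e⟩ := Cardinal.lift_mk_le'.mp h1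
    have hind : AlgebraicIndependent (A ⧸ p) (fun i ↦ ((e i : s) : B ⧸ q)) := hs.1.comp e e.injective
    choose t ht using fun i ↦ Ideal.Quotient.mk_surjective ((e i : s) : B ⧸ q)
    refine ⟨t, (algebraicIndependent_iff_comap_eq p q hp.le t).mp ?_⟩
    have : (fun i ↦ Ideal.Quotient.mk q (t i)) = (fun i ↦ ((e i : s) : B ⧸ q)) := funext ht
    rw [this]
    exact hind
  · rintro ⟨t, ht⟩
    have hind := (algebraicIndependent_iff_comap_eq p q hp.le t).mpr ht
    have := hind.lift_cardinalMk_le_trdeg
    simpa using this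

end Groth.Agent.Flat2B.FibGenSch
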