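import Groth.Agent.FlatA.GenericFree2
import Groth.Agent.CohtopA.FlatCoker
import Groth.Agent.Flat2G.ApproxFactor
import Groth.Agent.Ega43.FpModModel
import Mathlib.RingTheory.TensorProduct.IsBaseChangePi
import Mathlib.RingTheory.LocalRing.ResidueField.Ideal
import Mathlib.RingTheory.Flat.FaithfullyFlat.Basic

/-!
# Injectivity on fibres is an open condition at generalizations

* `lTensor_injective_iff`: `K ⊗ Ψ` for `K` over `S`, `Ψ'` the base change of `Ψ` to `S`.
* `exists_forall_lTensor_injective`: over a domain, `Ψ` injective at the generic point, then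
  injective on the fibres over a nonempty open.
* `exists_notMem_forall_injective`
-/

set_option autoImplicit false
universe u

namespace Groth.Agent.Flat2B.FibInj

open TensorProduct

section BC

variable {R S N M N' M' : Type*} [CommRing R] [CommRing S] [Algebra R S] [AddCommGroup N]
  [Module R N] [AddCommGroup M] [Module R M] [AddCommGroup N'] [Module R N'] [Module S N']
  [IsScalarTower R S N'] [AddCommGroup M'] [Module R M'] [Module S M'] [IsScalarTower R S M']

/-- Injectivity of `K ⊗ Ψ` in terms of a base change of `Ψ`. -/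
theorem lTensor_injective_iff (Ψ : N →ₗ[R] M) (Ψ' : N' →ₗ[S] M') (h : N →ₗ[R] N')
    (hh : IsBaseChange S h) (k : M →ₗ[R] M') (hk : IsBaseChange S k)
    (comm : ∀ x, k (Ψ x) = Ψ' (h x)) (K : Type*) [AddCommGroup K] [Module S K] [Module R K]
    [IsScalarTower R S K] :
    Function.Injective (Ψ.lTensor K) ↔ Function.Injective (Ψ'.lTensor K) := by
  let eN : K ⊗[S] N' ≃ₗ[S] K ⊗[R] N := hh.tensorEquiv K
  let eM : K ⊗[S] M' ≃ₗ[S] K ⊗[R] M := hk.tensorEquiv K
  have hN : ∀ (x : K) (n : N), eN.symm (x ⊗ₜ n) = x ⊗ₜ h n := by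
    intro x n
    simp [eN, IsBaseChange.tensorEquiv, hh.equiv_tmul]
  have hM : ∀ (x : K) (n : M), eM.symm (x ⊗ₜ n) = x ⊗ₜ k n := by
    intro x n
    simp [eM, IsBaseChange.tensorEquiv, hk.equiv_tmul]
  have key : ∀ z : K ⊗[R] N, eM.symm (Ψ.lTensor K z) = Ψ'.lTensor K (eN.symm z) := by
    intro z
    induction z using TensorProduct.induction_on with
    | zero => simp
    | tmul x n => rw [LinearMap.lTensor_tmul, hM, hN, LinearMap.lTensor_tmul, comm]
    | add x y hx hy => simp only [map_add, hx, hy]
  have h1 : (eM.symm : K ⊗[R] M → K ⊗[S] M') ∘ (Ψ.lTensor K) = (Ψ'.lTensor K) ∘ eN.symm :=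
    funext key
  rw [← Function.Injective.of_comp_iff eM.symm.injective, h1,
    Function.Injective.of_comp_iff' _ eN.symm.bijective]

/-- Injectivity of `K ⊗ Ψ` and of `K' ⊗ Ψ` for `K'` faithfully flat over `K`. -/
theorem lTensor_injective_iff_of_faithfullyFlat (Ψ : N →ₗ[R] M) (K K' : Type*) [CommRing K]
    [CommRing K'] [Algebra R K] [Algebra R K'] [Algebra K K'] [IsScalarTower R K K']
    [Module.FaithfullyFlat K K'] :
    Function.Injective (Ψ.lTensor K) ↔ Function.Injective (Ψ.lTensor K') := by
  rw [lTensor_injective_iff Ψ (Ψ.baseChange K) (TensorProduct.mk R K N 1)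
    (TensorProduct.isBaseChange R N K) (TensorProduct.mk R K M 1) (TensorProduct.isBaseChange R M K)
    (fun x => by simp) K']
  rw [Module.FaithfullyFlat.lTensor_injective_iff_injective K K' (Ψ.baseChange K)]
  rfl

end BC

section Spread

/-- Injectivity at the generic point of a domain spreads out. -/
theorem exists_forall_lTensor_injective {D : Type u} [CommRing D] [IsDomain D] {P : Type u}
    [CommRing P] [Algebra D P] [Algebra.FiniteType D P] {N M : Type u} [AddCommGroup N]
    [Module P N] [Module D N] [IsScalarTower D P N] [Module.Finite P N] [AddCommGroup M]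
    [Module P M] [Module D M] [IsScalarTower D P M] [Module.Finite P M] (Ψ : N →ₗ[P] M)
    (F : Type u) [Field F] [Algebra D F] [IsFractionRing D F]
    (hF : Function.Injective ((Ψ.restrictScalars D).lTensor F)) :
    ∃ a : D, a ≠ 0 ∧ ∀ (K : Type u) [CommRing K] [Algebra D K], IsUnit (algebraMap D K a) →
      Function.Injective ((Ψ.restrictScalars D).lTensor K) := by
  obtain ⟨a₁, ha₁, h₁⟩ := FlatA.GenericFree.genFree_of_finiteType (R := D) P N
  obtain ⟨a₂, ha₂, h₂⟩ := FlatA.GenericFree.genFree_of_finiteType (R := D) P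
    (M ⧸ LinearMap.range Ψ)
  refine ⟨a₁ * a₂, mul_ne_zero ha₁ ha₂, fun K _ _ hK => ?_⟩
  have h₁' := h₁.of_dvd (Dvd.intro a₂ rfl)
  have h₂' := h₂.of_dvd (Dvd.intro_left a₁ rfl)
  let a := a₁ * a₂
  let Da := Localization.Away a
  have f₁ : Module.Free Da (Da ⊗[D] N) := h₁'.free_tensor Da
  have f₂ : Module.Free Da (Da ⊗[D] (M ⧸ LinearMap.range Ψ)) := h₂'.free_tensor Da
  let ΨD : N →ₗ[D] M := Ψ.restrictScalars D
  let Ψa : Da ⊗[D] N →ₗ[Da] Da ⊗[D] M := ΨD.baseChange Da
  have ha : a ≠ 0 := mul_ne_zero ha₁ ha₂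
  -- injectivity over `Da`
  have hle : Submonoid.powers a ≤ nonZeroDivisors D := powers_le_nonZeroDivisors_of_noZeroDivisors ha
  let _ : Algebra Da F := (IsLocalization.lift (M := Submonoid.powers a) (S := Da)
    (g := algebraMap D F) (fun y => by
      have := hle y.2
      exact IsUnit.mk0 _ (IsFractionRing.to_map_ne_zero_of_mem_nonZeroDivisors this))).toAlgebra
  have t1 : IsScalarTower D Da F := .of_algebraMap_eq fun x => by
    rw [RingHom.algebraMap_toAlgebra, IsLocalization.lift_eq]
  have hinj : Function.Injective (algebraMap Da F) := by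
    rw [injective_iff_map_eq_zero]
    intro x hx
    obtain ⟨⟨d, s⟩, hd⟩ := IsLocalization.surj (Submonoid.powers a) x
    have h3 : algebraMap Da F (algebraMap D Da d) = 0 := by
      rw [← hd, map_mul, hx, zero_mul]
    rw [← IsScalarTower.algebraMap_apply] at h3
    have h4 : d = 0 := (IsFractionRing.injective D F) (by rw [h3, map_zero])
    dsimp only at hd
    rw [h4, map_zero] at hd
    exact (IsUnit.mul_left_eq_zero (IsLocalization.map_units Da s)).1 hd
  have hbase : ∀ (K : Type u) [CommRing K] [Algebra D K] [Algebra Da K] [IsScalarTower D Da K],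
      Function.Injective (ΨD.lTensor K) ↔ Function.Injective (Ψa.lTensor K) := by
    intro K _ _ _ _
    exact lTensor_injective_iff ΨD Ψa (TensorProduct.mk D Da N 1) (TensorProduct.isBaseChange D N Da)
      (TensorProduct.mk D Da M 1) (TensorProduct.isBaseChange D M Da)
      (fun x => by simp [Ψa]) K
  have hFa : Function.Injective (Ψa.lTensor F) := (hbase F).1 hF
  have hΨa : Function.Injective Ψa := by
    have h5 : Function.Injective (fun x : Da ⊗[D] N => (1 : F) ⊗ₜ[Da] x) := by
      have := Module.Flat.rTensor_preserves_injective_linearMap (M := Da ⊗[D] N)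
        (Algebra.linearMap Da F) hinj
      intro x y hxy
      have h6 := @this (1 ⊗ₜ x) (1 ⊗ₜ y) (by simpa using hxy)
      have h7 := congrArg (TensorProduct.lid Da (Da ⊗[D] N)) h6
      simpa using h7
    intro x y hxy
    apply h5
    apply hFa
    simp [hxy]
  -- exactness
  let _ : Algebra Da K := (IsLocalization.lift (M := Submonoid.powers a) (S := Da)
    (g := algebraMap D K) (fun y => by
      obtain ⟨n, hn⟩ := y.2
      rw [← hn, map_pow]
      exact hK.pow n)).toAlgebra
  have t2 : IsScalarTower D Da K := .of_algebraMap_eq fun x => by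
    rw [RingHom.algebraMap_toAlgebra, IsLocalization.lift_eq]
  rw [hbase K]
  let π : M →ₗ[D] M ⧸ LinearMap.range Ψ := (LinearMap.range Ψ).mkQ.restrictScalars D
  have hex : Function.Exact ΨD π := by
    intro y
    change (LinearMap.range Ψ).mkQ y = 0 ↔ _
    rw [Submodule.mkQ_apply, Submodule.Quotient.mk_eq_zero]
    exact Iff.rfl
  have hπ : Function.Surjective π := Submodule.mkQ_surjective _
  have hex' : Function.Exact Ψa (π.baseChange Da) := lTensor_exact Da hex hπ
  exact CohtopA.FlatCoker.lTensor_injective_of_flat_coker Ψa (π.baseChange Da) hΨa hex'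
    (LinearMap.lTensor_surjective Da hπ) K

end Spread

end Groth.Agent.Flat2B.FibInj
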