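import Groth.Agent.Flat2B.FibInj
import Groth.Agent.Flat2A.ProjPure
import Groth.Agent.Flat2B.PushModel

/-!
# Injectivity on fibres at all generalizations of `p` implies injectivity on fibres near `p`
-/

set_option autoImplicit false
universe u

namespace Groth.Agent.Flat2B.FibInj

open TensorProduct

section Topology

open PrimeSpectrum

/-- A constructible subset of `Spec A₀` containing the images of all generalizations of `p` contains
the image of a principal open neighbourhood of `p`. -/
theorem exists_notMem_of_isConstructible {A₀ A : Type*} [CommRing A₀] [CommRing A] [Algebra A₀ A]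
    (p : Ideal A) [p.IsPrime] {E : Set (PrimeSpectrum A₀)} (hE : Topology.IsConstructible E)
    (h : ∀ t : PrimeSpectrum A, t.asIdeal ≤ p → comap (algebraMap A₀ A) t ∈ E) :
    ∃ f ∉ p, ∀ t : PrimeSpectrum A, f ∉ t.asIdeal → comap (algebraMap A₀ A) t ∈ E := by
  obtain ⟨S, hS⟩ := exists_constructibleSetData_iff.mpr hE.compl
  classical
  have key : ∀ C ∈ S, ∃ f ∉ p, ∀ t : PrimeSpectrum A, f ∉ t.asIdeal →
      comap (algebraMap A₀ A) t ∉ C.toSet := by
    intro C hC
    have hC' : ∀ t : PrimeSpectrum A, t.asIdeal ≤ p → comap (algebraMap A₀ A) t ∉ C.toSet := by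
      intro t ht hmem
      have h1 : comap (algebraMap A₀ A) t ∈ Eᶜ := by
        rw [← hS]
        exact Set.mem_biUnion (by exact_mod_cast hC) hmem
      exact h1 (h t ht)
    let J : Ideal A := Ideal.span (Set.range (algebraMap A₀ A ∘ C.g))
    let c : A := algebraMap A₀ A C.f
    let T : Submonoid A := p.primeCompl ⊔ Submonoid.powers c
    have h2 : ¬ Disjoint (J : Set A) (T : Set A) := by
      intro hd
      obtain ⟨t, ht, hJt, htT⟩ := Ideal.exists_le_prime_disjoint J T hd
      refine hC' ⟨t, ht⟩ (fun x hx => ?_) ?_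
      · by_contra hxp
        exact Set.disjoint_left.1 htT hx (le_sup_left (a := p.primeCompl) hxp)
      · rw [BasicConstructibleSetData.toSet, Set.mem_sdiff, mem_zeroLocus, mem_zeroLocus]
        constructor
        · rintro _ ⟨i, rfl⟩
          exact hJt (Ideal.subset_span ⟨i, rfl⟩)
        · intro hcf
          have : c ∈ t := hcf rfl
          exact Set.disjoint_left.1 htT this
            (le_sup_right (a := p.primeCompl) (Submonoid.mem_powers c))
    rw [Set.not_disjoint_iff] at h2
    obtain ⟨x, hxJ, hxT⟩ := h2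
    obtain ⟨s, hs, _, ⟨k, rfl⟩, rfl⟩ := Submonoid.mem_sup.1 hxT
    refine ⟨s, hs, fun t hst hmem => ?_⟩
    rw [BasicConstructibleSetData.toSet, Set.mem_sdiff, mem_zeroLocus, mem_zeroLocus] at hmem
    have hJt : J ≤ t.asIdeal := by
      rw [Ideal.span_le]
      rintro _ ⟨i, rfl⟩
      exact hmem.1 ⟨i, rfl⟩
    have h3 : s * c ^ k ∈ t.asIdeal := hJt hxJ
    have h4 : c ∈ t.asIdeal := t.2.mem_of_pow_mem k ((t.2.mem_or_mem h3).resolve_left hst)
    exact hmem.2 (by rintro _ rfl; exact h4)
  choose! f hf hf' using key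
  refine ⟨∏ C ∈ S, f C, ?_, fun t ht => ?_⟩
  · have hp : p.IsPrime := ‹_›
    rw [hp.prod_mem_iff]
    rintro ⟨C, hC, hCp⟩
    exact hf C hC hCp
  · by_contra hE'
    have h1 : comap (algebraMap A₀ A) t ∈ Eᶜ := hE'
    rw [← hS] at h1
    obtain ⟨C, hC, hmem⟩ := Set.mem_iUnion₂.1 h1
    refine hf' C hC t (fun hft => ht ?_) hmem
    exact Ideal.mem_of_dvd _ (Finset.dvd_prod_of_mem f hC) hft

end Topology

section Fibre

/-- Models of a module over a given algebra. -/
theorem exists_module_model {P PD : Type u} [CommRing P] [CommRing PD] [Algebra P PD]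
    (M : Type u) [AddCommGroup M] [Module P M] :
    ∃ (MD : Type u) (_ : AddCommGroup MD) (_ : Module PD MD) (_ : Module P MD)
      (_ : IsScalarTower P PD MD) (g : M →ₗ[P] MD), IsBaseChange PD g :=
  ⟨PD ⊗[P] M, inferInstance, inferInstance, inferInstance, inferInstance,
    TensorProduct.mk P PD M 1, TensorProduct.isBaseChange P M PD⟩

/-- Models of a linear map. -/
theorem exists_linearMap_model {P PD N M : Type u} [CommRing P] [CommRing PD] [Algebra P PD]
    [AddCommGroup N] [Module P N] [AddCommGroup M] [Module P M] (Ψ : N →ₗ[P] M) :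
    ∃ (ND MD : Type u) (_ : AddCommGroup ND) (_ : Module PD ND) (_ : Module P ND)
      (_ : IsScalarTower P PD ND) (_ : AddCommGroup MD) (_ : Module PD MD) (_ : Module P MD)
      (_ : IsScalarTower P PD MD) (f : N →ₗ[P] ND) (_ : IsBaseChange PD f) (g : M →ₗ[P] MD)
      (_ : IsBaseChange PD g) (ΨD : ND →ₗ[PD] MD), ∀ x, g (Ψ x) = ΨD (f x) := by
  obtain ⟨ND, _, _, _, _, f, hf⟩ := exists_module_model (P := P) (PD := PD) N
  obtain ⟨MD, _, _, _, _, g, hg⟩ := exists_module_model (P := P) (PD := PD) M
  refine ⟨ND, MD, inferInstance, inferInstance, inferInstance, inferInstance, inferInstance,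
    inferInstance, inferInstance, inferInstance, f, hf, g, hg, hf.lift (g ∘ₗ Ψ), fun x => ?_⟩
  rw [hf.lift_eq]
  rfl

/-- Restriction to a quotient (or any base change) of the base. -/
theorem exists_base_model {A P D : Type u} [CommRing A] [CommRing P] [CommRing D] [Algebra A P]
    [Algebra A D] [Algebra.FiniteType A P] {N M : Type u} [AddCommGroup N]
    [Module P N] [Module A N] [IsScalarTower A P N] [Module.Finite P N] [AddCommGroup M]
    [Module P M] [Module A M] [IsScalarTower A P M] [Module.Finite P M] (Ψ : N →ₗ[P] M) :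
    ∃ (PD ND MD : Type u) (_ : CommRing PD) (_ : Algebra D PD) (_ : AddCommGroup ND)
      (_ : Module PD ND) (_ : Module D ND) (_ : IsScalarTower D PD ND) (_ : AddCommGroup MD)
      (_ : Module PD MD) (_ : Module D MD) (_ : IsScalarTower D PD MD) (ΨD : ND →ₗ[PD] MD),
      Algebra.FiniteType D PD ∧ Module.Finite PD ND ∧ Module.Finite PD MD ∧
      ∀ (K : Type u) [CommRing K] [Algebra A K] [Algebra D K] [IsScalarTower A D K],
      Function.Injective ((Ψ.restrictScalars A).lTensor K) ↔
        Function.Injective ((ΨD.restrictScalars D).lTensor K) := by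
  obtain ⟨PD, X, _, _, _, _, _, _, hpush, _⟩ := PushModel.exists_models (R := A) (S := P) (A := D) P
  obtain ⟨ND, MD, _, _, _, _, _, _, _, _, f, hf, g, hg, ΨD, hΨ⟩ :=
    exists_linearMap_model (PD := PD) Ψ
  let _ : Module D ND := Module.compHom ND (algebraMap D PD)
  have : IsScalarTower D PD ND := .of_algebraMap_smul fun _ _ => rfl
  let _ : Module D MD := Module.compHom MD (algebraMap D PD)
  have : IsScalarTower D PD MD := .of_algebraMap_smul fun _ _ => rfl
  let _ : Module A ND := Module.compHom ND (algebraMap A PD)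
  have tA1 : IsScalarTower A PD ND := .of_algebraMap_smul fun _ _ => rfl
  let _ : Module A MD := Module.compHom MD (algebraMap A PD)
  have tA2 : IsScalarTower A PD MD := .of_algebraMap_smul fun _ _ => rfl
  have : IsScalarTower A D ND := .of_algebraMap_smul fun a x => by
    rw [← algebraMap_smul PD (algebraMap A D a), ← IsScalarTower.algebraMap_apply]
    rfl
  have : IsScalarTower A D MD := .of_algebraMap_smul fun a x => by
    rw [← algebraMap_smul PD (algebraMap A D a), ← IsScalarTower.algebraMap_apply]
    rfl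
  have : IsScalarTower A P ND := .of_algebraMap_smul fun a x => by
    rw [← algebraMap_smul PD (algebraMap A P a), ← IsScalarTower.algebraMap_apply]
    rfl
  have : IsScalarTower A P MD := .of_algebraMap_smul fun a x => by
    rw [← algebraMap_smul PD (algebraMap A P a), ← IsScalarTower.algebraMap_apply]
    rfl
  have bN : IsBaseChange D (f.restrictScalars A) :=
    Flat2A.ProjPure.isBaseChange_of_isPushout hpush _ hf
  have bM : IsBaseChange D (g.restrictScalars A) :=
    Flat2A.ProjPure.isBaseChange_of_isPushout hpush _ hg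
  have p2 : Algebra.IsPushout A D P PD := hpush.symm
  refine ⟨PD, ND, MD, inferInstance, inferInstance, inferInstance, inferInstance, inferInstance,
    inferInstance, inferInstance, inferInstance, inferInstance, inferInstance, ΨD, ?_, ?_, ?_, ?_⟩
  · exact (Algebra.FiniteType.baseChange D : Algebra.FiniteType D (D ⊗[A] P)).equiv
      (Algebra.IsPushout.equiv A D P PD)
  · have : Module.Finite PD (PD ⊗[P] N) := inferInstance
    exact Module.Finite.equiv hf.equiv
  · have : Module.Finite PD (PD ⊗[P] M) := inferInstance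
    exact Module.Finite.equiv hg.equiv
  · intro K _ _ _ _
    exact lTensor_injective_iff (Ψ.restrictScalars A) (ΨD.restrictScalars D)
      (f.restrictScalars A) bN (g.restrictScalars A) bM hΨ K

/-- Openness of injectivity on the fibres in `V(t₀)`, at `t₀`. -/
theorem exists_notMem_of_le {A P : Type u} [CommRing A] [CommRing P] [Algebra A P]
    [Algebra.FiniteType A P] {N M : Type u} [AddCommGroup N]
    [Module P N] [Module A N] [IsScalarTower A P N] [Module.Finite P N] [AddCommGroup M]
    [Module P M] [Module A M] [IsScalarTower A P M] [Module.Finite P M] (Ψ : N →ₗ[P] M)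
    (t₀ : Ideal A) [t₀.IsPrime]
    (h : Function.Injective ((Ψ.restrictScalars A).lTensor t₀.ResidueField)) :
    ∃ a ∉ t₀, ∀ (t : Ideal A) [t.IsPrime], t₀ ≤ t → a ∉ t →
      Function.Injective ((Ψ.restrictScalars A).lTensor t.ResidueField) := by
  let D := A ⧸ t₀
  obtain ⟨PD, ND, MD, _, _, _, _, _, _, _, _, _, _, ΨD, _, _, _, key⟩ :=
    exists_base_model (A := A) (D := D) Ψ
  obtain ⟨a, ha, hK⟩ := exists_forall_lTensor_injective (D := D) (P := PD) ΨD t₀.ResidueField
    ((key t₀.ResidueField).1 h)
  obtain ⟨a, rfl⟩ := Ideal.Quotient.mk_surjective a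
  refine ⟨a, fun hat => ha (Ideal.Quotient.eq_zero_iff_mem.2 hat), fun t _ hle hat => ?_⟩
  let _ : Algebra D t.ResidueField :=
    ((algebraMap (A ⧸ t) t.ResidueField).comp (Ideal.Quotient.factor hle)).toAlgebra
  have : IsScalarTower A D t.ResidueField := .of_algebraMap_eq fun x => by
    change _ = algebraMap (A ⧸ t) t.ResidueField (Ideal.Quotient.factor hle
      (Ideal.Quotient.mk t₀ x))
    rw [Ideal.Quotient.factor_mk]
    rfl
  rw [key]
  refine hK t.ResidueField ?_
  rw [isUnit_iff_ne_zero]
  change algebraMap D t.ResidueField (algebraMap A D a) ≠ 0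
  rw [← IsScalarTower.algebraMap_apply, Ne, Ideal.algebraMap_residueField_eq_zero]
  exact hat

end Fibre

end Groth.Agent.Flat2B.FibInj
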