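import Groth.Agent.Flat2B.FibInj2

/-!
# Fibrewise annihilators: openness at generalizations

`exists_notMem_forall_psi`: `B` f.p. over `A`, `N` f.p. over `B`, `g₁, …, g_m ∈ B`. If no nonzero
element of the fibre `N_t` is killed by all `g_j` for all `t ≤ p`, then the same holds for all `t`
in a principal open neighbourhood of `p`.
-/

set_option autoImplicit false
universe u

namespace Groth.Agent.Flat2B.FibInj

open TensorProduct

section Model

attribute [local instance] MvPolynomial.algebraMvPolynomial

/-- Noetherian model of a finitely presented module over a polynomial ring, with finitely many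
polynomials. -/
theorem exists_model_mvPolynomial {A : Type u} [CommRing A] (n m' : ℕ) (M : Type u)
    [AddCommGroup M] [Module (MvPolynomial (Fin n) A) M]
    [Module.FinitePresentation (MvPolynomial (Fin n) A) M]
    (G : Fin m' → MvPolynomial (Fin n) A) :
    ∃ (A₀ : Subalgebra ℤ A) (_ : IsNoetherianRing A₀) (M₀ : Type u) (_ : AddCommGroup M₀)
      (_ : Module (MvPolynomial (Fin n) A₀) M₀)
      (_ : Module.Finite (MvPolynomial (Fin n) A₀) M₀) (_ : Module (MvPolynomial (Fin n) A₀) M)
      (_ : IsScalarTower (MvPolynomial (Fin n) A₀) (MvPolynomial (Fin n) A) M)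
      (h : M₀ →ₗ[MvPolynomial (Fin n) A₀] M) (_ : IsBaseChange (MvPolynomial (Fin n) A) h)
      (G₀ : Fin m' → MvPolynomial (Fin n) A₀),
      ∀ j, algebraMap (MvPolynomial (Fin n) A₀) (MvPolynomial (Fin n) A) (G₀ j) = G j := by
  classical
  obtain ⟨r, m, g, f, hg, hfg⟩ :=
    Module.FinitePresentation.exists_fin' (MvPolynomial (Fin n) A) M
  let s : Finset A := (Finset.univ.biUnion fun j : Fin m => Finset.univ.biUnion fun i : Fin r =>
    (f (Pi.single j 1) i).coeffs) ∪ Finset.univ.biUnion fun j : Fin m' => (G j).coeffs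
  let A₀ : Subalgebra ℤ A := Algebra.adjoin ℤ (s : Set A)
  have hA₀ : (s : Set A) ⊆ A₀ := Algebra.subset_adjoin
  have hN : IsNoetherianRing A₀ := by
    have : Algebra.FiniteType ℤ (Algebra.adjoin ℤ (s : Set A)) :=
      (Subalgebra.fg_iff_finiteType _).mp (Subalgebra.fg_adjoin_finset s)
    exact Algebra.FiniteType.isNoetherianRing ℤ _
  have hcoeff : ∀ j i, f (Pi.single j 1) i ∈ Set.range (MvPolynomial.map (σ := Fin n)
      (algebraMap A₀ A)) := by
    intro j i
    rw [MvPolynomial.mem_range_map_iff_coeffs_subset]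
    intro a ha
    refine ⟨⟨a, hA₀ ?_⟩, rfl⟩
    rw [Finset.mem_coe, Finset.mem_union]
    left
    rw [Finset.mem_biUnion]
    refine ⟨j, Finset.mem_univ _, ?_⟩
    rw [Finset.mem_biUnion]
    exact ⟨i, Finset.mem_univ _, ha⟩
  have hcoeffG : ∀ j, G j ∈ Set.range (MvPolynomial.map (σ := Fin n)
      (algebraMap A₀ A)) := by
    intro j
    rw [MvPolynomial.mem_range_map_iff_coeffs_subset]
    intro a ha
    refine ⟨⟨a, hA₀ ?_⟩, rfl⟩
    rw [Finset.mem_coe, Finset.mem_union]
    right
    rw [Finset.mem_biUnion]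
    exact ⟨j, Finset.mem_univ _, ha⟩
  choose v hv using hcoeff
  choose G₀ hG₀ using hcoeffG
  let P₀ := MvPolynomial (Fin n) A₀
  let P := MvPolynomial (Fin n) A
  have hmap : ∀ x : P₀, algebraMap P₀ P x = MvPolynomial.map (algebraMap A₀ A) x := fun x => rfl
  let f₀ : (Fin m → P₀) →ₗ[P₀] (Fin r → P₀) := Fintype.linearCombination P₀ v
  have h0 : IsBaseChange P (Algebra.linearMap P₀ P) := IsBaseChange.linearMap P₀ P
  let h₁ : (Fin m → P₀) →ₗ[P₀] (Fin m → P) := (Algebra.linearMap P₀ P).compLeft (Fin m)
  let h₂ : (Fin r → P₀) →ₗ[P₀] (Fin r → P) := (Algebra.linearMap P₀ P).compLeft (Fin r)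
  have comm₁ : h₂.comp f₀ = (f.restrictScalars P₀).comp h₁ := by
    refine LinearMap.pi_ext' fun j => ?_
    refine LinearMap.ext_ring (funext fun i => ?_)
    have : (Algebra.linearMap P₀ P).compLeft (Fin m) (Pi.single j (1 : P₀)) =
        Pi.single j (1 : P) := by
      ext1 k
      by_cases hk : k = j
      · subst hk; simp
      · simp [hk]
    simp only [LinearMap.comp_apply, LinearMap.coe_single, f₀, Fintype.linearCombination_apply_single,
      one_smul, h₁, h₂, LinearMap.restrictScalars_apply]
    rw [this, ← hv, ← hmap]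
    rfl
  let N₀ := LinearMap.range f₀
  let M₀ := (Fin r → P₀) ⧸ N₀
  let _ : Module P₀ M := Module.compHom M (algebraMap P₀ P)
  have : IsScalarTower P₀ P M := IsScalarTower.of_algebraMap_smul (fun r x => rfl)
  let h₃ : M₀ →ₗ[P₀] M := N₀.liftQ ((g.restrictScalars P₀).comp h₂) (by
    rintro _ ⟨x, rfl⟩
    rw [LinearMap.mem_ker, LinearMap.comp_apply, ← LinearMap.comp_apply h₂ f₀, comm₁]
    exact hfg.apply_apply_eq_zero _)
  have comm₂ : h₃.comp N₀.mkQ = (g.restrictScalars P₀).comp h₂ := N₀.liftQ_mkQ _ _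
  have hbc : IsBaseChange P h₃ :=
    IsBaseChange.of_right_exact P h₁ h₂ h₃ comm₁ comm₂ (h0.finitePow (Fin m)) (h0.finitePow (Fin r))
      (LinearMap.exact_map_mkQ_range f₀) N₀.mkQ_surjective hfg hg
  exact ⟨A₀, hN, M₀, inferInstance, inferInstance, inferInstance, inferInstance, inferInstance, h₃,
    hbc, G₀, hG₀⟩

end Model

/-- `x ↦ (g_j x)_j`. -/
noncomputable def psi {P : Type*} (N : Type*) [CommRing P] [AddCommGroup N] [Module P N] {m : ℕ}
    (g : Fin m → P) : N →ₗ[P] (Fin m → N) := LinearMap.pi fun j => LinearMap.lsmul P N (g j)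

theorem psi_apply {P : Type*} (N : Type*) [CommRing P] [AddCommGroup N] [Module P N] {m : ℕ}
    (g : Fin m → P) (x : N) (j : Fin m) : psi N g x j = g j • x := rfl

section Main

/-- Invariance of the fibrewise injectivity of `psi` under base change. -/
theorem psi_lTensor_injective_iff {A₀ P₀ A P N₀ N : Type u} [CommRing A₀] [CommRing P₀]
    [CommRing A] [CommRing P] [Algebra A₀ P₀] [Algebra A₀ A] [Algebra A P] [Algebra P₀ P]
    [Algebra A₀ P] [IsScalarTower A₀ P₀ P] [IsScalarTower A₀ A P]
    (hpush : Algebra.IsPushout A₀ P₀ A P)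
    [AddCommGroup N₀] [Module P₀ N₀] [Module A₀ N₀] [IsScalarTower A₀ P₀ N₀]
    [AddCommGroup N] [Module P N] [Module A N] [IsScalarTower A P N] [Module P₀ N]
    [IsScalarTower P₀ P N] (h : N₀ →ₗ[P₀] N) (hh : IsBaseChange P h) {m : ℕ}
    (G₀ : Fin m → P₀) (G : Fin m → P) (hG : ∀ j, algebraMap P₀ P (G₀ j) = G j)
    (t : Ideal A) [t.IsPrime] (t₀ : Ideal A₀) [t₀.IsPrime] [ht : t.LiesOver t₀] :
    Function.Injective (((psi N₀ G₀).restrictScalars A₀).lTensor t₀.ResidueField) ↔
      Function.Injective (((psi N G).restrictScalars A).lTensor t.ResidueField) := by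
  let _ : Module A₀ N := Module.compHom N (algebraMap A₀ P)
  have i1 : IsScalarTower A₀ P N := .of_algebraMap_smul fun _ _ => rfl
  have i2 : IsScalarTower A₀ A N := .of_algebraMap_smul fun a x => by
    rw [← algebraMap_smul P (algebraMap A₀ A a), ← IsScalarTower.algebraMap_apply]
    rfl
  have i3 : IsScalarTower A₀ P₀ N := .of_algebraMap_smul fun a x => by
    rw [← algebraMap_smul P (algebraMap A₀ P₀ a), ← IsScalarTower.algebraMap_apply]
    rfl
  have b1 : IsBaseChange A (h.restrictScalars A₀) :=
    Flat2A.ProjPure.isBaseChange_of_isPushout hpush h hh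
  have b2 : IsBaseChange A ((h.restrictScalars A₀).compLeft (Fin m)) := b1.finitePow (Fin m)
  have comm : ∀ x, (h.restrictScalars A₀).compLeft (Fin m) (psi N₀ G₀ x) =
      psi N G (h.restrictScalars A₀ x) := by
    intro x
    ext j
    change h (G₀ j • x) = G j • h x
    rw [map_smul, ← hG, algebraMap_smul]
  let _ : Algebra t₀.ResidueField t.ResidueField :=
    (Ideal.ResidueField.mapₐ t₀ t (Algebra.ofId A₀ A) ht.over).toRingHom.toAlgebra
  have i4 : IsScalarTower A₀ t₀.ResidueField t.ResidueField := .of_algebraMap_eq fun a =>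
    ((Ideal.ResidueField.mapₐ t₀ t (Algebra.ofId A₀ A) ht.over).commutes a).symm
  rw [lTensor_injective_iff_of_faithfullyFlat ((psi N₀ G₀).restrictScalars A₀) t₀.ResidueField
    t.ResidueField]
  exact lTensor_injective_iff ((psi N₀ G₀).restrictScalars A₀) ((psi N G).restrictScalars A)
    (h.restrictScalars A₀) b1 ((h.restrictScalars A₀).compLeft (Fin m)) b2 comm t.ResidueField

attribute [local instance] MvPolynomial.algebraMvPolynomial in
/-- Polynomial case. -/
theorem exists_notMem_forall_psi_mvPolynomial {A : Type u} [CommRing A] (n : ℕ) {N : Type u}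
    [AddCommGroup N] [Module (MvPolynomial (Fin n) A) N] [Module A N]
    [IsScalarTower A (MvPolynomial (Fin n) A) N]
    [Module.FinitePresentation (MvPolynomial (Fin n) A) N] {m : ℕ}
    (G : Fin m → MvPolynomial (Fin n) A) (p : Ideal A) [p.IsPrime]
    (h : ∀ (t : Ideal A) [t.IsPrime], t ≤ p →
      Function.Injective (((psi N G).restrictScalars A).lTensor t.ResidueField)) :
    ∃ f ∉ p, ∀ (t : Ideal A) [t.IsPrime], f ∉ t →
      Function.Injective (((psi N G).restrictScalars A).lTensor t.ResidueField) := by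
  obtain ⟨A₀, _, N₀, _, _, _, _, _, h₀, hh₀, G₀, hG₀⟩ := exists_model_mvPolynomial n m N G
  let _ : Module A₀ N₀ := Module.compHom N₀ (algebraMap A₀ (MvPolynomial (Fin n) A₀))
  have i1 : IsScalarTower A₀ (MvPolynomial (Fin n) A₀) N₀ := .of_algebraMap_smul fun _ _ => rfl
  have hpush : Algebra.IsPushout A₀ (MvPolynomial (Fin n) A₀) A (MvPolynomial (Fin n) A) :=
    inferInstance
  have key : ∀ (t : Ideal A) [t.IsPrime] (t₀ : Ideal A₀) [t₀.IsPrime] [t.LiesOver t₀],
      Function.Injective (((psi N₀ G₀).restrictScalars A₀).lTensor t₀.ResidueField) ↔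
        Function.Injective (((psi N G).restrictScalars A).lTensor t.ResidueField) :=
    fun t _ t₀ _ _ => psi_lTensor_injective_iff hpush h₀ hh₀ G₀ G hG₀ t t₀
  let Gs : Set (PrimeSpectrum A₀) := {t₀ | Function.Injective
    (((psi N₀ G₀).restrictScalars A₀).lTensor t₀.asIdeal.ResidueField)}
  let Ap := Localization.AtPrime p
  obtain ⟨E, hE, hEG, hEA⟩ := Flat2G.ApproxFactor.exists_constructible_between (A := Ap) Gs
    (by
      intro t₀ ht₀
      obtain ⟨a, ha, hK⟩ := exists_notMem_of_le (psi N₀ G₀) t₀.asIdeal ht₀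
      exact ⟨a, ha, fun q hq haq => hK q.asIdeal hq haq⟩)
    (by
      intro q
      let t : Ideal A := q.asIdeal.under A
      have ht : t ≤ p := by
        have h1 : q.asIdeal ≤ IsLocalRing.maximalIdeal Ap :=
          IsLocalRing.le_maximalIdeal q.2.ne_top
        have h2 : q.asIdeal.under A ≤ (IsLocalRing.maximalIdeal Ap).under A :=
          Ideal.comap_mono (f := algebraMap A Ap) h1
        rwa [IsLocalization.AtPrime.under_maximalIdeal Ap p] at h2
      let t₀ : Ideal A₀ := q.asIdeal.under A₀
      have : t.LiesOver t₀ := ⟨by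
        change q.asIdeal.under A₀ = (q.asIdeal.under A).under A₀
        rw [Ideal.under_under]⟩
      exact (key t t₀).2 (h t ht))
  obtain ⟨f, hf, hf'⟩ := exists_notMem_of_isConstructible (A₀ := A₀) p hE (by
    intro t ht
    have hd : Disjoint (p.primeCompl : Set A) t.asIdeal := by
      rw [Set.disjoint_left]
      intro x hx hxt
      exact hx (ht hxt)
    let q : PrimeSpectrum Ap := ⟨t.asIdeal.map (algebraMap A Ap),
      IsLocalization.isPrime_of_isPrime_disjoint p.primeCompl _ _ t.2 hd⟩
    have h1 := hEA q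
    have h2 : PrimeSpectrum.comap (algebraMap A₀ Ap) q = PrimeSpectrum.comap (algebraMap A₀ A) t := by
      rw [IsScalarTower.algebraMap_eq A₀ A Ap, PrimeSpectrum.comap_comp]
      change PrimeSpectrum.comap (algebraMap A₀ A) (PrimeSpectrum.comap (algebraMap A Ap) q) = _
      congr 1
      ext1
      exact IsLocalization.under_map_of_isPrime_disjoint p.primeCompl Ap t.2 hd
    rwa [h2] at h1)
  refine ⟨f, hf, fun t _ hft => ?_⟩
  let t₀ : Ideal A₀ := t.under A₀
  have h3 : PrimeSpectrum.comap (algebraMap A₀ A) ⟨t, ‹_›⟩ ∈ Gs := hEG (hf' ⟨t, ‹_›⟩ hft)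
  have h4 := (key t t₀).1 h3
  exact h4

/-- `B` f.p. over `A`, `N` f.p. over `B`, `g₁, …, g_m ∈ B`. If no nonzero
element of the fibre `N_t` is killed by all `g_j` for all `t ≤ p`, then the same holds for all `t`
in a principal open neighbourhood of `p`. -/
theorem exists_notMem_forall_psi {A B : Type u} [CommRing A] [CommRing B] [Algebra A B]
    [Algebra.FinitePresentation A B] {N : Type u} [AddCommGroup N] [Module B N] [Module A N]
    [IsScalarTower A B N] [Module.FinitePresentation B N] {m : ℕ}
    (g : Fin m → B) (p : Ideal A) [p.IsPrime]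
    (h : ∀ (t : Ideal A) [t.IsPrime], t ≤ p →
      Function.Injective (((psi N g).restrictScalars A).lTensor t.ResidueField)) :
    ∃ f ∉ p, ∀ (t : Ideal A) [t.IsPrime], f ∉ t →
      Function.Injective (((psi N g).restrictScalars A).lTensor t.ResidueField) := by
  obtain ⟨n, f, hf, hker⟩ := Algebra.FinitePresentation.out (R := A) (A := B)
  let P := MvPolynomial (Fin n) A
  let _ : Algebra P B := f.toAlgebra
  have : IsScalarTower A P B := IsScalarTower.of_algebraMap_eq (fun a => (f.commutes a).symm)
  let _ : Module P N := Module.compHom N f.toRingHom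
  have : IsScalarTower P B N := IsScalarTower.of_algebraMap_smul (fun r x => rfl)
  have : IsScalarTower A P N := IsScalarTower.of_algebraMap_smul (fun a x => by
    change f (algebraMap A P a) • x = a • x
    rw [f.commutes, algebraMap_smul])
  have h1 : Module.FinitePresentation P B :=
    Module.finitePresentation_of_surjective (Algebra.linearMap P B) hf hker
  have h2 : Module.FinitePresentation P N := Module.FinitePresentation.trans P N B
  choose G hG using fun j => hf (g j)
  have h3 : (psi N G).restrictScalars A = (psi N g).restrictScalars A := by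
    ext x j
    change f (G j) • x = g j • x
    rw [hG]
  have := exists_notMem_forall_psi_mvPolynomial n G (N := N) p (by rw [h3]; exact h)
  rwa [h3] at this

end Main

end Groth.Agent.Flat2B.FibInj
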