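import Groth.Agent.Flat2A.FiberAss
import Mathlib.LinearAlgebra.TensorProduct.Quotient
import Mathlib.RingTheory.Localization.BaseChange

set_option autoImplicit false
universe u

namespace Groth.Agent.Flat2B.FibKer

open TensorProduct Flat2A.Fiber Flat2A.FiberAss

section

variable {R : Type u} [CommRing R] (p : Ideal R) [p.IsPrime]
  {N : Type u} [AddCommGroup N] [Module R N]

/-- kernel of the map from a module to its fibre over `κ(p)` -/
theorem one_tmul_eq_zero_iff (n : N) :
    (1 : p.ResidueField) ⊗ₜ[R] n = 0 ↔ ∃ r ∉ p, r • n ∈ (p • ⊤ : Submodule R N) := by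
  constructor
  · intro h
    let e := TensorProduct.AlgebraTensorModule.cancelBaseChange R (R ⧸ p) (R ⧸ p) p.ResidueField N
    have h1 : e.symm ((1 : p.ResidueField) ⊗ₜ[R] n) = (1 : p.ResidueField) ⊗ₜ[R ⧸ p] ((1 : R ⧸ p) ⊗ₜ[R] n) := by
      simp [e]
    rw [h, map_zero] at h1
    have h2 : (TensorProduct.mk (R ⧸ p) p.ResidueField ((R ⧸ p) ⊗[R] N) 1) ((1 : R ⧸ p) ⊗ₜ[R] n) = 0 := h1.symm
    rw [IsLocalizedModule.eq_zero_iff (nonZeroDivisors (R ⧸ p))] at h2
    obtain ⟨⟨c, hc⟩, hc'⟩ := h2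
    obtain ⟨r, rfl⟩ := Ideal.Quotient.mk_surjective c
    refine ⟨r, ?_, ?_⟩
    · intro hr
      rw [Ideal.Quotient.eq_zero_iff_mem.mpr hr] at hc
      exact (nonZeroDivisors.ne_zero hc) rfl
    · have h3 : (1 : R ⧸ p) ⊗ₜ[R] (r • n) = 0 := by
        rw [TensorProduct.tmul_smul]
        exact hc'
      have h4 := congrArg (TensorProduct.quotTensorEquivQuotSMul N p) h3
      rw [map_zero] at h4
      have h5 : TensorProduct.quotTensorEquivQuotSMul N p ((1 : R ⧸ p) ⊗ₜ[R] (r • n)) = Submodule.Quotient.mk (r • n) := by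
        have := TensorProduct.quotTensorEquivQuotSMul_mk_tmul p (1 : R) (r • n)
        simpa using this
      rw [h5] at h4
      exact (Submodule.Quotient.mk_eq_zero _).mp h4
  · rintro ⟨r, hr, h⟩
    have h1 : (1 : p.ResidueField) ⊗ₜ[R] (r • n) = 0 := by
      refine Submodule.smul_induction_on h ?_ ?_
      · intro a ha x _
        rw [← TensorProduct.smul_tmul]
        have : a • (1 : p.ResidueField) = 0 := by
          rw [← Algebra.algebraMap_eq_smul_one]
          simpa using ha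
        rw [this, TensorProduct.zero_tmul]
      · intro x y hx hy
        rw [TensorProduct.tmul_add, hx, hy, add_zero]
    have h2 : (algebraMap R p.ResidueField r) • ((1 : p.ResidueField) ⊗ₜ[R] n) = 0 := by
      rw [algebraMap_smul, ← TensorProduct.tmul_smul, h1]
    have h3 : algebraMap R p.ResidueField r ≠ 0 := by
      intro h0
      exact hr (by simpa using h0)
    have h4 := congrArg (fun z => (algebraMap R p.ResidueField r)⁻¹ • z) h2
    rwa [smul_smul, inv_mul_cancel₀ h3, one_smul, smul_zero] at h4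

end

section

variable {R S : Type u} [CommRing R] [CommRing S] [Algebra R S] (p : Ideal R) [p.IsPrime]
  (N : Type u) [AddCommGroup N] [Module S N] [Module R N] [IsScalarTower R S N]

/-- The fibre module is `N ⊗ κ(p)`, as an `S`-module. -/
noncomputable def fiberModEquiv : FlatCA.fiberMod p S N ≃ₗ[S] N ⊗[R] p.ResidueField :=
  let _ : Algebra S (p.Fiber S) := Algebra.TensorProduct.rightAlgebra
  let e1 : (p.Fiber S) ⊗[S] N ≃ₗ[S] N ⊗[S] (p.Fiber S) := TensorProduct.comm S _ _
  let e2 : (p.Fiber S) ≃ₗ[S] S ⊗[R] p.ResidueField :=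
    (Algebra.TensorProduct.commRight R S p.ResidueField).symm.toLinearEquiv
  let e3 : N ⊗[S] (S ⊗[R] p.ResidueField) ≃ₗ[S] N ⊗[R] p.ResidueField :=
    TensorProduct.AlgebraTensorModule.cancelBaseChange R S S N p.ResidueField
  e1 ≪≫ₗ (TensorProduct.congr (LinearEquiv.refl S N) e2) ≪≫ₗ e3

theorem fiberModEquiv_toFiberMod (n : N) :
    fiberModEquiv p N (FlatCA.toFiberMod p S N n) = n ⊗ₜ[R] (1 : p.ResidueField) := by
  let _ : Algebra S (p.Fiber S) := Algebra.TensorProduct.rightAlgebra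
  have h : FlatCA.toFiberMod p S N n = (show (p.Fiber S) ⊗[S] N from (1 : p.Fiber S) ⊗ₜ[S] n) := rfl
  rw [h]
  let e2 : (p.Fiber S) ≃ₗ[S] S ⊗[R] p.ResidueField :=
    (Algebra.TensorProduct.commRight R S p.ResidueField).symm.toLinearEquiv
  have he2 : e2 1 = (1 : S) ⊗ₜ[R] (1 : p.ResidueField) := rfl
  have h1 : fiberModEquiv p N (show (p.Fiber S) ⊗[S] N from (1 : p.Fiber S) ⊗ₜ[S] n) =
    TensorProduct.AlgebraTensorModule.cancelBaseChange R S S N p.ResidueField (n ⊗ₜ[S] (e2 1)) := rfl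
  rw [h1, he2]
  simp

theorem toFiberMod_eq_zero_iff (n : N) :
    FlatCA.toFiberMod p S N n = 0 ↔ ∃ r ∉ p, r • n ∈ (p • ⊤ : Submodule R N) := by
  rw [← (fiberModEquiv p N).map_eq_zero_iff, fiberModEquiv_toFiberMod,
    ← (TensorProduct.comm R N p.ResidueField).map_eq_zero_iff, TensorProduct.comm_tmul,
    one_tmul_eq_zero_iff]

end

end Groth.Agent.Flat2B.FibKer
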