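import Groth.Agent.Flat2B.RelAss

set_option autoImplicit false
universe u

namespace Groth.Agent.Flat2B.Impurity

open TensorProduct

/-- the two conditions "no prime of `B` containing `P` lies over `t`" and "some `s ∉ t` lies in `P + tB`" are equivalent -/
theorem misses_iff {A B : Type u} [CommRing A] [CommRing B] [Algebra A B] (t : Ideal A) [t.IsPrime] (P : Ideal B) :
    (∀ (P' : Ideal B) [P'.IsPrime], P ≤ P' → ¬ P'.LiesOver t) ↔
      ∃ s : A, s ∉ t ∧ algebraMap A B s ∈ P ⊔ t.map (algebraMap A B) := by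
  constructor
  · intro h
    by_contra hcon
    push Not at hcon
    have hdisj : Disjoint ((P ⊔ t.map (algebraMap A B) : Ideal B) : Set B) (Algebra.algebraMapSubmonoid B t.primeCompl : Set B) := by
      rw [Set.disjoint_left]
      rintro x hx ⟨s, hs, rfl⟩
      exact hcon s hs hx
    obtain ⟨P', hP', hle, hdis⟩ := Ideal.exists_le_prime_disjoint _ _ hdisj
    refine h P' (le_sup_left.trans hle) ⟨?_⟩
    apply le_antisymm
    · exact Ideal.map_le_iff_le_comap.mp (le_sup_right.trans hle)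
    · intro x hx
      by_contra hxt
      rw [Set.disjoint_left] at hdis
      exact hdis hx ⟨x, hxt, rfl⟩
  · rintro ⟨s, hs, hmem⟩ P' hP' hle hover
    have h1 : P ⊔ t.map (algebraMap A B) ≤ P' := by
      apply sup_le hle
      rw [Ideal.map_le_iff_le_comap]
      exact hover.over.le
    have h2 := h1 hmem
    apply hs
    rw [hover.over]
    exact h2

attribute [local instance] Algebra.TensorProduct.rightAlgebra

section

variable {A B : Type u} [CommRing A] [CommRing B] [Algebra A B]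

/-- the comparison map `B ⊗ A₁ → B'` -/
noncomputable def comparison (A₁ A' B' : Type u) [CommRing A₁] [CommRing A'] [CommRing B'] [Algebra A A₁] [Algebra A A']
    [Algebra A₁ A'] [IsScalarTower A A₁ A'] [Algebra B B'] [Algebra A' B'] [Algebra A B'] [IsScalarTower A B B']
    [IsScalarTower A A' B'] : B ⊗[A] A₁ →ₐ[B] B' :=
  Algebra.TensorProduct.lift (Algebra.ofId B B')
    ((IsScalarTower.toAlgHom A A' B').comp (IsScalarTower.toAlgHom A A₁ A')) (fun _ _ => Commute.all _ _)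

/-- Push an impurity forward along `A₁ → A'` (only the closure condition has to be checked by hand). -/
theorem hasImpurity_of_pushforward {N : Type u} [AddCommGroup N] [Module B N] {p : Ideal A} [p.IsPrime]
    {Q : ∀ (A' : Type u) [CommRing A'] [Algebra A A'], Ideal A' → Prop}
    {A' B' N' : Type u} [CommRing A'] [CommRing B'] [Algebra A A'] [Algebra B B']
    [Algebra A' B'] [Algebra A B'] [IsScalarTower A B B'] [IsScalarTower A A' B']
    [AddCommGroup N'] [Module B' N'] [Module B N'] [IsScalarTower B B' N'] [Module A' N']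
    [IsScalarTower A' B' N'] (f : N →ₗ[B] N') [Algebra.IsPushout A B A' B'] (hf : IsBaseChange B' f)
    {t' : Ideal A'} [t'.IsPrime] {P : Ideal B'} [P.IsPrime] [P.LiesOver t']
    (hP : FlatCA.fiberIdeal t' P ∈ associatedPrimes (t'.Fiber B') (FlatCA.fiberMod t' B' N'))
    (A₁ : Type u) [CommRing A₁] [Algebra A A₁] [Algebra A₁ A'] [IsScalarTower A A₁ A']
    (t₁ : Ideal A₁) [t₁.IsPrime] [t₁.LiesOver p] (hle : t'.comap (algebraMap A₁ A') ≤ t₁)
    (hcl : ∀ (P₁ : Ideal (B ⊗[A] A₁)) [P₁.IsPrime], P.comap (comparison (B := B) A₁ A' B').toRingHom ≤ P₁ → ¬ P₁.LiesOver t₁)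
    (hQ : Q A₁ t₁) : FlatCA.HasImpurity A B N p Q := by
  let B₁ := B ⊗[A] A₁
  let _ : Algebra B₁ B' := (comparison (B := B) A₁ A' B').toRingHom.toAlgebra
  have _ : IsScalarTower B B₁ B' := IsScalarTower.of_algebraMap_eq fun x => by
    exact ((comparison (B := B) A₁ A' B').commutes x).symm
  let _ : Algebra A₁ B' := ((algebraMap A' B').comp (algebraMap A₁ A')).toAlgebra
  have _ : IsScalarTower A₁ A' B' := IsScalarTower.of_algebraMap_eq fun x => rfl
  have _ : IsScalarTower A₁ B₁ B' := IsScalarTower.of_algebraMap_eq fun x => by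
    change _ = (comparison (B := B) A₁ A' B') (1 ⊗ₜ x)
    rw [comparison, Algebra.TensorProduct.lift_tmul, map_one, one_mul]
    rfl
  have _ : IsScalarTower A A₁ B' := IsScalarTower.of_algebraMap_eq fun x => by
    rw [IsScalarTower.algebraMap_apply A₁ A' B', ← IsScalarTower.algebraMap_apply A A₁ A', ← IsScalarTower.algebraMap_apply A A' B']
  have _ : IsScalarTower A B₁ B' := IsScalarTower.of_algebraMap_eq fun x => by
    rw [IsScalarTower.algebraMap_apply A A₁ B₁, ← IsScalarTower.algebraMap_apply A₁ B₁ B', ← IsScalarTower.algebraMap_apply A A₁ B']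
  have hpo : Algebra.IsPushout A A₁ B B₁ := Algebra.IsPushout.symm inferInstance
  have hpo' : Algebra.IsPushout A A' B B' := Algebra.IsPushout.symm inferInstance
  have hpo2 : Algebra.IsPushout A₁ A' B₁ B' := (Algebra.IsPushout.comp_iff A A₁ B B₁).mp hpo'
  have hpo3 : Algebra.IsPushout A₁ B₁ A' B' := Algebra.IsPushout.symm hpo2
  let N₁ := B₁ ⊗[B] N
  let _ : Module B₁ N' := Module.compHom N' (algebraMap B₁ B')
  have _ : IsScalarTower B₁ B' N' := ⟨fun c s x => by
    rw [Algebra.smul_def, mul_smul]; rfl⟩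
  have _ : IsScalarTower B B₁ N' := ⟨fun c s x => by
    rw [Algebra.smul_def, mul_smul, ← algebraMap_smul B' (algebraMap B B₁ c), ← IsScalarTower.algebraMap_apply B B₁ B',
      algebraMap_smul]⟩
  have h₁ : IsBaseChange B₁ (TensorProduct.mk B B₁ N 1) := TensorProduct.isBaseChange B N B₁
  let g : N₁ →ₗ[B₁] N' := h₁.lift f
  have hg : IsBaseChange B' g := by
    apply IsBaseChange.of_comp h₁
    rw [h₁.lift_comp]
    exact hf
  let _ : Module A₁ N₁ := inferInstance
  have _ : IsScalarTower A₁ B₁ N₁ := inferInstance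
  let t'₁ := t'.comap (algebraMap A₁ A')
  have _ : t'.LiesOver t'₁ := ⟨rfl⟩
  let P₁ := P.comap (algebraMap B₁ B')
  have hP' : P ∈ associatedPrimes B' (FlatCA.fiberMod t' B' N') :=
    (Flat2A.FiberAss.mem_associatedPrimes_fiberMod_iff t' N' P).mpr ⟨inferInstance, inferInstance, hP⟩
  have hP₁ := RelAss.relAss_comap g hg t'₁ t' hP'
  obtain ⟨h1, h2, h3⟩ := (Flat2A.FiberAss.mem_associatedPrimes_fiberMod_iff t'₁ N₁ P₁).mp hP₁
  refine ⟨A₁, B₁, N₁, inferInstance, inferInstance, inferInstance, inferInstance, inferInstance, inferInstance,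
    inferInstance, inferInstance, inferInstance, inferInstance, inferInstance, inferInstance, inferInstance, inferInstance,
    TensorProduct.mk B B₁ N 1, t'₁, t₁, inferInstance, inferInstance, P₁, h1, ⟨inferInstance, h₁, hle, inferInstance, h2, h3, hcl⟩, hQ⟩

/-- every element of `B'` comes from `B ⊗ A₁` as soon as `A₁ → A'` hits a certain finite set -/
theorem exists_finset_lift (A' B' : Type u) [CommRing A'] [CommRing B'] [Algebra A A'] [Algebra B B']
    [Algebra A' B'] [Algebra A B'] [IsScalarTower A B B'] [IsScalarTower A A' B'] [Algebra.IsPushout A B A' B'] (b : B') :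
    ∃ Z : Set A', Z.Finite ∧ ∀ (A₁ : Type u) [CommRing A₁] [Algebra A A₁] [Algebra A₁ A'] [IsScalarTower A A₁ A'],
      Z ⊆ Set.range (algebraMap A₁ A') → ∃ b₁ : B ⊗[A] A₁, comparison (B := B) A₁ A' B' b₁ = b := by
  obtain ⟨z, rfl⟩ := (Algebra.IsPushout.equiv A B A' B').surjective b
  induction z with
  | zero =>
    refine ⟨∅, Set.finite_empty, ?_⟩
    intro A₁ _ _ _ _ _
    exact ⟨0, by rw [map_zero, map_zero]⟩
  | add x y hx hy =>
    obtain ⟨Z, hZ, h⟩ := hx
    obtain ⟨Z', hZ', h'⟩ := hy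
    refine ⟨Z ∪ Z', hZ.union hZ', ?_⟩
    intro A₁ _ _ _ _ hsub
    obtain ⟨b₁, hb₁⟩ := h A₁ (Set.subset_union_left.trans hsub)
    obtain ⟨b₂, hb₂⟩ := h' A₁ (Set.subset_union_right.trans hsub)
    exact ⟨b₁ + b₂, by rw [map_add, map_add, hb₁, hb₂]⟩
  | tmul x y =>
    refine ⟨{y}, Set.finite_singleton y, ?_⟩
    intro A₁ _ _ _ _ hsub
    obtain ⟨y₁, hy₁⟩ := hsub rfl
    refine ⟨x ⊗ₜ y₁, ?_⟩
    rw [comparison, Algebra.TensorProduct.lift_tmul, Algebra.IsPushout.equiv_tmul]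
    change algebraMap B B' x * algebraMap A' B' (algebraMap A₁ A' y₁) = _
    rw [hy₁]

/-- spreading out the closure condition of an impurity -/
theorem exists_finset_misses (A' B' : Type u) [CommRing A'] [CommRing B'] [Algebra A A'] [Algebra B B']
    [Algebra A' B'] [Algebra A B'] [IsScalarTower A B B'] [IsScalarTower A A' B'] [Algebra.IsPushout A B A' B']
    (t : Ideal A') (P : Ideal B') (s : A') (hs : s ∉ t) (hmem : algebraMap A' B' s ∈ P ⊔ t.map (algebraMap A' B')) :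
    ∃ Z : Set A', Z.Finite ∧ ∀ (A₁ : Type u) [CommRing A₁] [Algebra A A₁] [Algebra A₁ A'] [IsScalarTower A A₁ A'],
      Z ⊆ Set.range (algebraMap A₁ A') → ∃ s₁ : A₁, s₁ ∉ t.comap (algebraMap A₁ A') ∧
        algebraMap A₁ (B ⊗[A] A₁) s₁ ∈ P.comap (comparison (B := B) A₁ A' B').toRingHom ⊔
          (t.comap (algebraMap A₁ A')).map (algebraMap A₁ (B ⊗[A] A₁)) := by
  obtain ⟨x, hx, y, hy, hxy⟩ := Submodule.mem_sup.mp hmem
  have hmain : ∃ Z : Set A', Z.Finite ∧ ∀ (A₁ : Type u) [CommRing A₁] [Algebra A A₁] [Algebra A₁ A'] [IsScalarTower A A₁ A'],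
      Z ⊆ Set.range (algebraMap A₁ A') → ∃ y₁ ∈ (t.comap (algebraMap A₁ A')).map (algebraMap A₁ (B ⊗[A] A₁)),
        comparison (B := B) A₁ A' B' y₁ = y := by
    refine Submodule.span_induction (p := fun y _ => ∃ Z : Set A', Z.Finite ∧ ∀ (A₁ : Type u) [CommRing A₁] [Algebra A A₁] [Algebra A₁ A'] [IsScalarTower A A₁ A'],
      Z ⊆ Set.range (algebraMap A₁ A') → ∃ y₁ ∈ (t.comap (algebraMap A₁ A')).map (algebraMap A₁ (B ⊗[A] A₁)),
        comparison (B := B) A₁ A' B' y₁ = y) ?_ ?_ ?_ ?_ hy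
    · rintro _ ⟨a, ha, rfl⟩
      refine ⟨{a}, Set.finite_singleton a, ?_⟩
      intro A₁ _ _ _ _ hsub
      obtain ⟨a₁, rfl⟩ := hsub rfl
      refine ⟨algebraMap A₁ (B ⊗[A] A₁) a₁, Ideal.mem_map_of_mem _ ha, ?_⟩
      change (comparison (B := B) A₁ A' B') (1 ⊗ₜ a₁) = _
      rw [comparison, Algebra.TensorProduct.lift_tmul, map_one, one_mul]
      rfl
    · refine ⟨∅, Set.finite_empty, ?_⟩
      intro A₁ _ _ _ _ _
      exact ⟨0, Ideal.zero_mem _, map_zero _⟩
    · rintro y y' _ _ ⟨Z, hZ, h⟩ ⟨Z', hZ', h'⟩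
      refine ⟨Z ∪ Z', hZ.union hZ', ?_⟩
      intro A₁ _ _ _ _ hsub
      obtain ⟨b₁, hb₁, rfl⟩ := h A₁ (Set.subset_union_left.trans hsub)
      obtain ⟨b₂, hb₂, rfl⟩ := h' A₁ (Set.subset_union_right.trans hsub)
      exact ⟨b₁ + b₂, Ideal.add_mem _ hb₁ hb₂, map_add _ _ _⟩
    · rintro b y _ ⟨Z, hZ, h⟩
      obtain ⟨Z', hZ', h'⟩ := exists_finset_lift (A := A) (B := B) A' B' b
      refine ⟨Z ∪ Z', hZ.union hZ', ?_⟩
      intro A₁ _ _ _ _ hsub
      obtain ⟨b₁, hb₁, rfl⟩ := h A₁ (Set.subset_union_left.trans hsub)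
      obtain ⟨b₂, rfl⟩ := h' A₁ (Set.subset_union_right.trans hsub)
      exact ⟨b₂ * b₁, Ideal.mul_mem_left _ _ hb₁, map_mul _ _ _⟩
  obtain ⟨Z, hZ, h⟩ := hmain
  refine ⟨insert s Z, hZ.insert s, ?_⟩
  intro A₁ _ _ _ _ hsub
  obtain ⟨s₁, rfl⟩ := hsub (Set.mem_insert _ _)
  obtain ⟨y₁, hy₁, rfl⟩ := h A₁ ((Set.subset_insert _ _).trans hsub)
  refine ⟨s₁, hs, ?_⟩
  have h1 : algebraMap A₁ (B ⊗[A] A₁) s₁ = (algebraMap A₁ (B ⊗[A] A₁) s₁ - y₁) + y₁ := by ring
  rw [h1]
  refine Ideal.add_mem _ (Ideal.mem_sup_left ?_) (Ideal.mem_sup_right hy₁)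
  change comparison (B := B) A₁ A' B' (algebraMap A₁ (B ⊗[A] A₁) s₁ - y₁) ∈ P
  rw [map_sub]
  have h2 : comparison (B := B) A₁ A' B' (algebraMap A₁ (B ⊗[A] A₁) s₁) = algebraMap A' B' (algebraMap A₁ A' s₁) := by
    change (comparison (B := B) A₁ A' B') (1 ⊗ₜ s₁) = _
    rw [comparison, Algebra.TensorProduct.lift_tmul, map_one, one_mul]
    rfl
  rw [h2, ← hxy, add_sub_cancel_right]
  exact hx

end

end Groth.Agent.Flat2B.Impurity
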