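import Groth.Agent.Flat2B.RelAss
import Groth.Agent.Flat2B.Impurity
import Mathlib.RingTheory.Filtration
import Mathlib.RingTheory.Flat.Stability

set_option autoImplicit false
universe u

namespace Groth.Agent.Flat2B.FibreSpread

open TensorProduct

attribute [local instance] Algebra.TensorProduct.rightAlgebra

section

variable {R S : Type u} [CommRing R] [CommRing S] [Algebra R S]

/-- kernel of the map to the fibre module -/
theorem toFiberMod_eq_zero_iff (p : Ideal R) [p.IsPrime] (N : Type u) [AddCommGroup N] [Module S N] [Module R N]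
    [IsScalarTower R S N] (n : N) :
    FlatCA.toFiberMod p S N n = 0 ↔ (1 : p.ResidueField) ⊗ₜ[R] n = 0 := by
  let e := Algebra.IsPushout.cancelBaseChange R p.ResidueField S (p.Fiber S) N
  have h : e ((1 : p.Fiber S) ⊗ₜ[S] n) = 1 ⊗ₜ[R] n := Algebra.IsPushout.cancelBaseChange_tmul R p.ResidueField S (p.Fiber S) N n
  rw [← h, e.map_eq_zero_iff]
  rfl

theorem exists_smul_eq_one_tmul (p : Ideal R) [p.IsPrime] (N : Type u) [AddCommGroup N] [Module R N]
    (z : p.ResidueField ⊗[R] N) : ∃ r : R, r ∉ p ∧ ∃ n : N, r • z = (1 : p.ResidueField) ⊗ₜ[R] n := by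
  induction z with
  | zero => exact ⟨1, p.primeCompl.one_mem, 0, by simp⟩
  | add x y hx hy =>
    obtain ⟨r, hr, n, h⟩ := hx
    obtain ⟨r', hr', n', h'⟩ := hy
    refine ⟨r * r', p.primeCompl.mul_mem hr hr', r' • n + r • n', ?_⟩
    rw [smul_add, TensorProduct.tmul_add, TensorProduct.tmul_smul, TensorProduct.tmul_smul, ← h, ← h', smul_smul, smul_smul,
      mul_comm r' r]
  | tmul c m =>
    obtain ⟨a, s, hs, rfl⟩ := IsFractionRing.div_surjective (A := R ⧸ p) c
    obtain ⟨a, rfl⟩ := Ideal.Quotient.mk_surjective a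
    obtain ⟨s, rfl⟩ := Ideal.Quotient.mk_surjective s
    have hs' : s ∉ p := by
      intro h
      exact nonZeroDivisors.ne_zero hs (Ideal.Quotient.eq_zero_iff_mem.mpr h)
    refine ⟨s, hs', a • m, ?_⟩
    have h0 : algebraMap (R ⧸ p) p.ResidueField (Ideal.Quotient.mk p s) ≠ 0 := by
      intro h
      exact nonZeroDivisors.ne_zero hs ((map_eq_zero_iff _ (IsFractionRing.injective (R ⧸ p) p.ResidueField)).mp h)
    rw [TensorProduct.smul_tmul', TensorProduct.tmul_smul, TensorProduct.smul_tmul']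
    congr 1
    rw [Algebra.smul_def, Algebra.smul_def, mul_one, IsScalarTower.algebraMap_apply R (R ⧸ p) p.ResidueField,
      IsScalarTower.algebraMap_apply R (R ⧸ p) p.ResidueField]
    change algebraMap (R ⧸ p) p.ResidueField (Ideal.Quotient.mk p s) * _ = algebraMap (R ⧸ p) p.ResidueField (Ideal.Quotient.mk p a)
    field_simp

/-- over a Noetherian fibre ring a relatively associated prime is the annihilator of the image of an element of `N` -/
theorem exists_elem_of_relAss (p : Ideal R) [p.IsPrime] (N : Type u) [AddCommGroup N] [Module S N] [Module R N]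
    [IsScalarTower R S N] [IsNoetherianRing (p.Fiber S)] (P : Ideal S) [P.IsPrime] [P.LiesOver p]
    (hP : FlatCA.fiberIdeal p P ∈ associatedPrimes (p.Fiber S) (FlatCA.fiberMod p S N)) :
    ∃ n : N, ∀ b : S, b ∈ P ↔ (1 : p.ResidueField) ⊗ₜ[R] (b • n) = 0 := by
  obtain ⟨-, y, hy⟩ := isAssociatedPrime_iff.mp hP
  let e := Algebra.IsPushout.cancelBaseChange R p.ResidueField S (p.Fiber S) N
  obtain ⟨r, hr, n, hn⟩ := exists_smul_eq_one_tmul p N (e y)
  have hrn : FlatCA.toFiberMod p S N n = algebraMap p.ResidueField (p.Fiber S) (algebraMap R p.ResidueField r) • y := by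
    apply e.injective
    have h : e ((1 : p.Fiber S) ⊗ₜ[S] n) = 1 ⊗ₜ[R] n := Algebra.IsPushout.cancelBaseChange_tmul R p.ResidueField S (p.Fiber S) N n
    change e ((1 : p.Fiber S) ⊗ₜ[S] n) = _
    rw [h, ← hn]
    have h2 : ∀ (c : p.ResidueField) (y : (p.Fiber S) ⊗[S] N), e ((algebraMap p.ResidueField (p.Fiber S) c) • y) = c • e y := by
      intro c y
      rw [algebraMap_smul, map_smul]
    exact ((h2 _ y).trans (algebraMap_smul p.ResidueField r (e y))).symm
  refine ⟨n, fun b => ?_⟩
  rw [← toFiberMod_eq_zero_iff (S := S), map_smul, Flat2A.FiberAss.smul_fiberMod, hrn, smul_comm]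
  have hu : IsUnit (algebraMap p.ResidueField (p.Fiber S) (algebraMap R p.ResidueField r)) := by
    apply IsUnit.map
    apply IsUnit.mk0
    intro h0
    exact hr (by simpa using h0)
  rw [hu.smul_eq_zero, ← Flat2A.Fiber.one_tmul_mem_fiberIdeal_iff p P b, hy, Submodule.mem_colon_singleton]
  simp

end

/-- If `C → K` is injective and `C ⊗ N` is flat over `C` then `C ⊗ N → K ⊗ N` is injective. -/
theorem rTensor_injective_of_flat {R C K N : Type u} [CommRing R] [CommRing C] [CommRing K] [Algebra R C] [Algebra R K]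
    [Algebra C K] [IsScalarTower R C K] [AddCommGroup N] [Module R N] (hinj : Function.Injective (algebraMap C K))
    [Module.Flat C (C ⊗[R] N)] :
    Function.Injective (LinearMap.rTensor N (IsScalarTower.toAlgHom R C K).toLinearMap) := by
  -- conjugate with C ⊗[C] (C ⊗[R] N) → K ⊗[C] (C ⊗[R] N)
  let ψ : C ⊗[C] (C ⊗[R] N) →ₗ[C] K ⊗[C] (C ⊗[R] N) := LinearMap.rTensor (C ⊗[R] N) (Algebra.linearMap C K)
  have hψ : Function.Injective ψ := Module.Flat.rTensor_preserves_injective_linearMap _ hinj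
  let e₁ : C ⊗[C] (C ⊗[R] N) ≃ₗ[C] C ⊗[R] N := TensorProduct.AlgebraTensorModule.cancelBaseChange R C C C N
  let e₂ : K ⊗[C] (C ⊗[R] N) ≃ₗ[C] K ⊗[R] N := TensorProduct.AlgebraTensorModule.cancelBaseChange R C C K N
  have hcomm : ∀ z, LinearMap.rTensor N (IsScalarTower.toAlgHom R C K).toLinearMap (e₁ z) = e₂ (ψ z) := by
    intro z
    induction z with
    | zero => simp
    | add x y hx hy => simp only [map_add, hx, hy]
    | tmul c z =>
      induction z with
      | zero => simp
      | add x y hx hy => simp only [TensorProduct.tmul_add, map_add, hx, hy]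
      | tmul d n =>
        simp [e₁, e₂, ψ, Algebra.smul_def, mul_comm]
  intro x y hxy
  obtain ⟨x, rfl⟩ := e₁.surjective x
  obtain ⟨y, rfl⟩ := e₁.surjective y
  rw [hcomm, hcomm] at hxy
  rw [hψ (e₂.injective hxy)]

theorem one_tmul_eq_zero_of_flat {R C K N : Type u} [CommRing R] [CommRing C] [CommRing K] [Algebra R C] [Algebra R K]
    [Algebra C K] [IsScalarTower R C K] [AddCommGroup N] [Module R N] (hinj : Function.Injective (algebraMap C K))
    [Module.Flat C (C ⊗[R] N)] (n : N) (h : (1 : K) ⊗ₜ[R] n = 0) : (1 : C) ⊗ₜ[R] n = 0 := by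
  apply rTensor_injective_of_flat (N := N) hinj
  rw [map_zero, LinearMap.rTensor_tmul]
  simpa using h

theorem one_tmul_eq_zero_of_map {R C K N : Type u} [CommRing R] [CommRing C] [CommRing K] [Algebra R C] [Algebra R K]
    [Algebra C K] [IsScalarTower R C K] [AddCommGroup N] [Module R N] (n : N) (h : (1 : C) ⊗ₜ[R] n = 0) :
    (1 : K) ⊗ₜ[R] n = 0 := by
  have := congrArg (LinearMap.rTensor N (IsScalarTower.toAlgHom R C K).toLinearMap) h
  rw [map_zero, LinearMap.rTensor_tmul] at this
  simpa using this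

/-- Krull intersection for free modules over a Noetherian local ring: a submodule `W` contained in `𝔪 W` vanishes. -/
theorem eq_bot_of_le_maximalIdeal_smul {C F : Type u} [CommRing C] [IsLocalRing C] [IsNoetherianRing C] [AddCommGroup F]
    [Module C F] [Module.Free C F] (W : Submodule C F) (hW : W ≤ IsLocalRing.maximalIdeal C • W) : W = ⊥ := by
  have h1 : ∀ k : ℕ, W ≤ (IsLocalRing.maximalIdeal C) ^ k • W := by
    intro k
    induction k with
    | zero => simp
    | succ k ih =>
      refine hW.trans ?_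
      rw [pow_succ', mul_smul]
      exact smul_mono_right _ ih
  let b := Module.Free.chooseBasis C F
  rw [eq_bot_iff]
  intro w hw
  rw [Submodule.mem_bot]
  apply b.repr.injective
  ext i
  rw [map_zero, Finsupp.zero_apply]
  have h2 : ∀ k : ℕ, b.repr w i ∈ (IsLocalRing.maximalIdeal C) ^ k := by
    intro k
    have h3 : w ∈ (IsLocalRing.maximalIdeal C) ^ k • (⊤ : Submodule C F) := (smul_mono_right _ le_top : _ ≤ (IsLocalRing.maximalIdeal C) ^ k • (⊤ : Submodule C F)) (h1 k hw)
    have h4 := Submodule.mem_map_of_mem (f := b.coord i) h3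
    rw [Submodule.map_smul''] at h4
    refine (Submodule.smul_le.mpr ?_ : _ ≤ (IsLocalRing.maximalIdeal C) ^ k) h4
    intro r hr n _
    exact Ideal.mul_mem_right _ _ hr
  have h5 := Ideal.iInf_pow_eq_bot_of_isLocalRing (IsLocalRing.maximalIdeal C) (IsLocalRing.maximalIdeal.isMaximal C).ne_top
  have h6 : b.repr w i ∈ (⨅ k : ℕ, (IsLocalRing.maximalIdeal C) ^ k) := by
    rw [Ideal.mem_iInf]
    exact h2
  rw [h5] at h6
  exact h6

/-- No impurity when the module becomes free over a Noetherian local ring between `A'` and `κ(t')` centred at `t`. -/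
theorem not_misses_of_free {A' B' N' : Type u} [CommRing A'] [CommRing B'] [Algebra A' B'] [AddCommGroup N'] [Module B' N']
    [Module A' N'] [IsScalarTower A' B' N'] (t' t : Ideal A') [t'.IsPrime] [t.IsPrime] (P : Ideal B') [P.IsPrime] [P.LiesOver t']
    [IsNoetherianRing (t'.Fiber B')]
    (hP : FlatCA.fiberIdeal t' P ∈ associatedPrimes (t'.Fiber B') (FlatCA.fiberMod t' B' N'))
    (hcl : ∀ (P' : Ideal B') [P'.IsPrime], P ≤ P' → ¬ P'.LiesOver t)
    (C : Type u) [CommRing C] [IsLocalRing C] [IsNoetherianRing C] [Algebra A' C] [Algebra C t'.ResidueField]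
    [IsScalarTower A' C t'.ResidueField] (hinj : Function.Injective (algebraMap C t'.ResidueField))
    (ht : (IsLocalRing.maximalIdeal C).comap (algebraMap A' C) = t) [Module.Free C (C ⊗[A'] N')] : False := by
  obtain ⟨n, hn⟩ := exists_elem_of_relAss t' N' P hP
  obtain ⟨s, hs, hmem⟩ := (Flat2B.Impurity.misses_iff t P).mp hcl
  obtain ⟨x, hx, y, hy, hxy⟩ := Submodule.mem_sup.mp hmem
  let W : Submodule C (C ⊗[A'] N') := Submodule.span C (Set.range fun b : B' => (1 : C) ⊗ₜ[A'] (b • n))
  have hgen : ∀ b : B', (1 : C) ⊗ₜ[A'] (b • n) ∈ W := fun b => Submodule.subset_span ⟨b, rfl⟩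
  have hyW : ∀ y ∈ t.map (algebraMap A' B'), ∀ b : B', (1 : C) ⊗ₜ[A'] ((y * b) • n) ∈ IsLocalRing.maximalIdeal C • W := by
    intro y hy
    refine Submodule.span_induction (p := fun y _ => ∀ b : B', (1 : C) ⊗ₜ[A'] ((y * b) • n) ∈ IsLocalRing.maximalIdeal C • W)
      ?_ ?_ ?_ ?_ hy
    · rintro _ ⟨a, ha, rfl⟩ b
      rw [mul_smul, algebraMap_smul, TensorProduct.tmul_smul, ← algebraMap_smul C a]
      refine Submodule.smul_mem_smul ?_ (hgen b)
      rw [← ht] at ha
      exact ha
    · intro b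
      simp
    · intro y₁ y₂ _ _ h₁ h₂ b
      rw [add_mul, add_smul, TensorProduct.tmul_add]
      exact Submodule.add_mem _ (h₁ b) (h₂ b)
    · intro c y _ h b
      have : (c • y) * b = y * (c * b) := by rw [smul_eq_mul]; ring
      rw [this]
      exact h (c * b)
  have hW : W ≤ IsLocalRing.maximalIdeal C • W := by
    rw [Submodule.span_le]
    rintro _ ⟨b, rfl⟩
    have hu : IsUnit (algebraMap A' C s) := by
      by_contra hu
      apply hs
      rw [← ht]
      exact (IsLocalRing.mem_maximalIdeal _).mpr hu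
    have h1 : (algebraMap A' C s) • ((1 : C) ⊗ₜ[A'] (b • n)) ∈ IsLocalRing.maximalIdeal C • W := by
      rw [algebraMap_smul, ← TensorProduct.tmul_smul, ← algebraMap_smul B' s, smul_smul, ← hxy, add_mul, add_smul,
        TensorProduct.tmul_add]
      refine Submodule.add_mem _ ?_ (hyW y hy b)
      have h2 : (1 : C) ⊗ₜ[A'] ((x * b) • n) = 0 := by
        apply one_tmul_eq_zero_of_flat hinj
        exact (hn _).mp (Ideal.mul_mem_right _ _ hx)
      rw [h2]
      exact Submodule.zero_mem _
    change (1 : C) ⊗ₜ[A'] (b • n) ∈ _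
    obtain ⟨v, hv⟩ := hu
    have h3 := Submodule.smul_mem _ ((v⁻¹ : Cˣ) : C) h1
    rwa [smul_smul, ← hv, Units.inv_mul, one_smul] at h3
  have hbot := eq_bot_of_le_maximalIdeal_smul W hW
  have h1 : (1 : C) ⊗ₜ[A'] n = 0 := by
    have := hgen 1
    rwa [hbot, Submodule.mem_bot, one_smul] at this
  have h2 : (1 : B') ∈ P := by
    rw [hn, one_smul]
    exact one_tmul_eq_zero_of_map n h1
  exact (inferInstance : P.IsPrime).ne_top (P.eq_top_of_isUnit_mem h2 isUnit_one)

/-- If `z` is a prime of `A'` such that `A' → κ(z)` factors through `C`, `C ⊗ N'` is free over `C` with basis coordinate of `n`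
not vanishing at `z`, then some relatively associated prime over `z` contains `P`. -/
theorem exists_relAss_over {A' B' N' : Type u} [CommRing A'] [CommRing B'] [Algebra A' B'] [AddCommGroup N'] [Module B' N']
    [Module A' N'] [IsScalarTower A' B' N'] (t' : Ideal A') [t'.IsPrime] (P : Ideal B') [P.IsPrime]
    (n : N') (hn : ∀ b : B', b ∈ P → (1 : t'.ResidueField) ⊗ₜ[A'] (b • n) = 0)
    (C : Type u) [CommRing C] [Algebra A' C] [Algebra C t'.ResidueField]
    [IsScalarTower A' C t'.ResidueField] (hinj : Function.Injective (algebraMap C t'.ResidueField))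
    [Module.Free C (C ⊗[A'] N')] (z : Ideal A') [z.IsPrime] [IsNoetherianRing (z.Fiber B')]
    [Algebra C z.ResidueField] [IsScalarTower A' C z.ResidueField] (φ : C ⊗[A'] N' →ₗ[C] C)
    (hφ : algebraMap C z.ResidueField (φ (1 ⊗ₜ n)) ≠ 0) :
    ∃ ξ : Ideal B', ξ.IsPrime ∧ P ≤ ξ ∧ ξ.LiesOver z ∧
      FlatCA.fiberIdeal z ξ ∈ associatedPrimes (z.Fiber B') (FlatCA.fiberMod z B' N') := by
  -- the image of n in the fibre over z is nonzero
  have hne : FlatCA.toFiberMod z B' N' n ≠ 0 := by
    rw [Ne, toFiberMod_eq_zero_iff]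
    intro h0
    -- κ(z) ⊗ N' → κ(z)
    let ψ : N' →ₗ[A'] z.ResidueField :=
      ((IsScalarTower.toAlgHom A' C z.ResidueField).toLinearMap ∘ₗ (φ.restrictScalars A')) ∘ₗ (TensorProduct.mk A' C N' 1)
    let Ψ : z.ResidueField ⊗[A'] N' →ₗ[z.ResidueField] z.ResidueField := LinearMap.liftBaseChange z.ResidueField ψ
    have h1 : Ψ (1 ⊗ₜ n) = ψ n := by simp [Ψ]
    rw [h0, map_zero] at h1
    exact hφ h1.symm
  have hP0 : ∀ b ∈ P, FlatCA.toFiberMod z B' N' (b • n) = 0 := by
    intro b hb
    rw [toFiberMod_eq_zero_iff]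
    exact one_tmul_eq_zero_of_map _ (one_tmul_eq_zero_of_flat hinj _ (hn b hb))
  let y := FlatCA.toFiberMod z B' N' n
  let W : Submodule (z.Fiber B') (FlatCA.fiberMod z B' N') := Submodule.span (z.Fiber B') {y}
  have hWn : Nontrivial W := by
    refine ⟨⟨⟨y, Submodule.mem_span_singleton_self y⟩, 0, ?_⟩⟩
    intro h
    exact hne (congrArg Subtype.val h)
  obtain ⟨Q, hQ⟩ := associatedPrimes.nonempty (z.Fiber B') W
  have hQ' : Q ∈ associatedPrimes (z.Fiber B') (FlatCA.fiberMod z B' N') :=
    associatedPrimes.subset_of_injective (f := W.subtype) W.injective_subtype hQ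
  have hQp : Q.IsPrime := hQ.1
  refine ⟨Q.comap (Flat2A.FiberAss.toFiber z B'), inferInstance, ?_, Flat2A.FiberAss.liesOver_of_comap z Q hQp.ne_top, ?_⟩
  · intro b hb
    rw [Ideal.mem_comap]
    refine IsAssociatedPrime.annihilator_le hQ ?_
    rw [Submodule.mem_annihilator]
    rintro ⟨w, hw⟩ -
    obtain ⟨c, rfl⟩ := Submodule.mem_span_singleton.mp hw
    apply Subtype.ext
    change (Flat2A.FiberAss.toFiber z B' b) • (c • y) = 0
    rw [smul_comm, ← Flat2A.FiberAss.smul_fiberMod]
    have : b • y = 0 := by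
      have := hP0 b hb
      rwa [map_smul] at this
    rw [this, smul_zero]
  · have := Flat2A.Fiber.fiberIdeal_comap z Q
    rw [this]
    exact hQ'

end Groth.Agent.Flat2B.FibreSpread
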