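import Groth.Agent.Flat2B.FlatFun
import Groth.Agent.Flat2C.FiberBC
import Groth.Agent.S1201
import Mathlib.RingTheory.Unramified.LocalStructure
import Mathlib.RingTheory.Etale.Basic

/-!
# Flatness in dimensions `≥ n` and flat quasi-finite (etale) covers of the source
-/

set_option autoImplicit false
universe u

namespace Groth.Agent.Flat2B.FlatSource

open TensorProduct FlatDim FlatFun

/-- Comparison of the rings of models of base changes along `A → A₁ → A₂`. -/
theorem exists_map_rings {A B A₁ B₁ A₂ B₂ : Type u} [CommRing A] [CommRing B] [CommRing A₁]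
    [CommRing B₁] [CommRing A₂] [CommRing B₂] [Algebra A B] [Algebra A A₁] [Algebra A A₂]
    [Algebra A₁ A₂] [IsScalarTower A A₁ A₂]
    [Algebra B B₁] [Algebra A₁ B₁] [Algebra A B₁] [IsScalarTower A B B₁] [IsScalarTower A A₁ B₁]
    [Algebra.IsPushout A B A₁ B₁]
    [Algebra B B₂] [Algebra A₂ B₂] [Algebra A B₂] [IsScalarTower A B B₂] [IsScalarTower A A₂ B₂]
    [Algebra.IsPushout A B A₂ B₂] :
    ∃ (_ : Algebra B₁ B₂) (_ : Algebra A₁ B₂) (_ : IsScalarTower A₁ A₂ B₂)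
      (_ : IsScalarTower A₁ B₁ B₂) (_ : IsScalarTower B B₁ B₂), Algebra.IsPushout A₁ B₁ A₂ B₂ := by
  let a1 : Algebra A₁ B₂ := ((algebraMap A₂ B₂).comp (algebraMap A₁ A₂)).toAlgebra
  have t1 : IsScalarTower A₁ A₂ B₂ := .of_algebraMap_eq fun _ => rfl
  have t2 : IsScalarTower A A₁ B₂ := .of_algebraMap_eq fun x => by
    rw [IsScalarTower.algebraMap_apply A A₂ B₂, IsScalarTower.algebraMap_apply A A₁ A₂,
      IsScalarTower.algebraMap_apply A₁ A₂ B₂]
  let φ : B₁ →ₐ[A] B₂ := Algebra.pushoutDesc B₁ (IsScalarTower.toAlgHom A B B₂)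
    (IsScalarTower.toAlgHom A A₁ B₂) (fun _ _ => mul_comm _ _)
  let a2 : Algebra B₁ B₂ := φ.toRingHom.toAlgebra
  have t3 : IsScalarTower B B₁ B₂ := .of_algebraMap_eq fun x =>
    (Algebra.pushoutDesc_left B₁ (IsScalarTower.toAlgHom A B B₂)
      (IsScalarTower.toAlgHom A A₁ B₂) (fun _ _ => mul_comm _ _) x).symm
  have t4 : IsScalarTower A₁ B₁ B₂ := .of_algebraMap_eq fun x =>
    (Algebra.pushoutDesc_right B₁ (IsScalarTower.toAlgHom A B B₂)
      (IsScalarTower.toAlgHom A A₁ B₂) (fun _ _ => mul_comm _ _) x).symm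
  have t5 : IsScalarTower A B₁ B₂ := .of_algebraMap_eq fun x => (φ.commutes x).symm
  have p1 : Algebra.IsPushout A A₁ B B₁ := .symm inferInstance
  have p2 : Algebra.IsPushout A A₂ B B₂ := .symm inferInstance
  have p3 : Algebra.IsPushout A₁ A₂ B₁ B₂ :=
    (Algebra.IsPushout.comp_iff (R := A) (S := A₁) (R' := B) (S' := B₁) (T := A₂) (T' := B₂)).1 p2
  exact ⟨a2, a1, t1, t4, t3, p3.symm⟩

section Source

variable {A B C N Nc : Type u} [CommRing A] [CommRing B] [CommRing C] [Algebra A B] [Algebra B C]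
  [Algebra A C] [IsScalarTower A B C] [AddCommGroup N] [Module B N] [AddCommGroup Nc] [Module C Nc]
  [Module B Nc] [IsScalarTower B C Nc]

/-- Flatness in dimensions `≥ n` passes to flat quasi-finite `B → C`. -/
theorem flatInDimGE_source {n : ℕ} [Module A N] [IsScalarTower A B N] [Module A Nc]
    [IsScalarTower A C Nc] [Module.Flat B C]
    [Algebra.QuasiFinite B C] (g : N →ₗ[B] Nc) (hg : IsBaseChange C g)
    (h : FlatCA.FlatInDimGE n A B N) : FlatCA.FlatInDimGE n A C Nc := by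
  rw [flatInDimGE_iff] at h ⊢
  intro t Q' _ _ _ hQ'
  let Q := Q'.under B
  have : Q.LiesOver t := ⟨by
    change t = (Q'.under B).under A
    rw [Ideal.under_under, Ideal.over_def Q' t]⟩
  rw [rtd_add t Q Q', rtd_eq_zero_of_quasiFinite Q Q', add_zero]
  refine h t Q fun h1 => hQ' ?_
  rwa [← Flat2C.FlatAt.flatAt_iff_of_isBaseChange (R := A) g Q Q' hg]

end Source

section Cover

/-- All relative associated primes of `N` over `A` lie in the image of some `Spec (C i)`. -/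
def AssCovered (A B N : Type u) [CommRing A] [CommRing B] [Algebra A B] [AddCommGroup N]
    [Module B N] [Module A N] [IsScalarTower A B N] {ι : Type*} (C : ι → Type u)
    [∀ i, CommRing (C i)] [∀ i, Algebra B (C i)] : Prop :=
  ∀ (t : Ideal A) (Q : Ideal B) [t.IsPrime] [Q.IsPrime] [Q.LiesOver t],
    FlatCA.fiberIdeal t Q ∈ associatedPrimes (t.Fiber B) (FlatCA.fiberMod t B N) →
      ∃ (i : ι) (Q' : Ideal (C i)), Q'.IsPrime ∧ Q'.LiesOver Q

variable {A B N : Type u} [CommRing A] [CommRing B] [Algebra A B] [AddCommGroup N]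
  [Module B N] [Module A N] [IsScalarTower A B N] {ι : Type*} {C : ι → Type u}
  [∀ i, CommRing (C i)] [∀ i, Algebra B (C i)] [∀ i, Algebra A (C i)]
  [∀ i, IsScalarTower A B (C i)] {Nc : ι → Type u} [∀ i, AddCommGroup (Nc i)]
  [∀ i, Module (C i) (Nc i)] [∀ i, Module B (Nc i)] [∀ i, IsScalarTower B (C i) (Nc i)]
  [∀ i, Module A (Nc i)] [∀ i, IsScalarTower A (C i) (Nc i)]

/-- Flatness in dimensions `≥ n` can be checked on flat `C i` covering the relative associated
primes. -/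
theorem flatInDimGE_of_cover {n : ℕ} [Algebra.FiniteType A B] [Module.Finite B N]
    [∀ i, Module.Flat B (C i)] (hcov : AssCovered A B N C) (g : ∀ i, N →ₗ[B] Nc i)
    (hg : ∀ i, IsBaseChange (C i) (g i)) (h : ∀ i, FlatCA.FlatInDimGE n A (C i) (Nc i)) :
    FlatCA.FlatInDimGE n A B N := by
  rw [flatInDimGE_iff]
  intro t Q _ _ _ hQ
  have h1 := (Groth.Agent.S1201.result N t Q).not.1 hQ
  push Not at h1
  obtain ⟨q', hq', hle, hover, hass, hflat⟩ := h1
  obtain ⟨i, Q', hQ', hover'⟩ := hcov t q' hass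
  have : Q'.LiesOver t := .trans Q' q' t
  have h2 := h i
  rw [flatInDimGE_iff] at h2
  have h3 := h2 t Q' fun h4 => hflat
    ((Flat2C.FlatAt.flatAt_iff_of_isBaseChange (R := A) (g i) q' Q' (hg i)).2 h4)
  rw [rtd_add t q' Q'] at h3
  exact ((rtd_le_of_le t q' Q hle).trans (self_le_add_right _ _)).trans_lt h3

end Cover

section Models

/-- Comparison of the models over `R` of `(B, N)` and of `(C, C ⊗ N)`. -/
theorem exists_source_models {A B C R B₂ C₂ N Nc N₂ NC₂ : Type u} [CommRing A] [CommRing B]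
    [CommRing C] [CommRing R] [CommRing B₂] [CommRing C₂] [Algebra A B] [Algebra A C] [Algebra B C]
    [IsScalarTower A B C] [Algebra A R]
    [Algebra B B₂] [Algebra R B₂] [Algebra A B₂] [IsScalarTower A B B₂] [IsScalarTower A R B₂]
    [Algebra.IsPushout A B R B₂]
    [Algebra C C₂] [Algebra R C₂] [Algebra A C₂] [IsScalarTower A C C₂] [IsScalarTower A R C₂]
    [Algebra.IsPushout A C R C₂]
    [AddCommGroup N] [Module B N] [AddCommGroup Nc] [Module C Nc] [Module B Nc]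
    [IsScalarTower B C Nc] [AddCommGroup N₂] [Module B₂ N₂] [Module B N₂] [IsScalarTower B B₂ N₂]
    [AddCommGroup NC₂] [Module C₂ NC₂] [Module C NC₂] [IsScalarTower C C₂ NC₂]
    (g : N →ₗ[B] Nc) (hg : IsBaseChange C g) (f₂ : N →ₗ[B] N₂) (hf₂ : IsBaseChange B₂ f₂)
    (fc : Nc →ₗ[C] NC₂) (hfc : IsBaseChange C₂ fc) :
    ∃ (_ : Algebra B₂ C₂) (_ : Algebra B C₂) (_ : IsScalarTower B C C₂) (_ : IsScalarTower B B₂ C₂)
      (_ : IsScalarTower R B₂ C₂) (_ : Algebra.IsPushout B B₂ C C₂) (_ : Module B₂ NC₂)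
      (_ : IsScalarTower B₂ C₂ NC₂) (g₂ : N₂ →ₗ[B₂] NC₂), IsBaseChange C₂ g₂ := by
  have p1 : Algebra.IsPushout A R B B₂ := .symm inferInstance
  have p2 : Algebra.IsPushout A R C C₂ := .symm inferInstance
  obtain ⟨a1, a2, t1, t2, t3, p3⟩ := exists_map_rings (A := A) (B := R) (A₁ := B) (B₁ := B₂)
    (A₂ := C) (B₂ := C₂)
  let m1 : Module B₂ NC₂ := Module.compHom NC₂ (algebraMap B₂ C₂)
  have t6 : IsScalarTower B₂ C₂ NC₂ := .of_algebraMap_smul fun _ _ => rfl
  let m2 : Module B NC₂ := Module.compHom NC₂ (algebraMap B C)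
  have t7 : IsScalarTower B C NC₂ := .of_algebraMap_smul fun _ _ => rfl
  have t8 : IsScalarTower B C₂ NC₂ := .of_algebraMap_smul fun b x => by
    rw [IsScalarTower.algebraMap_apply B C C₂, algebraMap_smul C₂ (algebraMap B C b) x]
    rfl
  have t9 : IsScalarTower B B₂ NC₂ := .of_algebraMap_smul fun b x => by
    rw [← algebraMap_smul C₂ b x, IsScalarTower.algebraMap_apply B B₂ C₂]
    rfl
  let F : N →ₗ[B] NC₂ := fc.restrictScalars B ∘ₗ g
  have hF : IsBaseChange C₂ F := IsBaseChange.comp hg hfc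
  let g₂ : N₂ →ₗ[B₂] NC₂ := hf₂.lift F
  have hg₂ : g₂.restrictScalars B ∘ₗ f₂ = F := hf₂.lift_comp F
  refine ⟨a1, a2, t1, t2, t3, p3, m1, t6, g₂, ?_⟩
  refine IsBaseChange.of_comp hf₂ (h := g₂) ?_
  rw [hg₂]
  exact hF

variable {A B N : Type u} [CommRing A] [CommRing B] [Algebra A B] [AddCommGroup N]
  [Module B N]

/-- `FlatP` passes to etale (flat quasi-finite) `B → C`. -/
theorem flatP_source {C Nc : Type u} [CommRing C] [Algebra B C] [Algebra A C] [IsScalarTower A B C]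
    [AddCommGroup Nc] [Module C Nc] [Module B Nc] [IsScalarTower B C Nc] {n : ℕ}
    [Module.Flat B C] [Algebra.QuasiFinite B C] (g : N →ₗ[B] Nc) (hg : IsBaseChange C g)
    {R : Type u} [CommRing R] [Algebra A R] (h : FlatP n A B N R) : FlatP n A C Nc R := by
  intro C₂ NC₂ _ _ _ _ _ _ _ _ _ _ _ _ _ fc hfc
  obtain ⟨B₂, N₂, _, _, _, _, _, _, _, _, _, _, _, _, _, f₂, hf₂⟩ :=
    PushModel.exists_models (R := A) (S := B) (A := R) N
  obtain ⟨a1, a2, t1, t2, t3, p, m, t4, g₂, hg₂⟩ := exists_source_models (A := A) (R := R)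
    g hg f₂ hf₂ fc hfc
  have p' : Algebra.IsPushout B C B₂ C₂ := p.symm
  have : Module.Flat B₂ C₂ := Module.Flat.isBaseChange B B₂ C C₂ p.out
  have : Algebra.QuasiFinite B₂ C₂ := by
    have h1 : Algebra.QuasiFinite B₂ (B₂ ⊗[B] C) := inferInstance
    exact (Algebra.QuasiFinite.iff_of_algEquiv (Algebra.IsPushout.equiv B B₂ C C₂)).1 h1
  exact flatInDimGE_source g₂ hg₂ (h B₂ N₂ f₂ hf₂)

/-- `FlatP` can be checked on flat `C i` covering the relative associated primes. -/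
theorem flatP_of_cover [Module A N] [IsScalarTower A B N] [Algebra.FiniteType A B]
    [Module.Finite B N] {ι : Type*} {C : ι → Type u} [∀ i, CommRing (C i)]
    [∀ i, Algebra B (C i)] [∀ i, Algebra A (C i)] [∀ i, IsScalarTower A B (C i)]
    {Nc : ι → Type u} [∀ i, AddCommGroup (Nc i)] [∀ i, Module (C i) (Nc i)]
    [∀ i, Module B (Nc i)] [∀ i, IsScalarTower B (C i) (Nc i)] {n : ℕ}
    [∀ i, Module.Flat B (C i)] (hcov : AssCovered A B N C) (g : ∀ i, N →ₗ[B] Nc i)
    (hg : ∀ i, IsBaseChange (C i) (g i))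
    {R : Type u} [CommRing R] [Algebra A R] (h : ∀ i, FlatP n A (C i) (Nc i) R) :
    FlatP n A B N R := by
  intro B₂ N₂ _ _ _ _ _ _ _ _ _ _ _ _ _ f₂ hf₂
  rw [flatInDimGE_iff]
  intro t₂ Q₂ _ _ _ hQ₂
  have : Algebra.IsPushout A R B B₂ := .symm inferInstance
  have : Algebra.FiniteType R B₂ :=
    (Algebra.FiniteType.baseChange R : Algebra.FiniteType R (R ⊗[A] B)).equiv
      (Algebra.IsPushout.equiv A R B B₂)
  have : Module.Finite B₂ N₂ := by
    have : Module.Finite B₂ (B₂ ⊗[B] N) := inferInstance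
    exact Module.Finite.equiv hf₂.equiv
  have h1 := (Groth.Agent.S1201.result N₂ t₂ Q₂).not.1 hQ₂
  push Not at h1
  obtain ⟨q₂, hq₂, hle, hover, hass, hflat⟩ := h1
  let t := t₂.under A
  let q := q₂.under B
  have : q.LiesOver t := ⟨by
    change t₂.under A = (q₂.under B).under A
    rw [Ideal.under_under, Ideal.over_def q₂ t₂, Ideal.under_under]⟩
  have hass' := Flat2C.FiberBC.ass_descent (A₁ := A) (B₁ := B) t t₂ N N₂ f₂ hf₂ q₂ hass
  obtain ⟨i, Q', _, _⟩ := hcov t q hass'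
  obtain ⟨C₂, NC₂, _, _, _, _, _, _, _, _, _, _, _, _, _, fc, hfc⟩ :=
    PushModel.exists_models (R := A) (S := C i) (A := R) (Nc i)
  obtain ⟨a1, a2, t1, t2, t3, p, m, t4, g₂, hg₂⟩ := exists_source_models (A := A) (R := R)
    (g i) (hg i) f₂ hf₂ fc hfc
  obtain ⟨Q'', _, _, _⟩ := EtaleNhd.exists_prime_of_isPushout (R := B) (S := B₂) (R' := C i)
    (S' := C₂) q q₂ Q'
  have : Module.Flat B₂ C₂ := Module.Flat.isBaseChange B B₂ (C i) C₂ p.out
  have : Q''.LiesOver t₂ := .trans Q'' q₂ t₂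
  have h2 := h i C₂ NC₂ fc hfc
  rw [flatInDimGE_iff] at h2
  have h3 := h2 t₂ Q'' fun h4 => hflat
    ((Flat2C.FlatAt.flatAt_iff_of_isBaseChange (R := R) g₂ q₂ Q'' hg₂).2 h4)
  rw [rtd_add t₂ q₂ Q''] at h3
  exact ((rtd_le_of_le t₂ q₂ Q₂ hle).trans (self_le_add_right _ _)).trans_lt h3

/-- `FlatP` on an etale cover of the relative associated primes. -/
theorem flatP_iff_forall [Module A N] [IsScalarTower A B N] [Algebra.FiniteType A B]
    [Module.Finite B N] {ι : Type*} {C : ι → Type u} [∀ i, CommRing (C i)]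
    [∀ i, Algebra B (C i)] [∀ i, Algebra A (C i)] [∀ i, IsScalarTower A B (C i)]
    {Nc : ι → Type u} [∀ i, AddCommGroup (Nc i)] [∀ i, Module (C i) (Nc i)]
    [∀ i, Module B (Nc i)] [∀ i, IsScalarTower B (C i) (Nc i)] {n : ℕ}
    [∀ i, Algebra.Etale B (C i)] (hcov : AssCovered A B N C) (g : ∀ i, N →ₗ[B] Nc i)
    (hg : ∀ i, IsBaseChange (C i) (g i))
    {R : Type u} [CommRing R] [Algebra A R] : FlatP n A B N R ↔ ∀ i, FlatP n A (C i) (Nc i) R :=
  ⟨fun h i => flatP_source (g i) (hg i) h, fun h => flatP_of_cover hcov g hg h⟩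

end Models

end Groth.Agent.Flat2B.FlatSource
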