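import Groth.Agent.Flat2B.Impurity
import Groth.Agent.Flat2C.PushoutPrimes
import Mathlib.RingTheory.QuasiFinite.Basic

set_option autoImplicit false
universe u

namespace Groth.Agent.Flat2B.ImpurityLift

open TensorProduct

attribute [local instance] Algebra.TensorProduct.rightAlgebra

/-- residue field extensions of quasi-finite algebras are integral -/
theorem residueField_isIntegral {A' V : Type u} [CommRing A'] [CommRing V] [Algebra A' V] [Algebra.QuasiFinite A' V]
    (t' : Ideal A') [t'.IsPrime] (v' : Ideal V) [v'.IsPrime] [hv : v'.LiesOver t'] :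
    (Ideal.ResidueField.mapₐ t' v' (Algebra.ofId A' V) hv.over).toRingHom.IsIntegral := by
  let _ : Algebra t'.ResidueField v'.ResidueField := (Ideal.ResidueField.mapₐ t' v' (Algebra.ofId A' V) hv.over).toRingHom.toAlgebra
  have _ : IsScalarTower A' t'.ResidueField v'.ResidueField := IsScalarTower.of_algebraMap_eq fun x =>
    ((Ideal.ResidueField.mapₐ t' v' (Algebra.ofId A' V) hv.over).commutes x).symm
  have h1 : Algebra.QuasiFinite A' v'.ResidueField := inferInstance
  have h2 : Algebra.QuasiFinite t'.ResidueField v'.ResidueField := .of_restrictScalars A' _ _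
  have h3 : Module.Finite t'.ResidueField v'.ResidueField := .of_quasiFinite
  exact (inferInstance : Algebra.IsIntegral t'.ResidueField v'.ResidueField).isIntegral

/-- lifting a relatively associated point along a quasi-finite base change -/
theorem exists_lift_relAss {A' B' N' V : Type u} [CommRing A'] [CommRing B'] [Algebra A' B'] [Algebra.FiniteType A' B']
    [AddCommGroup N'] [Module B' N'] [Module A' N'] [IsScalarTower A' B' N'] [CommRing V] [Algebra A' V]
    [Algebra.QuasiFinite A' V] (t' : Ideal A') [t'.IsPrime] (v' : Ideal V) [v'.IsPrime] [hv't : v'.LiesOver t']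
    (P : Ideal B') [P.IsPrime] [P.LiesOver t']
    (hP : FlatCA.fiberIdeal t' P ∈ associatedPrimes (t'.Fiber B') (FlatCA.fiberMod t' B' N')) :
    ∃ ζ : Ideal (B' ⊗[A'] V), ζ.IsPrime ∧ ζ.comap (algebraMap B' (B' ⊗[A'] V)) = P ∧ ζ.LiesOver v' ∧
      FlatCA.fiberIdeal v' ζ ∈ associatedPrimes (v'.Fiber (B' ⊗[A'] V))
        (FlatCA.fiberMod v' (B' ⊗[A'] V) ((B' ⊗[A'] V) ⊗[B'] N')) := by
  obtain ⟨ζ, hζ, hζP, hζv⟩ := Flat2C.PushoutPrimes.exists_prime_of_isPushout (R := A') (S := B') (T := V) (U := B' ⊗[A'] V) P v'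
    (by rw [← Ideal.under_def, ← Ideal.under_def, ← hv't.over]; exact (Ideal.LiesOver.over (P := P) (p := t')).symm)
  have hP' : P ∈ associatedPrimes B' (FlatCA.fiberMod t' B' N') :=
    (Flat2A.FiberAss.mem_associatedPrimes_fiberMod_iff t' N' P).mpr ⟨inferInstance, inferInstance, hP⟩
  have hζv' : ζ.LiesOver v' := ⟨hζv.symm⟩
  have hb2 : IsBaseChange (B' ⊗[A'] V) (TensorProduct.mk B' (B' ⊗[A'] V) N' 1) := TensorProduct.isBaseChange B' N' _
  have hζass := Flat2B.RelAss.relAss_lift (TensorProduct.mk B' (B' ⊗[A'] V) N' 1) hb2 t' v'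
    (residueField_isIntegral t' v') hP' ζ hζP
  exact ⟨ζ, hζ, hζP, hζv', ((Flat2A.FiberAss.mem_associatedPrimes_fiberMod_iff v' _ ζ).mp hζass).2.2⟩

section

variable {A B : Type u} [CommRing A] [CommRing B] [Algebra A B]

/-- going up for the comparison map of an integral base change -/
theorem exists_comap_comparison_eq (U V B₂ : Type u) [CommRing U] [CommRing V] [CommRing B₂] [Algebra A U] [Algebra A V]
    [Algebra U V] [IsScalarTower A U V] [Algebra B B₂] [Algebra V B₂] [Algebra A B₂] [IsScalarTower A B B₂]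
    [IsScalarTower A V B₂] [Algebra.IsPushout A B V B₂] [Algebra.IsIntegral U V]
    (P₁ : Ideal (B ⊗[A] U)) [P₁.IsPrime] (ζ : Ideal B₂) [ζ.IsPrime]
    (hle : ζ.comap (Impurity.comparison (A := A) (B := B) U V B₂).toRingHom ≤ P₁) :
    ∃ ζ' : Ideal B₂, ζ ≤ ζ' ∧ ζ'.IsPrime ∧ ζ'.comap (Impurity.comparison (A := A) (B := B) U V B₂).toRingHom = P₁ := by
  let B₁ := B ⊗[A] U
  let φ := Flat2B.Impurity.comparison (A := A) (B := B) U V B₂
  let _ : Algebra B₁ B₂ := φ.toRingHom.toAlgebra
  let _ : Algebra U B₂ := ((algebraMap V B₂).comp (algebraMap U V)).toAlgebra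
  have _ : IsScalarTower U V B₂ := IsScalarTower.of_algebraMap_eq fun x => rfl
  have _ : IsScalarTower U B₁ B₂ := IsScalarTower.of_algebraMap_eq fun x => by
    change _ = φ (1 ⊗ₜ x)
    simp only [φ, Flat2B.Impurity.comparison, Algebra.TensorProduct.lift_tmul, map_one, one_mul]
    rfl
  have _ : IsScalarTower B B₁ B₂ := IsScalarTower.of_algebraMap_eq fun x => by
    exact (φ.commutes x).symm
  have _ : IsScalarTower A U B₂ := IsScalarTower.of_algebraMap_eq fun x => by
    rw [IsScalarTower.algebraMap_apply U V B₂, ← IsScalarTower.algebraMap_apply A U V, ← IsScalarTower.algebraMap_apply A V B₂]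
  have _ : IsScalarTower A B₁ B₂ := IsScalarTower.of_algebraMap_eq fun x => by
    rw [IsScalarTower.algebraMap_apply A U B₁, ← IsScalarTower.algebraMap_apply U B₁ B₂, ← IsScalarTower.algebraMap_apply A U B₂]
  have hpo : Algebra.IsPushout A U B B₁ := Algebra.IsPushout.symm inferInstance
  have hpo' : Algebra.IsPushout A V B B₂ := Algebra.IsPushout.symm inferInstance
  have hpo2 : Algebra.IsPushout U V B₁ B₂ := (Algebra.IsPushout.comp_iff A U B B₁).mp hpo'
  have hpo3 : Algebra.IsPushout U B₁ V B₂ := Algebra.IsPushout.symm hpo2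
  have hint : Algebra.IsIntegral B₁ B₂ :=
    Algebra.IsIntegral.of_surjective (Algebra.IsPushout.equiv U B₁ V B₂).toAlgHom (Algebra.IsPushout.equiv U B₁ V B₂).surjective
  obtain ⟨Q, hQ1, hQ2, hQ3⟩ := Ideal.exists_ideal_over_prime_of_isIntegral P₁ ζ hle
  exact ⟨Q, hQ1, hQ2, hQ3⟩

end

/-- composition of base changes -/
theorem isScalarTower_tensor (A A' B' V : Type u) [CommRing A] [CommRing A'] [CommRing B'] [CommRing V]
    [Algebra A A'] [Algebra A' B'] [Algebra A B'] [IsScalarTower A A' B'] [Algebra A' V] [Algebra A V] [IsScalarTower A A' V] :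
    IsScalarTower A V (B' ⊗[A'] V) := IsScalarTower.of_algebraMap_eq fun x => by
  rw [IsScalarTower.algebraMap_apply A B' (B' ⊗[A'] V), IsScalarTower.algebraMap_apply A A' B', IsScalarTower.algebraMap_apply A A' V,
      ← IsScalarTower.algebraMap_apply A' B' (B' ⊗[A'] V), ← IsScalarTower.algebraMap_apply A' V (B' ⊗[A'] V)]

theorem isPushout_tensor (A A' B B' V : Type u) [CommRing A] [CommRing B] [CommRing A'] [CommRing B'] [CommRing V]
    [Algebra A B] [Algebra A A'] [Algebra B B'] [Algebra A' B'] [Algebra A B'] [IsScalarTower A B B'] [IsScalarTower A A' B']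
    [Algebra.IsPushout A B A' B'] [Algebra A' V] [Algebra A V] [IsScalarTower A A' V] [IsScalarTower A V (B' ⊗[A'] V)] :
    Algebra.IsPushout A B V (B' ⊗[A'] V) := by
  have hpo1 : Algebra.IsPushout A' B' V (B' ⊗[A'] V) := inferInstance
  have hpo2 : Algebra.IsPushout A A' B B' := Algebra.IsPushout.symm inferInstance
  have hpo3 : Algebra.IsPushout A V B (B' ⊗[A'] V) := (Algebra.IsPushout.comp_iff A A' B B').mpr (Algebra.IsPushout.symm hpo1)
  exact Algebra.IsPushout.symm hpo3

/-- Lift an impurity along a quasi-finite base change `A' → V` and push it forward along an integral `U → V`. -/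
theorem hasImpurity_of_lift_push {A B : Type u} [CommRing A] [CommRing B] [Algebra A B] [Algebra.FiniteType A B]
    {N : Type u} [AddCommGroup N] [Module B N] {p : Ideal A} [p.IsPrime]
    {Q : ∀ (A' : Type u) [CommRing A'] [Algebra A A'], Ideal A' → Prop}
    {A' B' N' : Type u} [CommRing A'] [CommRing B'] [Algebra A A'] [Algebra B B']
    [Algebra A' B'] [Algebra A B'] [IsScalarTower A B B'] [IsScalarTower A A' B']
    [AddCommGroup N'] [Module B' N'] [Module B N'] [IsScalarTower B B' N'] [Module A' N']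
    [IsScalarTower A' B' N'] (f : N →ₗ[B] N') [Algebra.IsPushout A B A' B'] (hf : IsBaseChange B' f)
    {t' t : Ideal A'} [t'.IsPrime] {P : Ideal B'} [P.IsPrime] [P.LiesOver t']
    (hP : FlatCA.fiberIdeal t' P ∈ associatedPrimes (t'.Fiber B') (FlatCA.fiberMod t' B' N'))
    (hcl : ∀ (P' : Ideal B') [P'.IsPrime], P ≤ P' → ¬ P'.LiesOver t)
    (U V : Type u) [CommRing U] [CommRing V] [Algebra A U] [Algebra A' V] [Algebra A V] [Algebra U V] [IsScalarTower A A' V]
    [IsScalarTower A U V] [Algebra.QuasiFinite A' V] [Algebra.IsIntegral U V] (u : Ideal U) [u.IsPrime] [u.LiesOver p]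
    (v' : Ideal V) [v'.IsPrime] [v'.LiesOver t'] (hv'u : v'.comap (algebraMap U V) ≤ u)
    (huniq : ∀ v'' : Ideal V, v''.IsPrime → v''.comap (algebraMap U V) = u → v''.comap (algebraMap A' V) = t)
    (hQ : Q U u) : FlatCA.HasImpurity A B N p Q := by
  have hftB : Algebra.FiniteType A' B' := Flat2B.RelAss.finiteType_of_isPushout (A₁ := A) (B₁ := B)
  obtain ⟨ζ, hζ, hζP, hζv, hζass⟩ := exists_lift_relAss (V := V) t' v' P hP
  have hb2 : IsBaseChange (B' ⊗[A'] V) (TensorProduct.mk B' (B' ⊗[A'] V) N' 1) := TensorProduct.isBaseChange B' N' _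
  have hf₂ := IsBaseChange.comp hf hb2
  have htow := isScalarTower_tensor A A' B' V
  have hpo := isPushout_tensor A A' B B' V
  refine Flat2B.Impurity.hasImpurity_of_pushforward _ hf₂ hζass U u ?_ ?_ hQ
  · exact hv'u
  · intro P₁ _ hle₁ hP₁u
    obtain ⟨ζ', hle', hζ', hcomap⟩ := exists_comap_comparison_eq (A := A) (B := B) U V (B' ⊗[A'] V) P₁ ζ hle₁
    have h1 : (ζ'.comap (algebraMap V (B' ⊗[A'] V))).comap (algebraMap U V) = u := by
      rw [hP₁u.over, ← hcomap, Ideal.under_def, Ideal.comap_comap, Ideal.comap_comap]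
      congr 1
      ext x
      change _ = Flat2B.Impurity.comparison (A := A) (B := B) U V (B' ⊗[A'] V) (1 ⊗ₜ x)
      simp only [Flat2B.Impurity.comparison, Algebra.TensorProduct.lift_tmul, map_one, one_mul]
      rfl
    have h2 := huniq _ inferInstance h1
    refine hcl (ζ'.comap (algebraMap B' (B' ⊗[A'] V))) ?_ ⟨?_⟩
    · rw [← hζP]
      exact Ideal.comap_mono hle'
    · rw [Ideal.under_def, Ideal.comap_comap, ← IsScalarTower.algebraMap_eq, ← h2, Ideal.comap_comap, ← IsScalarTower.algebraMap_eq]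

end Groth.Agent.Flat2B.ImpurityLift
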