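import Groth.Agent.Flat2B.UnivFlatCover
import Groth.Agent.S1226
import Groth.Agent.S1256

/-!
# Reduction of the functor `F_n` of a pure module to modules with a complete dévissage
-/

set_option autoImplicit false
universe u

namespace Groth.Agent.Flat2B.UnivFlatCover

open TensorProduct FlatDim FlatFun

/-- Let `N` be finitely presented over `B`, `B` finitely presented over `A`, pure along the fibre over `p`. After an
elementary étale neighbourhood `(A', p')` of `(A, p)` there are finitely many étale `BA`-algebras `C i` such that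
`C i ⊗ N` has a complete dévissage over `p'` and, over a neighbourhood `D(f)` of `p'`, `N_T` is flat in dimensions `≥ n`
iff all `(C i ⊗ N)_T` are. -/
theorem exists_etale_cover {A B : Type u} [CommRing A] [CommRing B] [Algebra A B] [Algebra.FinitePresentation A B]
    (N : Type u) [AddCommGroup N] [Module B N] [Module.FinitePresentation B N]
    (p : Ideal A) [p.IsPrime] (hpure : FlatCA.IsPureAlong A B N p) :
    ∃ (A' : Type u) (_ : CommRing A') (_ : Algebra A A') (p' : Ideal A') (_ : p'.IsPrime), FlatCA.IsEtaleNhd A A' p p' ∧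
      ∀ (BA NA : Type u) [CommRing BA] [Algebra B BA] [Algebra A' BA] [Algebra A BA] [IsScalarTower A B BA]
        [IsScalarTower A A' BA] [Algebra.IsPushout A B A' BA]
        [AddCommGroup NA] [Module BA NA] [Module B NA] [IsScalarTower B BA NA]
        (fA : N →ₗ[B] NA), IsBaseChange BA fA →
        ∃ (k : ℕ) (C : Fin k → Type u) (_ : ∀ i, CommRing (C i)) (_ : ∀ i, Algebra BA (C i)) (_ : ∀ i, Algebra A' (C i))
          (_ : ∀ i, IsScalarTower A' BA (C i))
          (Nc : Fin k → Type u) (_ : ∀ i, AddCommGroup (Nc i)) (_ : ∀ i, Module (C i) (Nc i)) (_ : ∀ i, Module BA (Nc i))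
          (_ : ∀ i, IsScalarTower BA (C i) (Nc i)) (g : ∀ i, NA →ₗ[BA] Nc i),
          (∀ i, Algebra.Etale BA (C i) ∧ IsBaseChange (C i) (g i) ∧ Nonempty (FlatCA.CompleteDevissage A' (C i) (Nc i) p')) ∧
          ∃ f : A', f ∉ p' ∧ ∀ (T : Type u) [CommRing T] [Algebra A' T], IsUnit (algebraMap A' T f) → ∀ n : ℕ,
            (FlatP n A' BA NA T ↔ ∀ i, FlatP n A' (C i) (Nc i) T) := by
  obtain ⟨A', _, _, p', _, hnhd, H⟩ := S1256.result (A := A) (B := B) N p
  refine ⟨A', inferInstance, inferInstance, p', inferInstance, hnhd, ?_⟩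
  intro BA NA _ _ _ _ _ _ _ _ _ _ _ fA hfA
  obtain ⟨k, C, _, _, _, _, Nc, _, _, _, _, g, hC, hcov⟩ := H BA NA fA hfA
  refine ⟨k, C, inferInstance, inferInstance, inferInstance, inferInstance, Nc, inferInstance, inferInstance,
    inferInstance, inferInstance, g, hC, ?_⟩
  have h1 : Algebra.Etale A A' := EtaleNhd.etale hnhd
  have h2 : p'.LiesOver p := EtaleNhd.liesOver hnhd
  have h3 : Algebra.QuasiFiniteAt A p' := inferInstance
  have hpure' : FlatCA.IsPureAlong A' BA NA p' := S1226.result N p A' BA NA fA hfA p' hpure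
  have h4 : Algebra.FinitePresentation A' BA := by
    have : Algebra.IsPushout A A' B BA := .symm inferInstance
    exact Algebra.FinitePresentation.equiv (Algebra.IsPushout.equiv A A' B BA)
  have h5 : Module.FinitePresentation BA NA := Module.FinitePresentation.of_equiv hfA.equiv
  let _ : Module A' NA := Module.compHom NA (algebraMap A' BA)
  have _ : IsScalarTower A' BA NA := .of_algebraMap_smul fun _ _ => rfl
  have h6 : ∀ i, Algebra.Etale BA (C i) := fun i => (hC i).1
  obtain ⟨f, hf, hfh⟩ := exists_hitsOver (A := A') (B := BA) NA C p' hpure' hcov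
  refine ⟨f, hf, ?_⟩
  intro T _ _ hu n
  refine flatP_iff_cover NA C Nc g n (fun i => (hC i).2.1) T ?_
  intro t _
  refine hfh _ ?_
  intro hft
  exact Ideal.IsPrime.ne_top (I := t) inferInstance (Ideal.eq_top_of_isUnit_mem _ hft hu)

end Groth.Agent.Flat2B.UnivFlatCover
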