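import Groth.Agent.Flat2B.FlatRep
import Groth.Agent.Flat2B.UnivFlatCover2
import Groth.Agent.Flat2B.FlatSource

/-!
# Representability of `F_n` (Stacks 05UG): reduction to the local case
-/

set_option autoImplicit false
universe u

open CategoryTheory CategoryTheory.Limits AlgebraicGeometry

namespace Groth.Agent.Flat2B.FlatAssembly

open RepPred AlgPred FlatFun FlatRep FlatDim

/-- The predicate `P` on `A`-algebras is represented over `A₁` by a monomorphism of finite
presentation. -/
def AlgRep {A : Type u} [CommRing A] (P : ∀ (R : Type u) [CommRing R] [Algebra A R], Prop)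
    (A₁ : Type u) [CommRing A₁] [Algebra A A₁] : Prop :=
  ∃ (Z : Scheme.{u}) (i : Z ⟶ Spec (CommRingCat.of A₁)), Mono i ∧
    LocallyOfFinitePresentation i ∧ QuasiCompact i ∧
    ∀ (R : Type u) [CommRing R] [Algebra A R] [Algebra A₁ R] [IsScalarTower A A₁ R], P R ↔
      ∃ g, g ≫ i = Spec.map (CommRingCat.ofHom (algebraMap A₁ R))

section General

variable {A : Type u} [CommRing A] {P : ∀ (R : Type u) [CommRing R] [Algebra A R], Prop}
  {A₁ : Type u} [CommRing A₁] [Algebra A A₁]

theorem algRep_iff (hP : EtAlgPred P) :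
    AlgRep P A₁ ↔ RepOver (toSch P) (Spec.map (CommRingCat.ofHom (algebraMap A A₁))) := by
  refine ⟨repOver_of_algebras hP, fun ⟨Z, i, h1, h2, h3, h4⟩ => ⟨Z, i, h1, h2, h3, ?_⟩⟩
  intro R _ _ _ _
  rw [← toSch_algebraMap hP, ← h4, ← Spec.map_comp, ← CommRingCat.ofHom_comp,
    ← IsScalarTower.algebraMap_eq]

/-- Restriction along `A₁ → A₂`. -/
theorem AlgRep.map (hP : EtAlgPred P) (A₂ : Type u) [CommRing A₂] [Algebra A A₂] [Algebra A₁ A₂]
    [IsScalarTower A A₁ A₂] (h : AlgRep P A₁) : AlgRep P A₂ := by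
  rw [algRep_iff hP] at h ⊢
  have := h.comp (Spec.map (CommRingCat.ofHom (algebraMap A₁ A₂)))
  rwa [← Spec.map_comp, ← CommRingCat.ofHom_comp, ← IsScalarTower.algebraMap_eq] at this

theorem AlgRep.congr {P' : ∀ (R : Type u) [CommRing R] [Algebra A R], Prop} (h : AlgRep P A₁)
    (hPP' : ∀ (R : Type u) [CommRing R] [Algebra A R] [Algebra A₁ R] [IsScalarTower A A₁ R],
      P' R ↔ P R) : AlgRep P' A₁ := by
  obtain ⟨Z, i, h1, h2, h3, h4⟩ := h
  exact ⟨Z, i, h1, h2, h3, fun R _ _ _ _ => (hPP' R).trans (h4 R)⟩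

theorem algRep_true (h : ∀ (R : Type u) [CommRing R] [Algebra A R] [Algebra A₁ R]
    [IsScalarTower A A₁ R], P R) : AlgRep P A₁ :=
  ⟨_, 𝟙 _, inferInstance, inferInstance, inferInstance, fun R _ _ _ _ =>
    ⟨fun _ => ⟨_, Category.comp_id _⟩, fun _ => h R⟩⟩

theorem AlgRep.inter {P' : ∀ (R : Type u) [CommRing R] [Algebra A R], Prop} (h : AlgRep P A₁)
    (h' : AlgRep P' A₁) :
    AlgRep (fun (R : Type u) [CommRing R] [Algebra A R] => P R ∧ P' R) A₁ := by
  obtain ⟨Z, i, _, _, _, h4⟩ := h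
  obtain ⟨Z', i', _, _, _, h4'⟩ := h'
  refine ⟨pullback i i', pullback.fst i i' ≫ i, inferInstance, inferInstance, inferInstance,
    fun R _ _ _ _ => ?_⟩
  dsimp only
  rw [h4, h4']
  constructor
  · rintro ⟨⟨g₁, h₁⟩, ⟨g₂, h₂⟩⟩
    exact ⟨pullback.lift g₁ g₂ (by rw [h₁, h₂]), by rw [← Category.assoc, pullback.lift_fst, h₁]⟩
  · rintro ⟨g, hg⟩
    exact ⟨⟨g ≫ pullback.fst i i', by rw [← hg, Category.assoc]⟩,
      ⟨g ≫ pullback.snd i i', by rw [← hg, Category.assoc, pullback.condition]⟩⟩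

theorem algRep_forall_fin (k : ℕ) (P : Fin k → ∀ (R : Type u) [CommRing R] [Algebra A R], Prop)
    (h : ∀ i, AlgRep (P i) A₁) :
    AlgRep (fun (R : Type u) [CommRing R] [Algebra A R] => ∀ i, P i R) A₁ := by
  induction k with
  | zero => exact algRep_true fun R _ _ _ _ i => i.elim0
  | succ k ih =>
    refine ((ih (fun i => P i.castSucc) (fun i => h i.castSucc)).inter (h (Fin.last k))).congr ?_
    intro R _ _ _ _
    rw [Fin.forall_fin_succ']

/-- Change of the base of the predicate. -/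
theorem AlgRep.changeBase {A' : Type u} [CommRing A'] [Algebra A A'] [Algebra A' A₁]
    [IsScalarTower A A' A₁] {P' : ∀ (R : Type u) [CommRing R] [Algebra A' R], Prop}
    (h : AlgRep P' A₁)
    (hPP' : ∀ (R : Type u) [CommRing R] [Algebra A R] [Algebra A' R] [Algebra A₁ R]
      [IsScalarTower A A' R] [IsScalarTower A A₁ R] [IsScalarTower A' A₁ R],
      P R ↔ P' R) : AlgRep P A₁ := by
  obtain ⟨Z, i, h1, h2, h3, h4⟩ := h
  refine ⟨Z, i, h1, h2, h3, fun R _ _ _ _ => ?_⟩
  let _ : Algebra A' R := ((algebraMap A₁ R).comp (algebraMap A' A₁)).toAlgebra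
  have t1 : IsScalarTower A' A₁ R := .of_algebraMap_eq fun _ => rfl
  have t2 : IsScalarTower A A' R := .of_algebraMap_eq fun a => by
    rw [IsScalarTower.algebraMap_apply A A₁ R, IsScalarTower.algebraMap_apply A A' A₁,
      IsScalarTower.algebraMap_apply A' A₁ R]
  exact (hPP' R).trans (h4 R)

end General

/-- The local result at a prime `p` with a complete devissage, as a hypothesis. -/
def LocalRep : Prop :=
  ∀ (n : ℕ) (A B N : Type u) [CommRing A] [CommRing B] [Algebra A B]
    [Algebra.FinitePresentation A B] [AddCommGroup N] [Module B N] [Module A N]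
    [IsScalarTower A B N] [Module.FinitePresentation B N] (p : Ideal A) [p.IsPrime],
    FlatCA.CompleteDevissage A B N p → FlatCA.FlatInDimGE (n + 1) A B N →
    ∃ f ∉ p, ∀ (A₁ : Type u) [CommRing A₁] [Algebra A A₁], IsUnit (algebraMap A A₁ f) →
      AlgRep (fun (R : Type u) [CommRing R] [Algebra A R] => FlatP n A B N R) A₁

section Step

variable {A B N : Type u} [CommRing A] [CommRing B] [Algebra A B] [AddCommGroup N] [Module B N]

theorem local_step (hloc : LocalRep.{u}) (n : ℕ) [Algebra.FinitePresentation A B]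
    [Module.FinitePresentation B N] (hflat : FlatP (n + 1) A B N A) (p : Ideal A) [p.IsPrime]
    (hpure : FlatCA.IsPureAlong A B N p) :
    ∃ (A₁ : Type u) (_ : CommRing A₁) (_ : Algebra A A₁) (p₁ : Ideal A₁),
      Algebra.Etale A A₁ ∧ p₁.IsPrime ∧ p₁.LiesOver p ∧
      AlgRep (fun (R : Type u) [CommRing R] [Algebra A R] => FlatP n A B N R) A₁ := by
  obtain ⟨A', _, _, p', _, hnhd, H⟩ := UnivFlatCover.exists_etale_cover N p hpure
  have e1 : Algebra.Etale A A' := EtaleNhd.etale hnhd
  have e2 : p'.LiesOver p := EtaleNhd.liesOver hnhd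
  obtain ⟨BA, NA, _, _, _, _, _, _, _, _, _, _, _, _, _, fA, hfA⟩ :=
    PushModel.exists_models (R := A) (S := B) (A := A') N
  obtain ⟨k, C, _, _, _, _, Nc, _, _, _, _, g, hC, f, hf, hiff⟩ := H BA NA fA hfA
  have : Algebra.IsPushout A A' B BA := .symm inferInstance
  have h4 : Algebra.FinitePresentation A' BA :=
    Algebra.FinitePresentation.equiv (Algebra.IsPushout.equiv A A' B BA)
  have h5 : Module.FinitePresentation BA NA := Module.FinitePresentation.of_equiv hfA.equiv
  have hflat' : FlatCA.FlatInDimGE (n + 1) A' BA NA := (hflat.map (A₂ := A')) BA NA fA hfA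
  have hCe : ∀ i, Algebra.Etale BA (C i) := fun i => (hC i).1
  have key : ∀ i, ∃ f ∉ p', ∀ (A₁ : Type u) [CommRing A₁] [Algebra A' A₁],
      IsUnit (algebraMap A' A₁ f) →
      AlgRep (fun (R : Type u) [CommRing R] [Algebra A' R] => FlatP n A' (C i) (Nc i) R) A₁ := by
    intro i
    obtain ⟨hi1, hi2, ⟨D⟩⟩ := hC i
    let _ : Module A' (Nc i) := Module.compHom (Nc i) (algebraMap A' (C i))
    have : IsScalarTower A' (C i) (Nc i) := .of_algebraMap_smul fun _ _ => rfl
    have : Algebra.FinitePresentation A' (C i) := Algebra.FinitePresentation.trans A' BA (C i)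
    have : Module.FinitePresentation (C i) (Nc i) := Module.FinitePresentation.of_equiv hi2.equiv
    exact hloc n A' (C i) (Nc i) p' D (FlatSource.flatInDimGE_source (g i) hi2 hflat')
  choose F hF hFrep using key
  let G : A' := f * ∏ i, F i
  have hG : G ∉ p' := by
    intro hc
    rcases (inferInstance : p'.IsPrime).mem_or_mem hc with h | h
    · exact hf h
    · rw [(inferInstance : p'.IsPrime).prod_mem_iff] at h
      obtain ⟨i, -, hi⟩ := h
      exact hF i hi
  let A₁ := Localization.Away G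
  have hGu : IsUnit (algebraMap A' A₁ G) := IsLocalization.Away.algebraMap_isUnit G
  have hfu : ∀ (R : Type u) [CommRing R] [Algebra A' R] [Algebra A₁ R] [IsScalarTower A' A₁ R],
      IsUnit (algebraMap A' R f) := fun R _ _ _ _ => by
    have h1 : IsUnit (algebraMap A' R G) := by
      rw [IsScalarTower.algebraMap_apply A' A₁ R]
      exact hGu.map (algebraMap A₁ R)
    exact isUnit_of_dvd_unit (map_dvd _ (Dvd.intro _ rfl)) h1
  have hFu : ∀ i, IsUnit (algebraMap A' A₁ (F i)) := fun i =>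
    isUnit_of_dvd_unit (map_dvd _ ((Finset.dvd_prod_of_mem F (Finset.mem_univ i)).trans
      (Dvd.intro_left _ rfl))) hGu
  have e3 : Algebra.Etale A' A₁ := Algebra.Etale.of_isLocalizationAway G
  obtain ⟨hp1, hp2⟩ := EtaleNhd.liesOver_map_away (R' := A₁) (p := p') G hG
  refine ⟨A₁, inferInstance, inferInstance, p'.map (algebraMap A' A₁), Algebra.Etale.comp A A' A₁,
    hp1, .trans _ p' p, ?_⟩
  have h6 : AlgRep (fun (R : Type u) [CommRing R] [Algebra A' R] => FlatP n A' BA NA R) A₁ :=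
    (algRep_forall_fin k (fun i (R : Type u) [CommRing R] [Algebra A' R] =>
      FlatP n A' (C i) (Nc i) R) (fun i => hFrep i A₁ (hFu i))).congr
      (fun R _ _ _ _ => hiff R (hfu R) n)
  refine h6.changeBase fun R _ _ _ _ _ _ _ => ?_
  exact (flatP_tower (A₁ := A') fA hfA).symm

end Step

end Groth.Agent.Flat2B.FlatAssembly
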