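import Groth.Prelude.Def_FlatCA
import Groth.Agent.Flat2C.FlatAtCriterion
import Groth.Agent.Flat2C.FlatAt
import Groth.Agent.Flat2A.ProjPure
import Groth.Agent.CycB.TrdegAlg
import Groth.Agent.CycA.TensorTrdeg
import Groth.Agent.Flat2B.EtaleNhd

/-!
# `FlatCA.FlatInDimGE`: base change, descent, change of the source

* `flatAt_baseChange`: flatness at a prime is stable under base change `A₁ → A₂`.
* `rtd t Q`: the relative transcendence degree of the residue fields.
* `flatInDimGE_baseChange`: stable under base change (also gives independence of models).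
-/

set_option autoImplicit false
universe u

namespace Groth.Agent.Flat2B.FlatDim

open TensorProduct Groth.Agent.CycB.TrdegAlg

section FlatAtBC

/-- Tensoring a localization map on the left. -/
theorem isLocalizedModule_lTensor {R M M' N : Type*} [CommRing R] (S : Submonoid R)
    [AddCommGroup M] [Module R M] [AddCommGroup M'] [Module R M'] [AddCommGroup N] [Module R N]
    (g : M →ₗ[R] M') [IsLocalizedModule S g] : IsLocalizedModule S (g.lTensor N) := by
  have h1 : IsLocalizedModule S (g.rTensor N) :=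
    inferInstanceAs (IsLocalizedModule S (AlgebraTensorModule.rTensor R N g))
  have h2 : g.lTensor N = (TensorProduct.comm R M' N).toLinearMap ∘ₗ g.rTensor N ∘ₗ
      (TensorProduct.comm R N M).toLinearMap := by
    ext; simp
  rw [h2]
  have h3 : IsLocalizedModule S (g.rTensor N ∘ₗ (TensorProduct.comm R N M).toLinearMap) :=
    IsLocalizedModule.of_linearEquiv_right S (g.rTensor N) (TensorProduct.comm R N M)
  exact IsLocalizedModule.of_linearEquiv S _ (TensorProduct.comm R M' N)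

variable {A₁ B₁ A₂ B₂ N₁ N₂ : Type u} [CommRing A₁] [CommRing B₁] [CommRing A₂] [CommRing B₂]
  [Algebra A₁ B₁] [Algebra A₁ A₂] [Algebra B₁ B₂] [Algebra A₂ B₂] [Algebra A₁ B₂]
  [IsScalarTower A₁ B₁ B₂] [IsScalarTower A₁ A₂ B₂] [Algebra.IsPushout A₁ B₁ A₂ B₂]
  [AddCommGroup N₁] [Module B₁ N₁] [Module A₁ N₁] [IsScalarTower A₁ B₁ N₁]
  [AddCommGroup N₂] [Module B₂ N₂] [Module B₁ N₂] [IsScalarTower B₁ B₂ N₂]
  [Module A₂ N₂] [IsScalarTower A₂ B₂ N₂]

/-- Flatness at a prime is stable under base change. -/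
theorem flatAt_baseChange (f : N₁ →ₗ[B₁] N₂) (hf : IsBaseChange B₂ f) (Q₁ : Ideal B₁) [Q₁.IsPrime]
    (Q₂ : Ideal B₂) [Q₂.IsPrime] [Q₂.LiesOver Q₁] (h : FlatCA.FlatAt A₁ Q₁ N₁) :
    FlatCA.FlatAt A₂ Q₂ N₂ := by
  rw [Flat2C.FlatAtCriterion.flatAt_congr Q₂ hf.equiv.symm]
  let L := LocalizedModule Q₁.primeCompl N₁
  let g : N₁ →ₗ[B₁] L := LocalizedModule.mkLinearMap Q₁.primeCompl N₁
  have hL : Module.Flat A₁ L := h
  have h1 : IsLocalizedModule Q₁.primeCompl ((g.baseChange B₂).restrictScalars B₁) :=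
    isLocalizedModule_lTensor (N := B₂) Q₁.primeCompl g
  have h2 : IsLocalizedModule (Algebra.algebraMapSubmonoid B₂ Q₁.primeCompl) (g.baseChange B₂) :=
    IsLocalizedModule.of_restrictScalars _ _
  have h3 : IsBaseChange A₂ ((TensorProduct.mk B₁ B₂ L 1).restrictScalars A₁) :=
    Flat2A.ProjPure.isBaseChange_of_isPushout inferInstance _ (TensorProduct.isBaseChange B₁ L B₂)
  have h4 : Module.Flat A₂ (B₂ ⊗[B₁] L) := Module.Flat.isBaseChange A₁ A₂ L _ h3
  rw [Flat2C.FlatAtCriterion.flat_isLocalizedModule_iff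
    (Algebra.algebraMapSubmonoid B₂ Q₁.primeCompl) (g.baseChange B₂)] at h4
  rw [Flat2C.FlatAtCriterion.flatAt_iff]
  intro I x hx
  obtain ⟨_, ⟨b, hb, rfl⟩, hbx⟩ := h4 I x hx
  refine ⟨algebraMap B₁ B₂ b, fun hc => hb ?_, hbx⟩
  have : b ∈ Q₂.under B₁ := hc
  rwa [← Ideal.over_def Q₂ Q₁] at this

end FlatAtBC

section Rtd

/-- The map of residue fields at `Q` over `t`. -/
noncomputable def resMap {A B : Type u} [CommRing A] [CommRing B] [Algebra A B] (t : Ideal A)
    (Q : Ideal B) [t.IsPrime] [Q.IsPrime] [h : Q.LiesOver t] :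
    t.ResidueField →+* Q.ResidueField :=
  (Ideal.ResidueField.mapₐ t Q (Algebra.ofId A B) h.over).toRingHom

theorem resMap_algebraMap {A B : Type u} [CommRing A] [CommRing B] [Algebra A B] (t : Ideal A)
    (Q : Ideal B) [t.IsPrime] [Q.IsPrime] [Q.LiesOver t] (a : A) :
    resMap t Q (algebraMap A t.ResidueField a) = algebraMap B Q.ResidueField (algebraMap A B a) := by
  have := (Ideal.ResidueField.mapₐ t Q (Algebra.ofId A B) (Ideal.over_def Q t)).commutes a
  exact this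

/-- The relative transcendence degree of `Q` over `t`. -/
noncomputable def rtd {A B : Type u} [CommRing A] [CommRing B] [Algebra A B] (t : Ideal A)
    (Q : Ideal B) [t.IsPrime] [Q.IsPrime] [Q.LiesOver t] : Cardinal.{u} :=
  trd (resMap t Q)

theorem flatInDimGE_iff {n : ℕ} {A B N : Type u} [CommRing A] [CommRing B] [Algebra A B]
    [AddCommGroup N] [Module B N] [Module A N] [IsScalarTower A B N] :
    FlatCA.FlatInDimGE n A B N ↔ ∀ (t : Ideal A) (Q : Ideal B) [t.IsPrime] [Q.IsPrime]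
      [Q.LiesOver t], ¬ FlatCA.FlatAt A Q N → rtd t Q < (n : Cardinal.{u}) := Iff.rfl

theorem resMap_comp {A B C : Type u} [CommRing A] [CommRing B] [CommRing C] [Algebra A B]
    [Algebra B C] [Algebra A C] [IsScalarTower A B C] (t : Ideal A) (Q : Ideal B) (P : Ideal C)
    [t.IsPrime] [Q.IsPrime] [P.IsPrime] [Q.LiesOver t] [P.LiesOver Q] [P.LiesOver t] :
    (resMap Q P).comp (resMap t Q) = resMap t P := by
  apply Ideal.ResidueField.ringHom_ext
  ext a
  simp only [RingHom.comp_apply, resMap_algebraMap]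
  rw [IsScalarTower.algebraMap_apply A B C]

theorem rtd_add {A B C : Type u} [CommRing A] [CommRing B] [CommRing C] [Algebra A B]
    [Algebra B C] [Algebra A C] [IsScalarTower A B C] (t : Ideal A) (Q : Ideal B) (P : Ideal C)
    [t.IsPrime] [Q.IsPrime] [P.IsPrime] [Q.LiesOver t] [P.LiesOver Q] [P.LiesOver t] :
    rtd t P = rtd t Q + rtd Q P := by
  rw [rtd, ← resMap_comp t Q P, trd_comp]
  rfl

theorem fracGen_algebraMap {B : Type u} [CommRing B] (Q : Ideal B) [Q.IsPrime] :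
    FracGen (algebraMap B Q.ResidueField) := by
  intro z
  obtain ⟨y, w, hw, rfl⟩ := IsFractionRing.div_surjective (A := B ⧸ Q) z
  obtain ⟨y, rfl⟩ := Ideal.Quotient.mk_surjective y
  obtain ⟨w, rfl⟩ := Ideal.Quotient.mk_surjective w
  have hw' : algebraMap B Q.ResidueField w ≠ 0 := by
    intro h
    rw [Ideal.algebraMap_residueField_eq_zero] at h
    rw [Ideal.Quotient.eq_zero_iff_mem.mpr h] at hw
    exact zero_notMem_nonZeroDivisors hw
  refine ⟨y, w, hw', ?_⟩
  rw [Ideal.algebraMap_quotient_residueField_mk, Ideal.algebraMap_quotient_residueField_mk,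
    div_mul_cancel₀ _ hw']

/-- The relative transcendence degree in terms of the quotients. -/
theorem rtd_eq_trdeg_quotient {A B : Type u} [CommRing A] [CommRing B] [Algebra A B] (t : Ideal A)
    (Q : Ideal B) [t.IsPrime] [Q.IsPrime] [h : Q.LiesOver t] :
    rtd t Q = trd (Ideal.quotientMap Q (algebraMap A B) (Ideal.over_def Q t).le) := by
  refine trd_eq_trd_quotientMap (algebraMap A B) (algebraMap A t.ResidueField)
    (algebraMap B Q.ResidueField) (resMap t Q) ?_ (fracGen_algebraMap t) (fracGen_algebraMap Q)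
    t ?_ Q ?_ _
  · ext a; exact resMap_algebraMap t Q a
  · rw [Ideal.ker_algebraMap_residueField]
  · rw [Ideal.ker_algebraMap_residueField]

/-- The relative transcendence degree drops under specialization in the fibre. -/
theorem rtd_le_of_le {A B : Type u} [CommRing A] [CommRing B] [Algebra A B] (t : Ideal A)
    (Q Q' : Ideal B) [t.IsPrime] [Q.IsPrime] [Q.LiesOver t] [Q'.IsPrime] [Q'.LiesOver t]
    (hle : Q ≤ Q') : rtd t Q' ≤ rtd t Q := by
  rw [rtd_eq_trdeg_quotient, rtd_eq_trdeg_quotient]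
  have : (Ideal.Quotient.factor hle).comp
      (Ideal.quotientMap Q (algebraMap A B) (Ideal.over_def Q t).le) =
      Ideal.quotientMap Q' (algebraMap A B) (Ideal.over_def Q' t).le := by
    apply Ideal.Quotient.ringHom_ext
    ext a
    rfl
  rw [← this]
  exact trd_le_of_surjective _ _ (Ideal.Quotient.factor_surjective hle)

section BC

variable {A₁ B₁ A₂ B₂ : Type u} [CommRing A₁] [CommRing B₁] [CommRing A₂] [CommRing B₂]
  [Algebra A₁ B₁] [Algebra A₁ A₂] [Algebra B₁ B₂] [Algebra A₂ B₂] [Algebra A₁ B₂]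
  [IsScalarTower A₁ B₁ B₂] [IsScalarTower A₁ A₂ B₂]
  (t₁ : Ideal A₁) (t₂ : Ideal A₂) (Q₁ : Ideal B₁) (Q₂ : Ideal B₂) [t₁.IsPrime] [t₂.IsPrime]
  [Q₁.IsPrime] [Q₂.IsPrime] [Q₁.LiesOver t₁] [t₂.LiesOver t₁] [Q₂.LiesOver t₂] [Q₂.LiesOver Q₁]

/-- Under base change the relative transcendence degree does not grow. -/
theorem rtd_baseChange_le [Algebra.IsPushout A₁ B₁ A₂ B₂] : rtd t₂ Q₂ ≤ rtd t₁ Q₁ := by
  have : Q₂.LiesOver t₁ := Ideal.LiesOver.trans Q₂ Q₁ t₁
  refine Groth.Agent.CycA.TensorTrdeg.trd_le (resMap t₁ t₂) (resMap t₁ Q₁) (resMap t₂ Q₂)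
    (resMap Q₁ Q₂) ?_ ?_
  · rw [resMap_comp, resMap_comp]
  · intro S h1 h2 z
    obtain ⟨a, b, hb, hab⟩ := fracGen_algebraMap Q₂ z
    have key : ∀ c : B₂, algebraMap B₂ Q₂.ResidueField c ∈ S := by
      intro c
      refine (Algebra.IsPushout.out :
        IsBaseChange B₁ (IsScalarTower.toAlgHom A₁ A₂ B₂).toLinearMap).inductionOn c
        (fun c => algebraMap B₂ Q₂.ResidueField c ∈ S) ?_ ?_ ?_ ?_
      · simp
      · intro a
        have := h1 (algebraMap A₂ t₂.ResidueField a)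
        rw [resMap_algebraMap] at this
        exact this
      · intro b c hc
        have := h2 (algebraMap B₁ Q₁.ResidueField b)
        rw [resMap_algebraMap] at this
        rw [Algebra.smul_def, map_mul]
        exact S.mul_mem this hc
      · intro c c' hc hc'
        rw [map_add]
        exact S.add_mem hc hc'
    exact ⟨_, key a, _, key b, hb, hab⟩

/-- The relative transcendence degree does not drop if `κ(t₂)` is algebraic over `κ(t₁)`. -/
theorem rtd_le_of_algebraic (h : rtd t₁ t₂ = 0) : rtd t₁ Q₁ ≤ rtd t₂ Q₂ := by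
  have : Q₂.LiesOver t₁ := Ideal.LiesOver.trans Q₂ Q₁ t₁
  have h1 := rtd_add t₁ Q₁ Q₂
  have h2 := rtd_add t₁ t₂ Q₂
  rw [h, zero_add] at h2
  rw [← h2, h1]
  exact self_le_add_right _ _

end BC

/-- Quasi-finite (for instance etale) algebras have algebraic residue extensions. -/
theorem rtd_eq_zero_of_quasiFinite {A B : Type u} [CommRing A] [CommRing B] [Algebra A B]
    [Algebra.QuasiFinite A B] (t : Ideal A) (Q : Ideal B) [t.IsPrime] [Q.IsPrime]
    [Q.LiesOver t] : rtd t Q = 0 := by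
  let := Localization.AtPrime.algebraOfLiesOver t Q
  have h1 : Module.Finite t.ResidueField Q.ResidueField := inferInstance
  have h2 : algebraMap t.ResidueField Q.ResidueField = resMap t Q := by
    apply Ideal.ResidueField.ringHom_ext
    ext a
    rw [RingHom.comp_apply, RingHom.comp_apply, resMap_algebraMap,
      ← IsScalarTower.algebraMap_apply A t.ResidueField Q.ResidueField,
      ← IsScalarTower.algebraMap_apply A B Q.ResidueField]
  rw [rtd, ← h2, trd_algebraMap]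
  exact trdeg_eq_zero

end Rtd

section BaseChange

variable {A₁ B₁ A₂ B₂ N₁ N₂ : Type u} [CommRing A₁] [CommRing B₁] [CommRing A₂] [CommRing B₂]
  [Algebra A₁ B₁] [Algebra A₁ A₂] [Algebra B₁ B₂] [Algebra A₂ B₂] [Algebra A₁ B₂]
  [IsScalarTower A₁ B₁ B₂] [IsScalarTower A₁ A₂ B₂] [Algebra.IsPushout A₁ B₁ A₂ B₂]
  [AddCommGroup N₁] [Module B₁ N₁] [Module A₁ N₁] [IsScalarTower A₁ B₁ N₁]
  [AddCommGroup N₂] [Module B₂ N₂] [Module B₁ N₂] [IsScalarTower B₁ B₂ N₂]
  [Module A₂ N₂] [IsScalarTower A₂ B₂ N₂]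

/-- Flatness in dimensions `≥ n` is stable under base change. -/
theorem flatInDimGE_baseChange {n : ℕ} (f : N₁ →ₗ[B₁] N₂) (hf : IsBaseChange B₂ f)
    (h : FlatCA.FlatInDimGE n A₁ B₁ N₁) : FlatCA.FlatInDimGE n A₂ B₂ N₂ := by
  rw [flatInDimGE_iff] at h ⊢
  intro t₂ Q₂ _ _ _ hQ₂
  let Q₁ := Q₂.under B₁
  let t₁ := t₂.under A₁
  have : Q₁.LiesOver t₁ := ⟨by
    change t₂.under A₁ = (Q₂.under B₁).under A₁
    rw [Ideal.under_under, Ideal.over_def Q₂ t₂, Ideal.under_under]⟩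
  exact (rtd_baseChange_le t₁ t₂ Q₁ Q₂).trans_lt
    (h t₁ Q₁ fun h1 => hQ₂ (flatAt_baseChange f hf Q₁ Q₂ h1))

/-- Pointwise descent of flatness in dimensions `≥ n` along a flat map `A₁ → A₂` with algebraic
residue extension at `t₂` over `t₁`. -/
theorem rtd_lt_of_descend {n : ℕ} [Module.Flat A₁ A₂] (t₁ : Ideal A₁) (t₂ : Ideal A₂)
    [t₁.IsPrime] [t₂.IsPrime] [t₂.LiesOver t₁] (halg : rtd t₁ t₂ = 0) (f : N₁ →ₗ[B₁] N₂)
    (hf : IsBaseChange B₂ f) (h : FlatCA.FlatInDimGE n A₂ B₂ N₂) (Q₁ : Ideal B₁) [Q₁.IsPrime]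
    [Q₁.LiesOver t₁] (hQ₁ : ¬ FlatCA.FlatAt A₁ Q₁ N₁) : rtd t₁ Q₁ < n := by
  rw [flatInDimGE_iff] at h
  obtain ⟨Q₂, _, _, _⟩ := EtaleNhd.exists_prime_of_isPushout (R := A₁) (S := B₁) (R' := A₂)
    (S' := B₂) t₁ Q₁ t₂
  refine (rtd_le_of_algebraic t₁ t₂ Q₁ Q₂ halg).trans_lt (h t₂ Q₂ fun h1 => hQ₁ ?_)
  have : Algebra.IsPushout A₁ A₂ B₁ B₂ := .symm inferInstance
  have : Module.Flat B₁ B₂ := Module.Flat.isBaseChange A₁ B₁ A₂ B₂
    (Algebra.IsPushout.out (self := ‹Algebra.IsPushout A₁ B₁ A₂ B₂›))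
  let _ : Module A₁ N₂ := Module.compHom N₂ (algebraMap A₁ B₂)
  have : IsScalarTower A₁ B₂ N₂ := .of_algebraMap_smul fun _ _ => rfl
  have : IsScalarTower A₁ A₂ N₂ := .of_algebraMap_smul fun a x => by
    rw [← algebraMap_smul B₂, ← IsScalarTower.algebraMap_apply]
    rfl
  rw [Flat2C.FlatAt.flatAt_iff_of_isBaseChange (R := A₁) f Q₁ Q₂ hf]
  have : Module.Flat A₂ (LocalizedModule Q₂.primeCompl N₂) := h1
  exact Module.Flat.trans A₁ A₂ (LocalizedModule Q₂.primeCompl N₂)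

/-- Flatness in dimensions `≥ n` descends along flat surjective `A₁ → A₂` with algebraic residue
extensions. -/
theorem flatInDimGE_descend {n : ℕ} [Module.Flat A₁ A₂]
    (hsurj : ∀ (t₁ : Ideal A₁) [t₁.IsPrime], ∃ t₂ : Ideal A₂, t₂.IsPrime ∧ t₂.LiesOver t₁)
    (halg : ∀ (t₁ : Ideal A₁) (t₂ : Ideal A₂) [t₁.IsPrime] [t₂.IsPrime] [t₂.LiesOver t₁],
      rtd t₁ t₂ = 0) (f : N₁ →ₗ[B₁] N₂) (hf : IsBaseChange B₂ f)
    (h : FlatCA.FlatInDimGE n A₂ B₂ N₂) : FlatCA.FlatInDimGE n A₁ B₁ N₁ := by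
  rw [flatInDimGE_iff]
  intro t₁ Q₁ _ _ _ hQ₁
  obtain ⟨t₂, _, _⟩ := hsurj t₁
  exact rtd_lt_of_descend t₁ t₂ (halg t₁ t₂) f hf h Q₁ hQ₁

end BaseChange

end Groth.Agent.Flat2B.FlatDim
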