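import Groth.Agent.Flat2B.FlatDim
import Groth.Agent.Flat2B.PushModel

/-!
# The functor `F_n` of a module, on `A`-algebras

`FlatP n A B N A'`: every model of the base change of `(B, N)` to `A'` is flat in dimensions `≥ n`.
* `exists_map_models`: comparison of models over `A₁ → A₂`.
* `flatP_iff`: it suffices to look at one model.
* `FlatP.map`: stable under base change. `FlatP.descend`: descends along flat surjective maps with
  algebraic residue field extensions.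
* `flatP_tower`: `FlatP` of a base change.
-/

set_option autoImplicit false
universe u

namespace Groth.Agent.Flat2B.FlatFun

open TensorProduct FlatDim

section Compare

variable {A B A₁ B₁ A₂ B₂ N N₁ N₂ : Type u} [CommRing A] [CommRing B] [CommRing A₁] [CommRing B₁]
  [CommRing A₂] [CommRing B₂] [Algebra A B] [Algebra A A₁] [Algebra A A₂] [Algebra A₁ A₂]
  [IsScalarTower A A₁ A₂]
  [Algebra B B₁] [Algebra A₁ B₁] [Algebra A B₁] [IsScalarTower A B B₁] [IsScalarTower A A₁ B₁]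
  [Algebra.IsPushout A B A₁ B₁]
  [Algebra B B₂] [Algebra A₂ B₂] [Algebra A B₂] [IsScalarTower A B B₂] [IsScalarTower A A₂ B₂]
  [Algebra.IsPushout A B A₂ B₂]
  [AddCommGroup N] [Module B N]
  [AddCommGroup N₁] [Module B₁ N₁] [Module B N₁] [IsScalarTower B B₁ N₁]
  [AddCommGroup N₂] [Module B₂ N₂] [Module B N₂] [IsScalarTower B B₂ N₂]

include A

/-- Comparison of models of base changes along `A → A₁ → A₂`. -/
theorem exists_map_models (f₁ : N →ₗ[B] N₁) (hf₁ : IsBaseChange B₁ f₁) (f₂ : N →ₗ[B] N₂)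
    (hf₂ : IsBaseChange B₂ f₂) :
    ∃ (_ : Algebra B₁ B₂) (_ : Algebra A₁ B₂) (_ : IsScalarTower A₁ A₂ B₂)
      (_ : IsScalarTower A₁ B₁ B₂) (_ : IsScalarTower B B₁ B₂) (_ : Algebra.IsPushout A₁ B₁ A₂ B₂)
      (_ : Module B₁ N₂) (_ : IsScalarTower B₁ B₂ N₂) (g : N₁ →ₗ[B₁] N₂), IsBaseChange B₂ g := by
  let a1 : Algebra A₁ B₂ := ((algebraMap A₂ B₂).comp (algebraMap A₁ A₂)).toAlgebra
  have t1 : IsScalarTower A₁ A₂ B₂ := .of_algebraMap_eq fun _ => rfl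
  have t2 : IsScalarTower A A₁ B₂ := .of_algebraMap_eq fun x => by
    rw [IsScalarTower.algebraMap_apply A A₂ B₂, IsScalarTower.algebraMap_apply A A₁ A₂,
      IsScalarTower.algebraMap_apply A₁ A₂ B₂]
  let φ : B₁ →ₐ[A] B₂ := Algebra.pushoutDesc B₁ (IsScalarTower.toAlgHom A B B₂)
    (IsScalarTower.toAlgHom A A₁ B₂) (fun _ _ => mul_comm _ _)
  let a2 : Algebra B₁ B₂ := φ.toRingHom.toAlgebra
  have t3 : IsScalarTower B B₁ B₂ := .of_algebraMap_eq fun x =>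
    (Algebra.pushoutDesc_left B₁ (IsScalarTower.toAlgHom A B B₂)
      (IsScalarTower.toAlgHom A A₁ B₂) (fun _ _ => mul_comm _ _) x).symm
  have t4 : IsScalarTower A₁ B₁ B₂ := .of_algebraMap_eq fun x =>
    (Algebra.pushoutDesc_right B₁ (IsScalarTower.toAlgHom A B B₂)
      (IsScalarTower.toAlgHom A A₁ B₂) (fun _ _ => mul_comm _ _) x).symm
  have t5 : IsScalarTower A B₁ B₂ := .of_algebraMap_eq fun x => (φ.commutes x).symm
  have p1 : Algebra.IsPushout A A₁ B B₁ := .symm inferInstance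
  have p2 : Algebra.IsPushout A A₂ B B₂ := .symm inferInstance
  have p3 : Algebra.IsPushout A₁ A₂ B₁ B₂ :=
    (Algebra.IsPushout.comp_iff (R := A) (S := A₁) (R' := B) (S' := B₁) (T := A₂) (T' := B₂)).1 p2
  let m1 : Module B₁ N₂ := Module.compHom N₂ (algebraMap B₁ B₂)
  have t6 : IsScalarTower B₁ B₂ N₂ := .of_algebraMap_smul fun _ _ => rfl
  have t7 : IsScalarTower B B₁ N₂ := .of_algebraMap_smul fun b x => by
    rw [← algebraMap_smul B₂ b x, IsScalarTower.algebraMap_apply B B₁ B₂]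
    rfl
  let g : N₁ →ₗ[B₁] N₂ := hf₁.lift f₂
  have hg : g.restrictScalars B ∘ₗ f₁ = f₂ := hf₁.lift_comp f₂
  refine ⟨a2, a1, t1, t4, t3, p3.symm, m1, t6, g, ?_⟩
  refine IsBaseChange.of_comp hf₁ (h := g) ?_
  have : (g.restrictScalars B ∘ₗ f₁) = f₂ := hg
  rw [this]
  exact hf₂

variable [Module A₁ N₁] [IsScalarTower A₁ B₁ N₁] [Module A₂ N₂] [IsScalarTower A₂ B₂ N₂]

theorem flatInDimGE_of_models {n : ℕ} (f₁ : N →ₗ[B] N₁) (hf₁ : IsBaseChange B₁ f₁)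
    (f₂ : N →ₗ[B] N₂) (hf₂ : IsBaseChange B₂ f₂) (h : FlatCA.FlatInDimGE n A₁ B₁ N₁) :
    FlatCA.FlatInDimGE n A₂ B₂ N₂ := by
  obtain ⟨_, _, _, _, _, _, _, _, g, hg⟩ := exists_map_models (A := A) (A₁ := A₁) (A₂ := A₂)
    f₁ hf₁ f₂ hf₂
  exact flatInDimGE_baseChange g hg h

theorem flatInDimGE_of_models_descend {n : ℕ} [Module.Flat A₁ A₂]
    (hsurj : ∀ (t₁ : Ideal A₁) [t₁.IsPrime], ∃ t₂ : Ideal A₂, t₂.IsPrime ∧ t₂.LiesOver t₁)
    (halg : ∀ (t₁ : Ideal A₁) (t₂ : Ideal A₂) [t₁.IsPrime] [t₂.IsPrime] [t₂.LiesOver t₁],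
      rtd t₁ t₂ = 0) (f₁ : N →ₗ[B] N₁) (hf₁ : IsBaseChange B₁ f₁)
    (f₂ : N →ₗ[B] N₂) (hf₂ : IsBaseChange B₂ f₂) (h : FlatCA.FlatInDimGE n A₂ B₂ N₂) :
    FlatCA.FlatInDimGE n A₁ B₁ N₁ := by
  obtain ⟨_, _, _, _, _, _, _, _, g, hg⟩ := exists_map_models (A := A) (A₁ := A₁) (A₂ := A₂)
    f₁ hf₁ f₂ hf₂
  exact flatInDimGE_descend hsurj halg g hg h

end Compare

section FlatP

/-- All models of the base change of `(B, N)` to `A'` are flat in dimensions `≥ n`. -/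
def FlatP (n : ℕ) (A B N : Type u) [CommRing A] [CommRing B] [Algebra A B] [AddCommGroup N]
    [Module B N] (A' : Type u) [CommRing A'] [Algebra A A'] : Prop :=
  ∀ (B' N' : Type u) [CommRing B'] [Algebra B B'] [Algebra A' B'] [Algebra A B']
    [IsScalarTower A B B'] [IsScalarTower A A' B'] [Algebra.IsPushout A B A' B']
    [AddCommGroup N'] [Module B' N'] [Module B N'] [IsScalarTower B B' N'] [Module A' N']
    [IsScalarTower A' B' N'] (f : N →ₗ[B] N'), IsBaseChange B' f → FlatCA.FlatInDimGE n A' B' N'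

variable {A B N : Type u} [CommRing A] [CommRing B] [Algebra A B] [AddCommGroup N] [Module B N]
  {n : ℕ}

/-- It suffices to look at one model. -/
theorem flatP_iff {A' B' N' : Type u} [CommRing A'] [CommRing B'] [Algebra A A'] [Algebra B B']
    [Algebra A' B'] [Algebra A B'] [IsScalarTower A B B'] [IsScalarTower A A' B']
    [Algebra.IsPushout A B A' B'] [AddCommGroup N'] [Module B' N'] [Module B N']
    [IsScalarTower B B' N'] [Module A' N'] [IsScalarTower A' B' N'] (f : N →ₗ[B] N')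
    (hf : IsBaseChange B' f) : FlatP n A B N A' ↔ FlatCA.FlatInDimGE n A' B' N' :=
  ⟨fun h => h B' N' f hf, fun h _ _ _ _ _ _ _ _ _ _ _ _ _ _ _ f' hf' =>
    flatInDimGE_of_models (A := A) (A₁ := A') (A₂ := A') f hf f' hf' h⟩

theorem flatP_self_iff [Module A N] [IsScalarTower A B N] :
    FlatP n A B N A ↔ FlatCA.FlatInDimGE n A B N :=
  flatP_iff (A' := A) (B' := B) (LinearMap.id : N →ₗ[B] N)
    (IsBaseChange.of_equiv (TensorProduct.lid B N) fun x => by simp)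

variable {A₁ A₂ : Type u} [CommRing A₁] [CommRing A₂] [Algebra A A₁] [Algebra A A₂] [Algebra A₁ A₂]
  [IsScalarTower A A₁ A₂]

theorem FlatP.map (h : FlatP n A B N A₁) : FlatP n A B N A₂ := by
  obtain ⟨B₁, N₁, _, _, _, _, _, _, _, _, _, _, _, _, _, f₁, hf₁⟩ :=
    PushModel.exists_models (R := A) (S := B) (A := A₁) N
  intro B₂ N₂ _ _ _ _ _ _ _ _ _ _ _ _ _ f₂ hf₂
  exact flatInDimGE_of_models (A := A) (A₁ := A₁) (A₂ := A₂) f₁ hf₁ f₂ hf₂ (h B₁ N₁ f₁ hf₁)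

theorem FlatP.descend [Module.Flat A₁ A₂]
    (hsurj : ∀ (t₁ : Ideal A₁) [t₁.IsPrime], ∃ t₂ : Ideal A₂, t₂.IsPrime ∧ t₂.LiesOver t₁)
    (halg : ∀ (t₁ : Ideal A₁) (t₂ : Ideal A₂) [t₁.IsPrime] [t₂.IsPrime] [t₂.LiesOver t₁],
      rtd t₁ t₂ = 0) (h : FlatP n A B N A₂) : FlatP n A B N A₁ := by
  obtain ⟨B₂, N₂, _, _, _, _, _, _, _, _, _, _, _, _, _, f₂, hf₂⟩ :=
    PushModel.exists_models (R := A) (S := B) (A := A₂) N
  intro B₁ N₁ _ _ _ _ _ _ _ _ _ _ _ _ _ f₁ hf₁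
  exact flatInDimGE_of_models_descend (A := A) (A₁ := A₁) (A₂ := A₂) hsurj halg f₁ hf₁ f₂ hf₂
    (h B₂ N₂ f₂ hf₂)

/-- Descent along surjective etale (or flat quasi-finite) maps. -/
theorem FlatP.descend_quasiFinite [Module.Flat A₁ A₂] [Algebra.QuasiFinite A₁ A₂]
    (hsurj : ∀ (t₁ : Ideal A₁) [t₁.IsPrime], ∃ t₂ : Ideal A₂, t₂.IsPrime ∧ t₂.LiesOver t₁)
    (h : FlatP n A B N A₂) : FlatP n A B N A₁ :=
  h.descend hsurj fun t₁ t₂ _ _ _ => rtd_eq_zero_of_quasiFinite t₁ t₂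

/-- Descent along jointly surjective families of etale (or flat quasi-finite) maps. -/
theorem flatP_descend_family {ι : Type*} (R : ι → Type u) [∀ i, CommRing (R i)]
    [∀ i, Algebra A (R i)] [∀ i, Algebra A₁ (R i)] [∀ i, IsScalarTower A A₁ (R i)]
    [∀ i, Module.Flat A₁ (R i)] [∀ i, Algebra.QuasiFinite A₁ (R i)]
    (hsurj : ∀ (t₁ : Ideal A₁) [t₁.IsPrime], ∃ (i : ι) (t₂ : Ideal (R i)),
      t₂.IsPrime ∧ t₂.LiesOver t₁) (h : ∀ i, FlatP n A B N (R i)) : FlatP n A B N A₁ := by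
  intro B₁ N₁ _ _ _ _ _ _ _ _ _ _ _ _ _ f₁ hf₁
  rw [flatInDimGE_iff]
  intro t₁ Q₁ _ _ _ hQ₁
  obtain ⟨i, t₂, _, _⟩ := hsurj t₁
  obtain ⟨B₂, N₂, _, _, _, _, _, _, _, _, _, _, _, _, _, f₂, hf₂⟩ :=
    PushModel.exists_models (R := A) (S := B) (A := R i) N
  obtain ⟨_, _, _, _, _, _, _, _, g, hg⟩ := exists_map_models (A := A) (A₁ := A₁) (A₂ := R i)
    f₁ hf₁ f₂ hf₂
  exact rtd_lt_of_descend t₁ t₂ (rtd_eq_zero_of_quasiFinite t₁ t₂) g hg (h i B₂ N₂ f₂ hf₂) Q₁ hQ₁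

/-- `FlatP` of a base change. -/
theorem flatP_tower {B₁ N₁ : Type u} [CommRing B₁] [Algebra B B₁] [Algebra A₁ B₁] [Algebra A B₁]
    [IsScalarTower A B B₁] [IsScalarTower A A₁ B₁] [Algebra.IsPushout A B A₁ B₁] [AddCommGroup N₁]
    [Module B₁ N₁] [Module B N₁] [IsScalarTower B B₁ N₁] (f₁ : N →ₗ[B] N₁)
    (hf₁ : IsBaseChange B₁ f₁) : FlatP n A₁ B₁ N₁ A₂ ↔ FlatP n A B N A₂ := by
  obtain ⟨B₂, N₂, _, _, _, _, _, _, _, _, _, _, _, _, _, f₂, hf₂⟩ :=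
    PushModel.exists_models (R := A) (S := B) (A := A₂) N
  obtain ⟨_, _, _, _, _, _, _, _, g, hg⟩ := exists_map_models (A := A) (A₁ := A₁) (A₂ := A₂)
    f₁ hf₁ f₂ hf₂
  rw [flatP_iff f₂ hf₂, flatP_iff g hg]

end FlatP

end Groth.Agent.Flat2B.FlatFun
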