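import Groth.Agent.Flat2B.FlatFun
import Mathlib.RingTheory.AlgebraicIndependent.TranscendenceBasis
import Mathlib.RingTheory.FiniteType

/-!
# Flatness in large dimensions is automatic
-/

set_option autoImplicit false
universe u

namespace Groth.Agent.Flat2B.FlatLarge

open FlatDim FlatFun Groth.Agent.CycB.TrdegAlg

/-- The relative transcendence degree is bounded by the number of generators. -/
theorem rtd_le {A B : Type u} [CommRing A] [CommRing B] [Algebra A B] {m : ℕ}
    (φ : MvPolynomial (Fin m) A →ₐ[A] B) (hφ : Function.Surjective φ) (t : Ideal A) (Q : Ideal B)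
    [t.IsPrime] [Q.IsPrime] [Q.LiesOver t] : rtd t Q ≤ m := by
  rw [rtd_eq_trdeg_quotient]
  let q : A ⧸ t →+* B ⧸ Q := Ideal.quotientMap Q (algebraMap A B) (Ideal.over_def Q t).le
  let π : MvPolynomial (Fin m) (A ⧸ t) →+* B ⧸ Q :=
    MvPolynomial.eval₂Hom q (fun i => Ideal.Quotient.mk Q (φ (MvPolynomial.X i)))
  have h1 : π.comp (MvPolynomial.map (Ideal.Quotient.mk t)) =
      (Ideal.Quotient.mk Q).comp φ.toRingHom := by
    apply MvPolynomial.ringHom_ext
    · intro a
      simp [π, q]
    · intro i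
      simp [π]
  have hπ : Function.Surjective π := by
    intro y
    obtain ⟨b, rfl⟩ := Ideal.Quotient.mk_surjective y
    obtain ⟨x, rfl⟩ := hφ b
    exact ⟨MvPolynomial.map (Ideal.Quotient.mk t) x, congrArg (fun f => f x) h1⟩
  have h2 : π.comp MvPolynomial.C = q := by
    ext a
    simp [π]
  change trd q ≤ m
  rw [← h2]
  refine (trd_le_of_surjective _ _ hπ).trans ?_
  have h3 : trd (MvPolynomial.C : (A ⧸ t) →+* MvPolynomial (Fin m) (A ⧸ t)) =
      Algebra.trdeg (A ⧸ t) (MvPolynomial (Fin m) (A ⧸ t)) :=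
    trd_algebraMap
  rw [h3, MvPolynomial.trdeg_of_isDomain]
  simp

/-- For `n` large, everything is flat in dimensions `≥ n`. -/
theorem exists_forall_flatP {A B : Type u} [CommRing A] [CommRing B] [Algebra A B]
    [Algebra.FiniteType A B] (N : Type u) [AddCommGroup N] [Module B N] :
    ∃ m : ℕ, ∀ n ≥ m, ∀ (R : Type u) [CommRing R] [Algebra A R], FlatP n A B N R := by
  obtain ⟨m, f, hf⟩ := Algebra.FiniteType.iff_quotient_mvPolynomial''.mp
    (inferInstance : Algebra.FiniteType A B)
  refine ⟨m + 1, fun n hn R _ _ B' N' _ _ _ _ _ _ _ _ _ _ _ _ _ g hg => ?_⟩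
  rw [flatInDimGE_iff]
  intro t Q _ _ _ _
  let φ : MvPolynomial (Fin m) R →ₐ[R] B' :=
    MvPolynomial.aeval (fun i => algebraMap B B' (f (MvPolynomial.X i)))
  have h1 : ∀ x : MvPolynomial (Fin m) A,
      algebraMap B B' (f x) = φ (MvPolynomial.map (algebraMap A R) x) := by
    intro x
    induction x using MvPolynomial.induction_on with
    | C a =>
      rw [MvPolynomial.map_C, MvPolynomial.algHom_C, MvPolynomial.algHom_C,
        ← IsScalarTower.algebraMap_apply, ← IsScalarTower.algebraMap_apply]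
    | add p q hp hq => simp only [map_add, hp, hq]
    | mul_X p i hp => simp only [map_mul, hp, MvPolynomial.map_X, φ, MvPolynomial.aeval_X]
  have hφ : Function.Surjective φ := by
    intro b
    have hp : Algebra.IsPushout A R B B' := .symm inferInstance
    refine hp.out.inductionOn b (fun b => ∃ x, φ x = b) ⟨0, map_zero _⟩ ?_ ?_ ?_
    · intro x
      obtain ⟨x, rfl⟩ := hf x
      exact ⟨_, (h1 x).symm⟩
    · rintro r _ ⟨x, rfl⟩
      exact ⟨r • x, map_smul _ _ _⟩
    · rintro _ _ ⟨x, rfl⟩ ⟨y, rfl⟩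
      exact ⟨x + y, map_add _ _ _⟩
  refine (rtd_le φ hφ t Q).trans_lt ?_
  exact_mod_cast (show m < n by omega)

end Groth.Agent.Flat2B.FlatLarge
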