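import Groth.Agent.Flat2B.FlatAssembly
import Groth.Agent.Flat2B.FlatLarge
import Mathlib.AlgebraicGeometry.Morphisms.QuasiFinite
import Mathlib.AlgebraicGeometry.Morphisms.FinitePresentation

/-!
# Representability of `F_n` (Stacks 05UG): the descending induction
-/

set_option autoImplicit false
universe u

open CategoryTheory CategoryTheory.Limits AlgebraicGeometry

namespace Groth.Agent.Flat2B.FlatMain

open RepPred AlgPred FlatFun FlatRep FlatDim FlatAssembly

variable {A B N : Type u} [CommRing A] [CommRing B] [Algebra A B] [AddCommGroup N] [Module B N]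

theorem flatP_succ {n : ℕ} {R : Type u} [CommRing R] [Algebra A R] (h : FlatP n A B N R) :
    FlatP (n + 1) A B N R := by
  intro B' N' _ _ _ _ _ _ _ _ _ _ _ _ _ f hf
  have h1 := h B' N' f hf
  rw [flatInDimGE_iff] at h1 ⊢
  intro t Q _ _ _ hQ
  refine (h1 t Q hQ).trans ?_
  exact_mod_cast Nat.lt_succ_self n

/-- The functor `F_n` on schemes over `Spec A`. -/
abbrev F (n : ℕ) (A B N : Type u) [CommRing A] [CommRing B] [Algebra A B] [AddCommGroup N]
    [Module B N] : ∀ T : Scheme.{u}, (T ⟶ Spec (CommRingCat.of A)) → Prop :=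
  toSch (fun (R : Type u) [CommRing R] [Algebra A R] => FlatP n A B N R)

theorem step (hloc : LocalRep.{u}) (n : ℕ) [Algebra.FinitePresentation A B]
    [Module.FinitePresentation B N] (hpure : FlatCA.IsPure A B N)
    (ih : RepOver (F (n + 1) A B N) (𝟙 _)) : RepOver (F n A B N) (𝟙 _) := by
  obtain ⟨Z, j, _, _, _, hj⟩ := ih
  have hj' : ∀ (T : Scheme.{u}) (h : T ⟶ Spec (CommRingCat.of A)),
      F (n + 1) A B N T h ↔ ∃ g, g ≫ j = h := fun T h => by
    rw [← hj, Category.comp_id]
  refine repOver_of_local (etSheafPred_toSch (etAlgPred_flatP n)) j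
    (fun T h hT => (hj' T h).1 fun R t φ ht => ?_) fun y => ?_
  · have := hT R t φ ht
    let _ := φ.hom.toAlgebra
    exact flatP_succ (R := R) this
  · obtain ⟨A₀, v, hv, x, hx⟩ := exists_affine_nhd Z y
    obtain ⟨φ, hφ⟩ := Spec.map_surjective (v ≫ j)
    let _ : Algebra A A₀ := φ.hom.toAlgebra
    have hA₀ : Spec.map (CommRingCat.ofHom (algebraMap A A₀)) = v ≫ j := hφ
    have hfp : Algebra.FinitePresentation A A₀ := by
      have : LocallyOfFinitePresentation (Spec.map φ) := by rw [hφ]; infer_instance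
      rw [HasRingHomProperty.Spec_iff (P := @LocallyOfFinitePresentation)] at this
      exact this
    have hqf : Algebra.QuasiFinite A A₀ := by
      have h1 : LocallyOfFiniteType (Spec.map φ) := by rw [hφ]; infer_instance
      have h2 : Mono (Spec.map φ) := by rw [hφ]; infer_instance
      have : LocallyQuasiFinite (Spec.map φ) := inferInstance
      rw [HasRingHomProperty.Spec_iff (P := @LocallyQuasiFinite)] at this
      exact this
    obtain ⟨B₀, N₀, _, _, _, _, _, _, _, _, _, _, _, _, _, f₀, hf₀⟩ :=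
      PushModel.exists_models (R := A) (S := B) (A := A₀) N
    have : Algebra.IsPushout A A₀ B B₀ := .symm inferInstance
    have h4 : Algebra.FinitePresentation A₀ B₀ :=
      Algebra.FinitePresentation.equiv (Algebra.IsPushout.equiv A A₀ B B₀)
    have h5 : Module.FinitePresentation B₀ N₀ := Module.FinitePresentation.of_equiv hf₀.equiv
    have hflat : FlatP (n + 1) A₀ B₀ N₀ A₀ := by
      rw [flatP_tower (A := A) (A₁ := A₀) f₀ hf₀]
      have h6 : F (n + 1) A B N (Spec A₀) (Spec.map (CommRingCat.ofHom (algebraMap A A₀))) :=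
        (hj' _ _).2 ⟨v, hA₀.symm⟩
      exact (toSch_algebraMap (etAlgPred_flatP (n + 1)) A₀).1 h6
    let p₀ : Ideal A₀ := x.asIdeal
    have hp₀ : p₀.IsPrime := x.2
    have hpure₀ : FlatCA.IsPureAlong A₀ B₀ N₀ p₀ := by
      have : Algebra.QuasiFiniteAt A p₀ := inferInstance
      exact S1226.result N (p₀.under A) A₀ B₀ N₀ f₀ hf₀ p₀ (hpure _)
    obtain ⟨A₁, _, _, p₁, _, hp₁, hover, hrep⟩ := local_step hloc n hflat p₀ hpure₀
    let _ : Algebra A A₁ := ((algebraMap A₀ A₁).comp (algebraMap A A₀)).toAlgebra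
    have t1 : IsScalarTower A A₀ A₁ := .of_algebraMap_eq fun _ => rfl
    have hrep' : AlgRep (fun (R : Type u) [CommRing R] [Algebra A R] => FlatP n A B N R) A₁ :=
      hrep.changeBase fun R _ _ _ _ _ _ _ => (flatP_tower (A := A) (A₁ := A₀) f₀ hf₀).symm
    have het : Etale (Spec.map (CommRingCat.ofHom (algebraMap A₀ A₁))) := by
      rw [HasRingHomProperty.Spec_iff (P := @Etale)]
      change (algebraMap A₀ A₁).Etale
      rw [RingHom.etale_algebraMap]
      infer_instance
    refine ⟨Spec (CommRingCat.of A₁), Spec.map (CommRingCat.ofHom (algebraMap A₀ A₁)) ≫ v,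
      inferInstance, inferInstance, ⟨⟨p₁, hp₁⟩, ?_⟩, ?_⟩
    · rw [Scheme.Hom.comp_apply, ← hx]
      congr 1
      exact PrimeSpectrum.ext hover.over.symm
    · rw [algRep_iff (etAlgPred_flatP n)] at hrep'
      have h7 : (Spec.map (CommRingCat.ofHom (algebraMap A₀ A₁)) ≫ v) ≫ j =
          Spec.map (CommRingCat.ofHom (algebraMap A A₁)) := by
        rw [Category.assoc, ← hA₀]
        rw [IsScalarTower.algebraMap_eq A A₀ A₁, CommRingCat.ofHom_comp]
        exact (Spec.map_comp _ _).symm
      rw [h7]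
      exact hrep'

theorem main (hloc : LocalRep.{u}) (n : ℕ) [Algebra.FinitePresentation A B]
    [Module.FinitePresentation B N] (hpure : FlatCA.IsPure A B N) :
    RepOver (F n A B N) (𝟙 _) := by
  obtain ⟨m, hm⟩ := FlatLarge.exists_forall_flatP (A := A) (B := B) N
  have hlarge : ∀ n ≥ m, RepOver (F n A B N) (𝟙 _) := fun n hn =>
    repOver_true fun T g R t φ _ => by
      let _ := φ.hom.toAlgebra
      exact hm n hn R
  rcases le_total m n with h | h
  · exact hlarge n h
  · exact Nat.decreasingInduction (motive := fun k _ => RepOver (F k A B N) (𝟙 _))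
      (fun k _ ih => step hloc k hpure ih) (hlarge m le_rfl) h

end Groth.Agent.Flat2B.FlatMain
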