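import Groth.Agent.Flat2B.AlgPred
import Groth.Agent.Flat2B.FlatFun

/-!
# `FlatP` as a predicate on `A`-algebras; reduction of representability to an etale local question
-/

set_option autoImplicit false
universe u

open CategoryTheory CategoryTheory.Limits AlgebraicGeometry

namespace Groth.Agent.Flat2B.FlatRep

open RepPred AlgPred FlatFun

variable {A B N : Type u} [CommRing A] [CommRing B] [Algebra A B] [AddCommGroup N] [Module B N]

theorem etAlgPred_flatP (n : ℕ) :
    EtAlgPred (fun (R : Type u) [CommRing R] [Algebra A R] => FlatP n A B N R) where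
  map R R' _ _ _ _ _ _ h := h.map
  desc R _ _ ι R' _ _ _ _ _ hsurj h := flatP_descend_family R' hsurj h

end Groth.Agent.Flat2B.FlatRep
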