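import Groth.Prelude.Def_FlatCA
import Groth.Prelude.Def_BlowUp2
import Mathlib.RingTheory.Flat.Basic
import Mathlib.RingTheory.Flat.Localization
import Mathlib.RingTheory.Flat.TorsionFree
import Mathlib.RingTheory.IsTensorProduct

/-!
# Flattening by blowing up, universal ring form: definitions and formal lemmas

`Flattens R N I`: for every `R`-algebra `R'` on which `I` becomes principal generated by a
nonzerodivisor `x`, the strict transform `(R' ⊗ N) / (x-power torsion)` is flat over `R'`.
-/

set_option autoImplicit false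
universe u v w

namespace Groth.Agent.Flat2B.Flatten

open TensorProduct

section powTors

variable (R : Type u) [CommRing R] (x : R) (M : Type v) [AddCommGroup M] [Module R M]

/-- The submodule of elements killed by a power of `x`. -/
def powTors : Submodule R M where
  carrier := {m | ∃ n : ℕ, x ^ n • m = 0}
  add_mem' := by
    rintro a b ⟨n, hn⟩ ⟨m, hm⟩
    refine ⟨n + m, ?_⟩
    rw [smul_add, pow_add, mul_smul, mul_smul, smul_comm (x ^ n) (x ^ m) a, hn, hm]
    simp
  zero_mem' := ⟨0, smul_zero _⟩
  smul_mem' := by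
    rintro c a ⟨n, hn⟩
    exact ⟨n, by rw [smul_comm, hn, smul_zero]⟩

variable {R x M}

theorem mem_powTors {m : M} : m ∈ powTors R x M ↔ ∃ n : ℕ, x ^ n • m = 0 := Iff.rfl

/-- Comparison with the prelude's definition. -/
theorem powTorsion_eq {R : Type u} [CommRing R] {x : R} {M : Type u} [AddCommGroup M] [Module R M] :
    FlatCA.powTorsion R x M = powTors R x M := by
  apply le_antisymm
  · refine iSup_le fun n m hm => ?_
    exact ⟨n, (Submodule.mem_torsionBy_iff _ _).mp hm⟩
  · rintro m ⟨n, hn⟩
    exact (le_iSup (fun n : ℕ => Submodule.torsionBy R M (x ^ n)) n)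
      ((Submodule.mem_torsionBy_iff _ _).mpr hn)

theorem powTors_eq_bot_of_isSMulRegular (h : IsSMulRegular M x) : powTors R x M = ⊥ := by
  rw [eq_bot_iff]
  rintro m ⟨n, hn⟩
  exact (h.pow n) (by simpa using hn)

/-- `x` is regular on the quotient by the `x`-power torsion. -/
theorem isSMulRegular_quotient_powTors : IsSMulRegular (M ⧸ powTors R x M) x := by
  rw [isSMulRegular_iff_right_eq_zero_of_smul]
  intro m hm
  obtain ⟨m, rfl⟩ := Submodule.Quotient.mk_surjective _ m
  rw [← Submodule.Quotient.mk_smul, Submodule.Quotient.mk_eq_zero] at hm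
  obtain ⟨n, hn⟩ := hm
  rw [Submodule.Quotient.mk_eq_zero]
  exact ⟨n + 1, by rw [pow_succ, mul_smul, hn]⟩

theorem powTors_mono_of_dvd {x y : R} (k : ℕ) (h : y ∣ x ^ k) : powTors R y M ≤ powTors R x M := by
  rintro m ⟨n, hn⟩
  obtain ⟨z, hz⟩ := h
  refine ⟨k * n, ?_⟩
  rw [pow_mul, hz, mul_pow, mul_comm, mul_smul, hn, smul_zero]

/-- The `x`-power torsion is preserved by linear equivalences. -/
theorem map_powTors {N : Type w} [AddCommGroup N] [Module R N] (e : M ≃ₗ[R] N) :
    (powTors R x M).map e.toLinearMap = powTors R x N := by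
  ext n
  constructor
  · rintro ⟨m, ⟨k, hk⟩, rfl⟩
    exact ⟨k, by rw [LinearEquiv.coe_coe, ← map_smul, hk, map_zero]⟩
  · rintro ⟨k, hk⟩
    exact ⟨e.symm n, ⟨k, by rw [← map_smul, hk, map_zero]⟩, by simp⟩

theorem map_powTors_le {N : Type w} [AddCommGroup N] [Module R N] (f : M →ₗ[R] N) :
    powTors R x M ≤ (powTors R x N).comap f := by
  rintro m ⟨k, hk⟩
  exact ⟨k, by rw [← map_smul, hk, map_zero]⟩

variable (R x) in
/-- The functoriality of `M / (x-power torsion)` for equivalences. -/
noncomputable def quotEquiv {N : Type w} [AddCommGroup N] [Module R N] (e : M ≃ₗ[R] N) :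
    (M ⧸ powTors R x M) ≃ₗ[R] (N ⧸ powTors R x N) :=
  Submodule.Quotient.equiv _ _ e (map_powTors e)

end powTors

section BaseChange

variable {R : Type u} [CommRing R] {x : R} {M : Type v} [AddCommGroup M] [Module R M]
  {R' : Type w} [CommRing R'] [Algebra R R']

theorem ker_baseChange_mkQ
    (hreg : IsSMulRegular (R' ⊗[R] (M ⧸ powTors R x M)) (algebraMap R R' x)) :
    LinearMap.ker ((powTors R x M).mkQ.baseChange R') =
      powTors R' (algebraMap R R' x) (R' ⊗[R] M) := by
  apply le_antisymm
  · intro z hz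
    have hz' : (powTors R x M).mkQ.lTensor R' z = 0 := hz
    obtain ⟨w, rfl⟩ := (lTensor_exact R' (f := (powTors R x M).subtype) (g := (powTors R x M).mkQ)
      (by rw [LinearMap.exact_iff, Submodule.ker_mkQ, Submodule.range_subtype])
      (Submodule.mkQ_surjective _) z).mp hz'
    clear hz hz'
    induction w with
    | zero => rw [map_zero]; exact Submodule.zero_mem _
    | add a b ha hb => rw [map_add]; exact Submodule.add_mem _ ha hb
    | tmul r t =>
      obtain ⟨n, hn⟩ := t.2
      refine ⟨n, ?_⟩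
      rw [LinearMap.lTensor_tmul, ← map_pow, algebraMap_smul, ← TensorProduct.tmul_smul,
        Submodule.subtype_apply, hn, TensorProduct.tmul_zero]
  · rintro z ⟨n, hn⟩
    rw [LinearMap.mem_ker]
    apply hreg.pow n
    change algebraMap R R' x ^ n • _ = algebraMap R R' x ^ n • _
    rw [← map_smul, hn, map_zero, smul_zero]

/-- Base change of the quotient by the power torsion, when no new torsion appears. -/
noncomputable def baseChangeEquiv
    (hreg : IsSMulRegular (R' ⊗[R] (M ⧸ powTors R x M)) (algebraMap R R' x)) :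
    ((R' ⊗[R] M) ⧸ powTors R' (algebraMap R R' x) (R' ⊗[R] M)) ≃ₗ[R']
      R' ⊗[R] (M ⧸ powTors R x M) :=
  (Submodule.quotEquivOfEq _ _ (ker_baseChange_mkQ hreg).symm).trans
    (((powTors R x M).mkQ.baseChange R').quotKerEquivOfSurjective
      (LinearMap.lTensor_surjective R' (Submodule.mkQ_surjective _)))

/-- Over a flat algebra no new torsion appears. -/
theorem isSMulRegular_baseChange_of_flat [Module.Flat R R'] :
    IsSMulRegular (R' ⊗[R] (M ⧸ powTors R x M)) (algebraMap R R' x) :=
  IsSMulRegular.of_flat_of_isBaseChange (TensorProduct.isBaseChange R (M ⧸ powTors R x M) R')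
    isSMulRegular_quotient_powTors

/-- If the quotient by the power torsion is flat no new torsion appears after any base change for
which `x` stays a nonzerodivisor. -/
theorem isSMulRegular_baseChange_of_flat_quotient [Module.Flat R (M ⧸ powTors R x M)]
    (hx : algebraMap R R' x ∈ nonZeroDivisors R') :
    IsSMulRegular (R' ⊗[R] (M ⧸ powTors R x M)) (algebraMap R R' x) := by
  have h := Module.Flat.isSMulRegular_of_nonZeroDivisors (R := R')
    (M := R' ⊗[R] (M ⧸ powTors R x M)) hx
  exact h

end BaseChange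

section Defs

variable (R : Type u) [CommRing R] (N : Type u) [AddCommGroup N] [Module R N]

/-- The strict transform of `N` along `R → R'` with respect to `x` is flat. -/
def StrictFlat (R' : Type u) [CommRing R'] [Algebra R R'] (x : R') : Prop :=
  Module.Flat R' ((R' ⊗[R] N) ⧸ powTors R' x (R' ⊗[R] N))

/-- Wherever the ideal `I` becomes invertible principal, the strict transform of `N` is flat. -/
def Flattens (I : Ideal R) : Prop :=
  ∀ (R' : Type u) [CommRing R'] [Algebra R R'] (x : R'), x ∈ nonZeroDivisors R' →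
    I.map (algebraMap R R') = Ideal.span {x} → StrictFlat R N R' x

variable {R} in
/-- `I` is finitely generated and `V(I) ⊆ V(𝔞)`. -/
def Adm (𝔞 I : Ideal R) : Prop := I.FG ∧ 𝔞 ≤ I.radical

/-- Some finitely generated ideal with `V(I) ⊆ V(𝔞)` flattens `N`. -/
def CanFlatten (𝔞 : Ideal R) : Prop := ∃ I : Ideal R, Adm 𝔞 I ∧ Flattens R N I

end Defs

section StrictFlat

variable {R : Type u} [CommRing R] {N : Type u} [AddCommGroup N] [Module R N]
  {R' : Type u} [CommRing R'] [Algebra R R'] {x y : R'}

/-- `StrictFlat` only depends on the module up to isomorphism. -/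
theorem StrictFlat.congr {N₂ : Type u} [AddCommGroup N₂] [Module R N₂] (e : N ≃ₗ[R] N₂)
    (h : StrictFlat R N R' x) : StrictFlat R N₂ R' x := by
  have : Module.Flat R' ((R' ⊗[R] N) ⧸ powTors R' x (R' ⊗[R] N)) := h
  exact Module.Flat.of_linearEquiv (quotEquiv R' x (e.baseChange R R' N N₂)).symm

theorem Flattens.congr {I : Ideal R} {N₂ : Type u} [AddCommGroup N₂] [Module R N₂] (e : N ≃ₗ[R] N₂)
    (h : Flattens R N I) : Flattens R N₂ I :=
  fun R' _ _ x hx hI => (h R' x hx hI).congr e

theorem CanFlatten.congr {𝔞 : Ideal R} {N₂ : Type u} [AddCommGroup N₂] [Module R N₂]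
    (e : N ≃ₗ[R] N₂) (h : CanFlatten R N 𝔞) : CanFlatten R N₂ 𝔞 := by
  obtain ⟨I, h1, h2⟩ := h
  exact ⟨I, h1, h2.congr e⟩

/-- Model form: any base change `N'` of `N` to `R'`. -/
theorem strictFlat_iff_of_equiv {N' : Type v} [AddCommGroup N'] [Module R' N']
    (e : (R' ⊗[R] N) ≃ₗ[R'] N') :
    StrictFlat R N R' x ↔ Module.Flat R' (N' ⧸ powTors R' x N') := by
  constructor
  · intro h
    have : Module.Flat R' ((R' ⊗[R] N) ⧸ powTors R' x (R' ⊗[R] N)) := h
    exact Module.Flat.of_linearEquiv (quotEquiv R' x e).symm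
  · intro h
    exact Module.Flat.of_linearEquiv (quotEquiv R' x e)

/-- If the strict transform with respect to `y` is flat and `y` divides a power of the
nonzerodivisor `x`, then the torsions with respect to `x` and `y` agree. -/
theorem powTors_eq_of_dvd {M : Type v} [AddCommGroup M] [Module R' M]
    (h : Module.Flat R' (M ⧸ powTors R' y M)) (hx : x ∈ nonZeroDivisors R') (k : ℕ)
    (hyx : y ∣ x ^ k) : powTors R' x M = powTors R' y M := by
  apply le_antisymm
  · rintro m ⟨n, hn⟩
    rw [← Submodule.Quotient.mk_eq_zero]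
    have h1 : IsSMulRegular (M ⧸ powTors R' y M) x := Module.Flat.isSMulRegular_of_nonZeroDivisors hx
    apply h1.pow n
    change x ^ n • _ = x ^ n • _
    rw [← Submodule.Quotient.mk_smul, hn, smul_zero, Submodule.Quotient.mk_zero]
  · exact powTors_mono_of_dvd k hyx

theorem StrictFlat.of_dvd (h : StrictFlat R N R' y) (hx : x ∈ nonZeroDivisors R') (k : ℕ)
    (hyx : y ∣ x ^ k) : StrictFlat R N R' x := by
  have h' : Module.Flat R' ((R' ⊗[R] N) ⧸ powTors R' y (R' ⊗[R] N)) := h
  unfold StrictFlat
  rw [powTors_eq_of_dvd h' hx k hyx]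
  exact h'

/-- Strict flatness passes to further base change (keeping `x` a nonzerodivisor). -/
theorem StrictFlat.baseChange (h : StrictFlat R N R' x) (R'' : Type u) [CommRing R'']
    [Algebra R' R''] [Algebra R R''] [IsScalarTower R R' R'']
    (hx : algebraMap R' R'' x ∈ nonZeroDivisors R'') :
    StrictFlat R N R'' (algebraMap R' R'' x) := by
  have h' : Module.Flat R' ((R' ⊗[R] N) ⧸ powTors R' x (R' ⊗[R] N)) := h
  rw [strictFlat_iff_of_equiv (TensorProduct.AlgebraTensorModule.cancelBaseChange R R' R'' R'' N).symm]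
  exact Module.Flat.of_linearEquiv
    (baseChangeEquiv (isSMulRegular_baseChange_of_flat_quotient hx))

/-- Strict flatness is local on the base. -/
theorem StrictFlat.of_cover (s : Set R') (hs : Ideal.span s = ⊤)
    (h : ∀ g ∈ s, StrictFlat R N (Localization.Away g) (algebraMap R' (Localization.Away g) x)) :
    StrictFlat R N R' x := by
  refine Module.flat_of_isLocalized_span R' _ s hs
    (fun g => Localization.Away g.1 ⊗[R'] ((R' ⊗[R] N) ⧸ powTors R' x (R' ⊗[R] N)))
    (fun g => TensorProduct.mk R' (Localization.Away g.1) _ 1) (fun g => ?_)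
  have h1 := h g.1 g.2
  rw [strictFlat_iff_of_equiv (TensorProduct.AlgebraTensorModule.cancelBaseChange R R'
    (Localization.Away g.1) (Localization.Away g.1) N).symm] at h1
  have : Module.Flat R' (Localization.Away g.1) := IsLocalization.flat _ (Submonoid.powers g.1)
  have h2 : Module.Flat (Localization.Away g.1)
      (Localization.Away g.1 ⊗[R'] ((R' ⊗[R] N) ⧸ powTors R' x (R' ⊗[R] N))) :=
    Module.Flat.of_linearEquiv (baseChangeEquiv (isSMulRegular_baseChange_of_flat)).symm
  exact Module.Flat.trans R' (Localization.Away g.1) _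

end StrictFlat

section Adm

variable {R : Type u} [CommRing R] {𝔞 I J : Ideal R}

theorem Adm.mul (h1 : Adm 𝔞 I) (h2 : Adm 𝔞 J) : Adm 𝔞 (I * J) :=
  ⟨h1.1.mul h2.1, by rw [Ideal.radical_mul]; exact le_inf h1.2 h2.2⟩

theorem Adm.top : Adm 𝔞 (⊤ : Ideal R) := ⟨⟨{1}, by simp⟩, by
  rw [Ideal.radical_top]; exact le_top⟩

theorem Adm.self (h : 𝔞.FG) : Adm 𝔞 𝔞 := ⟨h, Ideal.le_radical⟩

theorem Adm.map {R' : Type v} [CommRing R'] (f : R →+* R') (h : Adm 𝔞 I) :
    Adm (𝔞.map f) (I.map f) :=
  ⟨h.1.map f, (Ideal.map_mono h.2).trans (Ideal.map_radical_le f)⟩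

end Adm

end Groth.Agent.Flat2B.Flatten
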