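import Groth.Prelude.Def_FlatCA
import Groth.Agent.Flat2B.EtaleNhd
import Groth.Agent.Flat2B.BCTools
import Groth.Agent.Flat2B.LocTransfer
import Groth.Agent.Proet.EtaleLiftLoc
import Groth.Agent.S0582

/-!
Tools for Stacks 05MF.
-/

set_option autoImplicit false

universe u

namespace Groth.Agent.Flat2B.FreeNhd

open TensorProduct AlgebraicGeometry CategoryTheory

/-- Restriction of scalars of an isomorphism. -/
def restrictCongr (A C : Type u) [CommRing A] [CommRing C] [Algebra A C] {X Y : Type u} [AddCommGroup X]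
    [AddCommGroup Y] [Module C X] [Module C Y] (e : X ≃ₗ[C] Y) :
    RestrictScalars A C X ≃ₗ[A] RestrictScalars A C Y where
  toFun := e
  invFun := e.symm
  left_inv := e.left_inv
  right_inv := e.right_inv
  map_add' := e.map_add
  map_smul' := fun a x => e.map_smul (algebraMap A C a) x

/-- Base change of a projective module over a local ring is free. -/
theorem free_of_projective {A₂ A₃ C C₃ Y Z : Type u} [CommRing A₂] [CommRing A₃] [CommRing C] [CommRing C₃]
    [IsLocalRing A₃] [Algebra A₂ A₃] [Algebra A₂ C] [Algebra A₂ C₃] [Algebra A₃ C₃] [Algebra C C₃]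
    [IsScalarTower A₂ A₃ C₃] [IsScalarTower A₂ C C₃] [Algebra.IsPushout A₂ C A₃ C₃]
    [AddCommGroup Y] [Module C Y] (hY : Module.Projective A₂ (RestrictScalars A₂ C Y))
    [AddCommGroup Z] [Module C₃ Z] [Module C Z] [IsScalarTower C C₃ Z] (f : Y →ₗ[C] Z)
    (hf : IsBaseChange C₃ f) :
    Module.Free A₃ (RestrictScalars A₃ C₃ Z) := by
  letI m1 : Module A₂ Y := Module.compHom Y (algebraMap A₂ C)
  haveI t1 : IsScalarTower A₂ C Y := IsScalarTower.of_algebraMap_smul fun _ _ => rfl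
  haveI hY' : Module.Projective A₂ Y := hY
  letI m2 : Module A₃ Z := Module.compHom Z (algebraMap A₃ C₃)
  letI m3 : Module A₂ Z := Module.compHom Z (algebraMap A₂ C₃)
  haveI t2 : IsScalarTower A₃ C₃ Z := IsScalarTower.of_algebraMap_smul fun _ _ => rfl
  haveI t3 : IsScalarTower A₂ C₃ Z := IsScalarTower.of_algebraMap_smul fun _ _ => rfl
  haveI t4 : IsScalarTower A₂ A₃ Z := by
    apply IsScalarTower.of_algebraMap_smul
    intro a z
    rw [← algebraMap_smul C₃ (algebraMap A₂ A₃ a) z, ← algebraMap_smul C₃ a z,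
      ← IsScalarTower.algebraMap_apply]
  haveI t5 : IsScalarTower A₂ C Z := by
    apply IsScalarTower.of_algebraMap_smul
    intro a z
    rw [← algebraMap_smul C₃ (algebraMap A₂ C a) z, ← algebraMap_smul C₃ a z,
      ← IsScalarTower.algebraMap_apply]
  have h1 : IsBaseChange A₃ (f.restrictScalars A₂) :=
    BCTools.isBaseChange_of_isPushout (S := A₂) (A := C) (S₁ := A₃) (A₁ := C₃) f hf
  haveI h2 : Module.Projective A₃ Z := Module.Projective.of_equiv h1.equiv
  exact Groth.Agent.S0582.result A₃ Z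

/-- Open immersions of affine schemes are stable under pushout of rings. -/
theorem isOpenImmersion_of_isPushout (R B R₁ B₁ : Type u) [CommRing R] [CommRing B] [CommRing R₁]
    [CommRing B₁] [Algebra R B] [Algebra R R₁] [Algebra R₁ B₁] [Algebra B B₁] [Algebra R B₁]
    [IsScalarTower R B B₁] [IsScalarTower R R₁ B₁] [Algebra.IsPushout R B R₁ B₁]
    (h : IsOpenImmersion (Spec.map (CommRingCat.ofHom (algebraMap R B)))) :
    IsOpenImmersion (Spec.map (CommRingCat.ofHom (algebraMap R₁ B₁))) :=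
  MorphismProperty.of_isPullback (P := @IsOpenImmersion) (BCTools.isPullback_Spec R B R₁ B₁) h

theorem isOpenImmersion_comp (A B C : Type u) [CommRing A] [CommRing B] [CommRing C] [Algebra A B]
    [Algebra B C] [Algebra A C] [IsScalarTower A B C]
    (h1 : IsOpenImmersion (Spec.map (CommRingCat.ofHom (algebraMap A B))))
    (h2 : IsOpenImmersion (Spec.map (CommRingCat.ofHom (algebraMap B C)))) :
    IsOpenImmersion (Spec.map (CommRingCat.ofHom (algebraMap A C))) := by
  rw [IsScalarTower.algebraMap_eq A B C, CommRingCat.ofHom_comp, Spec.map_comp]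
  infer_instance

/-- An elementary étale neighbourhood of the local ring `R_p` comes from one of `R`. -/
theorem exists_lift_nhd {R : Type u} [CommRing R] (p : Ideal R) [p.IsPrime] {A : Type u} [CommRing A]
    [Algebra (Localization.AtPrime p) A] [Algebra R A] [IsScalarTower R (Localization.AtPrime p) A]
    (m : Ideal A) [m.IsPrime]
    (h : FlatCA.IsEtaleNhd (Localization.AtPrime p) A (IsLocalRing.maximalIdeal (Localization.AtPrime p)) m) :
    ∃ (R' : Type u) (_ : CommRing R') (_ : Algebra R R') (p' : Ideal R') (_ : p'.IsPrime)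
      (_ : Algebra A (Localization.AtPrime p')), IsScalarTower R A (Localization.AtPrime p') ∧
      FlatCA.IsEtaleNhd R R' p p' ∧ (IsLocalRing.maximalIdeal (Localization.AtPrime p')).LiesOver m := by
  haveI := h.1
  obtain ⟨R', _, _, hEt, ⟨e⟩⟩ := Proet.EtaleLiftLoc.exists_etale_lift_of_isLocalization R
    (Localization.AtPrime p) A p.primeCompl
  letI a1 : Algebra R' A := (e.toRingHom.comp
    (Algebra.TensorProduct.includeRight : R' →ₐ[R] Localization.AtPrime p ⊗[R] R').toRingHom).toAlgebra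
  haveI t1 : IsScalarTower R R' A := IsScalarTower.of_algebraMap_eq fun r => by
    change algebraMap R A r = e ((1 : Localization.AtPrime p) ⊗ₜ[R] algebraMap R R' r)
    have h1 : (1 : Localization.AtPrime p) ⊗ₜ[R] algebraMap R R' r =
        algebraMap R (Localization.AtPrime p) r ⊗ₜ[R] (1 : R') := by
      rw [Algebra.algebraMap_eq_smul_one, TensorProduct.tmul_smul, TensorProduct.smul_tmul',
        ← Algebra.algebraMap_eq_smul_one]
    rw [h1, IsScalarTower.algebraMap_apply R (Localization.AtPrime p) A]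
    exact (e.commutes _).symm
  haveI hpo : Algebra.IsPushout R R' (Localization.AtPrime p) A := by
    refine Algebra.IsPushout.symm ?_
    letI : Algebra R' (Localization.AtPrime p ⊗[R] R') := Algebra.TensorProduct.rightAlgebra
    refine Algebra.IsPushout.of_equiv (S' := Localization.AtPrime p ⊗[R] R') e ?_
    rfl
  haveI hloc : IsLocalization (Algebra.algebraMapSubmonoid R' p.primeCompl) A :=
    (Algebra.isLocalization_iff_isPushout _ (Localization.AtPrime p)).mpr hpo
  let p' : Ideal R' := m.comap (algebraMap R' A)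
  haveI hmp' : m.LiesOver p' := ⟨rfl⟩
  haveI hm : m.LiesOver (IsLocalRing.maximalIdeal (Localization.AtPrime p)) := h.2.1
  haveI hmp : m.LiesOver p := by
    haveI := EtaleNhd.liesOver_maximalIdeal_atPrime p
    exact Ideal.LiesOver.trans m (IsLocalRing.maximalIdeal (Localization.AtPrime p)) p
  haveI hp'p : p'.LiesOver p := ⟨by
    rw [Ideal.over_def m p, Ideal.under_def, Ideal.under_def, Ideal.comap_comap,
      ← IsScalarTower.algebraMap_eq]⟩
  have hres : EtaleNhd.ResTriv R R' p p' := by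
    haveI := EtaleNhd.liesOver_maximalIdeal_atPrime p
    have h1 : EtaleNhd.ResTriv R (Localization.AtPrime p) p
        (IsLocalRing.maximalIdeal (Localization.AtPrime p)) :=
      EtaleNhd.resTriv_of_isLocalization p.primeCompl p (fun _ h => h) _
    have h2 : EtaleNhd.ResTriv R A p m := h1.trans (EtaleNhd.resTriv h)
    exact h2.of_comp_left
  -- the map `A → R'_{p'}`
  have hunit : ∀ y : Algebra.algebraMapSubmonoid R' p.primeCompl,
      IsUnit (algebraMap R' (Localization.AtPrime p') y) := by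
    rintro ⟨y, x, hx, rfl⟩
    refine IsLocalization.map_units (Localization.AtPrime p') (⟨algebraMap R R' x, ?_⟩ : p'.primeCompl)
    intro h3
    apply hx
    have h4 : x ∈ p'.comap (algebraMap R R') := h3
    rw [← Ideal.under_def, ← Ideal.over_def p' p] at h4
    exact h4
  let φ : A →+* Localization.AtPrime p' := IsLocalization.lift hunit
  have hφ : ∀ x, φ (algebraMap R' A x) = algebraMap R' (Localization.AtPrime p') x :=
    fun x => IsLocalization.lift_eq hunit x
  letI a2 : Algebra A (Localization.AtPrime p') := φ.toAlgebra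
  haveI t2 : IsScalarTower R' A (Localization.AtPrime p') := IsScalarTower.of_algebraMap_eq fun x => (hφ x).symm
  haveI t3 : IsScalarTower R A (Localization.AtPrime p') := IsScalarTower.of_algebraMap_eq fun x => by
    rw [IsScalarTower.algebraMap_apply R R' A, ← IsScalarTower.algebraMap_apply R' A,
      ← IsScalarTower.algebraMap_apply R R' (Localization.AtPrime p')]
  refine ⟨R', inferInstance, inferInstance, p', inferInstance, a2, t3, EtaleNhd.isEtaleNhd_of hres, ⟨?_⟩⟩
  have h5 := IsLocalization.map_under (Algebra.algebraMapSubmonoid R' p.primeCompl) A m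
  have h6 := IsLocalization.map_under (Algebra.algebraMapSubmonoid R' p.primeCompl) A
    ((IsLocalRing.maximalIdeal (Localization.AtPrime p')).under A)
  refine h5.symm.trans (Eq.trans (congrArg _ ?_) h6)
  rw [Ideal.under_def (A := R') (Ideal.under A _), Ideal.under_def (A := A), Ideal.comap_comap,
    ← IsScalarTower.algebraMap_eq]
  exact (IsLocalization.AtPrime.under_maximalIdeal (Localization.AtPrime p') p').symm

/-- Variant of `free_of_projective` for modules extended from `S`. -/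
theorem free_of_projective' {S A₂ A₃ C C₃ N Z : Type u} [CommRing S] [CommRing A₂] [CommRing A₃] [CommRing C]
    [CommRing C₃] [IsLocalRing A₃] [Algebra A₂ A₃] [Algebra A₂ C] [Algebra A₂ C₃] [Algebra A₃ C₃] [Algebra C C₃]
    [IsScalarTower A₂ A₃ C₃] [IsScalarTower A₂ C C₃] [Algebra.IsPushout A₂ C A₃ C₃]
    [Algebra S C] [Algebra S C₃] [IsScalarTower S C C₃]
    [AddCommGroup N] [Module S N] (hY : Module.Projective A₂ (RestrictScalars A₂ C (C ⊗[S] N)))
    [AddCommGroup Z] [Module C₃ Z] [Module S Z] [IsScalarTower S C₃ Z] (g : N →ₗ[S] Z)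
    (hg : IsBaseChange C₃ g) :
    Module.Free A₃ (RestrictScalars A₃ C₃ Z) := by
  letI m1 : Module C Z := Module.compHom Z (algebraMap C C₃)
  haveI t1 : IsScalarTower C C₃ Z := IsScalarTower.of_algebraMap_smul fun _ _ => rfl
  haveI t2 : IsScalarTower S C Z := by
    apply IsScalarTower.of_algebraMap_smul
    intro a z
    rw [← algebraMap_smul C₃ (algebraMap S C a) z, ← algebraMap_smul C₃ a z,
      ← IsScalarTower.algebraMap_apply]
  let f : C ⊗[S] N →ₗ[C] Z := (TensorProduct.isBaseChange S N C).lift g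
  have hf : IsBaseChange C₃ f := by
    refine IsBaseChange.of_comp (TensorProduct.isBaseChange S N C) ?_
    have : (f.restrictScalars S).comp (TensorProduct.mk S C N 1) = g :=
      (TensorProduct.isBaseChange S N C).lift_comp g
    rw [this]
    exact hg
  exact free_of_projective hY f hf

/-- Base change of an open subscheme `Spec C` of `Spec (S ⊗ A₂)` along `A₂ → A₃`. -/
theorem open_step {R S A₂ C A₃ SA S₂ C₃ : Type u} [CommRing R] [CommRing S] [CommRing A₂] [CommRing C]
    [CommRing A₃] [CommRing SA] [CommRing S₂] [CommRing C₃]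
    [Algebra R S] [Algebra R A₂] [Algebra R A₃] [Algebra A₂ A₃] [IsScalarTower R A₂ A₃]
    [Algebra S C] [Algebra A₂ C] [Algebra R C] [IsScalarTower R S C] [IsScalarTower R A₂ C]
    [Algebra R S₂] [Algebra S S₂] [Algebra A₂ S₂] [IsScalarTower R S S₂] [IsScalarTower R A₂ S₂]
    [Algebra.IsPushout R S A₂ S₂] [Algebra S₂ C] [IsScalarTower S S₂ C] [IsScalarTower A₂ S₂ C]
    (hopen : IsOpenImmersion (Spec.map (CommRingCat.ofHom (algebraMap S₂ C))))
    [Algebra R SA] [Algebra S SA] [Algebra A₃ SA] [IsScalarTower R S SA] [IsScalarTower R A₃ SA]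
    [Algebra.IsPushout R S A₃ SA]
    [Algebra C C₃] [Algebra A₃ C₃] [Algebra A₂ C₃]
    [IsScalarTower A₂ A₃ C₃] [IsScalarTower A₂ C C₃] [Algebra.IsPushout A₂ C A₃ C₃]
    [Algebra S C₃] [IsScalarTower S C C₃] :
    ∃ (_ : Algebra SA C₃), IsScalarTower A₃ SA C₃ ∧ IsScalarTower S SA C₃ ∧
      IsOpenImmersion (Spec.map (CommRingCat.ofHom (algebraMap SA C₃))) := by
  letI aRC₃ : Algebra R C₃ := ((algebraMap S C₃).comp (algebraMap R S)).toAlgebra
  haveI tRSC₃ : IsScalarTower R S C₃ := IsScalarTower.of_algebraMap_eq' rfl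
  haveI tRCC₃ : IsScalarTower R C C₃ := IsScalarTower.of_algebraMap_eq' (by
    rw [IsScalarTower.algebraMap_eq R S C₃, IsScalarTower.algebraMap_eq S C C₃, RingHom.comp_assoc,
      ← IsScalarTower.algebraMap_eq R S C])
  haveI tRA₃C₃ : IsScalarTower R A₃ C₃ := IsScalarTower.of_algebraMap_eq' (by
    rw [IsScalarTower.algebraMap_eq R C C₃, IsScalarTower.algebraMap_eq R A₂ C, ← RingHom.comp_assoc,
      ← IsScalarTower.algebraMap_eq A₂ C C₃, IsScalarTower.algebraMap_eq A₂ A₃ C₃, RingHom.comp_assoc,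
      ← IsScalarTower.algebraMap_eq R A₂ A₃])
  -- `SA → C₃`
  let φ : SA →ₐ[R] C₃ := Algebra.pushoutDesc SA (IsScalarTower.toAlgHom R S C₃)
    (IsScalarTower.toAlgHom R A₃ C₃) (fun _ _ => mul_comm _ _)
  letI aSAC₃ : Algebra SA C₃ := φ.toRingHom.toAlgebra
  haveI tSSAC₃ : IsScalarTower S SA C₃ := IsScalarTower.of_algebraMap_eq fun s =>
    (Algebra.pushoutDesc_left SA (IsScalarTower.toAlgHom R S C₃)
      (IsScalarTower.toAlgHom R A₃ C₃) (fun _ _ => mul_comm _ _) s).symm
  haveI tA₃SAC₃ : IsScalarTower A₃ SA C₃ := IsScalarTower.of_algebraMap_eq fun s =>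
    (Algebra.pushoutDesc_right SA (IsScalarTower.toAlgHom R S C₃)
      (IsScalarTower.toAlgHom R A₃ C₃) (fun _ _ => mul_comm _ _) s).symm
  -- `S₂ → SA`
  letI aA₂SA : Algebra A₂ SA := ((algebraMap A₃ SA).comp (algebraMap A₂ A₃)).toAlgebra
  haveI tA₂A₃SA : IsScalarTower A₂ A₃ SA := IsScalarTower.of_algebraMap_eq' rfl
  haveI tRA₂SA : IsScalarTower R A₂ SA := IsScalarTower.of_algebraMap_eq' (by
    rw [IsScalarTower.algebraMap_eq R A₃ SA, IsScalarTower.algebraMap_eq R A₂ A₃, ← RingHom.comp_assoc]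
    rfl)
  let ψ : S₂ →ₐ[R] SA := Algebra.pushoutDesc S₂ (IsScalarTower.toAlgHom R S SA)
    (IsScalarTower.toAlgHom R A₂ SA) (fun _ _ => mul_comm _ _)
  letI aS₂SA : Algebra S₂ SA := ψ.toRingHom.toAlgebra
  haveI tSS₂SA : IsScalarTower S S₂ SA := IsScalarTower.of_algebraMap_eq fun s =>
    (Algebra.pushoutDesc_left S₂ (IsScalarTower.toAlgHom R S SA)
      (IsScalarTower.toAlgHom R A₂ SA) (fun _ _ => mul_comm _ _) s).symm
  haveI tA₂S₂SA : IsScalarTower A₂ S₂ SA := IsScalarTower.of_algebraMap_eq fun s =>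
    (Algebra.pushoutDesc_right S₂ (IsScalarTower.toAlgHom R S SA)
      (IsScalarTower.toAlgHom R A₂ SA) (fun _ _ => mul_comm _ _) s).symm
  haveI tRS₂SA : IsScalarTower R S₂ SA := IsScalarTower.of_algebraMap_eq' (by
    rw [IsScalarTower.algebraMap_eq R S S₂, ← RingHom.comp_assoc, ← IsScalarTower.algebraMap_eq S S₂ SA,
      ← IsScalarTower.algebraMap_eq R S SA])
  -- `S₂ → C₃`
  letI aS₂C₃ : Algebra S₂ C₃ := ((algebraMap C C₃).comp (algebraMap S₂ C)).toAlgebra
  haveI tS₂CC₃ : IsScalarTower S₂ C C₃ := IsScalarTower.of_algebraMap_eq' rfl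
  haveI tRS₂C : IsScalarTower R S₂ C := IsScalarTower.of_algebraMap_eq' (by
    rw [IsScalarTower.algebraMap_eq R S S₂, ← RingHom.comp_assoc, ← IsScalarTower.algebraMap_eq S S₂ C,
      ← IsScalarTower.algebraMap_eq R S C])
  haveI tRS₂C₃ : IsScalarTower R S₂ C₃ := IsScalarTower.of_algebraMap_eq' (by
    rw [IsScalarTower.algebraMap_eq S₂ C C₃, RingHom.comp_assoc, ← IsScalarTower.algebraMap_eq R S₂ C,
      ← IsScalarTower.algebraMap_eq R C C₃])
  haveI tRSAC₃ : IsScalarTower R SA C₃ := IsScalarTower.of_algebraMap_eq' (by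
    rw [IsScalarTower.algebraMap_eq R S SA, ← RingHom.comp_assoc, ← IsScalarTower.algebraMap_eq S SA C₃,
      ← IsScalarTower.algebraMap_eq R S C₃])
  haveI p1 : Algebra.IsPushout R A₂ S S₂ := Algebra.IsPushout.symm inferInstance
  haveI tS₂SAC₃ : IsScalarTower S₂ SA C₃ := IsScalarTower.of_algebraMap_eq' (by
    have h : (IsScalarTower.toAlgHom R S₂ C₃) =
        (IsScalarTower.toAlgHom R SA C₃).comp (IsScalarTower.toAlgHom R S₂ SA) := by
      apply Algebra.IsPushout.algHom_ext (S := A₂) (R' := S)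
      · ext s
        change algebraMap S₂ C₃ (algebraMap S S₂ s) = algebraMap SA C₃ (algebraMap S₂ SA (algebraMap S S₂ s))
        rw [← IsScalarTower.algebraMap_apply S S₂ SA, ← IsScalarTower.algebraMap_apply S SA C₃,
          IsScalarTower.algebraMap_apply S₂ C C₃, ← IsScalarTower.algebraMap_apply S S₂ C,
          ← IsScalarTower.algebraMap_apply S C C₃]
      · ext s
        change algebraMap S₂ C₃ (algebraMap A₂ S₂ s) = algebraMap SA C₃ (algebraMap S₂ SA (algebraMap A₂ S₂ s))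
        rw [← IsScalarTower.algebraMap_apply A₂ S₂ SA, IsScalarTower.algebraMap_apply A₂ A₃ SA,
          ← IsScalarTower.algebraMap_apply A₃ SA C₃, ← IsScalarTower.algebraMap_apply A₂ A₃ C₃,
          IsScalarTower.algebraMap_apply S₂ C C₃, ← IsScalarTower.algebraMap_apply A₂ S₂ C,
          ← IsScalarTower.algebraMap_apply A₂ C C₃]
    exact congrArg AlgHom.toRingHom h)
  haveI p2 : Algebra.IsPushout R A₃ S SA := Algebra.IsPushout.symm inferInstance
  haveI p3 : Algebra.IsPushout A₂ A₃ S₂ SA := (Algebra.IsPushout.comp_iff R A₂ S S₂).mp p2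
  haveI p4 : Algebra.IsPushout A₂ S₂ A₃ SA := p3.symm
  haveI tA₂SAC₃ : IsScalarTower A₂ SA C₃ := IsScalarTower.of_algebraMap_eq' (by
    rw [IsScalarTower.algebraMap_eq A₂ A₃ SA, ← RingHom.comp_assoc, ← IsScalarTower.algebraMap_eq A₃ SA C₃,
      ← IsScalarTower.algebraMap_eq A₂ A₃ C₃])
  haveI p5 : Algebra.IsPushout S₂ C SA C₃ := (Algebra.IsPushout.comp_iff A₂ S₂ A₃ SA).mp inferInstance
  exact ⟨aSAC₃, tA₃SAC₃, tSSAC₃, isOpenImmersion_of_isPushout S₂ C SA C₃ hopen⟩

/-- Base change of an open with projective sections. -/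
theorem final_step {R S A₂ C A₃ SA S₂ : Type u} [CommRing R] [CommRing S] [CommRing A₂] [CommRing C]
    [CommRing A₃] [CommRing SA] [CommRing S₂] [IsLocalRing A₃]
    [Algebra R S] [Algebra R A₂] [Algebra R A₃] [Algebra A₂ A₃] [IsScalarTower R A₂ A₃]
    [Algebra S C] [Algebra A₂ C] [Algebra R C] [IsScalarTower R S C] [IsScalarTower R A₂ C]
    [Algebra R S₂] [Algebra S S₂] [Algebra A₂ S₂] [IsScalarTower R S S₂] [IsScalarTower R A₂ S₂]
    [Algebra.IsPushout R S A₂ S₂] [Algebra S₂ C] [IsScalarTower S S₂ C] [IsScalarTower A₂ S₂ C]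
    (hopen : IsOpenImmersion (Spec.map (CommRingCat.ofHom (algebraMap S₂ C))))
    (q : Ideal S) (m₂ : Ideal A₂) [m₂.IsPrime] (x : Ideal C) [x.IsPrime] [hxq : x.LiesOver q]
    [x.LiesOver m₂] [(IsLocalRing.maximalIdeal A₃).LiesOver m₂]
    {N : Type u} [AddCommGroup N] [Module S N]
    (hproj : Module.Projective A₂ (RestrictScalars A₂ C (C ⊗[S] N)))
    [Algebra R SA] [Algebra S SA] [Algebra A₃ SA] [IsScalarTower R S SA] [IsScalarTower R A₃ SA]
    [Algebra.IsPushout R S A₃ SA] {NA : Type u} [AddCommGroup NA] [Module SA NA] [Module S NA]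
    [IsScalarTower S SA NA] (f : N →ₗ[S] NA) (hf : IsBaseChange SA f)
    (C₃ : Type u) [CommRing C₃] [Algebra C C₃] [Algebra A₃ C₃] [Algebra A₂ C₃]
    [IsScalarTower A₂ A₃ C₃] [IsScalarTower A₂ C C₃] [Algebra.IsPushout A₂ C A₃ C₃] :
    ∃ (_ : Algebra SA C₃) (_ : IsScalarTower A₃ SA C₃) (x₃ : Ideal C₃) (_ : x₃.IsPrime),
      IsOpenImmersion (Spec.map (CommRingCat.ofHom (algebraMap SA C₃))) ∧
      (x₃.comap (algebraMap SA C₃)).LiesOver q ∧
      (x₃.comap (algebraMap SA C₃)).LiesOver (IsLocalRing.maximalIdeal A₃) ∧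
      Module.Free A₃ (RestrictScalars A₃ C₃ (C₃ ⊗[SA] NA)) := by
  letI aSC₃ : Algebra S C₃ := ((algebraMap C C₃).comp (algebraMap S C)).toAlgebra
  haveI tSCC₃ : IsScalarTower S C C₃ := IsScalarTower.of_algebraMap_eq' rfl
  obtain ⟨aSAC₃, tA₃SAC₃, tSSAC₃, hop⟩ := open_step (R := R) (S := S) (A₂ := A₂) (C := C) (A₃ := A₃) (SA := SA)
    (S₂ := S₂) (C₃ := C₃) hopen
  obtain ⟨x₃, hx₃, hx₃x, hx₃m⟩ := EtaleNhd.exists_prime_of_isPushout (R := A₂) (S := C) (R' := A₃) (S' := C₃)
    m₂ x (IsLocalRing.maximalIdeal A₃)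
  refine ⟨aSAC₃, tA₃SAC₃, x₃, hx₃, hop, ⟨?_⟩, ⟨?_⟩, ?_⟩
  · rw [hxq.over, hx₃x.over, Ideal.under_def, Ideal.under_def, Ideal.under_def, Ideal.comap_comap,
      Ideal.comap_comap, ← IsScalarTower.algebraMap_eq, ← IsScalarTower.algebraMap_eq]
  · rw [hx₃m.over, Ideal.under_def, Ideal.under_def, Ideal.comap_comap, ← IsScalarTower.algebraMap_eq]
  · let Z := C₃ ⊗[SA] NA
    have hg : IsBaseChange C₃ ((TensorProduct.mk SA C₃ NA 1).restrictScalars S ∘ₗ f) :=
      hf.comp (TensorProduct.isBaseChange SA NA C₃)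
    exact free_of_projective' (C := C) hproj _ hg

/-- From an open of `Spec (B ⊗_{A₁} A₂)`, `Spec B` open in `Spec (S ⊗ A₁)`, to an open of `Spec (S ⊗ A₂)`. -/
theorem mid_step {R S A₁ S₁ B A₂ B₂ C S₂ : Type u} [CommRing R] [CommRing S] [CommRing A₁] [CommRing S₁]
    [CommRing B] [CommRing A₂] [CommRing B₂] [CommRing C] [CommRing S₂]
    [Algebra R S] [Algebra R A₁] [Algebra R S₁] [Algebra S S₁] [Algebra A₁ S₁] [IsScalarTower R S S₁]
    [IsScalarTower R A₁ S₁] [Algebra.IsPushout R S A₁ S₁]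
    [Algebra S₁ B] [Algebra A₁ B] [IsScalarTower A₁ S₁ B]
    (hB : IsOpenImmersion (Spec.map (CommRingCat.ofHom (algebraMap S₁ B))))
    [Algebra A₁ A₂] [Algebra R A₂] [IsScalarTower R A₁ A₂] [Algebra B B₂] [Algebra A₂ B₂] [Algebra A₁ B₂]
    [IsScalarTower A₁ B B₂] [IsScalarTower A₁ A₂ B₂] [Algebra.IsPushout A₁ B A₂ B₂]
    [Algebra B₂ C] [Algebra A₂ C] [IsScalarTower A₂ B₂ C]
    (hC : IsOpenImmersion (Spec.map (CommRingCat.ofHom (algebraMap B₂ C))))
    [Algebra R S₂] [Algebra S S₂] [Algebra A₂ S₂] [IsScalarTower R S S₂] [IsScalarTower R A₂ S₂]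
    [Algebra.IsPushout R S A₂ S₂]
    {N N₁ M M₂ : Type u} [AddCommGroup N] [Module S N] [AddCommGroup N₁] [Module S₁ N₁] [Module S N₁]
    [IsScalarTower S S₁ N₁] (f₁ : N →ₗ[S] N₁) (hf₁ : IsBaseChange S₁ f₁)
    [AddCommGroup M] [Module B M] [Module S₁ M] [IsScalarTower S₁ B M] (f₂ : N₁ →ₗ[S₁] M)
    (hf₂ : IsBaseChange B f₂) [AddCommGroup M₂] [Module B₂ M₂] [Module B M₂] [IsScalarTower B B₂ M₂]
    (f₃ : M →ₗ[B] M₂) (hf₃ : IsBaseChange B₂ f₃)
    (hproj : Module.Projective A₂ (RestrictScalars A₂ C (C ⊗[B₂] M₂)))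
    (q : Ideal S) (Q₁ : Ideal S₁) [hQ₁q : Q₁.LiesOver q] (QB : Ideal B) [hQB : QB.LiesOver Q₁]
    (x : Ideal C) [x.IsPrime]
    [hx : (x.comap (algebraMap B₂ C)).LiesOver QB] :
    ∃ (_ : Algebra S C) (_ : Algebra R C) (_ : Algebra S₂ C), IsScalarTower R S C ∧ IsScalarTower R A₂ C ∧
      IsScalarTower S S₂ C ∧ IsScalarTower A₂ S₂ C ∧
      IsOpenImmersion (Spec.map (CommRingCat.ofHom (algebraMap S₂ C))) ∧ x.LiesOver q ∧
      Module.Projective A₂ (RestrictScalars A₂ C (C ⊗[S] N)) := by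
  letI aSB : Algebra S B := ((algebraMap S₁ B).comp (algebraMap S S₁)).toAlgebra
  haveI tSS₁B : IsScalarTower S S₁ B := IsScalarTower.of_algebraMap_eq' rfl
  letI aRB : Algebra R B := ((algebraMap S B).comp (algebraMap R S)).toAlgebra
  haveI tRSB : IsScalarTower R S B := IsScalarTower.of_algebraMap_eq' rfl
  haveI tRA₁B : IsScalarTower R A₁ B := IsScalarTower.of_algebraMap_eq' (by
    rw [IsScalarTower.algebraMap_eq R S B, IsScalarTower.algebraMap_eq S S₁ B, RingHom.comp_assoc,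
      ← IsScalarTower.algebraMap_eq R S S₁, IsScalarTower.algebraMap_eq R A₁ S₁, ← RingHom.comp_assoc,
      ← IsScalarTower.algebraMap_eq A₁ S₁ B])
  letI aSB₂ : Algebra S B₂ := ((algebraMap B B₂).comp (algebraMap S B)).toAlgebra
  haveI tSBB₂ : IsScalarTower S B B₂ := IsScalarTower.of_algebraMap_eq' rfl
  obtain ⟨aS₂B₂, tA₂S₂B₂, tSS₂B₂, hop⟩ := open_step (R := R) (S := S) (A₂ := A₁) (C := B) (A₃ := A₂) (SA := S₂)
    (S₂ := S₁) (C₃ := B₂) hB
  letI aS₂C : Algebra S₂ C := ((algebraMap B₂ C).comp (algebraMap S₂ B₂)).toAlgebra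
  haveI tS₂B₂C : IsScalarTower S₂ B₂ C := IsScalarTower.of_algebraMap_eq' rfl
  letI aSC : Algebra S C := ((algebraMap B₂ C).comp (algebraMap S B₂)).toAlgebra
  haveI tSB₂C : IsScalarTower S B₂ C := IsScalarTower.of_algebraMap_eq' rfl
  haveI tSS₂C : IsScalarTower S S₂ C := IsScalarTower.of_algebraMap_eq' (by
    rw [IsScalarTower.algebraMap_eq S₂ B₂ C, RingHom.comp_assoc, ← IsScalarTower.algebraMap_eq S S₂ B₂,
      ← IsScalarTower.algebraMap_eq S B₂ C])
  haveI tA₂S₂C : IsScalarTower A₂ S₂ C := IsScalarTower.of_algebraMap_eq' (by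
    rw [IsScalarTower.algebraMap_eq S₂ B₂ C, RingHom.comp_assoc, ← IsScalarTower.algebraMap_eq A₂ S₂ B₂,
      ← IsScalarTower.algebraMap_eq A₂ B₂ C])
  letI aRC : Algebra R C := ((algebraMap S C).comp (algebraMap R S)).toAlgebra
  haveI tRSC : IsScalarTower R S C := IsScalarTower.of_algebraMap_eq' rfl
  haveI tRA₂C : IsScalarTower R A₂ C := IsScalarTower.of_algebraMap_eq' (by
    rw [IsScalarTower.algebraMap_eq R S C, IsScalarTower.algebraMap_eq S S₂ C, RingHom.comp_assoc,
      ← IsScalarTower.algebraMap_eq R S S₂, IsScalarTower.algebraMap_eq R A₂ S₂, ← RingHom.comp_assoc,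
      ← IsScalarTower.algebraMap_eq A₂ S₂ C])
  refine ⟨aSC, aRC, aS₂C, tRSC, tRA₂C, tSS₂C, tA₂S₂C, isOpenImmersion_comp S₂ B₂ C hop hC, ⟨?_⟩, ?_⟩
  · rw [hQ₁q.over, hQB.over, hx.over, Ideal.under_def, Ideal.under_def, Ideal.under_def, Ideal.under_def,
      Ideal.comap_comap, Ideal.comap_comap, Ideal.comap_comap]
    rfl
  · -- modules
    letI m1 : Module S M := Module.compHom M (algebraMap S S₁)
    haveI s1 : IsScalarTower S S₁ M := IsScalarTower.of_algebraMap_smul fun _ _ => rfl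
    haveI s2 : IsScalarTower S B M := by
      apply IsScalarTower.of_algebraMap_smul
      intro s m
      rw [IsScalarTower.algebraMap_apply S S₁ B, algebraMap_smul B, algebraMap_smul S₁]
    have h1 : IsBaseChange B ((f₂.restrictScalars S) ∘ₗ f₁) := hf₁.comp hf₂
    letI m2 : Module S M₂ := Module.compHom M₂ (algebraMap S B)
    haveI s3 : IsScalarTower S B M₂ := IsScalarTower.of_algebraMap_smul fun _ _ => rfl
    haveI s4 : IsScalarTower S B₂ M₂ := by
      apply IsScalarTower.of_algebraMap_smul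
      intro s m
      rw [IsScalarTower.algebraMap_apply S B B₂, algebraMap_smul B₂, algebraMap_smul B]
    have h2 : IsBaseChange B₂ ((f₃.restrictScalars S) ∘ₗ ((f₂.restrictScalars S) ∘ₗ f₁)) := h1.comp hf₃
    have h3 : IsBaseChange C (((TensorProduct.mk B₂ C M₂ 1).restrictScalars S) ∘ₗ
        ((f₃.restrictScalars S) ∘ₗ ((f₂.restrictScalars S) ∘ₗ f₁))) :=
      h2.comp (TensorProduct.isBaseChange B₂ M₂ C)
    exact Module.Projective.of_equiv (restrictCongr A₂ C h3.equiv.symm)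

end Groth.Agent.Flat2B.FreeNhd
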