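import Groth.Prelude.Def_FlatCA
import Mathlib.RingTheory.Etale.QuasiFinite

set_option autoImplicit false
universe u

namespace Groth.Agent.Flat2B.NhdBasic

open TensorProduct

section

variable {R R' R'' : Type u} [CommRing R] [CommRing R'] [CommRing R''] [Algebra R R'] [Algebra R' R''] [Algebra R R'']
  [IsScalarTower R R' R'']

/-- the identity is an elementary etale ring map -/
theorem refl (p : Ideal R) [p.IsPrime] : FlatCA.IsEtaleNhd R R p p := by
  refine ⟨inferInstance, ⟨rfl⟩, ?_⟩
  rw! [Algebra.ofId_self, Ideal.ResidueField.mapₐ_id]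
  exact Function.bijective_id

/-- composition of elementary etale ring maps -/
theorem trans {p : Ideal R} {p' : Ideal R'} {p'' : Ideal R''} [p.IsPrime] [p'.IsPrime] [p''.IsPrime]
    (h : FlatCA.IsEtaleNhd R R' p p') (h' : FlatCA.IsEtaleNhd R' R'' p' p'') :
    FlatCA.IsEtaleNhd R R'' p p'' := by
  obtain ⟨h1, h2, h3⟩ := h
  obtain ⟨h1', h2', h3'⟩ := h'
  have : p''.LiesOver p := Ideal.LiesOver.trans p'' p' p
  refine ⟨Algebra.Etale.comp R R' R'', this, ?_⟩
  convert h3'.comp h3
  rw [← @AlgHom.coe_restrictScalars' R R', ← AlgHom.coe_comp]; congr 1; ext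

end

/-- a basic open neighbourhood is an elementary etale neighbourhood -/
theorem of_away {R : Type u} [CommRing R] (f : R) (p : Ideal R) [p.IsPrime] (R' : Type u) [CommRing R'] [Algebra R R']
    [IsLocalization.Away f R'] (p' : Ideal R') [p'.IsPrime] [p'.LiesOver p] : FlatCA.IsEtaleNhd R R' p p' := by
  have : Algebra.Etale R R' := Algebra.Etale.of_isLocalizationAway f
  refine ⟨inferInstance, inferInstance, ?_⟩
  exact (RingHom.surjectiveOnStalks_of_isLocalization (Submonoid.powers f) R').residueFieldMap_bijective p p'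
    (Ideal.over_def p' p)

/-- the extension of a prime not containing `f` to the localization away from `f` -/
theorem map_away {R : Type u} [CommRing R] (f : R) (p : Ideal R) [p.IsPrime] (hf : f ∉ p) (R' : Type u) [CommRing R']
    [Algebra R R'] [IsLocalization.Away f R'] :
    ∃ (_ : (p.map (algebraMap R R')).IsPrime), FlatCA.IsEtaleNhd R R' p (p.map (algebraMap R R')) := by
  have hd : Disjoint (Submonoid.powers f : Set R) (p : Set R) := by
    rwa [Ideal.disjoint_powers_iff_notMem_of_isPrime]
  have h1 : (p.map (algebraMap R R')).IsPrime := IsLocalization.isPrime_of_isPrime_disjoint (.powers f) _ _ ‹_› hd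
  have h2 : (p.map (algebraMap R R')).LiesOver p := IsLocalization.liesOver_map_of_isPrime_disjoint (.powers f) _ hd
  exact ⟨h1, of_away f p R' _⟩

end Groth.Agent.Flat2B.NhdBasic
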