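import Groth.Agent.Flat2B.PurOpen
import Groth.Agent.S1202
import Groth.Agent.Flat2B.CoverProj
import Groth.Agent.Flat2A.PureEtSpec
import Mathlib.AlgebraicGeometry.OpenImmersion

set_option autoImplicit false
universe u

/-!
# 05ME: projectivity on an affine open neighbourhood after an elementary étale base change
-/

namespace Groth.Agent.Flat2B.NhdProj

open AlgebraicGeometry CategoryTheory TensorProduct Flat2A.Fiber Flat2A.FiberAss Flat2A.AssBaseChange

/-- the algebra structure induced on an algebra over both legs of a pushout -/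
theorem exists_algebra_of_isPushout {R S R' S' A : Type u} [CommRing R] [CommRing S] [CommRing R'] [CommRing S']
    [CommRing A] [Algebra R S] [Algebra R R'] [Algebra R S'] [Algebra S S'] [Algebra R' S'] [IsScalarTower R S S']
    [IsScalarTower R R' S'] [Algebra.IsPushout R S R' S'] [Algebra R A] [Algebra S A] [Algebra R' A]
    [IsScalarTower R S A] [IsScalarTower R R' A] :
    ∃ (_ : Algebra S' A), IsScalarTower S S' A ∧ IsScalarTower R' S' A := by
  let φ : S' →ₐ[R] A := Algebra.pushoutDesc S' (IsScalarTower.toAlgHom R S A)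
    (IsScalarTower.toAlgHom R R' A) (fun _ _ => mul_comm _ _)
  refine ⟨φ.toRingHom.toAlgebra, ?_, ?_⟩
  · let _ := φ.toRingHom.toAlgebra
    exact IsScalarTower.of_algebraMap_eq fun x =>
      (Algebra.pushoutDesc_left S' (IsScalarTower.toAlgHom R S A)
        (IsScalarTower.toAlgHom R R' A) (fun _ _ => mul_comm _ _) x).symm
  · let _ := φ.toRingHom.toAlgebra
    exact IsScalarTower.of_algebraMap_eq fun x =>
      (Algebra.pushoutDesc_right S' (IsScalarTower.toAlgHom R S A)
        (IsScalarTower.toAlgHom R R' A) (fun _ _ => mul_comm _ _) x).symm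

theorem comap_liesOver {A B C : Type u} [CommRing A] [CommRing B] [CommRing C] [Algebra A B] [Algebra B C] [Algebra A C]
    [IsScalarTower A B C] (p : Ideal A) (q : Ideal C) [h : q.LiesOver p] :
    (q.comap (algebraMap B C)).LiesOver p := by
  constructor
  rw [h.over, Ideal.under, Ideal.under, Ideal.comap_comap, ← IsScalarTower.algebraMap_eq A B C]

/-- containment of associated primes in the point passes to elementary étale neighbourhoods -/
theorem ass_le {R S R₁ B : Type u} [CommRing R] [CommRing S] [CommRing R₁] [CommRing B] [Algebra R S] [Algebra R R₁]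
    [Algebra R B] [Algebra S B] [Algebra R₁ B] [IsScalarTower R S B] [IsScalarTower R R₁ B] [Algebra.IsPushout R S R₁ B]
    (N : Type u) [AddCommGroup N] [Module S N] [Module R N] [IsScalarTower R S N]
    (p : Ideal R) [p.IsPrime] (q : Ideal S) [q.IsPrime] [q.LiesOver p]
    (p₁ : Ideal R₁) [p₁.IsPrime] (h : FlatCA.IsEtaleNhd R R₁ p p₁) (qB : Ideal B) [qB.IsPrime] [qB.LiesOver q]
    [qB.LiesOver p₁]
    (hass : ∀ Q ∈ associatedPrimes S (FlatCA.fiberMod p S N), Q ≤ q) :
    ∀ Q ∈ associatedPrimes B (FlatCA.fiberMod p₁ B (B ⊗[S] N)), Q ≤ qB := by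
  intro Q hQ z hz
  have hQp : Q.IsPrime := hQ.1
  have : p₁.LiesOver p := EtaleNhd.liesOver h
  have : Q.LiesOver p₁ := ((mem_associatedPrimes_fiberMod_iff p₁ (B ⊗[S] N) Q).mp hQ).2.1
  have h1 := hass _ (RelAss.relAss_comap (A₁ := R) (A₂ := R₁) (B₁ := S) (B₂ := B) (TensorProduct.mk S B N 1)
    (TensorProduct.isBaseChange S N B) p p₁ hQ)
  obtain ⟨a, s, hs, hz'⟩ := (EtaleNhd.resTriv h).pushout_aux (S := S) (S' := B) (q := q) z
  have hle1 : p₁.map (algebraMap R₁ B) ≤ Q := by
    rw [Ideal.map_le_iff_le_comap]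
    exact (Ideal.LiesOver.over (p := p₁) (P := Q)).le
  have hle2 : p₁.map (algebraMap R₁ B) ≤ qB := by
    rw [Ideal.map_le_iff_le_comap]
    exact (Ideal.LiesOver.over (p := p₁) (P := qB)).le
  have ha : algebraMap S B a ∈ Q := by
    have h3 := Q.sub_mem (Q.mul_mem_left (algebraMap S B s) hz) (hle1 hz')
    simpa using h3
  have ha' : algebraMap S B a ∈ qB := by
    have h4 : a ∈ q := h1 ha
    rw [Ideal.LiesOver.over (p := q) (P := qB)] at h4
    exact h4
  have h5 : algebraMap S B s * z ∈ qB := by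
    have h3 := qB.add_mem ha' (hle2 hz')
    simpa using h3
  refine (Ideal.IsPrime.mem_or_mem inferInstance h5).resolve_left fun h6 => hs ?_
  rw [Ideal.LiesOver.over (p := q) (P := qB)]
  exact h6

set_option maxHeartbeats 2000000 in
/-- the local statement, when all the associated primes of the fibre module are generalizations of the point -/
theorem local_proj {R S : Type u} [CommRing R] [CommRing S] [Algebra R S] [Algebra.FinitePresentation R S]
    (N : Type u) [AddCommGroup N] [Module S N] [Module R N] [IsScalarTower R S N] [Module.FinitePresentation S N]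
    (p : Ideal R) [p.IsPrime] (q : Ideal S) [q.IsPrime] [q.LiesOver p] (hflat : FlatCA.FlatAt R q N)
    (hass : ∀ Q ∈ associatedPrimes S (FlatCA.fiberMod p S N), Q ≤ q) :
    ∃ (R' : Type u) (_ : CommRing R') (_ : Algebra R R') (p' : Ideal R') (_ : p'.IsPrime) (T C : Type u)
      (_ : CommRing T) (_ : CommRing C) (_ : Algebra R T) (_ : Algebra S T) (_ : Algebra R' T)
      (_ : IsScalarTower R S T) (_ : IsScalarTower R R' T) (_ : Algebra.IsPushout R S R' T)
      (_ : Algebra T C) (_ : Algebra S C) (_ : Algebra R' C) (_ : IsScalarTower S T C) (_ : IsScalarTower R' T C)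
      (x' : Ideal C) (_ : x'.IsPrime),
      FlatCA.IsEtaleNhd R R' p p' ∧ IsOpenImmersion (Spec.map (CommRingCat.ofHom (algebraMap T C))) ∧
      (x'.comap (algebraMap T C)).LiesOver q ∧ (x'.comap (algebraMap T C)).LiesOver p' ∧
      Module.Projective R' (C ⊗[S] N) := by
  obtain ⟨R₁, S₁, _, _, _, _, _, _, _, _, p₁, q₁, _, _, hnhd, hnhd2, hqp, hpr⟩ := S1202.result N p q hflat
  have hproj0 : Module.Projective R₁ (S₁ ⊗[S] N) := Module.Projective.of_equiv (CoverProj.restrictEquiv R₁ S₁ S N)
  obtain ⟨B, _, _, _, _, _, _, hB⟩ := Flat2A.PureEtSpec.exists_pushout R S R₁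
  obtain ⟨_, _, _⟩ := exists_algebra_of_isPushout (R := R) (S := S) (R' := R₁) (S' := B) (A := S₁)
  have : Algebra.Etale R R₁ := EtaleNhd.etale hnhd
  have : Algebra.IsPushout R R₁ S B := hB.symm
  have : Algebra.Etale S B := BCTools.etale_of_isPushout R R₁ S B
  have hqB : (q₁.comap (algebraMap B S₁)).IsPrime := inferInstance
  have : q₁.LiesOver q := EtaleNhd.liesOver hnhd2
  have : (q₁.comap (algebraMap B S₁)).LiesOver q := comap_liesOver q q₁
  have : (q₁.comap (algebraMap B S₁)).LiesOver p₁ := comap_liesOver p₁ q₁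
  have : q₁.LiesOver (q₁.comap (algebraMap B S₁)) := ⟨rfl⟩
  have hnhd3 : FlatCA.IsEtaleNhd B S₁ (q₁.comap (algebraMap B S₁)) q₁ :=
    EtaleNhd.isEtaleNhd_of_comp (R := S) (R' := B) (R'' := S₁) (p := q) inferInstance hnhd2
  have : Algebra.Etale B S₁ := EtaleNhd.etale hnhd3
  have : Algebra.FinitePresentation R₁ B := BCTools.finitePresentation_of_isPushout R S R₁ B
  have hproj : Module.Projective R₁ (S₁ ⊗[B] (B ⊗[S] N)) := Module.Projective.of_equiv
    ((AlgebraTensorModule.cancelBaseChange S B S₁ S₁ N).restrictScalars R₁).symm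
  have hass2 := ass_le N p q p₁ hnhd (q₁.comap (algebraMap B S₁)) hass
  obtain ⟨h, f, Bh, _, _, hBh, _, _, hh, hf, key⟩ := PurOpen.exists_projective (A := R₁) (B := B) (B ⊗[S] N) S₁ hproj
    p₁ (q₁.comap (algebraMap B S₁)) q₁ rfl hass2
  -- the new base
  obtain ⟨R', _, _, hR'⟩ : ∃ (R' : Type u) (_ : CommRing R') (_ : Algebra R₁ R'), IsLocalization.Away f R' :=
    ⟨Localization.Away f, inferInstance, inferInstance, inferInstance⟩
  obtain ⟨hp', hnhd4⟩ := NhdBasic.map_away f p₁ hf R'
  generalize p₁.map (algebraMap R₁ R') = p' at hp' hnhd4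
  let _ : Algebra R R' := ((algebraMap R₁ R').comp (algebraMap R R₁)).toAlgebra
  have : IsScalarTower R R₁ R' := IsScalarTower.of_algebraMap_eq' rfl
  have hnhd5 : FlatCA.IsEtaleNhd R R' p p' := NhdBasic.trans hnhd hnhd4
  have : p'.LiesOver p₁ := EtaleNhd.liesOver hnhd4
  -- `T = S ⊗ R'`
  obtain ⟨T, _, _, _, _, _, _, hT⟩ := Flat2A.PureEtSpec.exists_pushout R₁ B R'
  obtain ⟨C, _, _, _, _, _, _, hC⟩ := Flat2A.PureEtSpec.exists_pushout B Bh T
  let _ : Algebra S T := ((algebraMap B T).comp (algebraMap S B)).toAlgebra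
  have : IsScalarTower S B T := IsScalarTower.of_algebraMap_eq' rfl
  let _ : Algebra R T := ((algebraMap S T).comp (algebraMap R S)).toAlgebra
  have : IsScalarTower R S T := IsScalarTower.of_algebraMap_eq' rfl
  have : IsScalarTower R B T := IsScalarTower.to₁₃₄ R S B T
  have : IsScalarTower R R₁ T := IsScalarTower.to₁₂₄ R R₁ B T
  have : IsScalarTower R R' T := IsScalarTower.to₁₃₄ R R₁ R' T
  have hT' : Algebra.IsPushout R R' S T := by
    rw [Algebra.IsPushout.comp_iff R R₁ S (S' := B) (T := R') (T' := T)]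
    exact hT.symm
  let _ : Algebra S C := ((algebraMap T C).comp (algebraMap S T)).toAlgebra
  have : IsScalarTower S T C := IsScalarTower.of_algebraMap_eq' rfl
  let _ : Algebra R' C := ((algebraMap T C).comp (algebraMap R' T)).toAlgebra
  have : IsScalarTower R' T C := IsScalarTower.of_algebraMap_eq' rfl
  let _ : Algebra R₁ C := ((algebraMap T C).comp (algebraMap R₁ T)).toAlgebra
  have : IsScalarTower R₁ T C := IsScalarTower.of_algebraMap_eq' rfl
  have : IsScalarTower R₁ R' C := IsScalarTower.to₁₂₄ R₁ R' T C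
  have : IsScalarTower R₁ B C := IsScalarTower.to₁₂₄ R₁ B T C
  have : IsScalarTower R₁ Bh C := IsScalarTower.to₁₃₄ R₁ B Bh C
  have : IsScalarTower S B C := IsScalarTower.to₁₂₄ S B T C
  have hpo : Algebra.IsPushout R₁ Bh R' C := by
    rw [Algebra.IsPushout.comp_iff R₁ B R' (S' := T) (T := Bh) (T' := C)]
    exact hC
  have hprC : Module.Projective R' (C ⊗[B] (B ⊗[S] N)) := key R' C
  have hprC' : Module.Projective R' (C ⊗[S] N) := Module.Projective.of_equiv
    ((AlgebraTensorModule.cancelBaseChange S B C C N).restrictScalars R')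
  -- open immersion
  have hloc : IsLocalization.Away (algebraMap B T h) C := by
    have h1 : IsLocalization (Algebra.algebraMapSubmonoid T (Submonoid.powers h)) C := by
      rw [Algebra.isLocalization_iff_isPushout _ Bh]
      exact hC.symm
    rwa [Algebra.algebraMapSubmonoid_powers] at h1
  -- the point
  obtain ⟨hqh, hnhd6⟩ := NhdBasic.map_away h (q₁.comap (algebraMap B S₁)) hh Bh
  have : ((q₁.comap (algebraMap B S₁)).map (algebraMap B Bh)).LiesOver (q₁.comap (algebraMap B S₁)) :=
    EtaleNhd.liesOver hnhd6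
  obtain ⟨W, hW, hW1, hW2⟩ := EtaleNhd.exists_prime_of_isPushout (R := R₁) (S := B) (R' := R') (S' := T)
    p₁ (q₁.comap (algebraMap B S₁)) p'
  obtain ⟨x', hx', hx1, hx2⟩ := EtaleNhd.exists_prime_of_isPushout (R := B) (S := Bh) (R' := T) (S' := C)
    (q₁.comap (algebraMap B S₁)) ((q₁.comap (algebraMap B S₁)).map (algebraMap B Bh)) W
  have hxW : x'.comap (algebraMap T C) = W := (Ideal.LiesOver.over (p := W) (P := x')).symm
  refine ⟨R', inferInstance, inferInstance, p', hp', T, C, inferInstance, inferInstance, inferInstance, inferInstance,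
    inferInstance, inferInstance, inferInstance, hT'.symm, inferInstance, inferInstance, inferInstance, inferInstance,
    inferInstance, x', hx', hnhd5, IsOpenImmersion.of_isLocalization (algebraMap B T h), ?_, ?_, hprC'⟩
  · rw [hxW]
    exact Ideal.LiesOver.trans W (q₁.comap (algebraMap B S₁)) q
  · rw [hxW]
    exact hW2

/-- a basic open neighbourhood of `q` avoiding the relatively associated primes not contained in `q` -/
theorem exists_avoid {R S : Type u} [CommRing R] [CommRing S] [Algebra R S] [Algebra.FiniteType R S]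
    (N : Type u) [AddCommGroup N] [Module S N] [Module R N] [IsScalarTower R S N] [Module.Finite S N]
    (p : Ideal R) [p.IsPrime] (q : Ideal S) [q.IsPrime] :
    ∃ g : S, g ∉ q ∧ ∀ Q ∈ associatedPrimes S (FlatCA.fiberMod p S N), g ∉ Q → Q ≤ q := by
  classical
  have : IsNoetherianRing (p.Fiber S) := fiber_isNoetherianRing p
  have : Module.Finite (p.Fiber S) (FlatCA.fiberMod p S N) := fiberMod_finite N p
  have hfin : (associatedPrimes S (FlatCA.fiberMod p S N)).Finite := associatedPrimes_fiberMod_finite p N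
  have hch : ∀ Q : Ideal S, ∃ g : S, g ∉ q ∧ (¬ Q ≤ q → g ∈ Q) := by
    intro Q
    by_cases hQ : Q ≤ q
    · exact ⟨1, fun h => (Ideal.IsPrime.ne_top' : q ≠ ⊤) ((Ideal.eq_top_iff_one q).mpr h), fun h => absurd hQ h⟩
    · obtain ⟨g, hg, hg'⟩ := Set.not_subset.mp hQ
      exact ⟨g, hg', fun _ => hg⟩
  choose g hg1 hg2 using hch
  refine ⟨∏ Q ∈ hfin.toFinset, g Q, ?_, ?_⟩
  · intro h
    obtain ⟨Q, -, hQ⟩ := (Ideal.IsPrime.prod_mem_iff (p := q)).mp h
    exact hg1 Q hQ
  · intro Q hQ hnot
    by_contra hcon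
    apply hnot
    exact Ideal.mem_of_dvd _ (Finset.dvd_prod_of_mem g (hfin.mem_toFinset.mpr hQ)) (hg2 Q hcon)

set_option maxHeartbeats 2000000 in
/-- 05ME for some model -/
theorem general_proj {R S : Type u} [CommRing R] [CommRing S] [Algebra R S] [Algebra.FinitePresentation R S]
    (N : Type u) [AddCommGroup N] [Module S N] [Module R N] [IsScalarTower R S N] [Module.FinitePresentation S N]
    (p : Ideal R) [p.IsPrime] (q : Ideal S) [q.IsPrime] [q.LiesOver p] (hflat : FlatCA.FlatAt R q N) :
    ∃ (R' : Type u) (_ : CommRing R') (_ : Algebra R R') (p' : Ideal R') (_ : p'.IsPrime) (T C : Type u)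
      (_ : CommRing T) (_ : CommRing C) (_ : Algebra R T) (_ : Algebra S T) (_ : Algebra R' T)
      (_ : IsScalarTower R S T) (_ : IsScalarTower R R' T) (_ : Algebra.IsPushout R S R' T)
      (_ : Algebra T C) (_ : Algebra S C) (_ : Algebra R' C) (_ : IsScalarTower S T C) (_ : IsScalarTower R' T C)
      (x' : Ideal C) (_ : x'.IsPrime),
      FlatCA.IsEtaleNhd R R' p p' ∧ IsOpenImmersion (Spec.map (CommRingCat.ofHom (algebraMap T C))) ∧
      (x'.comap (algebraMap T C)).LiesOver q ∧ (x'.comap (algebraMap T C)).LiesOver p' ∧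
      Module.Projective R' (C ⊗[S] N) := by
  obtain ⟨g, hgq, hg⟩ := exists_avoid N p q
  obtain ⟨Sg, _, _, hSg, _, _⟩ : ∃ (Sg : Type u) (_ : CommRing Sg) (_ : Algebra S Sg) (_ : IsLocalization.Away g Sg)
      (_ : Algebra R Sg), IsScalarTower R S Sg :=
    ⟨Localization.Away g, inferInstance, inferInstance, inferInstance, inferInstance, inferInstance⟩
  obtain ⟨hqg, hnhd⟩ := NhdBasic.map_away g q hgq Sg
  have hqg1 : (q.map (algebraMap S Sg)).LiesOver q := EtaleNhd.liesOver hnhd
  have hqg2 : (q.map (algebraMap S Sg)).comap (algebraMap S Sg) = q := hqg1.over.symm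
  have hqg3 : (q.map (algebraMap S Sg)).LiesOver p := Ideal.LiesOver.trans _ q p
  have : Algebra.FinitePresentation S Sg := IsLocalization.Away.finitePresentation g
  have : Algebra.FinitePresentation R Sg := Algebra.FinitePresentation.trans R S Sg
  have : Module.Flat S Sg := IsLocalization.flat Sg (Submonoid.powers g)
  have hflat' : FlatCA.FlatAt R (q.map (algebraMap S Sg)) (Sg ⊗[S] N) :=
    (FlatEt.flatAt_tensor_iff q (q.map (algebraMap S Sg)) hqg2 N).mp hflat
  have hass' : ∀ Q ∈ associatedPrimes Sg (FlatCA.fiberMod p Sg (Sg ⊗[S] N)), Q ≤ q.map (algebraMap S Sg) := by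
    intro Q hQ
    have hQp : Q.IsPrime := hQ.1
    have h1 := EtAss.comap_mem_of_flat (A := R) p (TensorProduct.mk S Sg N 1) (TensorProduct.isBaseChange S N Sg) hQ
    have h2 := hg _ h1 (fun h3 => (Ideal.IsPrime.ne_top' : Q ≠ ⊤)
      (Ideal.eq_top_of_isUnit_mem _ h3 (IsLocalization.Away.algebraMap_isUnit g)))
    rw [← IsLocalization.map_under (Submonoid.powers g) Sg Q]
    exact Ideal.map_mono h2
  obtain ⟨R', _, _, p', _, Tg, C, _, _, _, _, _, _, _, hTg, _, _, _, _, _, x', _, hn, hopen, hx1, hx2, hpr⟩ :=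
    local_proj (Sg ⊗[S] N) p (q.map (algebraMap S Sg)) hflat' hass'
  obtain ⟨T, _, _, _, _, _, _, hT⟩ := Flat2A.PureEtSpec.exists_pushout R S R'
  let _ : Algebra S Tg := ((algebraMap Sg Tg).comp (algebraMap S Sg)).toAlgebra
  have : IsScalarTower S Sg Tg := IsScalarTower.of_algebraMap_eq' rfl
  have : IsScalarTower R S Tg := IsScalarTower.to₁₂₄ R S Sg Tg
  obtain ⟨_, _, _⟩ := exists_algebra_of_isPushout (R := R) (S := S) (R' := R') (S' := T) (A := Tg)
  let _ : Algebra S C := ((algebraMap Sg C).comp (algebraMap S Sg)).toAlgebra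
  have : IsScalarTower S Sg C := IsScalarTower.of_algebraMap_eq' rfl
  let _ : Algebra T C := ((algebraMap Tg C).comp (algebraMap T Tg)).toAlgebra
  have : IsScalarTower T Tg C := IsScalarTower.of_algebraMap_eq' rfl
  have : IsScalarTower S Tg C := IsScalarTower.to₁₃₄ S Sg Tg C
  have : IsScalarTower S T C := IsScalarTower.to₁₂₄ S T Tg C
  have : IsScalarTower R' T C := IsScalarTower.to₁₂₄ R' T Tg C
  have : IsScalarTower R T Tg := IsScalarTower.to₁₃₄ R S T Tg
  have hpo : Algebra.IsPushout S Sg T Tg := by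
    rw [← Algebra.IsPushout.comp_iff R S R' (S' := T) (T := Sg) (T' := Tg)]
    exact hTg
  have hloc : IsLocalization.Away (algebraMap S T g) Tg := by
    have h1 : IsLocalization (Algebra.algebraMapSubmonoid T (Submonoid.powers g)) Tg := by
      rw [Algebra.isLocalization_iff_isPushout _ Sg]
      exact hpo.symm
    rwa [Algebra.algebraMapSubmonoid_powers] at h1
  have hopen2 : IsOpenImmersion (Spec.map (CommRingCat.ofHom (algebraMap T C))) := by
    have h1 : IsOpenImmersion (Spec.map (CommRingCat.ofHom (algebraMap T Tg))) :=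
      IsOpenImmersion.of_isLocalization (algebraMap S T g)
    have h2 : Spec.map (CommRingCat.ofHom (algebraMap T C)) =
        Spec.map (CommRingCat.ofHom (algebraMap Tg C)) ≫ Spec.map (CommRingCat.ofHom (algebraMap T Tg)) := by
      rw [← Spec.map_comp, ← CommRingCat.ofHom_comp, ← IsScalarTower.algebraMap_eq T Tg C]
    rw [h2]
    infer_instance
  have hpr' : Module.Projective R' (C ⊗[S] N) := Module.Projective.of_equiv
    ((AlgebraTensorModule.cancelBaseChange S Sg C C N).restrictScalars R')
  have hx3 : (x'.comap (algebraMap T C)) = (x'.comap (algebraMap Tg C)).comap (algebraMap T Tg) := by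
    rw [Ideal.comap_comap, ← IsScalarTower.algebraMap_eq T Tg C]
  have hx4 : (x'.comap (algebraMap Tg C)).LiesOver q := Ideal.LiesOver.trans _ (q.map (algebraMap S Sg)) q
  refine ⟨R', inferInstance, inferInstance, p', inferInstance, T, C, inferInstance, inferInstance, inferInstance,
    inferInstance, inferInstance, inferInstance, inferInstance, hT, inferInstance, inferInstance, inferInstance,
    inferInstance, inferInstance, x', inferInstance, hn, hopen2, ?_, ?_, hpr'⟩
  · rw [hx3]
    exact comap_liesOver q _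
  · rw [hx3]
    exact comap_liesOver p' _

end Groth.Agent.Flat2B.NhdProj
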