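import Groth.Prelude.Def_FlatCA
import Groth.Agent.Flat2B.FreeNhd
import Groth.Agent.Flat2B.FlatCrit
import Groth.Agent.S1210
import Groth.Agent.S1268

/-!
Stacks 05MF for algebras of finite presentation.
-/

set_option autoImplicit false

universe u

namespace Groth.Agent.Flat2B.FreeNhd

open TensorProduct AlgebraicGeometry CategoryTheory

theorem isBaseChange_away {A : Type u} [CommRing A] (g : A) (M : Type u) [AddCommGroup M] [Module A M] :
    IsBaseChange (Localization.Away g) (LocalizedModule.mkLinearMap (Submonoid.powers g) M) :=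
  (isLocalizedModule_iff_isBaseChange (Submonoid.powers g) (Localization.Away g) _).mp inferInstance

theorem isOpenImmersion_away {A : Type u} [CommRing A] (g : A) :
    IsOpenImmersion (Spec.map (CommRingCat.ofHom (algebraMap A (Localization.Away g)))) :=
  inferInstance

section

attribute [local instance] Algebra.TensorProduct.rightAlgebra

theorem exists_pushout (R S A : Type u) [CommRing R] [CommRing S] [CommRing A] [Algebra R S] [Algebra R A] :
    ∃ (T : Type u) (_ : CommRing T) (_ : Algebra R T) (_ : Algebra S T) (_ : Algebra A T)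
      (_ : IsScalarTower R S T) (_ : IsScalarTower R A T), Algebra.IsPushout R S A T :=
  ⟨S ⊗[R] A, inferInstance, inferInstance, inferInstance, inferInstance, inferInstance, inferInstance,
    inferInstance⟩

end

theorem exists_baseChange (R A N : Type u) [CommRing R] [CommRing A] [Algebra R A] [AddCommGroup N]
    [Module R N] : ∃ (N' : Type u) (_ : AddCommGroup N') (_ : Module A N') (_ : Module R N')
      (_ : IsScalarTower R A N') (f : N →ₗ[R] N'), IsBaseChange A f :=
  ⟨A ⊗[R] N, inferInstance, inferInstance, inferInstance, inferInstance, TensorProduct.mk R A N 1,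
    TensorProduct.isBaseChange R N A⟩

theorem exists_localizedModule {A S N : Type u} [CommRing A] [CommRing S] [Algebra A S] [AddCommGroup N]
    [Module S N] [Module A N] [IsScalarTower A S N] (g : S) (Q : Ideal S) [Q.IsPrime] (hg : g ∉ Q)
    (hfp : Module.FinitePresentation (Localization.Away g) (LocalizedModule (Submonoid.powers g) N))
    (hfl : Module.Flat A (LocalizedModule (Submonoid.powers g) N)) :
    ∃ (B : Type u) (_ : CommRing B) (_ : Algebra S B) (_ : Algebra A B) (_ : IsScalarTower A S B)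
      (M : Type u) (_ : AddCommGroup M) (_ : Module B M) (_ : Module S M) (_ : Module A M)
      (_ : IsScalarTower S B M) (_ : IsScalarTower A B M) (f : N →ₗ[S] M) (QB : Ideal B) (_ : QB.IsPrime),
      QB.LiesOver Q ∧ IsBaseChange B f ∧ Algebra.FinitePresentation S B ∧ Module.FinitePresentation B M ∧
      Module.Flat A M ∧ IsOpenImmersion (Spec.map (CommRingCat.ofHom (algebraMap S B))) := by
  obtain ⟨h1, h2⟩ := EtaleNhd.liesOver_map_away (R := S) (R' := Localization.Away g) (p := Q) g hg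
  exact ⟨Localization.Away g, inferInstance, inferInstance, inferInstance, inferInstance,
    LocalizedModule (Submonoid.powers g) N, inferInstance, inferInstance, inferInstance, inferInstance,
    inferInstance, inferInstance, LocalizedModule.mkLinearMap (Submonoid.powers g) N,
    Q.map (algebraMap S (Localization.Away g)), h1, h2, isBaseChange_away g N,
    IsLocalization.Away.finitePresentation g, hfp, hfl, isOpenImmersion_away g⟩

theorem stepA {R S : Type u} [CommRing R] [CommRing S] [Algebra R S] [Algebra.FinitePresentation R S]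
    (N : Type u) [AddCommGroup N] [Module S N] [Module R N] [IsScalarTower R S N] [Module.Finite S N]
    (p : Ideal R) [p.IsPrime] (q : Ideal S) [q.IsPrime] [q.LiesOver p] (hflat : FlatCA.FlatAt R q N) :
    ∃ (R₁ : Type u) (_ : CommRing R₁) (_ : Algebra R R₁) (p₁ : Ideal R₁) (_ : p₁.IsPrime)
      (S₁ : Type u) (_ : CommRing S₁) (_ : Algebra R S₁) (_ : Algebra S S₁)
      (_ : Algebra (Localization.AtPrime p₁) S₁) (_ : IsScalarTower R S S₁)
      (_ : IsScalarTower R (Localization.AtPrime p₁) S₁) (_ : Algebra.IsPushout R S (Localization.AtPrime p₁) S₁)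
      (N₁ : Type u) (_ : AddCommGroup N₁) (_ : Module S₁ N₁) (_ : Module S N₁) (_ : IsScalarTower S S₁ N₁)
      (f₁ : N →ₗ[S] N₁) (Q₁ : Ideal S₁) (_ : Q₁.IsPrime) (_ : Q₁.LiesOver q)
      (_ : Q₁.LiesOver (IsLocalRing.maximalIdeal (Localization.AtPrime p₁)))
      (B : Type u) (_ : CommRing B) (_ : Algebra S₁ B) (_ : Algebra (Localization.AtPrime p₁) B)
      (_ : IsScalarTower (Localization.AtPrime p₁) S₁ B)
      (M : Type u) (_ : AddCommGroup M) (_ : Module B M) (_ : Module S₁ M)
      (_ : Module (Localization.AtPrime p₁) M)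
      (_ : IsScalarTower S₁ B M) (_ : IsScalarTower (Localization.AtPrime p₁) B M) (f₂ : N₁ →ₗ[S₁] M)
      (QB : Ideal B) (_ : QB.IsPrime) (_ : QB.LiesOver Q₁),
      FlatCA.IsEtaleNhd R R₁ p p₁ ∧ IsBaseChange S₁ f₁ ∧ IsBaseChange B f₂ ∧
      Algebra.FinitePresentation (Localization.AtPrime p₁) B ∧ Module.FinitePresentation B M ∧
      Module.Flat (Localization.AtPrime p₁) M ∧
      IsOpenImmersion (Spec.map (CommRingCat.ofHom (algebraMap S₁ B))) := by
  obtain ⟨R₁, _, _, p₁, _, h₁, H₁⟩ := Groth.Agent.S1210.result N p q hflat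
  obtain ⟨S₁, _, _, _, _, _, _, hpo⟩ := exists_pushout R S (Localization.AtPrime p₁)
  obtain ⟨Q₁, hQ₁, hQ₁q, hQ₁m, -, -⟩ := EtaleNhd.exists_unique_prime_localized (SA := S₁) h₁ q
  obtain ⟨N₁, _, _, _, _, f₁, hf₁⟩ := exists_baseChange S S₁ N
  letI : Module (Localization.AtPrime p₁) N₁ := Module.compHom N₁ (algebraMap (Localization.AtPrime p₁) S₁)
  haveI : IsScalarTower (Localization.AtPrime p₁) S₁ N₁ := IsScalarTower.of_algebraMap_smul fun _ _ => rfl
  obtain ⟨g, hg, hfp, hfl⟩ := H₁ S₁ N₁ f₁ hf₁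
  have hgQ₁ := hg Q₁ hQ₁q hQ₁m
  obtain ⟨B, _, _, _, _, M, _, _, _, _, _, _, f₂, QB, _, h3, h4, h5, h6, h7, h8⟩ :=
    exists_localizedModule g Q₁ hgQ₁ hfp hfl
  haveI : Algebra.FinitePresentation (Localization.AtPrime p₁) S₁ :=
    BCTools.finitePresentation_of_isPushout R S (Localization.AtPrime p₁) S₁
  exact ⟨R₁, inferInstance, inferInstance, p₁, inferInstance, S₁, inferInstance, inferInstance, inferInstance,
    inferInstance, inferInstance, inferInstance, hpo, N₁, inferInstance, inferInstance, inferInstance,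
    inferInstance, f₁, Q₁, inferInstance, hQ₁q, hQ₁m, B, inferInstance, inferInstance, inferInstance,
    inferInstance, M, inferInstance, inferInstance, inferInstance, inferInstance, inferInstance, inferInstance,
    f₂, QB, inferInstance, h3, h₁, hf₁, h4, Algebra.FinitePresentation.trans (Localization.AtPrime p₁) S₁ B,
    h6, h7, h8⟩

theorem stepB {A : Type u} [CommRing A] (B M : Type u) [CommRing B] [Algebra A B] [AddCommGroup M]
    [Module B M] [Module A M] [IsScalarTower A B M] [Algebra.FinitePresentation A B]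
    [Module.FinitePresentation B M] [Module.Flat A M] (p : Ideal A) [p.IsPrime] (q : Ideal B) [q.IsPrime]
    [q.LiesOver p] :
    ∃ (A₂ : Type u) (_ : CommRing A₂) (_ : Algebra A A₂) (m₂ : Ideal A₂) (_ : m₂.IsPrime)
      (B₂ : Type u) (_ : CommRing B₂) (_ : Algebra A B₂) (_ : Algebra B B₂) (_ : Algebra A₂ B₂)
      (_ : IsScalarTower A B B₂) (_ : IsScalarTower A A₂ B₂) (_ : Algebra.IsPushout A B A₂ B₂)
      (M₂ : Type u) (_ : AddCommGroup M₂) (_ : Module B₂ M₂) (_ : Module B M₂) (_ : IsScalarTower B B₂ M₂)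
      (f : M →ₗ[B] M₂) (C : Type u) (_ : CommRing C) (_ : Algebra B₂ C) (_ : Algebra A₂ C)
      (_ : IsScalarTower A₂ B₂ C) (x : Ideal C) (_ : x.IsPrime),
      FlatCA.IsEtaleNhd A A₂ p m₂ ∧ IsBaseChange B₂ f ∧
      IsOpenImmersion (Spec.map (CommRingCat.ofHom (algebraMap B₂ C))) ∧
      (x.comap (algebraMap B₂ C)).LiesOver q ∧ (x.comap (algebraMap B₂ C)).LiesOver m₂ ∧
      Module.Projective A₂ (RestrictScalars A₂ C (C ⊗[B₂] M₂)) := by
  obtain ⟨A₂, _, _, m₂, _, h₂, H₂⟩ := Groth.Agent.S1268.result (R := A) (S := B) M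
    p q (FlatCrit.flatAt_of_flat _ _)
  obtain ⟨B₂, _, _, _, _, _, _, hpo⟩ := exists_pushout A B A₂
  obtain ⟨M₂, _, _, _, _, f, hf⟩ := exists_baseChange B B₂ M
  obtain ⟨C, _, _, _, _, x, _, h3, h4, h5, h6⟩ := H₂ B₂ M₂ f hf
  exact ⟨A₂, inferInstance, inferInstance, m₂, inferInstance, B₂, inferInstance, inferInstance, inferInstance,
    inferInstance, inferInstance, inferInstance, hpo, M₂, inferInstance, inferInstance, inferInstance,
    inferInstance, f, C, inferInstance, inferInstance, inferInstance, inferInstance, x, inferInstance, h₂, hf,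
    h3, h4, h5, h6⟩

/-- Stacks 05MF, for algebras of finite presentation. -/
theorem fp_case {R S : Type u} [CommRing R] [CommRing S] [Algebra R S] [Algebra.FinitePresentation R S]
    (N : Type u) [AddCommGroup N] [Module S N] [Module R N] [IsScalarTower R S N] [Module.Finite S N]
    (p : Ideal R) [p.IsPrime] (q : Ideal S) [q.IsPrime] [q.LiesOver p] (hflat : FlatCA.FlatAt R q N) :
    ∃ (R' : Type u) (_ : CommRing R') (_ : Algebra R R') (p' : Ideal R') (_ : p'.IsPrime), FlatCA.IsEtaleNhd R R' p p' ∧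
      ∀ (SA NA : Type u) [CommRing SA] [Algebra R SA] [Algebra S SA] [Algebra (Localization.AtPrime p') SA]
        [IsScalarTower R S SA] [IsScalarTower R (Localization.AtPrime p') SA]
        [Algebra.IsPushout R S (Localization.AtPrime p') SA]
        [AddCommGroup NA] [Module SA NA] [Module S NA] [IsScalarTower S SA NA]
        (f : N →ₗ[S] NA), IsBaseChange SA f →
        ∃ (C : Type u) (_ : CommRing C) (_ : Algebra SA C) (_ : Algebra (Localization.AtPrime p') C)
          (_ : IsScalarTower (Localization.AtPrime p') SA C) (x' : Ideal C) (_ : x'.IsPrime),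
          IsOpenImmersion (Spec.map (CommRingCat.ofHom (algebraMap SA C))) ∧
          (x'.comap (algebraMap SA C)).LiesOver q ∧
          (x'.comap (algebraMap SA C)).LiesOver (IsLocalRing.maximalIdeal (Localization.AtPrime p')) ∧
          Module.Free (Localization.AtPrime p') (RestrictScalars (Localization.AtPrime p') C (C ⊗[SA] NA)) := by
  obtain ⟨R₁, _, _, p₁, _, S₁, _, _, _, _, _, _, hpo₁, N₁, _, _, _, _, f₁, Q₁, _, hQ₁q, hQ₁m, B, _, _, _, _,
    M, _, _, _, _, _, _, f₂, QB, _, hQB, h₁, hf₁, hf₂, hBfp, hMfp, hMfl, hBop⟩ := stepA N p q hflat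
  haveI hQBm : QB.LiesOver (IsLocalRing.maximalIdeal (Localization.AtPrime p₁)) :=
    Ideal.LiesOver.trans QB Q₁ _
  obtain ⟨A₂, _, _, m₂, _, B₂, _, _, _, _, _, _, hpo₂, M₂, _, _, _, _, f₃, C, _, _, _, _, x, _, h₂, hf₃, hCop,
    hxQ, hxm, hproj⟩ := stepB B M (IsLocalRing.maximalIdeal (Localization.AtPrime p₁)) QB
  letI aR₁A₂ : Algebra R₁ A₂ := ((algebraMap (Localization.AtPrime p₁) A₂).comp
    (algebraMap R₁ (Localization.AtPrime p₁))).toAlgebra
  haveI tR₁ : IsScalarTower R₁ (Localization.AtPrime p₁) A₂ := IsScalarTower.of_algebraMap_eq' rfl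
  obtain ⟨R₂, _, _, p₂, _, _, tR₁A₂A₃, h₃, hm₃⟩ := exists_lift_nhd p₁ m₂ h₂
  letI aRR₂ : Algebra R R₂ := ((algebraMap R₁ R₂).comp (algebraMap R R₁)).toAlgebra
  haveI tRR₂ : IsScalarTower R R₁ R₂ := IsScalarTower.of_algebraMap_eq' rfl
  letI aRA₂ : Algebra R A₂ := ((algebraMap R₁ A₂).comp (algebraMap R R₁)).toAlgebra
  haveI tRR₁A₂ : IsScalarTower R R₁ A₂ := IsScalarTower.of_algebraMap_eq' rfl
  haveI tRA₁A₂ : IsScalarTower R (Localization.AtPrime p₁) A₂ := IsScalarTower.of_algebraMap_eq' (by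
    rw [IsScalarTower.algebraMap_eq R R₁ A₂, IsScalarTower.algebraMap_eq R₁ (Localization.AtPrime p₁) A₂,
      RingHom.comp_assoc, ← IsScalarTower.algebraMap_eq R R₁ (Localization.AtPrime p₁)])
  haveI tRR₁A₃ : IsScalarTower R R₁ (Localization.AtPrime p₂) := IsScalarTower.of_algebraMap_eq' (by
    rw [IsScalarTower.algebraMap_eq R R₂ (Localization.AtPrime p₂), IsScalarTower.algebraMap_eq R R₁ R₂,
      ← RingHom.comp_assoc, ← IsScalarTower.algebraMap_eq R₁ R₂ (Localization.AtPrime p₂)])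
  haveI tRA₂A₃ : IsScalarTower R A₂ (Localization.AtPrime p₂) := IsScalarTower.of_algebraMap_eq' (by
    rw [IsScalarTower.algebraMap_eq R R₁ A₂, ← RingHom.comp_assoc,
      ← IsScalarTower.algebraMap_eq R₁ A₂ (Localization.AtPrime p₂),
      ← IsScalarTower.algebraMap_eq R R₁ (Localization.AtPrime p₂)])
  refine ⟨R₂, inferInstance, aRR₂, p₂, inferInstance, EtaleNhd.isEtaleNhd_trans h₁ h₃, ?_⟩
  intro SA NA _ _ _ _ _ _ _ _ _ _ _ f hf
  obtain ⟨S₂, _, _, _, _, _, _, hpo₃⟩ := exists_pushout R S A₂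
  obtain ⟨_, _, _, _, _, _, _, hopen, hxq, hproj'⟩ := mid_step (R := R) (S := S) (A₁ := Localization.AtPrime p₁)
    (S₁ := S₁) (B := B) (A₂ := A₂) (B₂ := B₂) (C := C) (S₂ := S₂)
    hBop hCop f₁ hf₁ f₂ hf₂ f₃ hf₃ hproj q Q₁ QB x
  haveI hxm₂ : x.LiesOver m₂ := ⟨by
    rw [hxm.over, Ideal.under_def, Ideal.under_def, Ideal.comap_comap, ← IsScalarTower.algebraMap_eq]⟩
  obtain ⟨C₃, _, _, _, _, _, _, hpo₄⟩ := exists_pushout A₂ C (Localization.AtPrime p₂)
  obtain ⟨a1, a2, x₃, hx₃, h4, h5, h6, h7⟩ := final_step (R := R) (S := S) (A₂ := A₂) (C := C)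
    (A₃ := Localization.AtPrime p₂) (SA := SA) (S₂ := S₂) hopen q m₂ x hproj' f hf C₃
  exact ⟨C₃, inferInstance, a1, inferInstance, a2, x₃, hx₃, h4, h5, h6, h7⟩

end Groth.Agent.Flat2B.FreeNhd
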