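import Mathlib.Algebra.Polynomial.Module.Basic
import Mathlib.Algebra.MvPolynomial.Degrees
import Mathlib.RingTheory.Polynomial.Basic
import Mathlib.RingTheory.FiniteType
import Mathlib.RingTheory.Noetherian.Basic

/-!
# S1270 route E: the Rees-Noetherian lemma

Over a Noetherian ring `B`, submodule families `N e` of a finitely generated filtered
`B[y_τ]`-module are finitely generated in the filtered sense.
-/

universe u v

open Polynomial MvPolynomial

namespace Groth.Agent.Flat2B.GEx.Rees

variable {B : Type u} [CommRing B] {τ : Type}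

variable (B τ) in
/-- The Rees ring of `B[y_τ]`: polynomials `∑ p_m t^m` with `deg p_m ≤ m`. -/
noncomputable def R : Subalgebra B (MvPolynomial τ B)[X] where
  carrier := {f | ∀ m, (f.coeff m).totalDegree ≤ m}
  mul_mem' {f g} hf hg m := by
    rw [Polynomial.coeff_mul]
    refine totalDegree_finsetSum_le fun x hx => ?_
    rw [Finset.mem_antidiagonal] at hx
    exact (totalDegree_mul _ _).trans ((Nat.add_le_add (hf _) (hg _)).trans hx.le)
  add_mem' {f g} hf hg m := by
    rw [Polynomial.coeff_add]
    exact (totalDegree_add _ _).trans (max_le (hf _) (hg _))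
  algebraMap_mem' b m := by
    change (Polynomial.coeff (Polynomial.C (MvPolynomial.C b)) m).totalDegree ≤ m
    rw [Polynomial.coeff_C]
    split_ifs
    · simp
    · simp

theorem mem_R {f : (MvPolynomial τ B)[X]} : f ∈ R B τ ↔ ∀ m, (f.coeff m).totalDegree ≤ m := Iff.rfl

theorem monomial_mem {m : ℕ} {p : MvPolynomial τ B} (h : p.totalDegree ≤ m) :
    Polynomial.monomial m p ∈ R B τ := by
  intro n
  rw [Polynomial.coeff_monomial]
  split_ifs with h1
  · rw [← h1]; exact h
  · simp

theorem totalDegree_X_le (j : τ) : (MvPolynomial.X j : MvPolynomial τ B).totalDegree ≤ 1 := by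
  rcases subsingleton_or_nontrivial B with h | h
  · have : (MvPolynomial.X j : MvPolynomial τ B) = 0 := Subsingleton.elim _ _
    rw [this]; simp
  · exact (totalDegree_X j).le

variable [Finite τ]

variable (B τ) in
theorem fg_R : (R B τ).FG := by
  classical
  have : Fintype τ := Fintype.ofFinite τ
  let s : Finset (MvPolynomial τ B)[X] :=
    insert Polynomial.X (Finset.univ.image fun j : τ => Polynomial.C (MvPolynomial.X j) * Polynomial.X)
  refine ⟨s, le_antisymm ?_ ?_⟩
  · rw [Algebra.adjoin_le_iff]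
    intro f hf
    simp only [s, Finset.coe_insert, Finset.coe_image, Finset.coe_univ, Set.image_univ, Set.mem_insert_iff,
      Set.mem_range] at hf
    rcases hf with rfl | ⟨j, rfl⟩
    · intro m
      rw [Polynomial.coeff_X]
      split_ifs <;> simp
    · rw [← Polynomial.monomial_one_one_eq_X, Polynomial.C_mul_monomial, mul_one]
      exact monomial_mem (totalDegree_X_le j)
  · intro f hf
    have hX : (Polynomial.X : (MvPolynomial τ B)[X]) ∈ Algebra.adjoin B (s : Set (MvPolynomial τ B)[X]) :=
      Algebra.subset_adjoin (by simp [s])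
    have hXj : ∀ j : τ, Polynomial.C (MvPolynomial.X j) * Polynomial.X ∈
        Algebra.adjoin B (s : Set (MvPolynomial τ B)[X]) := fun j =>
      Algebra.subset_adjoin (by simp [s])
    rw [f.as_sum_support]
    refine Subalgebra.sum_mem _ fun m _ => ?_
    rw [(f.coeff m).as_sum, map_sum]
    refine Subalgebra.sum_mem _ fun t ht => ?_
    have ht1 : t.sum (fun _ e => e) ≤ m := (le_totalDegree ht).trans (hf m)
    have h1 : Polynomial.monomial m (MvPolynomial.monomial t ((f.coeff m).coeff t)) =
        algebraMap B (MvPolynomial τ B)[X] ((f.coeff m).coeff t) *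
          ((t.prod fun j e => (Polynomial.C (MvPolynomial.X j) * Polynomial.X) ^ e) *
            Polynomial.X ^ (m - t.sum (fun _ e => e))) := by
      have h2 : (t.prod fun j e => (Polynomial.C (MvPolynomial.X j) * Polynomial.X) ^ e) =
          Polynomial.C (t.prod fun j e => (MvPolynomial.X j : MvPolynomial τ B) ^ e) *
            Polynomial.X ^ (t.sum (fun _ e => e)) := by
        simp only [mul_pow, Finsupp.prod, Finset.prod_mul_distrib, Finset.prod_pow_eq_pow_sum, map_prod, map_pow,
          Finsupp.sum]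
      rw [h2, mul_assoc, ← pow_add, Nat.add_sub_cancel' ht1]
      rw [MvPolynomial.monomial_eq, ← Polynomial.C_mul_X_pow_eq_monomial, map_mul, mul_assoc]
      rfl
    rw [h1]
    refine Subalgebra.mul_mem _ (Subalgebra.algebraMap_mem _ _) (Subalgebra.mul_mem _ ?_ (Subalgebra.pow_mem _ hX _))
    exact Subalgebra.prod_mem _ fun j _ => Subalgebra.pow_mem _ (hXj j) _

theorem isNoetherianRing_R [IsNoetherianRing B] : IsNoetherianRing (R B τ) := by
  have : Algebra.FiniteType B (R B τ) := (Subalgebra.fg_iff_finiteType _).mp (fg_R B τ)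
  exact Algebra.FiniteType.isNoetherianRing B (R B τ)

omit [Finite τ]

variable {X : Type v} [AddCommGroup X] [Module (MvPolynomial τ B) X]

theorem eq_sum_single (g : PolynomialModule (MvPolynomial τ B) X) :
    g = ∑ b ∈ g.coeff.support, PolynomialModule.single (MvPolynomial τ B) b (g.coeff b) := by
  apply PolynomialModule.coeff_injective
  rw [PolynomialModule.coeff_sum]
  simp only [PolynomialModule.coeff_single]
  exact (Finsupp.sum_single g.coeff).symm

/-- Homogeneous components of a multiple. -/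
theorem component_eq (f : (MvPolynomial τ B)[X]) (g : PolynomialModule (MvPolynomial τ B) X) (e : ℕ) :
    (f • g).coeff e = ∑ b ∈ g.coeff.support, if b ≤ e then f.coeff (e - b) • g.coeff b else 0 := by
  conv_lhs => rw [eq_sum_single g, Finset.smul_sum, PolynomialModule.coeff_sum, Finsupp.finsetSum_apply]
  refine Finset.sum_congr rfl fun b _ => ?_
  rw [PolynomialModule.smul_single_apply]

theorem coe_smul_eq (f : R B τ) (g : PolynomialModule (MvPolynomial τ B) X) :
    f • g = (f : (MvPolynomial τ B)[X]) • g := rfl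

/-- The Rees module of a submodule family. -/
noncomputable def rees (N : ℕ → AddSubmonoid X)
    (hN : ∀ e m (p : MvPolynomial τ B) x, p.totalDegree ≤ m → x ∈ N e → p • x ∈ N (e + m)) :
    Submodule (R B τ) (PolynomialModule (MvPolynomial τ B) X) where
  carrier := {g | ∀ e, g.coeff e ∈ N e}
  add_mem' {a b} ha hb e := by
    rw [PolynomialModule.coeff_add, Finsupp.add_apply]
    exact (N e).add_mem (ha e) (hb e)
  zero_mem' e := by
    rw [PolynomialModule.coeff_zero, Finsupp.zero_apply]
    exact (N e).zero_mem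
  smul_mem' f g hg e := by
    rw [coe_smul_eq, component_eq]
    refine AddSubmonoid.sum_mem _ fun b _ => ?_
    split_ifs with hb
    · have := hN b (e - b) _ _ (f.2 (e - b)) (hg b)
      rwa [Nat.add_sub_cancel' hb] at this
    · exact (N e).zero_mem

theorem mem_rees {N : ℕ → AddSubmonoid X}
    {hN : ∀ e m (p : MvPolynomial τ B) x, p.totalDegree ≤ m → x ∈ N e → p • x ∈ N (e + m)}
    {g : PolynomialModule (MvPolynomial τ B) X} : g ∈ rees N hN ↔ ∀ e, g.coeff e ∈ N e := Iff.rfl

theorem single_mem_rees {N : ℕ → AddSubmonoid X}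
    {hN : ∀ e m (p : MvPolynomial τ B) x, p.totalDegree ≤ m → x ∈ N e → p • x ∈ N (e + m)}
    {e : ℕ} {x : X} (hx : x ∈ N e) : PolynomialModule.single (MvPolynomial τ B) e x ∈ rees N hN := by
  intro n
  rw [PolynomialModule.coeff_single, Finsupp.single_apply]
  split_ifs with hn
  · rw [← hn]; exact hx
  · exact (N n).zero_mem

theorem single_smul_mem_span {ι : Type*} (w₀ : ι → ℕ) (z₀ : ι → X) (i : ι) (e : ℕ) (p : MvPolynomial τ B)
    (hp : p = 0 ∨ p.totalDegree + w₀ i ≤ e) :
    PolynomialModule.single (MvPolynomial τ B) e (p • z₀ i) ∈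
      Submodule.span (R B τ) (Set.range fun i => PolynomialModule.single (MvPolynomial τ B) (w₀ i) (z₀ i)) := by
  rcases hp with h | h
  · rw [h, zero_smul, PolynomialModule.single_zero]
    exact Submodule.zero_mem _
  · have h3 : PolynomialModule.single (MvPolynomial τ B) e (p • z₀ i) =
        (⟨Polynomial.monomial (e - w₀ i) p, monomial_mem (by omega)⟩ : R B τ) •
          PolynomialModule.single (MvPolynomial τ B) (w₀ i) (z₀ i) := by
      rw [coe_smul_eq]
      dsimp only
      rw [PolynomialModule.monomial_smul_single]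
      congr 1
      omega
    rw [h3]
    exact Submodule.smul_mem _ _ (Submodule.subset_span ⟨i, rfl⟩)

theorem single_sum {ι : Type*} (s : Finset ι) (e : ℕ) (f : ι → X) :
    PolynomialModule.single (MvPolynomial τ B) e (∑ i ∈ s, f i) =
      ∑ i ∈ s, PolynomialModule.single (MvPolynomial τ B) e (f i) := by
  apply PolynomialModule.coeff_injective
  rw [PolynomialModule.coeff_sum]
  simp only [PolynomialModule.coeff_single]
  exact Finsupp.single_finsetSum _ _ _

theorem rees_le {ι : Type*} [Fintype ι] (w₀ : ι → ℕ) (z₀ : ι → X) (N : ℕ → AddSubmonoid X)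
    (hN : ∀ e m (p : MvPolynomial τ B) x, p.totalDegree ≤ m → x ∈ N e → p • x ∈ N (e + m))
    (hF : ∀ e, ∀ x ∈ N e, ∃ p : ι → MvPolynomial τ B, (∀ i, p i = 0 ∨ (p i).totalDegree + w₀ i ≤ e) ∧
      x = ∑ i, p i • z₀ i) :
    rees N hN ≤ Submodule.span (R B τ) (Set.range fun i => PolynomialModule.single (MvPolynomial τ B) (w₀ i) (z₀ i)) := by
  intro g hg
  rw [eq_sum_single g]
  refine Submodule.sum_mem _ fun b _ => ?_
  obtain ⟨p, hp, hp'⟩ := hF b _ (hg b)
  rw [hp', single_sum]
  exact Submodule.sum_mem _ fun i _ => single_smul_mem_span w₀ z₀ i b (p i) (hp i)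

variable [Finite τ]

theorem fg_rees [IsNoetherianRing B] {ι : Type*} [Fintype ι] (w₀ : ι → ℕ) (z₀ : ι → X) (N : ℕ → AddSubmonoid X)
    (hN : ∀ e m (p : MvPolynomial τ B) x, p.totalDegree ≤ m → x ∈ N e → p • x ∈ N (e + m))
    (hF : ∀ e, ∀ x ∈ N e, ∃ p : ι → MvPolynomial τ B, (∀ i, p i = 0 ∨ (p i).totalDegree + w₀ i ≤ e) ∧
      x = ∑ i, p i • z₀ i) :
    (rees N hN).FG := by
  have := isNoetherianRing_R (B := B) (τ := τ)
  have h1 := isNoetherian_span_of_finite (R B τ)
    (Set.finite_range fun i => PolynomialModule.single (MvPolynomial τ B) (w₀ i) (z₀ i))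
  exact isNoetherian_submodule.mp h1 _ (rees_le w₀ z₀ N hN hF)

/-- **Rees-Noetherian lemma.** -/
theorem exists_fg [IsNoetherianRing B] {ι : Type*} [Fintype ι] (w₀ : ι → ℕ) (z₀ : ι → X) (N : ℕ → AddSubmonoid X)
    (hN : ∀ e m (p : MvPolynomial τ B) x, p.totalDegree ≤ m → x ∈ N e → p • x ∈ N (e + m))
    (hF : ∀ e, ∀ x ∈ N e, ∃ p : ι → MvPolynomial τ B, (∀ i, p i = 0 ∨ (p i).totalDegree + w₀ i ≤ e) ∧
      x = ∑ i, p i • z₀ i) :
    ∃ (m : ℕ) (w : Fin m → ℕ) (v : Fin m → X), (∀ i, v i ∈ N (w i)) ∧
      ∀ e, ∀ x ∈ N e, ∃ p : Fin m → MvPolynomial τ B, (∀ i, p i = 0 ∨ (p i).totalDegree + w i ≤ e) ∧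
        x = ∑ i, p i • v i := by
  classical
  obtain ⟨S, hS⟩ := fg_rees w₀ z₀ N hN hF
  -- the generators: all components of the elements of `S`
  let I := Σ g : S, (g : PolynomialModule (MvPolynomial τ B) X).coeff.support
  let wI : I → ℕ := fun i => i.2
  let vI : I → X := fun i => (i.1 : PolynomialModule (MvPolynomial τ B) X).coeff i.2
  have hSN : ∀ g ∈ S, g ∈ rees N hN := fun g hg => by rw [← hS]; exact Submodule.subset_span hg
  obtain ⟨m, ⟨ε⟩⟩ := Finite.exists_equiv_fin I
  refine ⟨m, fun i => wI (ε.symm i), fun i => vI (ε.symm i), fun i => hSN _ (ε.symm i).1.2 _, ?_⟩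
  intro e x hx
  have h1 := single_mem_rees (hN := hN) hx
  rw [← hS, Submodule.mem_span_finset'] at h1
  obtain ⟨c, hc⟩ := h1
  let pI : I → MvPolynomial τ B := fun i => if wI i ≤ e then (c i.1 : (MvPolynomial τ B)[X]).coeff (e - wI i) else 0
  have hpI : ∀ i, pI i = 0 ∨ (pI i).totalDegree + wI i ≤ e := by
    intro i
    by_cases h : wI i ≤ e
    · right
      simp only [pI, if_pos h]
      have := (c i.1).2 (e - wI i)
      omega
    · left
      simp only [pI, if_neg h]
  have hx' : x = ∑ i, pI i • vI i := by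
    have h2 : x = (∑ g : S, (c g) • (g : PolynomialModule (MvPolynomial τ B) X)).coeff e := by
      rw [hc, PolynomialModule.coeff_single, Finsupp.single_eq_same]
    rw [h2, PolynomialModule.coeff_sum, Finsupp.finsetSum_apply, Fintype.sum_sigma]
    refine Finset.sum_congr rfl fun g _ => ?_
    rw [coe_smul_eq, component_eq, ← Finset.sum_coe_sort]
    refine Finset.sum_congr rfl fun b _ => ?_
    simp only [pI, wI, vI]
    split_ifs
    · rfl
    · rw [zero_smul]
  refine ⟨fun i => pI (ε.symm i), fun i => hpI _, ?_⟩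
  rw [hx']
  exact (Equiv.sum_comp ε.symm (fun i => pI i • vI i)).symm

end Groth.Agent.Flat2B.GEx.Rees
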