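import Groth.Agent.Flat2B.GExDiag
import Groth.Agent.Flat2B.GExRees

/-!
# S1270, route E: free resolutions of filtered diagrams (AL3)
-/

universe u

open MvPolynomial
open scoped Classical

namespace Groth.Agent.Flat2B.GEx.LRes

variable {Λ : Type u} [CommRing Λ] {P : Type} [Preorder P] (D : RDiag Λ P) (τ : Type)

/-- restriction maps on polynomial rings -/
noncomputable abbrev pm {s t : P} (h : s ≤ t) : MvPolynomial τ (D.C s) →+* MvPolynomial τ (D.C t) :=
  MvPolynomial.map (D.res h).toRingHom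

variable {D τ}

theorem pm_trans {s t u : P} (h : s ≤ t) (h' : t ≤ u) (x : MvPolynomial τ (D.C s)) :
    pm D τ h' (pm D τ h x) = pm D τ (h.trans h') x := by
  rw [pm, pm, pm, MvPolynomial.map_map]
  congr 2
  exact RingHom.ext (D.res_res h h')

theorem pm_refl {s : P} (h : s ≤ s) (x : MvPolynomial τ (D.C s)) : pm D τ h x = x := by
  have : (D.res h).toRingHom = RingHom.id _ := RingHom.ext (D.res_self s h)
  rw [pm, this, MvPolynomial.map_id]

theorem pm_deg {s t : P} (h : s ≤ t) {x : MvPolynomial τ (D.C s)} {w e : ℕ} (hx : x = 0 ∨ x.totalDegree + w ≤ e) :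
    pm D τ h x = 0 ∨ (pm D τ h x).totalDegree + w ≤ e := by
  rcases hx with h1 | h1
  · left; rw [h1, map_zero]
  · right
    exact le_trans (Nat.add_le_add_right (Finset.sup_mono (MvPolynomial.support_map_subset _ _)) _) h1

variable (D τ)

/-- A stage of the construction: a finite free filtered diagram `L(s) = ({b // loc b ≤ s} → C(s)[y])` with a
subdiagram `Z`. -/
structure Stage where
  J : Type
  [fin : Fintype J]
  loc : J → P
  w : J → ℕ
  Z : ∀ s, Submodule (MvPolynomial τ (D.C s)) ({b : J // loc b ≤ s} → MvPolynomial τ (D.C s))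
  Z_res : ∀ {s t : P} (h : s ≤ t) (v : {b : J // loc b ≤ s} → MvPolynomial τ (D.C s)), v ∈ Z s →
    (fun b : {b : J // loc b ≤ t} => if hb : loc b.1 ≤ s then pm D τ h (v ⟨b.1, hb⟩) else 0) ∈ Z t

attribute [instance] Stage.fin

variable {D τ}

/-- The filtered pieces of `Z`. -/
def Stage.F (S : Stage D τ) (s : P) (e : ℕ) : AddSubmonoid ({b : S.J // S.loc b ≤ s} → MvPolynomial τ (D.C s)) where
  carrier := {v | (∀ b, v b = 0 ∨ (v b).totalDegree + S.w b.1 ≤ e) ∧ v ∈ S.Z s}
  zero_mem' := ⟨fun _ => Or.inl rfl, Submodule.zero_mem _⟩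
  add_mem' := by
    rintro v v' ⟨h1, h2⟩ ⟨h1', h2'⟩
    refine ⟨fun a => ?_, Submodule.add_mem _ h2 h2'⟩
    rcases h1 a with h | h
    · rcases h1' a with h' | h'
      · left; rw [Pi.add_apply, h, h', add_zero]
      · right; rw [Pi.add_apply, h, zero_add]; exact h'
    · rcases h1' a with h' | h'
      · right; rw [Pi.add_apply, h', add_zero]; exact h
      · right
        have := totalDegree_add (v a) (v' a)
        rw [Pi.add_apply]
        omega

theorem Stage.exists_gens [Finite τ] (S : Stage D τ) (s : P) [IsNoetherianRing (D.C s)] :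
    ∃ (m : ℕ) (w : Fin m → ℕ) (v : Fin m → ({b : S.J // S.loc b ≤ s} → MvPolynomial τ (D.C s))),
      (∀ i, v i ∈ S.F s (w i)) ∧ ∀ e, ∀ x ∈ S.F s e, ∃ p : Fin m → MvPolynomial τ (D.C s),
        (∀ i, p i = 0 ∨ (p i).totalDegree + w i ≤ e) ∧ x = ∑ i, p i • v i := by
  refine Rees.exists_fg (ι := {b : S.J // S.loc b ≤ s}) (fun b => S.w b.1) (fun b => Pi.single b 1) (S.F s) ?_ ?_
  · rintro e m p x hp ⟨h1, h2⟩
    refine ⟨fun a => ?_, Submodule.smul_mem _ _ h2⟩
    rcases h1 a with h | h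
    · left; rw [Pi.smul_apply, h, smul_zero]
    · right
      rw [Pi.smul_apply, smul_eq_mul]
      have := totalDegree_mul p (x a)
      omega
  · rintro e x ⟨h1, -⟩
    refine ⟨x, h1, ?_⟩
    funext b
    rw [Finset.sum_apply, Finset.sum_eq_single b]
    · simp
    · intro c _ hc
      simp [hc.symm]
    · simp

section next

variable [Finite τ] [∀ s, IsNoetherianRing (D.C s)] (S : Stage D τ)

/-- number of generators -/
noncomputable def Stage.gm (s : P) : ℕ := (S.exists_gens s).choose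

/-- weights of the generators -/
noncomputable def Stage.gw (s : P) : Fin (S.gm s) → ℕ := (S.exists_gens s).choose_spec.choose

/-- the generators -/
noncomputable def Stage.gv (s : P) : Fin (S.gm s) → ({b : S.J // S.loc b ≤ s} → MvPolynomial τ (D.C s)) :=
  (S.exists_gens s).choose_spec.choose_spec.choose

theorem Stage.gv_mem (s : P) (i : Fin (S.gm s)) : S.gv s i ∈ S.F s (S.gw s i) :=
  (S.exists_gens s).choose_spec.choose_spec.choose_spec.1 i

theorem Stage.exists_eq (s : P) (e : ℕ) (x : {b : S.J // S.loc b ≤ s} → MvPolynomial τ (D.C s)) (hx : x ∈ S.F s e) :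
    ∃ p : Fin (S.gm s) → MvPolynomial τ (D.C s),
      (∀ i, p i = 0 ∨ (p i).totalDegree + S.gw s i ≤ e) ∧ x = ∑ i, p i • S.gv s i :=
  (S.exists_gens s).choose_spec.choose_spec.choose_spec.2 e x hx

/-- the generators of the next stage -/
abbrev Stage.nJ : Type := Σ s : P, Fin (S.gm s)

/-- the matrix of the differential -/
noncomputable def Stage.δ (a : S.nJ) (b : S.J) : MvPolynomial τ (D.C a.1) :=
  if h : S.loc b ≤ a.1 then S.gv a.1 a.2 ⟨b, h⟩ else 0

theorem Stage.δ_deg (a : S.nJ) (b : S.J) :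
    S.δ a b = 0 ∨ (S.δ a b).totalDegree + S.w b ≤ S.gw a.1 a.2 := by
  unfold Stage.δ
  split_ifs with h
  · exact (S.gv_mem a.1 a.2).1 ⟨b, h⟩
  · exact Or.inl rfl

theorem Stage.δ_loc (a : S.nJ) (b : S.J) (h : S.δ a b ≠ 0) : S.loc b ≤ a.1 := by
  by_contra h'
  exact h (dif_neg h')

variable [Fintype P]

/-- the kernel of the differential -/
noncomputable def Stage.nZ (s : P) :
    Submodule (MvPolynomial τ (D.C s)) ({a : S.nJ // a.1 ≤ s} → MvPolynomial τ (D.C s)) where
  carrier := {u | ∀ b : {b : S.J // S.loc b ≤ s}, ∑ a, u a * pm D τ a.2 (S.δ a.1 b.1) = 0}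
  add_mem' {u u'} h h' b := by
    simp only [Pi.add_apply, add_mul, Finset.sum_add_distrib, h b, h' b, add_zero]
  zero_mem' b := by simp
  smul_mem' p u h b := by
    simp only [Pi.smul_apply, smul_eq_mul, mul_assoc, ← Finset.mul_sum, h b, mul_zero]

theorem Stage.mem_nZ {s : P} {u : {a : S.nJ // a.1 ≤ s} → MvPolynomial τ (D.C s)} :
    u ∈ S.nZ s ↔ ∀ b : {b : S.J // S.loc b ≤ s}, ∑ a, u a * pm D τ a.2 (S.δ a.1 b.1) = 0 := Iff.rfl

omit [Fintype P] in
/-- a sum over the generators below `t` whose terms vanish outside the generators below `s` -/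
theorem sum_res {J : Type} [Fintype J] (loc : J → P) {s t : P} (h : s ≤ t) {M : Type*} [AddCommMonoid M]
    (f : {b : J // loc b ≤ s} → M) :
    ∑ b : {b : J // loc b ≤ t}, (if hb : loc b.1 ≤ s then f ⟨b.1, hb⟩ else 0) = ∑ b, f b := by
  let g : J → M := fun b => if hb : loc b ≤ s then f ⟨b, hb⟩ else 0
  have e1 : ∑ b : {b : J // loc b ≤ t}, (if hb : loc b.1 ≤ s then f ⟨b.1, hb⟩ else 0) =
      ∑ b : {b : J // loc b ≤ t}, g b.1 := rfl
  have e2 : ∑ b : {b : J // loc b ≤ s}, f b = ∑ b : {b : J // loc b ≤ s}, g b.1 := by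
    refine Finset.sum_congr rfl fun b _ => ?_
    simp only [g, dif_pos b.2]
  have e3 : ∑ b : {b : J // loc b ≤ t}, g b.1 = ∑ b ∈ Finset.univ.filter (fun a => loc a ≤ t), g b :=
    (Finset.sum_subtype (Finset.univ.filter fun a => loc a ≤ t) (fun b => by simp) g).symm
  have e4 : ∑ b : {b : J // loc b ≤ s}, g b.1 = ∑ b ∈ Finset.univ.filter (fun a => loc a ≤ s), g b :=
    (Finset.sum_subtype (Finset.univ.filter fun a => loc a ≤ s) (fun b => by simp) g).symm
  rw [e1, e2, e3, e4]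
  symm
  refine Finset.sum_subset (fun a ha => ?_) (fun a _ ha => ?_)
  · simp only [Finset.mem_filter, Finset.mem_univ, true_and] at ha ⊢
    exact ha.trans h
  · simp only [Finset.mem_filter, Finset.mem_univ, true_and] at ha
    simp only [g, dif_neg ha]

theorem Stage.nZ_res {s t : P} (h : s ≤ t) (v : {b : S.nJ // b.1 ≤ s} → MvPolynomial τ (D.C s)) (hv : v ∈ S.nZ s) :
    (fun b : {b : S.nJ // b.1 ≤ t} => if hb : b.1.1 ≤ s then pm D τ h (v ⟨b.1, hb⟩) else 0) ∈ S.nZ t := by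
  intro b
  by_cases hb : S.loc b.1 ≤ s
  · have h1 := congrArg (pm D τ h) (hv ⟨b.1, hb⟩)
    rw [map_sum, map_zero, ← sum_res (fun a : S.nJ => a.1) h] at h1
    refine Eq.trans (Finset.sum_congr rfl fun a _ => ?_) h1
    by_cases ha : a.1.1 ≤ s
    · simp only [dif_pos ha]
      rw [map_mul, pm_trans]
    · simp only [dif_neg ha, zero_mul]
  · refine Finset.sum_eq_zero fun a _ => ?_
    by_cases ha : a.1.1 ≤ s
    · have h0 : S.δ a.1 b.1 = 0 := by
        by_contra h'
        exact hb ((S.δ_loc _ _ h').trans ha)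
      rw [h0, map_zero, mul_zero]
    · simp only [dif_neg ha, zero_mul]

/-- the next stage -/
noncomputable def Stage.next : Stage D τ where
  J := S.nJ
  loc := Sigma.fst
  w a := S.gw a.1 a.2
  Z := S.nZ
  Z_res := S.nZ_res

/-- every element of the subdiagram comes from the next stage -/
theorem Stage.exists_lift (s : P) (e : ℕ) (x : {b : S.J // S.loc b ≤ s} → MvPolynomial τ (D.C s)) (hx : x ∈ S.F s e) :
    ∃ u : {a : S.nJ // a.1 ≤ s} → MvPolynomial τ (D.C s),
      (∀ a, u a = 0 ∨ (u a).totalDegree + S.gw a.1.1 a.1.2 ≤ e) ∧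
      ∀ b, ∑ a, u a * pm D τ a.2 (S.δ a.1 b.1) = x b := by
  obtain ⟨p, hp, hx⟩ := S.exists_eq s e x hx
  -- the generators located at `s`
  let j : Fin (S.gm s) → {a : S.nJ // a.1 ≤ s} := fun i => ⟨⟨s, i⟩, le_refl s⟩
  have hj : Function.Injective j := by
    intro i i' h
    have h1 := congrArg Subtype.val h
    simp only [j] at h1
    exact eq_of_heq (Sigma.mk.inj h1).2
  let u : {a : S.nJ // a.1 ≤ s} → MvPolynomial τ (D.C s) := fun a =>
    if h : ∃ i, j i = a then p h.choose else 0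
  have hu : ∀ i, u (j i) = p i := by
    intro i
    have h : ∃ i', j i' = j i := ⟨i, rfl⟩
    simp only [u, dif_pos h]
    rw [hj h.choose_spec]
  refine ⟨u, ?_, ?_⟩
  · intro a
    by_cases h : ∃ i, j i = a
    · obtain ⟨i, rfl⟩ := h
      rw [hu]
      exact hp i
    · left
      simp only [u, dif_neg h]
  · intro b
    rw [hx, Finset.sum_apply]
    symm
    refine Finset.sum_of_injOn j (fun i _ i' _ h => hj h) (fun _ _ => Finset.mem_coe.2 (Finset.mem_univ _)) ?_ ?_
    · intro a _ ha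
      have : ¬ ∃ i, j i = a := fun ⟨i, hi⟩ => ha ⟨i, Finset.mem_coe.2 (Finset.mem_univ _), hi⟩
      simp only [u, dif_neg this, zero_mul]
    · intro i _
      rw [hu, pm_refl, Pi.smul_apply, smul_eq_mul]
      congr 1
      simp only [j, Stage.δ, dif_pos b.2]

theorem Stage.δ_δ (a : S.next.nJ) (c : S.J) (g : S.nJ → MvPolynomial τ (D.C a.1))
    (hg : ∀ (b : S.nJ) (h : b.1 ≤ a.1), g b = pm D τ h (S.δ b c)) : ∑ b : S.nJ, S.next.δ a b * g b = 0 := by
  by_cases hc : S.loc c ≤ a.1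
  · have ha : S.next.gv a.1 a.2 ∈ S.nZ a.1 := (S.next.gv_mem a.1 a.2).2
    refine Eq.trans ?_ (ha ⟨c, hc⟩)
    let f : S.nJ → MvPolynomial τ (D.C a.1) := fun b =>
      if hb : b.1 ≤ a.1 then S.next.gv a.1 a.2 ⟨b, hb⟩ * pm D τ hb (S.δ b c) else 0
    have e1 : ∑ b : S.nJ, S.next.δ a b * g b = ∑ b : S.nJ, f b := by
      refine Finset.sum_congr rfl fun b _ => ?_
      by_cases hb : b.1 ≤ a.1
      · have h1 : S.next.δ a b = S.next.gv a.1 a.2 ⟨b, hb⟩ := dif_pos hb
        simp only [f, dif_pos hb]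
        rw [h1, hg b hb]
      · have h1 : S.next.δ a b = 0 := dif_neg hb
        simp only [f, dif_neg hb]
        rw [h1, zero_mul]
    have e2 : ∑ b : {b : S.nJ // b.1 ≤ a.1}, S.next.gv a.1 a.2 b * pm D τ b.2 (S.δ b.1 c) =
        ∑ b : {b : S.nJ // b.1 ≤ a.1}, f b.1 := by
      refine Finset.sum_congr rfl fun b _ => ?_
      simp only [f, dif_pos b.2]
      rfl
    have e3 : ∑ b : {b : S.nJ // b.1 ≤ a.1}, f b.1 = ∑ b ∈ Finset.univ.filter (fun b : S.nJ => b.1 ≤ a.1), f b :=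
      (Finset.sum_subtype (Finset.univ.filter fun b : S.nJ => b.1 ≤ a.1) (fun b => by simp) f).symm
    rw [e1]
    refine Eq.trans ?_ e2.symm
    rw [e3]
    symm
    refine Finset.sum_subset (Finset.subset_univ _) (fun b _ hb => ?_)
    simp only [Finset.mem_filter, Finset.mem_univ, true_and] at hb
    simp only [f, dif_neg hb]
  · refine Finset.sum_eq_zero fun b _ => ?_
    by_cases hb : b.1 ≤ a.1
    · have h0 : S.δ b c = 0 := by
        by_contra h'
        exact hc ((S.δ_loc _ _ h').trans hb)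
      rw [hg b hb, h0, map_zero, mul_zero]
    · have h1 : S.next.δ a b = 0 := dif_neg hb
      rw [h1, zero_mul]

/-- the tower of stages -/
noncomputable def Stage.iter : ℕ → Stage D τ
  | 0 => S
  | j + 1 => (Stage.iter j).next

/-- The resolution attached to a stage. -/
noncomputable def Stage.L : LData D τ where
  J j := (S.iter j).J
  loc j := (S.iter j).loc
  w j := (S.iter j).w
  δ j a b := (S.iter j).δ a b
  δ_loc j a b h := (S.iter j).δ_loc a b h
  δ_deg j a b := (S.iter j).δ_deg a b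
  δ_δ j a c g hg := (S.iter j).δ_δ a c g hg

theorem Stage.L_zero_mem (a : S.L.J 1) : (fun b : {b : S.L.J 0 // S.L.loc 0 b ≤ S.L.loc 1 a} => S.L.δ 0 a b.1) ∈ S.Z (S.L.loc 1 a) := by
  have h1 := (S.gv_mem a.1 a.2).2
  have h2 : (fun b : {b : S.L.J 0 // S.L.loc 0 b ≤ S.L.loc 1 a} => S.L.δ 0 a b.1) = S.gv a.1 a.2 := by
    funext b
    exact dif_pos b.2
  rw [h2]
  exact h1

theorem Stage.L_exact_zero (s : P) (e : ℕ) (v : {b : S.L.J 0 // S.L.loc 0 b ≤ s} → MvPolynomial τ (D.C s))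
    (hv : ∀ b, v b = 0 ∨ (v b).totalDegree + S.L.w 0 b.1 ≤ e) (hv' : v ∈ S.Z s) :
    ∃ u : {b : S.L.J 1 // S.L.loc 1 b ≤ s} → MvPolynomial τ (D.C s), (∀ a, u a = 0 ∨ (u a).totalDegree + S.L.w 1 a.1 ≤ e) ∧
      ∀ b, ∑ a, u a * MvPolynomial.map (D.res a.2).toRingHom (S.L.δ 0 a.1 b.1) = v b :=
  S.exists_lift s e v ⟨hv, hv'⟩

theorem Stage.L_exact (j : ℕ) (s : P) (e : ℕ) (v : {b : S.L.J (j + 1) // S.L.loc (j + 1) b ≤ s} → MvPolynomial τ (D.C s))
    (hv : ∀ b, v b = 0 ∨ (v b).totalDegree + S.L.w (j + 1) b.1 ≤ e)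
    (hv' : ∀ b : {b : S.L.J j // S.L.loc j b ≤ s}, ∑ a, v a * MvPolynomial.map (D.res a.2).toRingHom (S.L.δ j a.1 b.1) = 0) :
    ∃ u : {b : S.L.J (j + 2) // S.L.loc (j + 2) b ≤ s} → MvPolynomial τ (D.C s), (∀ a, u a = 0 ∨ (u a).totalDegree + S.L.w (j + 2) a.1 ≤ e) ∧
      ∀ b, ∑ a, u a * MvPolynomial.map (D.res a.2).toRingHom (S.L.δ (j + 1) a.1 b.1) = v b :=
  (S.iter (j + 1)).exists_lift s e v ⟨hv, hv'⟩

end next

end Groth.Agent.Flat2B.GEx.LRes
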