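import Groth.Agent.Flat2B.GExCech
import Groth.Agent.Flat2B.GExLRes

/-!
# S1270 route E: AL3, existence of filtered resolutions
-/

universe u

open Finset MvPolynomial

namespace Groth.Agent.Flat2B.GEx

namespace LRes

section Asum

variable {P : Type} [Preorder P] {J : Type} [Fintype J] (loc : J → P) (s : P) {M : Type*} [AddCommMonoid M]

/-- sum over the generators below `s` (classical instances) -/
noncomputable def asum (f : {b : J // loc b ≤ s} → M) : M := by
  classical exact ∑ b, f b

variable {loc s}

theorem asum_eq (inst : Fintype {b : J // loc b ≤ s}) (f : {b : J // loc b ≤ s} → M) :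
    asum loc s f = ∑ b, f b := by
  unfold asum
  congr!

theorem asum_inst {J : Type} (i1 i2 : Fintype J) {loc : J → P} {s : P} (f : {b : J // loc b ≤ s} → M) :
    @asum P _ J i1 loc s M _ f = @asum P _ J i2 loc s M _ f := by
  rw [Subsingleton.elim i1 i2]

theorem asum_congr {f g : {b : J // loc b ≤ s} → M} (h : ∀ b, f b = g b) : asum loc s f = asum loc s g := by
  rw [funext h]

theorem asum_zero {f : {b : J // loc b ≤ s} → M} (h : ∀ b, f b = 0) : asum loc s f = 0 := by
  classical
  rw [asum_eq inferInstance]
  exact Finset.sum_eq_zero fun b _ => h b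

theorem asum_add (f g : {b : J // loc b ≤ s} → M) : asum loc s (fun b => f b + g b) = asum loc s f + asum loc s g := by
  classical
  rw [asum_eq inferInstance, asum_eq inferInstance, asum_eq inferInstance]
  exact Finset.sum_add_distrib

theorem map_asum {N : Type*} [AddCommMonoid N] (φ : M →+ N) (f : {b : J // loc b ≤ s} → M) :
    φ (asum loc s f) = asum loc s fun b => φ (f b) := by
  classical
  rw [asum_eq inferInstance, asum_eq inferInstance]
  exact map_sum φ _ _

theorem asum_single (f : {b : J // loc b ≤ s} → M) (a : {b : J // loc b ≤ s}) (h : ∀ b, b ≠ a → f b = 0) :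
    asum loc s f = f a := by
  classical
  rw [asum_eq inferInstance]
  exact Finset.sum_eq_single a (fun b _ hb => h b hb) (fun h => absurd (Finset.mem_univ _) h)

open scoped Classical in
theorem asum_res {t : P} (h : s ≤ t) (f : {b : J // loc b ≤ s} → M) :
    asum loc t (fun b => if hb : loc b.1 ≤ s then f ⟨b.1, hb⟩ else 0) = asum loc s f :=
  sum_res loc h f

end Asum

section Aug

variable {Λ : Type u} [CommRing Λ] {τ ι : Type} [LinearOrder ι] {C : RDiag Λ (NE ι)}

theorem evi_pm (i : ι) (b : τ → C.C (sg i)) {s t : NE ι} (h : s ≤ t) (x : MvPolynomial τ (C.C s)) :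
    evi C i b t (pm C τ h x) = C.res (ins_le_ins i h) (evi C i b s x) := by
  have h1 : (evi C i b t).comp (pm C τ h) = (C.res (ins_le_ins i h)).toRingHom.comp (evi C i b s) := by
    apply MvPolynomial.ringHom_ext
    · intro r
      simp only [evi, pm, RingHom.comp_apply, MvPolynomial.map_C, MvPolynomial.coe_eval₂Hom, MvPolynomial.eval₂_C,
        AlgHom.toRingHom_eq_coe, RingHom.coe_coe]
      rw [C.res_res, C.res_res]
    · intro j
      simp only [evi, pm, RingHom.comp_apply, MvPolynomial.map_X, MvPolynomial.coe_eval₂Hom, MvPolynomial.eval₂_X,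
        AlgHom.toRingHom_eq_coe, RingHom.coe_coe]
      rw [C.res_res]
  exact RingHom.congr_fun h1 x

open scoped Classical in
/-- the initial stage for the diagram `s ↦ C(s ∪ {i})` -/
noncomputable def augStage (C : RDiag Λ (NE ι)) [Fintype ι] (i : ι) (b : τ → C.C (sg i)) : Stage C τ where
  J := NE ι
  fin := Subtype.fintype _
  loc := id
  w _ := 0
  Z s :=
    { carrier := {v | asum id s (fun a => evi C i b s (v a)) = 0}
      add_mem' := by
        intro v v' hv hv'
        simp only [Set.mem_ofPred_eq, Pi.add_apply, map_add] at *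
        rw [asum_add, hv, hv', add_zero]
      zero_mem' := asum_zero fun b => by simp
      smul_mem' := by
        intro p v hv
        simp only [Set.mem_ofPred_eq, Pi.smul_apply, smul_eq_mul, map_mul] at *
        have := (map_asum (loc := id) (s := s) (AddMonoidHom.mulLeft (evi C i b s p)) (fun a => evi C i b s (v a))).symm
        rw [hv] at this
        exact this.trans (mul_zero _) }
  Z_res {s t} h v hv := by
    have h1 := congrArg (C.res (ins_le_ins i h)) (show asum id s (fun a => evi C i b s (v a)) = 0 from hv)
    rw [map_zero] at h1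
    have h2 := map_asum (loc := id) (s := s) (C.res (ins_le_ins i h)).toRingHom.toAddMonoidHom (fun a => evi C i b s (v a))
    have h3 := asum_res (loc := id) h (fun a => C.res (ins_le_ins i h) (evi C i b s (v a)))
    refine Eq.trans (asum_congr fun a => ?_) (h3.trans (h2.symm.trans h1))
    by_cases ha : a.1 ≤ s
    · simp only [id, dif_pos ha]
      rw [evi_pm]
    · simp only [id, dif_neg ha, map_zero]

end Aug

end LRes

open LRes in
/-- AL3. Existence of filtered resolutions by finite free diagrams. -/
theorem exists_resol {Λ : Type u} [CommRing Λ] {τ ι : Type} [Finite τ] [LinearOrder ι] [Fintype ι]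
    (C : RDiag Λ (NE ι)) (hN : ∀ s, IsNoetherianRing (C.C s)) (i : ι) (b : τ → C.C (sg i)) :
    ∃ (L : LData C τ) (ε : ∀ a : L.J 0, C.C (ins i (L.loc 0 a))), L.IsResol i b ε := by
  classical
  have haug : ∀ (s : NE ι) (v : (augStage C i b).L.G 0 s → MvPolynomial τ (C.C s)),
      (augStage C i b).L.augP i b (fun _ => 1) s v =
        asum ((augStage C i b).L.loc 0) s (fun a => evi C i b s (v a)) := by
    intro s v
    rw [asum_eq (Subtype.fintype _)]
    change (∑ a : (augStage C i b).L.G 0 s, evi C i b s (v a) * C.res (ins_le_ins i a.2) 1) = _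
    simp only [map_one, mul_one]
  have hZ : ∀ (s : NE ι) (v : (augStage C i b).L.G 0 s → MvPolynomial τ (C.C s)),
      v ∈ (augStage C i b).Z s ↔ (augStage C i b).L.augP i b (fun _ => 1) s v = 0 := by
    intro s v
    rw [haug]
    have : asum ((augStage C i b).L.loc 0) s (fun a => evi C i b s (v a)) =
        asum (J := NE ι) id s (fun a => evi C i b s (v a)) := asum_inst _ _ _
    rw [this]
    rfl
  have hdel : ∀ (j : ℕ) (s : NE ι) (v : (augStage C i b).L.G (j + 1) s → MvPolynomial τ (C.C s))
      (c : (augStage C i b).L.G j s), (augStage C i b).L.delP j s v c =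
      asum ((augStage C i b).L.loc (j + 1)) s fun a => v a * MvPolynomial.map (C.res a.2).toRingHom
        ((augStage C i b).L.δ j a.1 c.1) := by
    intro j s v c
    exact (asum_eq _ _).symm
  refine ⟨(augStage C i b).L, fun _ => 1, ?_, ?_, ?_, ?_, ?_⟩
  · intro a
    refine ⟨1, ?_, map_one _⟩
    rw [totalDegree_one]
    exact Nat.zero_le _
  · intro s v
    rw [← hZ]
    have h1 : (augStage C i b).L.delP 0 s v = ∑ a : (augStage C i b).L.G 1 s, v a • (fun c : (augStage C i b).L.G 0 s =>
        MvPolynomial.map (C.res a.2).toRingHom ((augStage C i b).L.δ 0 a.1 c.1)) := by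
      funext c
      rw [hdel, Finset.sum_apply]
      exact asum_eq _ _
    rw [h1]
    refine Submodule.sum_mem _ fun a _ => Submodule.smul_mem _ _ ?_
    have h2 := (augStage C i b).Z_res a.2 _ ((augStage C i b).L_zero_mem a.1)
    refine Eq.mp (congrArg (fun z => z ∈ (augStage C i b).Z s) (funext fun c => ?_)) h2
    split_ifs with hc
    · rfl
    · have h0 : (augStage C i b).L.δ 0 a.1 c.1 = 0 := by
        by_contra h'
        exact hc ((augStage C i b).L.δ_loc _ _ _ h')
      rw [h0, map_zero]
  · intro s p e hp
    refine ⟨Pi.single (M := fun _ => MvPolynomial τ (C.C s)) ⟨s, le_refl s⟩ p, ?_, ?_⟩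
    · intro a
      by_cases ha : a = ⟨s, le_refl s⟩
      · subst ha
        right
        rw [Pi.single_eq_same]
        exact hp
      · left
        rw [Pi.single_eq_of_ne ha]
    · rw [haug]
      refine (asum_single _ (⟨s, le_refl s⟩ : (augStage C i b).L.G 0 s) ?_).trans ?_
      · intro c hc
        rw [Pi.single_eq_of_ne hc, map_zero]
      · exact congrArg _ (Pi.single_eq_same _ _)
  · intro s e v hv hv'
    rw [← hZ] at hv'
    obtain ⟨u, hu, hu'⟩ := (augStage C i b).L_exact_zero s e v hv hv'
    refine ⟨u, hu, funext fun c => ?_⟩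
    rw [← hu' c, hdel]
    exact asum_eq _ _
  · intro j s e v hv hv'
    obtain ⟨u, hu, hu'⟩ := (augStage C i b).L_exact j s e v hv (fun c => by
      have := congrFun hv' c
      rw [hdel] at this
      exact (asum_eq _ _).symm.trans this)
    refine ⟨u, hu, funext fun c => ?_⟩
    rw [← hu' c, hdel]
    exact asum_eq _ _

end Groth.Agent.Flat2B.GEx
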