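import Groth.Agent.Flat2B.GExCech
import Mathlib.RingTheory.Flat.Basic
import Mathlib.RingTheory.TensorProduct.IsBaseChangePi
import Mathlib.LinearAlgebra.DFinsupp
import Mathlib.Data.Finsupp.ToDFinsupp
import Mathlib.LinearAlgebra.Finsupp.Supported

/-!
# S1270 route E: AL4, functoriality of `L ⊗ M`, towers

`tensorMap`, `tensor_isFlat`, `tensorMap_isBC`, `tower` (statements by helper378, proofs by helper169); also
`AL4.coord` (coordinates on a step of the filtration), `AL4.tensorMap_isSurjBC`.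
-/

set_option autoImplicit false
set_option linter.style.haveILetI false
set_option linter.unusedSectionVars false
universe u

open Finset MvPolynomial

namespace Groth.Agent.Flat2B.GEx

namespace AL4

section Gen

theorem flat_pi {R : Type*} [CommRing R] {ι : Type*} [Finite ι] {M : ι → Type*} [∀ i, AddCommGroup (M i)]
    [∀ i, Module R (M i)] (h : ∀ i, Module.Flat R (M i)) : Module.Flat R (∀ i, M i) := by
  classical
  cases nonempty_fintype ι
  have : Module.Flat R (Π₀ i, M i) := Module.Flat.dfinsupp_iff.2 h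
  exact Module.Flat.of_linearEquiv (DFinsupp.linearEquivFunOnFintype (R := R) (M := M)).symm

theorem flat_finsupp {R : Type*} [CommRing R] (ι : Type*) {M : Type*} [AddCommGroup M]
    [Module R M] [Module.Flat R M] : Module.Flat R (ι →₀ M) := by
  classical
  have : Module.Flat R (Π₀ _ : ι, M) := Module.Flat.dfinsupp_iff.2 fun _ => inferInstance
  exact Module.Flat.of_linearEquiv (finsuppLequivDFinsupp (R := R) (ι := ι) (M := M))

lemma pi_eval {I κ : Type*} {E : I → Type*} [∀ i, AddCommGroup (E i)] (n : ℤ) (A : ∀ i, E i)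
    (s : Finset κ) (c : κ → ℤ) (B : κ → ∀ i, E i) (b : I) :
    (n • A + ∑ k ∈ s, c k • B k) b = n • A b + ∑ k ∈ s, c k • B k b := by
  rw [Pi.add_apply, Finset.sum_apply]
  rfl

end Gen

section DegSub

variable {S : Type*} [CommRing S] {τ : Type} {M : Type u} [AddCommGroup M] [Module S M]

variable (S τ M) in
/-- The submodule of elements of degree `≤ e - w`. -/
noncomputable def degSub (w e : ℕ) : Submodule S (PM τ M) where
  carrier := {x | PM.Deg w e x}
  add_mem' := by
    intro v v' hv hv' μ h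
    by_cases h1 : PM.coeff μ v = 0
    · exact hv' μ fun h2 => h (by rw [PM.coeff_add, h1, h2, add_zero])
    · exact hv μ h1
  zero_mem' := fun μ h => absurd rfl h
  smul_mem' := by
    intro a v hv μ h
    exact hv μ fun h1 => h (by rw [PM.coeff_smul, h1, smul_zero])

theorem mem_degSub {w e : ℕ} {x : PM τ M} : x ∈ degSub S τ M w e ↔ PM.Deg w e x := Iff.rfl

theorem flat_degSub (w e : ℕ) [Module.Flat S M] : Module.Flat S (degSub S τ M w e) := by
  have h2 : Module.Flat S (Finsupp.supported M S {μ : τ →₀ ℕ | μ.degree + w ≤ e}) := by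
    have := flat_finsupp (R := S) {μ : τ →₀ ℕ | μ.degree + w ≤ e} (M := M)
    exact Module.Flat.of_linearEquiv (Finsupp.supportedEquivFinsupp {μ : τ →₀ ℕ | μ.degree + w ≤ e})
  refine Module.Flat.of_linearEquiv (N := degSub S τ M w e)
    (M := Finsupp.supported M S {μ : τ →₀ ℕ | μ.degree + w ≤ e})
    { toFun := fun x => ⟨PM.toFun' x.1, ?_⟩
      map_add' := fun x y => rfl
      map_smul' := fun a x => rfl
      invFun := fun x => ⟨(x.1 : (τ →₀ ℕ) →₀ M), ?_⟩
      left_inv := fun x => rfl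
      right_inv := fun x => rfl }
  · rw [Finsupp.mem_supported]
    intro μ hμ
    exact x.2 μ (Finsupp.mem_support_iff.1 hμ)
  · intro μ hμ
    have h3 := x.2
    rw [Finsupp.mem_supported] at h3
    exact h3 (Finsupp.mem_support_iff.2 hμ)

variable (S M) in
/-- Coordinates on `degSub`. -/
noncomputable def degEquiv [Finite τ] (w e : ℕ) :
    degSub S τ M w e ≃ₗ[S] ({μ : τ →₀ ℕ // μ.degree + w ≤ e} → M) where
  toFun x μ := PM.coeff μ.1 x.1
  map_add' _ _ := rfl
  map_smul' _ _ := rfl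
  invFun y := by
    classical
    exact ⟨(Finsupp.onFinset (Finsupp.finite_of_degree_le (σ := τ) e).toFinset
      (fun μ => if h : μ.degree + w ≤ e then y ⟨μ, h⟩ else 0) (fun μ hμ => by
        rw [Set.Finite.mem_toFinset]
        by_contra h
        exact hμ (dif_neg fun h' => h (show μ.degree ≤ e by omega))) : (τ →₀ ℕ) →₀ M), fun μ hμ => by
        by_contra h
        exact hμ (dif_neg h)⟩
  left_inv x := by
    apply Subtype.ext
    ext μ
    change (if h : μ.degree + w ≤ e then PM.coeff μ x.1 else 0) = PM.coeff μ x.1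
    split_ifs with h
    · rfl
    · by_contra h'
      exact h (x.2 μ (Ne.symm h'))
  right_inv y := by
    funext μ
    exact dif_pos μ.2

end DegSub

section BCMap

variable {R R' : Type u} [CommRing R] [CommRing R'] {φ : R →+* R'}

theorem isBCMap_of_equiv {M M' N N' : Type u} [AddCommGroup M] [AddCommGroup M'] [AddCommGroup N]
    [AddCommGroup N'] [Module R M] [Module R N] [Module R' M'] [Module R' N'] (e : M ≃ₗ[R] N)
    (e' : M' ≃ₗ[R'] N') {f : M →+ M'} {g : N →+ N'} (comm : ∀ x, g (e x) = e' (f x))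
    (hg : IsBCMap φ g) : IsBCMap φ f := by
  obtain ⟨hg1, hg2⟩ := hg
  have hf : ∀ (a : R) m, f (a • m) = φ a • f m := by
    intro a m
    apply e'.injective
    rw [← comm, map_smul, hg1, comm, map_smul]
  refine ⟨hf, ?_⟩
  letI := φ.toAlgebra
  letI : Module R M' := Module.compHom M' φ
  letI : Module R N' := Module.compHom N' φ
  haveI : IsScalarTower R R' M' := ⟨fun a b c => by
    change (φ a * b) • c = φ a • b • c
    rw [mul_smul]⟩
  haveI : IsScalarTower R R' N' := ⟨fun a b c => by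
    change (φ a * b) • c = φ a • b • c
    rw [mul_smul]⟩
  refine (IsBaseChange.iff_of_equiv_comm (R := R) (S := R') (f' := { toFun := g, map_add' := g.map_add, map_smul' := hg1 }) e e' ?_).2 hg2
  ext x
  exact comm x

theorem isBCMap_pi {I : Type} [Finite I] {M M' : I → Type u} [∀ i, AddCommGroup (M i)]
    [∀ i, AddCommGroup (M' i)] [∀ i, Module R (M i)] [∀ i, Module R' (M' i)]
    {f : ∀ i, M i →+ M' i} (hf : ∀ i, IsBCMap φ (f i)) :
    IsBCMap φ ({ toFun := fun x i => f i (x i), map_zero' := funext fun _ => map_zero _,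
                 map_add' := fun _ _ => funext fun _ => map_add _ _ _ } :
      (∀ i, M i) →+ (∀ i, M' i)) := by
  refine ⟨fun a m => funext fun i => (hf i).1 a (m i), ?_⟩
  letI := φ.toAlgebra
  letI : ∀ i, Module R (M' i) := fun i => Module.compHom (M' i) φ
  haveI : ∀ i, IsScalarTower R R' (M' i) := fun i => ⟨fun a b c => by
    change (φ a * b) • c = φ a • b • c
    rw [mul_smul]⟩
  exact IsBaseChange.pi (R := R) (S := R') (M := M) (M' := M')
    (fun i => { toFun := f i, map_add' := (f i).map_add, map_smul' := (hf i).1 }) (fun i => (hf i).2)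

end BCMap

end AL4

section AL4

variable {Λ S S' : Type u} [CommRing Λ] [CommRing S] [CommRing S'] {τ ι : Type} [LinearOrder ι]
  [Fintype ι] {C : RDiag Λ (NE ι)} (L : LData C τ)

section

variable {ψ : Λ →+* S} {ψ' : Λ →+* S'} {χ : S →+* S'} {D : RDiag S (NE ι)}
    {D' : RDiag S' (NE ι)} {i : RDiag.Hom ψ C D} {i' : RDiag.Hom ψ' C D'} {j : RDiag.Hom χ D D'}
    (hij : ∀ s x, j.f s (i.f s x) = i'.f s x) {M : MDiag D} {M' : MDiag D'} (f : MDiag.Hom j M M')

include hij in
lemma tensorMap_del (k : ℕ) (s : NE ι) (v : (L.map i).G (k + 1) s → PM τ (M.M s)) (b : (L.map i).G k s) :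
    PM.map (f.f s) ((L.map i).del M k s v b) =
      (L.map i').del M' k s (fun a => PM.map (f.f s) (v a)) b := by
  classical
  rw [LData.del_apply, LData.del_apply, map_sum]
  refine Finset.sum_congr rfl fun a _ => ?_
  rw [PM.map_smul' (j.f s) (f.f s) (fun c m => f.f_smul s c m)]
  congr 1
  change MvPolynomial.map (j.f s) (MvPolynomial.map (D.res a.2).toRingHom
      (MvPolynomial.map (i.f _) (L.δ k a.1 b.1))) =
    MvPolynomial.map (D'.res a.2).toRingHom (MvPolynomial.map (i'.f _) (L.δ k a.1 b.1))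
  rw [MvPolynomial.map_map, MvPolynomial.map_map, MvPolynomial.map_map]
  congr 2
  ext x
  change j.f s (D.res _ (i.f _ x)) = D'.res _ (i'.f _ x)
  rw [j.f_res, hij]

/-- The underlying map of `tensorMap`. -/
noncomputable def tmFun (k : ℕ) : ((L.map i).tensor M).tot.X k →+ ((L.map i').tensor M').tot.X k where
  toFun := fun x q b => PM.map (f.f q.1.1) (x q b)
  map_zero' := by
    funext q b
    exact map_zero _
  map_add' := fun x y => by
    funext q b
    exact map_add _ _ _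

lemma tmFun_apply (k : ℕ) (x : ((L.map i).tensor M).tot.X k) (q : Idx ι k) (b : L.G q.1.2 q.1.1) :
    tmFun (i' := i') L f k x q b = PM.map (f.f q.1.1) (x q b) := rfl

lemma tmFun_ev (k : ℕ) (x : ((L.map i).tensor M).tot.X k) (s : NE ι) (l : ℕ) (t : Finset ι)
    (b : L.G l s) :
    PM.map (f.f s) (CD.ev (C := ((L.map i).tensor M).toCD) x s l t b) =
      CD.ev (C := ((L.map i').tensor M').toCD) (tmFun (i' := i') L f k x) s l t b := by
  unfold CD.ev
  split_ifs with h
  · by_cases hb : L.loc l b.1 ≤ (⟨t, h.1⟩ : NE ι)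
    · refine (congrArg (PM.map (f.f s)) (LData.res_of (L.map i) M l _ _ b hb)).trans ?_
      refine Eq.trans ?_ (LData.res_of (L.map i') M' l _ _ b hb).symm
      ext μ
      rw [PM.coeff_map, PM.coeff_map, PM.coeff_map, tmFun_apply, PM.coeff_map]
      exact f.f_res _ _
    · refine (congrArg (PM.map (f.f s)) (LData.res_of_not (L.map i) M l _ _ b hb)).trans ?_
      refine Eq.trans ?_ (LData.res_of_not (L.map i') M' l _ _ b hb).symm
      exact map_zero _
  · exact map_zero _

include hij in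
lemma tmFun_d (k : ℕ) (x : ((L.map i).tensor M).tot.X (k + 1)) :
    tmFun (i' := i') L f k (((L.map i).tensor M).tot.d k x) =
      ((L.map i').tensor M').tot.d k (tmFun (i' := i') L f (k + 1) x) := by
  funext q b
  have hL : (CD.D (((L.map i).tensor M).toCD) k x) q b =
      (-1 : ℤ) ^ (q.1.1.1.card + 1) • ((L.map i).del M q.1.2 q.1.1 (x (CD.up q)) b) +
      ∑ i₁ ∈ q.1.1.1, Ega3B.Cube.sgn i₁ q.1.1.1 •
        (CD.ev (C := ((L.map i).tensor M).toCD) x q.1.1 q.1.2 (q.1.1.1.erase i₁) b) :=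
    (congrFun (CD.D_apply x q) b).trans (AL4.pi_eval _ _ _ _ _ b)
  have hR : (CD.D (((L.map i').tensor M').toCD) k (tmFun (i' := i') L f (k + 1) x)) q b =
      (-1 : ℤ) ^ (q.1.1.1.card + 1) • ((L.map i').del M' q.1.2 q.1.1
        ((tmFun (i' := i') L f (k + 1) x) (CD.up q)) b) +
      ∑ i₁ ∈ q.1.1.1, Ega3B.Cube.sgn i₁ q.1.1.1 •
        (CD.ev (C := ((L.map i').tensor M').toCD) (tmFun (i' := i') L f (k + 1) x) q.1.1 q.1.2
          (q.1.1.1.erase i₁) b) :=
    (congrFun (CD.D_apply _ q) b).trans (AL4.pi_eval _ _ _ _ _ b)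
  refine Eq.trans ?_ hR.symm
  refine (congrArg (PM.map (f.f q.1.1)) hL).trans ?_
  rw [map_add, map_zsmul, map_sum]
  congr 1
  · congr 1
    exact tensorMap_del L hij f _ _ _ _
  · refine Finset.sum_congr rfl fun i _ => ?_
    rw [map_zsmul]
    congr 1
    exact tmFun_ev L f _ _ _ _ _ _

end

/-- Functoriality of `((L.map i).tensor M).tot` in `M`, over a ring map `χ : S → S'`. -/
noncomputable def tensorMap {ψ : Λ →+* S} {ψ' : Λ →+* S'} {χ : S →+* S'} {D : RDiag S (NE ι)}
    {D' : RDiag S' (NE ι)} {i : RDiag.Hom ψ C D} {i' : RDiag.Hom ψ' C D'} {j : RDiag.Hom χ D D'}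
    (hij : ∀ s x, j.f s (i.f s x) = i'.f s x) {M : MDiag D} {M' : MDiag D'} (f : MDiag.Hom j M M') :
    FCx.Map χ ((L.map i).tensor M).tot ((L.map i').tensor M').tot where
  f k :=
    { toFun := fun x q b => PM.map (f.f q.1.1) (x q b)
      map_zero' := by
        funext q b
        exact map_zero _
      map_add' := fun x y => by
        funext q b
        exact map_add _ _ _ }
  f_smul k p x := by
    funext q b
    exact PM.map_smul' χ (f.f q.1.1) (fun a m => f.f_smulS _ a m) p (x q b)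
  f_d k x := tmFun_d L hij f k x
  f_mem k e x hx q _ b μ hμ := by
    refine hx q trivial b μ fun h => hμ ?_
    change PM.coeff μ (PM.map (f.f q.1.1) (x q b)) = 0
    rw [PM.coeff_map, h, map_zero]

namespace AL4

/-- Indices of the coordinates of `(L ⊗ M)_k` in filtration degree `e`. -/
abbrev Ix {D : RDiag S (NE ι)} (L : LData D τ) (k e : ℕ) : Type :=
  Σ q : Idx ι k, Σ b : L.G q.1.2 q.1.1, {μ : τ →₀ ℕ // μ.degree + L.w q.1.2 b.1 ≤ e}

instance finite_mu [Finite τ] (w e : ℕ) : Finite {μ : τ →₀ ℕ // μ.degree + w ≤ e} :=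
  Set.finite_coe_iff.2 ((Finsupp.finite_of_degree_le (σ := τ) e).subset
    (t := {μ : τ →₀ ℕ | μ.degree + w ≤ e}) fun μ (hμ : μ.degree + w ≤ e) =>
      show μ.degree ≤ e by omega)

instance finite_Ix [Finite τ] {D : RDiag S (NE ι)} (L : LData D τ) (k e : ℕ) : Finite (Ix L k e) := by
  have : ∀ q : Idx ι k, Finite (L.G q.1.2 q.1.1) := fun q => inferInstance
  have : ∀ q : Idx ι k, Finite (Σ b : L.G q.1.2 q.1.1, {μ : τ →₀ ℕ // μ.degree + L.w q.1.2 b.1 ≤ e}) :=
    fun q => inferInstance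
  exact inferInstanceAs (Finite (Σ q : Idx ι k, Σ b : L.G q.1.2 q.1.1,
    {μ : τ →₀ ℕ // μ.degree + L.w q.1.2 b.1 ≤ e}))

/-- The coordinates. -/
noncomputable def coord [Finite τ] {D : RDiag S (NE ι)} (L : LData D τ) (M : MDiag D) (k e : ℕ) :
    (L.tensor M).tot.F k e ≃ₗ[S] (∀ z : Ix L k e, M.M z.1.1.1) where
  toFun x z := PM.coeff z.2.2.1 (x.1 z.1 z.2.1)
  map_add' _ _ := rfl
  map_smul' _ _ := rfl
  invFun y := ⟨fun q b => ((degEquiv S (M.M q.1.1) (L.w q.1.2 b.1) e).symm (fun μ => y ⟨q, b, μ⟩)).1,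
    fun q _ b => ((degEquiv S (M.M q.1.1) (L.w q.1.2 b.1) e).symm (fun μ => y ⟨q, b, μ⟩)).2⟩
  left_inv x := by
    apply Subtype.ext
    funext q b
    exact congrArg Subtype.val ((degEquiv S (M.M q.1.1) (L.w q.1.2 b.1) e).symm_apply_apply
      ⟨x.1 q b, x.2 q trivial b⟩)
  right_inv y := by
    funext z
    exact congrFun ((degEquiv S (M.M z.1.1.1) (L.w z.1.1.2 z.2.1.1) e).apply_symm_apply
      (fun μ => y ⟨z.1, z.2.1, μ⟩)) z.2.2

/-- Coarse coordinates. -/
noncomputable def coord0 {D : RDiag S (NE ι)} (L : LData D τ) (M : MDiag D) (k e : ℕ) :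
    (L.tensor M).tot.F k e ≃ₗ[S]
      (∀ q : Idx ι k, ∀ b : L.G q.1.2 q.1.1, degSub S τ (M.M q.1.1) (L.w q.1.2 b.1) e) where
  toFun x q b := ⟨x.1 q b, x.2 q trivial b⟩
  map_add' _ _ := rfl
  map_smul' _ _ := rfl
  invFun y := ⟨fun q b => (y q b).1, fun q _ b => (y q b).2⟩
  left_inv _ := rfl
  right_inv _ := rfl

end AL4

/-- AL4d. -/
theorem tensor_isFlat {D : RDiag S (NE ι)} (L : LData D τ) (M : MDiag D)
    (h : ∀ s, Module.Flat S (M.M s)) : (L.tensor M).tot.IsFlat := by
  intro k e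
  have h1 : Module.Flat S
      (∀ q : Idx ι k, ∀ b : L.G q.1.2 q.1.1, AL4.degSub S τ (M.M q.1.1) (L.w q.1.2 b.1) e) :=
    AL4.flat_pi fun q => AL4.flat_pi fun b =>
      haveI := h q.1.1
      AL4.flat_degSub _ _
  exact Module.Flat.of_linearEquiv (AL4.coord0 L M k e)

/-- AL4c. -/
theorem tensorMap_isBC [Finite τ] {ψ : Λ →+* S} {ψ' : Λ →+* S'} {χ : S →+* S'} {D : RDiag S (NE ι)}
    {D' : RDiag S' (NE ι)} {i : RDiag.Hom ψ C D} {i' : RDiag.Hom ψ' C D'} {j : RDiag.Hom χ D D'}
    (hij : ∀ s x, j.f s (i.f s x) = i'.f s x) {M : MDiag D} {M' : MDiag D'} (f : MDiag.Hom j M M')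
    (hf : ∀ s, IsBCMap χ (f.f s)) : (tensorMap L hij f).IsBC := by
  intro k e
  let g : ((L.map i).tensor M).tot.F k e →+ ((L.map i').tensor M').tot.F k e :=
    { toFun := fun x => ⟨(tensorMap L hij f).f k x.1, (tensorMap L hij f).f_mem k e x.1 x.2⟩
      map_zero' := Subtype.ext (map_zero _)
      map_add' := fun x y => Subtype.ext (map_add _ _ _) }
  have hg : IsBCMap χ g := by
    refine AL4.isBCMap_of_equiv (AL4.coord (L.map i) M k e) (AL4.coord (L.map i') M' k e) ?_
      (AL4.isBCMap_pi (I := AL4.Ix (L.map i) k e) (fun z => hf z.1.1.1))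
    intro x
    funext z
    exact (PM.coeff_map (f.f z.1.1.1) z.2.2.1 (x.1 z.1 z.2.1)).symm
  exact ⟨_, fun x => rfl, hg.2⟩

namespace AL4

lemma mem_smul_pi {R : Type*} [CommRing R] {I : Type*} [Finite I] {M : I → Type*}
    [∀ i, AddCommGroup (M i)] [∀ i, Module R (M i)] {X : Type*} [AddCommGroup X] [Module R X]
    (J : Ideal R) (e : X ≃ₗ[R] (∀ i, M i)) (x : X) (h : ∀ i, e x i ∈ J • (⊤ : Submodule R (M i))) :
    x ∈ J • (⊤ : Submodule R X) := by
  classical
  cases nonempty_fintype I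
  have h1 : x = ∑ i, e.symm (Pi.single i (e x i)) := by
    apply e.injective
    rw [map_sum]
    simp only [LinearEquiv.apply_symm_apply]
    exact (Finset.univ_sum_single (e x)).symm
  rw [h1]
  refine Submodule.sum_mem _ fun i _ => ?_
  have h2 : e.symm (Pi.single i (e x i)) ∈
      Submodule.map (e.symm.toLinearMap ∘ₗ LinearMap.single R M i) (J • (⊤ : Submodule R (M i))) :=
    ⟨_, h i, rfl⟩
  rw [Submodule.map_smul''] at h2
  exact Submodule.smul_mono le_rfl le_top h2

section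

variable {ψ : Λ →+* S} {ψ' : Λ →+* S'} {χ : S →+* S'} {D : RDiag S (NE ι)}
    {D' : RDiag S' (NE ι)} {i : RDiag.Hom ψ C D} {i' : RDiag.Hom ψ' C D'} {j : RDiag.Hom χ D D'}
    (hij : ∀ s x, j.f s (i.f s x) = i'.f s x) {M : MDiag D} {M' : MDiag D'} (f : MDiag.Hom j M M')

lemma coord_tm [Finite τ] (k e : ℕ) (x : ((L.map i).tensor M).tot.X k)
    (hx : x ∈ ((L.map i).tensor M).tot.F k e)
    (hy : (tensorMap L hij f).f k x ∈ ((L.map i').tensor M').tot.F k e) (z : Ix (L.map i) k e) :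
    coord (L.map i') M' k e ⟨(tensorMap L hij f).f k x, hy⟩ z =
      f.f z.1.1.1 (coord (L.map i) M k e ⟨x, hx⟩ z) :=
  PM.coeff_map (f.f z.1.1.1) z.2.2.1 (x z.1 z.2.1)

lemma tm_ext [Finite τ] {k e : ℕ} {x : ((L.map i).tensor M).tot.X k}
    (hx : x ∈ ((L.map i).tensor M).tot.F k e) {y : ((L.map i').tensor M').tot.X k}
    (hy : y ∈ ((L.map i').tensor M').tot.F k e)
    (h : ∀ z : Ix (L.map i) k e, f.f z.1.1.1 (coord (L.map i) M k e ⟨x, hx⟩ z) =
      coord (L.map i') M' k e ⟨y, hy⟩ z) : (tensorMap L hij f).f k x = y := by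
  have h1 : (⟨(tensorMap L hij f).f k x, (tensorMap L hij f).f_mem k e x hx⟩ :
      ((L.map i').tensor M').tot.F k e) = ⟨y, hy⟩ := by
    apply (coord (L.map i') M' k e).injective
    funext z
    exact (coord_tm L hij f k e x hx _ z).trans (h z)
  exact congrArg Subtype.val h1

theorem tensorMap_isSurjBC [Finite τ] (hsurj : ∀ s, Function.Surjective (f.f s))
    (hker : ∀ s x, f.f s x = 0 → x ∈ RingHom.ker χ • (⊤ : Submodule S (M.M s))) :
    (tensorMap L hij f).IsSurjBC where
  surj k e y hy := by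
    choose c hc using fun z : Ix (L.map i) k e =>
      hsurj z.1.1.1 (coord (L.map i') M' k e ⟨y, hy⟩ z)
    refine ⟨((coord (L.map i) M k e).symm c).1, ((coord (L.map i) M k e).symm c).2, ?_⟩
    refine tm_ext L hij f ((coord (L.map i) M k e).symm c).2 hy fun z => ?_
    rw [← hc z]
    exact congrArg (f.f z.1.1.1) (congrFun ((coord (L.map i) M k e).apply_symm_apply c) z)
  ker k e x hx h0 := by
    have h1 : (⟨x, hx⟩ : ((L.map i).tensor M).tot.F k e) ∈ RingHom.ker χ •
        (⊤ : Submodule S (((L.map i).tensor M).tot.F k e)) := by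
      refine mem_smul_pi _ (coord (L.map i) M k e) _ fun z => hker _ _ ?_
      rw [← coord_tm L hij f k e x hx ((tensorMap L hij f).f_mem k e x hx) z]
      have h2 : (⟨(tensorMap L hij f).f k x, (tensorMap L hij f).f_mem k e x hx⟩ :
          ((L.map i').tensor M').tot.F k e) = 0 := Subtype.ext h0
      rw [h2, map_zero]
      rfl
    have h2 := Submodule.mem_map_of_mem (f := (((L.map i).tensor M).tot.F k e).subtype) h1
    rw [Submodule.map_smul'', Submodule.map_top, Submodule.range_subtype] at h2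
    exact h2

end

end AL4

/-- AL4b. The tower of filtered complexes of a tower of diagrams of modules. -/
noncomputable def tower [Finite τ] {A : Type u} [CommRing A] {A' : ℕ → Type u}
    [∀ n, CommRing (A' n)]
    {φ : ∀ n, A' (n + 1) →+* A' n} {π : ∀ n, A →+* A' n}
    {l : Λ →+* A} {ln : ∀ n, Λ →+* A' n}
    {DA : RDiag A (NE ι)} {iA : RDiag.Hom l C DA}
    {Dn : ∀ n, RDiag (A' n) (NE ι)} {iN : ∀ n, RDiag.Hom (ln n) C (Dn n)}
    {jn : ∀ n, RDiag.Hom (φ n) (Dn (n + 1)) (Dn n)} {jA : ∀ n, RDiag.Hom (π n) DA (Dn n)}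
    (hjn : ∀ n s x, (jn n).f s ((iN (n + 1)).f s x) = (iN n).f s x)
    (hjA : ∀ n s x, (jA n).f s (iA.f s x) = (iN n).f s x)
    (MA : MDiag DA) (M : ∀ n, MDiag (Dn n)) (hflat : ∀ n s, Module.Flat (A' n) ((M n).M s))
    (r : ∀ n, MDiag.Hom (jn n) (M (n + 1)) (M n)) (ρ : ∀ n, MDiag.Hom (jA n) MA (M n))
    (hrρ : ∀ n s x, (r n).f s ((ρ (n + 1)).f s x) = (ρ n).f s x)
    (hsurj : ∀ n s, Function.Surjective ((r n).f s))
    (hker : ∀ n s x, (r n).f s x = 0 →
      x ∈ RingHom.ker (φ n) • (⊤ : Submodule (A' (n + 1)) ((M (n + 1)).M s)))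
    (hinj : ∀ s (x : MA.M s), (∀ n, (ρ n).f s x = 0) → x = 0)
    (hlim : ∀ s (y : ∀ n, (M n).M s), (∀ n, (r n).f s (y (n + 1)) = y n) →
      ∃ x : MA.M s, ∀ n, (ρ n).f s x = y n) :
    Tower A' φ π τ where
  T n := ((L.map (iN n)).tensor (M n)).tot
  flat n := tensor_isFlat _ _ (hflat n)
  r n := tensorMap L (hjn n) (r n)
  bc n := AL4.tensorMap_isSurjBC L (hjn n) (r n) (hsurj n) (hker n)
  L := ((L.map iA).tensor MA).tot
  ρ n := tensorMap L (hjA n) (ρ n)
  comp n k x := by
    funext q b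
    change PM.map ((r n).f q.1.1) (PM.map ((ρ (n + 1)).f q.1.1) (x q b)) =
      PM.map ((ρ n).f q.1.1) (x q b)
    ext μ
    rw [PM.coeff_map, PM.coeff_map, PM.coeff_map, hrρ]
  lim_inj k e x hx h := by
    funext q b
    change x q b = (0 : PM τ (MA.M q.1.1))
    ext μ
    rw [PM.coeff_zero]
    refine hinj _ _ fun n => ?_
    rw [← PM.coeff_map]
    have h1 : PM.map ((ρ n).f q.1.1) (x q b) = 0 := congrFun (congrFun (h n) q) b
    rw [h1, PM.coeff_zero]
  lim_surj k e y hy hc := by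
    have key : ∀ z : AL4.Ix (L.map iA) k e, ∃ c : MA.M z.1.1.1, ∀ n, (ρ n).f z.1.1.1 c =
        AL4.coord (L.map (iN n)) (M n) k e ⟨y n, hy n⟩ z := by
      intro z
      refine hlim z.1.1.1 (fun n => AL4.coord (L.map (iN n)) (M n) k e ⟨y n, hy n⟩ z) fun n => ?_
      have h1 : (⟨(tensorMap L (hjn n) (r n)).f k (y (n + 1)),
          (tensorMap L (hjn n) (r n)).f_mem k e _ (hy (n + 1))⟩ :
          ((L.map (iN n)).tensor (M n)).tot.F k e) = ⟨y n, hy n⟩ := Subtype.ext (hc n)
      rw [← h1]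
      exact (AL4.coord_tm L (hjn n) (r n) k e (y (n + 1)) (hy (n + 1)) _ z).symm
    choose c hc' using key
    refine ⟨((AL4.coord (L.map iA) MA k e).symm c).1, ((AL4.coord (L.map iA) MA k e).symm c).2,
      fun n => ?_⟩
    refine AL4.tm_ext L (hjA n) (ρ n) ((AL4.coord (L.map iA) MA k e).symm c).2 (hy n) fun z => ?_
    rw [← hc' z n]
    exact congrArg ((ρ n).f z.1.1.1) (congrFun ((AL4.coord (L.map iA) MA k e).apply_symm_apply c) z)

end AL4

end Groth.Agent.Flat2B.GEx
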