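import Groth.Agent.Flat2B.GExCech
import Groth.Agent.Flat2C.PushoutBC
import Mathlib.RingTheory.Flat.IsBaseChange
import Mathlib.RingTheory.TensorProduct.IsBaseChangeRightExact
import Mathlib.RingTheory.TensorProduct.IsBaseChangePi
import Mathlib.RingTheory.RingHom.Flat

/-!
# S1270 route E: calculus of base change maps (`IsBCMap`)
-/

set_option autoImplicit false
set_option linter.style.haveILetI false
universe u

open TensorProduct

namespace Groth.Agent.Flat2B.GEx.IsBCMap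

variable {R R' : Type u} [CommRing R] [CommRing R'] {φ : R →+* R'}

section

variable {M₁ M₂ M₃ N₁ N₂ N₃ : Type u} [AddCommGroup M₁] [AddCommGroup M₂] [AddCommGroup M₃]
  [AddCommGroup N₁] [AddCommGroup N₂] [AddCommGroup N₃] [Module R M₁] [Module R M₂] [Module R M₃]
  [Module R' N₁] [Module R' N₂] [Module R' N₃]

/-- Kernels and flat base change. -/
theorem left_exact (hφ : φ.Flat) {f₂ : M₂ →+ N₂} {f₃ : M₃ →+ N₃} (h₂ : IsBCMap φ f₂)
    (h₃ : IsBCMap φ f₃) (i : M₁ →ₗ[R] M₂) (g : M₂ →ₗ[R] M₃) (hi : Function.Injective i)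
    (hex : Function.Exact i g) (i' : N₁ →ₗ[R'] N₂) (g' : N₂ →ₗ[R'] N₃)
    (hi' : Function.Injective i') (hex' : Function.Exact i' g') (f₁ : M₁ →+ N₁)
    (c₁ : ∀ x, f₂ (i x) = i' (f₁ x)) (c₂ : ∀ x, f₃ (g x) = g' (f₂ x)) : IsBCMap φ f₁ := by
  obtain ⟨s₂, b₂⟩ := h₂
  obtain ⟨s₃, b₃⟩ := h₃
  have s₁ : ∀ (a : R) m, f₁ (a • m) = φ a • f₁ m := by
    intro a m
    apply hi'
    rw [← c₁, i.map_smul, s₂, c₁, i'.map_smul]
  refine ⟨s₁, ?_⟩
  algebraize [φ]
  have : Module.Flat R R' := hφ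
  letI : Module R N₁ := Module.compHom N₁ φ
  letI : Module R N₂ := Module.compHom N₂ φ
  letI : Module R N₃ := Module.compHom N₃ φ
  haveI t₁ : IsScalarTower R R' N₁ := ⟨fun a b c => by
    change (φ a * b) • c = φ a • b • c
    rw [mul_smul]⟩
  haveI t₂ : IsScalarTower R R' N₂ := ⟨fun a b c => by
    change (φ a * b) • c = φ a • b • c
    rw [mul_smul]⟩
  haveI t₃ : IsScalarTower R R' N₃ := ⟨fun a b c => by
    change (φ a * b) • c = φ a • b • c
    rw [mul_smul]⟩
  exact IsBaseChange.of_left_exact R' _ _ _ (LinearMap.ext fun x => c₁ x) (LinearMap.ext fun x => c₂ x)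
    b₂ b₃ hex hi hex' hi'

/-- Cokernels and base change. -/
theorem right_exact {f₁ : M₁ →+ N₁} {f₂ : M₂ →+ N₂} (h₁ : IsBCMap φ f₁)
    (h₂ : IsBCMap φ f₂) (i : M₁ →ₗ[R] M₂) (g : M₂ →ₗ[R] M₃) (hg : Function.Surjective g)
    (hex : Function.Exact i g) (i' : N₁ →ₗ[R'] N₂) (g' : N₂ →ₗ[R'] N₃)
    (hg' : Function.Surjective g') (hex' : Function.Exact i' g') (f₃ : M₃ →+ N₃)
    (c₁ : ∀ x, f₂ (i x) = i' (f₁ x)) (c₂ : ∀ x, f₃ (g x) = g' (f₂ x)) : IsBCMap φ f₃ := by
  obtain ⟨s₁, b₁⟩ := h₁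
  obtain ⟨s₂, b₂⟩ := h₂
  have s₃ : ∀ (a : R) m, f₃ (a • m) = φ a • f₃ m := by
    intro a m
    obtain ⟨m, rfl⟩ := hg m
    rw [← g.map_smul, c₂, c₂, s₂, g'.map_smul]
  refine ⟨s₃, ?_⟩
  algebraize [φ]
  letI : Module R N₁ := Module.compHom N₁ φ
  letI : Module R N₂ := Module.compHom N₂ φ
  letI : Module R N₃ := Module.compHom N₃ φ
  haveI t₁ : IsScalarTower R R' N₁ := ⟨fun a b c => by
    change (φ a * b) • c = φ a • b • c
    rw [mul_smul]⟩
  haveI t₂ : IsScalarTower R R' N₂ := ⟨fun a b c => by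
    change (φ a * b) • c = φ a • b • c
    rw [mul_smul]⟩
  haveI t₃ : IsScalarTower R R' N₃ := ⟨fun a b c => by
    change (φ a * b) • c = φ a • b • c
    rw [mul_smul]⟩
  exact IsBaseChange.of_right_exact R' _ _ _ (LinearMap.ext fun x => c₁ x) (LinearMap.ext fun x => c₂ x)
    b₁ b₂ hex hg hex' hg'

/-- Composition with a bijective linear map. -/
theorem comp_bijective {f₁ : M₁ →+ N₁} (h₁ : IsBCMap φ f₁) (g : N₁ →ₗ[R'] N₂)
    (hg : Function.Bijective g) (f₂ : M₁ →+ N₂) (c : ∀ x, f₂ x = g (f₁ x)) : IsBCMap φ f₂ := by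
  obtain ⟨s₁, b₁⟩ := h₁
  have s₂ : ∀ (a : R) m, f₂ (a • m) = φ a • f₂ m := by
    intro a m
    rw [c, c, s₁, g.map_smul]
  refine ⟨s₂, ?_⟩
  algebraize [φ]
  letI : Module R N₁ := Module.compHom N₁ φ
  letI : Module R N₂ := Module.compHom N₂ φ
  haveI t₁ : IsScalarTower R R' N₁ := ⟨fun a b c => by
    change (φ a * b) • c = φ a • b • c
    rw [mul_smul]⟩
  haveI t₂ : IsScalarTower R R' N₂ := ⟨fun a b c => by
    change (φ a * b) • c = φ a • b • c
    rw [mul_smul]⟩
  refine IsBaseChange.of_equiv (b₁.equiv ≪≫ₗ LinearEquiv.ofBijective g hg) ?_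
  intro x
  rw [LinearEquiv.trans_apply, b₁.equiv_tmul, one_smul]
  exact (c x).symm

/-- Base change in a commutative square of linear equivalences. -/
theorem of_equiv {f₁ : M₁ →+ N₁} (h₁ : IsBCMap φ f₁) (e : M₂ ≃ₗ[R] M₁) (e' : N₂ ≃ₗ[R'] N₁)
    (f₂ : M₂ →+ N₂) (c : ∀ x, e' (f₂ x) = f₁ (e x)) : IsBCMap φ f₂ := by
  obtain ⟨s₁, b₁⟩ := h₁
  have s₂ : ∀ (a : R) m, f₂ (a • m) = φ a • f₂ m := by
    intro a m
    apply e'.injective
    rw [c, e.map_smul, s₁, e'.map_smul, c]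
  refine ⟨s₂, ?_⟩
  algebraize [φ]
  letI : Module R N₁ := Module.compHom N₁ φ
  letI : Module R N₂ := Module.compHom N₂ φ
  haveI t₁ : IsScalarTower R R' N₁ := ⟨fun a b c => by
    change (φ a * b) • c = φ a • b • c
    rw [mul_smul]⟩
  haveI t₂ : IsScalarTower R R' N₂ := ⟨fun a b c => by
    change (φ a * b) • c = φ a • b • c
    rw [mul_smul]⟩
  refine IsBaseChange.of_equiv ((e.baseChange R R' M₂ M₁) ≪≫ₗ b₁.equiv ≪≫ₗ e'.symm) ?_
  intro x
  rw [LinearEquiv.trans_apply, LinearEquiv.trans_apply]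
  have h1 : (e.baseChange R R' M₂ M₁) (1 ⊗ₜ x) = 1 ⊗ₜ e x := rfl
  rw [h1, b₁.equiv_tmul, one_smul]
  apply e'.injective
  rw [LinearEquiv.apply_symm_apply]
  exact (c x).symm

end

theorem iff_aux {M M' : Type u} [AddCommGroup M] [AddCommGroup M'] [Module R M] [mR' : Module R' M']
    (φ : R →+* R') (inst : Algebra R R') (h : inst = φ.toAlgebra) (instM : Module R M')
    (hM : instM = Module.compHom M' φ) (t : IsScalarTower R R' M') (f : M →ₗ[R] M') :
    IsBCMap φ f.toAddMonoidHom ↔ IsBaseChange R' f := by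
  subst h hM
  constructor
  · rintro ⟨_, h⟩
    exact h
  · intro h
    letI : Module R M' := Module.compHom M' φ
    exact ⟨f.map_smul', h⟩

theorem iff_isBaseChange {M M' : Type u} [AddCommGroup M] [AddCommGroup M'] [Module R M]
    [Module R' M'] [Algebra R R'] [Module R M'] [IsScalarTower R R' M'] (f : M →ₗ[R] M') :
    IsBCMap (algebraMap R R') f.toAddMonoidHom ↔ IsBaseChange R' f := by
  refine iff_aux (algebraMap R R') inferInstance (Algebra.algebra_ext _ _ fun _ => rfl) inferInstance ?_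
    inferInstance f
  refine Module.ext' _ _ fun r x => ?_
  exact (algebraMap_smul R' r x).symm

attribute [local instance] MvPolynomial.algebraMvPolynomial in
/-- Base change of modules over polynomial rings. -/
theorem mvPolynomial {σ : Type} {M N : Type u} [AddCommGroup M] [AddCommGroup N] [Module R M]
    [Module (MvPolynomial σ R) M] [IsScalarTower R (MvPolynomial σ R) M] [Module R' N]
    [Module (MvPolynomial σ R') N] [IsScalarTower R' (MvPolynomial σ R') N] {f : M →+ N}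
    (h : IsBCMap φ f) (hf : ∀ (p : MvPolynomial σ R) m, f (p • m) = MvPolynomial.map φ p • f m) :
    IsBCMap (MvPolynomial.map (σ := σ) φ) f := by
  algebraize [φ]
  letI : Module R N := Module.compHom N φ
  letI : Module (MvPolynomial σ R) N := Module.compHom N (MvPolynomial.map φ)
  haveI : IsScalarTower R R' N := ⟨fun a b c => by
    change (φ a * b) • c = φ a • b • c
    rw [mul_smul]⟩
  haveI : IsScalarTower (MvPolynomial σ R) (MvPolynomial σ R') N :=
    IsScalarTower.of_algebraMap_smul fun p x => rfl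
  haveI : IsScalarTower R (MvPolynomial σ R) N := ⟨fun a b c => by
    change MvPolynomial.map φ (a • b) • c = φ a • MvPolynomial.map φ b • c
    rw [MvPolynomial.smul_eq_C_mul, map_mul, MvPolynomial.map_C, mul_smul, ← MvPolynomial.algebraMap_eq,
      algebraMap_smul]⟩
  let F : M →ₗ[MvPolynomial σ R] N :=
    { toFun := f, map_add' := f.map_add, map_smul' := fun p m => hf p m }
  have hb : IsBaseChange R' (F.restrictScalars R) := h.2
  have hb' := (Flat2C.PushoutBC.isBaseChange_iff (R := R) (S := R') (A := MvPolynomial σ R)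
    (B := MvPolynomial σ R') F).mpr hb
  exact (iff_isBaseChange (R := MvPolynomial σ R) (R' := MvPolynomial σ R') F).mpr hb'

end Groth.Agent.Flat2B.GEx.IsBCMap
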