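import Groth.Agent.Flat2B.GExFib
import Groth.Agent.Flat2B.GExBCMap
import Groth.Agent.Flat2B.GExAL4

/-!
# S1270 route E, AL5 (a1): base change of polynomials of bounded degree with coefficients in a module
-/

set_option autoImplicit false
set_option linter.style.haveILetI false
universe u

open MvPolynomial

namespace Groth.Agent.Flat2B.GEx

namespace DegBC

/-- The index set of the coordinates. -/
abbrev Ix (τ : Type) {G : Type} (w : G → ℕ) (e : ℕ) : Type :=
  Σ b : G, {μ : τ →₀ ℕ // μ.degree + w b ≤ e}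

/-- `F_e (G → N[y])` is a finite power of `N`. -/
noncomputable def coord {S : Type u} [CommRing S] {τ G : Type} [Finite τ] {N : Type u}
    [AddCommGroup N] [Module S N] (w : G → ℕ) (e : ℕ) :
    degSub (τ := τ) S N w e ≃ₗ[S] (Ix τ w e → N) where
  toFun v z := PM.coeff z.2.1 (v.1 z.1)
  map_add' _ _ := rfl
  map_smul' _ _ := rfl
  invFun y := ⟨fun b => ((AL4.degEquiv S N (w b) e).symm (fun μ => y ⟨b, μ⟩)).1,
    fun b => ((AL4.degEquiv S N (w b) e).symm (fun μ => y ⟨b, μ⟩)).2⟩
  left_inv v := by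
    apply Subtype.ext
    funext b
    exact congrArg Subtype.val ((AL4.degEquiv S N (w b) e).symm_apply_apply ⟨v.1 b, v.2 b⟩)
  right_inv y := by
    funext z
    exact congrFun ((AL4.degEquiv S N (w z.1) e).apply_symm_apply (fun μ => y ⟨z.1, μ⟩)) z.2

end DegBC

/-- AL5 (a1). -/
theorem degMap_isBCMap {S S' : Type u} [CommRing S] [CommRing S'] {φ : S →+* S'} {τ G : Type}
    [Finite τ] [Finite G] {N N' : Type u} [AddCommGroup N] [Module S N] [AddCommGroup N']
    [Module S' N'] {f : N →+ N'} (h : IsBCMap φ f) (w : G → ℕ) (e : ℕ) :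
    IsBCMap φ (degMap f w e : degSub (τ := τ) S N w e →+ degSub (τ := τ) S' N' w e) := by
  refine IsBCMap.of_equiv (AL4.isBCMap_pi (I := DegBC.Ix τ w e) (M := fun _ => N)
    (M' := fun _ => N') (f := fun _ => f) fun _ => h) (DegBC.coord w e) (DegBC.coord w e) _
    fun v => ?_
  funext z
  exact PM.coeff_map _ _ _

/-- The map induced by a map of filtered complexes on a step of the filtration. -/
def FCx.Map.resF {S S' : Type u} [CommRing S] [CommRing S'] {φ : S →+* S'} {τ : Type}
    {T : FCx S τ} {T' : FCx S' τ} (r : FCx.Map φ T T') (k e : ℕ) : T.F k e →+ T'.F k e where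
  toFun x := ⟨r.f k x.1, r.f_mem k e x.1 x.2⟩
  map_zero' := Subtype.ext (map_zero (r.f k))
  map_add' x y := Subtype.ext (map_add (r.f k) x.1 y.1)

lemma FCx.Map.resF_coe {S S' : Type u} [CommRing S] [CommRing S'] {φ : S →+* S'} {τ : Type}
    {T : FCx S τ} {T' : FCx S' τ} (r : FCx.Map φ T T') (k e : ℕ) (x : T.F k e) :
    (r.resF k e x : T'.X k) = r.f k x.1 := rfl

/-- A map of filtered complexes is a base change iff it is so on the steps of the filtration. -/
theorem FCx.Map.isBC_of_resF {S S' : Type u} [CommRing S] [CommRing S'] {φ : S →+* S'} {τ : Type}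
    {T : FCx S τ} {T' : FCx S' τ} (r : FCx.Map φ T T') (h : ∀ k e, IsBCMap φ (r.resF k e)) :
    r.IsBC := by
  intro k e
  obtain ⟨h1, h2⟩ := h k e
  letI := φ.toAlgebra
  letI : Module S (T'.F k e) := Module.compHom _ φ
  haveI : IsScalarTower S S' (T'.F k e) := ⟨fun a b c => by
    change (φ a * b) • c = φ a • b • c
    rw [mul_smul]⟩
  exact ⟨{ toFun := r.resF k e, map_add' := (r.resF k e).map_add, map_smul' := h1 },
    fun _ => rfl, h2⟩

namespace LData

variable {Λ : Type u} [CommRing Λ] {τ ι : Type} [Finite τ] [LinearOrder ι] {C : RDiag Λ (NE ι)}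
  (L : LData C τ)

/-- `L (s) ⊗ N → L (s) ⊗ N'` is a base change on every step of the filtration if `N → N'` is a
base change. -/
theorem fibMap_isBCMap {s : NE ι} (hss : s ≤ s) {E E' : Type u} [CommRing E] [CommRing E']
    (χ : C.C s →+* E) (χ' : C.C s →+* E') (φ : E →+* E')
    (hχ : ∀ x, χ' (C.res hss x) = φ (χ x)) {N N' : Type u} [AddCommGroup N]
    [Module E N] [AddCommGroup N'] [Module E' N'] (f : N →+ N')
    (hf : ∀ (a : E) n, f (a • n) = φ a • f n) (h : IsBCMap φ f) (j e : ℕ) :
    IsBCMap φ ((L.fibMap hss χ χ' φ hχ f hf).resF j e) := by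
  have h1 := degMap_isBCMap (τ := τ) h (fun b : L.G j s => L.w j b.1) e
  have h2 : (L.fibMap hss χ χ' φ hχ f hf).resF j e =
      (degMap f (fun b : L.G j s => L.w j b.1) e :
        degSub (τ := τ) E N (fun b : L.G j s => L.w j b.1) e →+
          degSub (τ := τ) E' N' (fun b : L.G j s => L.w j b.1) e) := by
    refine AddMonoidHom.ext fun v => Subtype.ext (funext fun b => ?_)
    exact L.fibF_of f j v.1 b b.2
  rw [h2]
  exact h1

/-- `L (s) ⊗ N → L (s) ⊗ N'` is a base change if `N → N'` is a base change. -/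
theorem fibMap_isBC {s : NE ι} (hss : s ≤ s) {E E' : Type u} [CommRing E] [CommRing E']
    (χ : C.C s →+* E) (χ' : C.C s →+* E') (φ : E →+* E')
    (hχ : ∀ x, χ' (C.res hss x) = φ (χ x)) {N N' : Type u} [AddCommGroup N]
    [Module E N] [AddCommGroup N'] [Module E' N'] (f : N →+ N')
    (hf : ∀ (a : E) n, f (a • n) = φ a • f n) (h : IsBCMap φ f) :
    (L.fibMap hss χ χ' φ hχ f hf).IsBC :=
  FCx.Map.isBC_of_resF _ fun j e => L.fibMap_isBCMap hss χ χ' φ hχ f hf h j e

end LData

end Groth.Agent.Flat2B.GEx
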