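import Groth.Agent.Flat2B.GExDiag
import Mathlib.Data.Matrix.Mul

/-!
# S1270 route E: contracting homotopies of exact filtered complexes of finite free modules
-/

universe u

open Finset MvPolynomial

namespace Groth.Agent.Flat2B.GEx.Htpy

variable {R : Type u} [CommRing R] {τ : Type}

/-- `p` has degree `≤ e - w`. -/
def PD (w e : ℕ) (p : MvPolynomial τ R) : Prop := p = 0 ∨ p.totalDegree + w ≤ e

lemma pd_iff {w e : ℕ} {p : MvPolynomial τ R} :
    PD w e p ↔ ∀ μ, p.coeff μ ≠ 0 → μ.degree + w ≤ e := by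
  constructor
  · rintro (rfl | h) μ hμ
    · exact absurd (coeff_zero μ) hμ
    · refine le_trans (Nat.add_le_add_right ?_ _) h
      have := MvPolynomial.le_totalDegree (MvPolynomial.mem_support_iff.2 hμ)
      rw [Finsupp.degree_apply]
      exact this
  · intro h
    by_cases hp : p = 0
    · exact Or.inl hp
    · right
      obtain ⟨μ, hμ, hμ'⟩ := Finset.exists_mem_eq_sup p.support (MvPolynomial.support_nonempty.2 hp)
        (fun s => s.sum fun _ e => e)
      have := h μ (MvPolynomial.mem_support_iff.1 hμ)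
      rw [Finsupp.degree_apply] at this
      rw [MvPolynomial.totalDegree, hμ']
      exact this

lemma PD.zero (w e : ℕ) : PD w e (0 : MvPolynomial τ R) := Or.inl rfl

lemma PD.add {w e : ℕ} {p q : MvPolynomial τ R} (hp : PD w e p) (hq : PD w e q) :
    PD w e (p + q) := by
  rw [pd_iff] at *
  intro μ hμ
  by_cases h : p.coeff μ = 0
  · exact hq μ fun h' => hμ (by rw [coeff_add, h, h', add_zero])
  · exact hp μ h

lemma PD.neg {w e : ℕ} {p : MvPolynomial τ R} (hp : PD w e p) : PD w e (-p) := by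
  rcases hp with h | h
  · exact Or.inl (by rw [h, neg_zero])
  · exact Or.inr (by rw [totalDegree_neg]; exact h)

lemma PD.sub {w e : ℕ} {p q : MvPolynomial τ R} (hp : PD w e p) (hq : PD w e q) :
    PD w e (p - q) := by
  rw [sub_eq_add_neg]
  exact hp.add hq.neg

lemma PD.sum {ι : Type*} {s : Finset ι} {w e : ℕ} {p : ι → MvPolynomial τ R}
    (hp : ∀ i ∈ s, PD w e (p i)) : PD w e (∑ i ∈ s, p i) := by
  classical
  induction s using Finset.induction_on with
  | empty => exact PD.zero _ _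
  | insert a s ha ih =>
    rw [sum_insert ha]
    exact (hp a (mem_insert_self _ _)).add (ih fun i hi => hp i (mem_insert_of_mem hi))

lemma PD.mul {w w' e : ℕ} {p q : MvPolynomial τ R} (hp : PD w' e p) (hq : PD w w' q) :
    PD w e (p * q) := by
  rcases hp with h | h
  · exact Or.inl (by rw [h, zero_mul])
  rcases hq with h' | h'
  · exact Or.inl (by rw [h', mul_zero])
  · right
    have := totalDegree_mul p q
    omega

lemma PD.map {R' : Type u} [CommRing R'] (φ : R →+* R') {w e : ℕ} {p : MvPolynomial τ R}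
    (hp : PD w e p) : PD w e (MvPolynomial.map φ p) := by
  rw [pd_iff] at *
  intro μ hμ
  rw [coeff_map] at hμ
  exact hp μ fun h => hμ (by rw [h, map_zero])

lemma PD.C_mul {w e : ℕ} {p : MvPolynomial τ R} (hp : PD w e p) (c : R) : PD w e (C c * p) := by
  rw [pd_iff] at *
  intro μ hμ
  rw [coeff_C_mul] at hμ
  exact hp μ fun h => hμ (by rw [h, mul_zero])

lemma pd_one (w : ℕ) : PD w w (1 : MvPolynomial τ R) := by
  right
  rw [totalDegree_one, zero_add]

/-! ### The action of matrices of polynomials -/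

section act

variable {E : Type u} [CommRing E] (χ : R →+* E) {N : Type u} [AddCommGroup N] [Module E N]

/-- `x ↦ x M` for a row vector `x` with entries in `N[y]`. -/
noncomputable def act {B B' : Type} [Fintype B] (M : Matrix B B' (MvPolynomial τ R))
    (x : B → PM τ N) : B' → PM τ N := fun b' => ∑ b, MvPolynomial.map χ (M b b') • x b

lemma act_mul {B B' B'' : Type} [Fintype B] [Fintype B'] (M : Matrix B B' (MvPolynomial τ R))
    (M' : Matrix B' B'' (MvPolynomial τ R)) (x : B → PM τ N) :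
    act χ (M * M') x = act χ M' (act χ M x) := by
  funext c
  simp only [act, Matrix.mul_apply, map_sum, map_mul, Finset.sum_smul, Finset.smul_sum]
  rw [Finset.sum_comm]
  refine Finset.sum_congr rfl fun b' _ => Finset.sum_congr rfl fun b _ => ?_
  rw [smul_smul, mul_comm]

lemma act_sub {B B' : Type} [Fintype B] (M M' : Matrix B B' (MvPolynomial τ R))
    (x : B → PM τ N) : act χ (M - M') x = act χ M x - act χ M' x := by
  funext c
  simp only [act, Matrix.sub_apply, map_sub, sub_smul, Finset.sum_sub_distrib, Pi.sub_apply]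

lemma act_zero {B B' : Type} [Fintype B] (M : Matrix B B' (MvPolynomial τ R)) :
    act χ M (0 : B → PM τ N) = 0 := by
  funext c
  simp only [act, Pi.zero_apply, smul_zero, Finset.sum_const_zero]

lemma act_one {B : Type} [Fintype B] [DecidableEq B] (x : B → PM τ N) :
    act χ (1 : Matrix B B (MvPolynomial τ R)) x = x := by
  funext c
  simp only [act, Matrix.one_apply]
  rw [Finset.sum_eq_single c]
  · rw [if_pos rfl, map_one, one_smul]
  · intro b _ hb
    rw [if_neg hb, map_zero, zero_smul]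
  · intro h
    exact absurd (mem_univ _) h

lemma deg_zero (w e : ℕ) : PM.Deg w e (0 : PM τ N) := fun _ h => absurd rfl h

lemma deg_add {w e : ℕ} {x y : PM τ N} (hx : PM.Deg w e x) (hy : PM.Deg w e y) :
    PM.Deg w e (x + y) := by
  intro μ h
  by_cases h1 : PM.coeff μ x = 0
  · exact hy μ fun h2 => h (by rw [PM.coeff_add, h1, h2, add_zero])
  · exact hx μ h1

lemma deg_sum {ι : Type*} {s : Finset ι} {w e : ℕ} {p : ι → PM τ N}
    (hp : ∀ i ∈ s, PM.Deg w e (p i)) : PM.Deg w e (∑ i ∈ s, p i) := by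
  classical
  induction s using Finset.induction_on with
  | empty => exact deg_zero _ _
  | insert a s ha ih =>
    rw [sum_insert ha]
    exact deg_add (hp a (mem_insert_self _ _)) (ih fun i hi => hp i (mem_insert_of_mem hi))

lemma deg_smul {w w' e : ℕ} {p : MvPolynomial τ E} {x : PM τ N} (hp : PD w w' p)
    (hx : PM.Deg w' e x) : PM.Deg w e (p • x) := by
  rcases hp with h | h
  · rw [h, zero_smul]
    exact deg_zero _ _
  · intro μ hμ
    have := (hx.smul (p := p) le_rfl) μ hμ
    omega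

lemma act_deg {B B' : Type} [Fintype B] {w : B → ℕ} {w' : B' → ℕ}
    {M : Matrix B B' (MvPolynomial τ R)} (hM : ∀ b b', PD (w' b') (w b) (M b b'))
    {e : ℕ} {x : B → PM τ N} (hx : ∀ b, PM.Deg (w b) e (x b)) (b' : B') :
    PM.Deg (w' b') e (act χ M x b') :=
  deg_sum fun b _ => deg_smul ((hM b b').map χ) (hx b)

end act

/-! ### Homotopies -/

section main

variable (B : ℕ → Type) [∀ j, Fintype (B j)] (w : ∀ j, B j → ℕ)
  (δ : ∀ j, Matrix (B (j + 1)) (B j) (MvPolynomial τ R))

open scoped Matrix in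
open scoped Classical in
/-- A filtered complex of finite free `R[y]`-modules which is exact on every filtration step has a
filtered contracting homotopy. -/
theorem exists_htpy (hδδ : ∀ j, δ (j + 1) * δ j = 0)
    (hdeg : ∀ j a b, PD (w j b) (w (j + 1) a) (δ j a b))
    (hex0 : ∀ e (v : B 0 → MvPolynomial τ R), (∀ b, PD (w 0 b) e (v b)) →
      ∃ u : B 1 → MvPolynomial τ R, (∀ a, PD (w 1 a) e (u a)) ∧ u ᵥ* δ 0 = v)
    (hex : ∀ j e (v : B (j + 1) → MvPolynomial τ R), (∀ b, PD (w (j + 1) b) e (v b)) →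
      v ᵥ* δ j = 0 →
      ∃ u : B (j + 2) → MvPolynomial τ R, (∀ a, PD (w (j + 2) a) e (u a)) ∧ u ᵥ* δ (j + 1) = v) :
    ∃ H : ∀ j, Matrix (B j) (B (j + 1)) (MvPolynomial τ R),
      (∀ j b a, PD (w (j + 1) a) (w j b) (H j b a)) ∧ H 0 * δ 0 = 1 ∧
      ∀ j, H (j + 1) * δ (j + 1) = 1 - δ j * H j := by
  -- the type of partial homotopies
  let T : ℕ → Type u := fun j => {H : Matrix (B j) (B (j + 1)) (MvPolynomial τ R) //
    (∀ b a, PD (w (j + 1) a) (w j b) (H b a)) ∧ δ j * H * δ j = δ j}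
  have h0 : ∃ H : T 0, H.1 * δ 0 = 1 := by
    choose H hH hH' using fun b : B 0 => hex0 (w 0 b) (fun c => (1 : Matrix _ _ _) b c) (fun c => by
      rw [Matrix.one_apply]
      split_ifs with h
      · rw [h]; exact pd_one _
      · exact PD.zero _ _)
    have e : (Matrix.of H : Matrix (B 0) (B 1) (MvPolynomial τ R)) * δ 0 = 1 := by
      ext1 b c
      exact congrFun (hH' b) c
    refine ⟨⟨Matrix.of H, fun b a => hH b a, ?_⟩, e⟩
    rw [Matrix.mul_assoc, e, Matrix.mul_one]
  have h1 : ∀ j (H : T j), ∃ H' : T (j + 1), H'.1 * δ (j + 1) = 1 - δ j * H.1 := by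
    intro j H
    have hc : (1 - δ j * H.1) * δ j = 0 := by
      rw [Matrix.sub_mul, Matrix.one_mul, H.2.2, sub_self]
    choose H' hH hH' using fun b : B (j + 1) => hex j (w (j + 1) b)
      (fun c => (1 - δ j * H.1 : Matrix _ _ _) b c) (fun c => by
        refine PD.sub ?_ (PD.sum fun x _ => (hdeg j b x).mul (H.2.1 x c))
        rw [Matrix.one_apply]
        split_ifs with h
        · rw [h]; exact pd_one _
        · exact PD.zero _ _) (by
        funext c
        exact congrFun (congrFun hc b) c)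
    have e : (Matrix.of H' : Matrix (B (j + 1)) (B (j + 2)) (MvPolynomial τ R)) * δ (j + 1) =
        1 - δ j * H.1 := by
      ext1 b c
      exact congrFun (hH' b) c
    refine ⟨⟨Matrix.of H', fun b a => hH b a, ?_⟩, e⟩
    rw [Matrix.mul_assoc, e, Matrix.mul_sub, Matrix.mul_one, ← Matrix.mul_assoc, hδδ,
      Matrix.zero_mul, sub_zero]
  choose f hf using h1
  obtain ⟨H0, hH0⟩ := h0
  let S : ∀ j, T j := fun j => Nat.rec H0 (fun j H => f j H) j
  exact ⟨fun j => (S j).1, fun j => (S j).2.1, hH0, fun j => hf j (S j)⟩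

open scoped Matrix in
/-- Exactness with coefficients. -/
theorem exists_coeff (hδδ : ∀ j, δ (j + 1) * δ j = 0)
    (hdeg : ∀ j a b, PD (w j b) (w (j + 1) a) (δ j a b))
    (hex0 : ∀ e (v : B 0 → MvPolynomial τ R), (∀ b, PD (w 0 b) e (v b)) →
      ∃ u : B 1 → MvPolynomial τ R, (∀ a, PD (w 1 a) e (u a)) ∧ u ᵥ* δ 0 = v)
    (hex : ∀ j e (v : B (j + 1) → MvPolynomial τ R), (∀ b, PD (w (j + 1) b) e (v b)) →
      v ᵥ* δ j = 0 →
      ∃ u : B (j + 2) → MvPolynomial τ R, (∀ a, PD (w (j + 2) a) e (u a)) ∧ u ᵥ* δ (j + 1) = v)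
    {E : Type u} [CommRing E] (χ : R →+* E) (N : Type u) [AddCommGroup N] [Module E N] :
    (∀ e (x : B 0 → PM τ N), (∀ b, PM.Deg (w 0 b) e (x b)) →
      ∃ y : B 1 → PM τ N, (∀ a, PM.Deg (w 1 a) e (y a)) ∧ act χ (δ 0) y = x) ∧
    (∀ j e (x : B (j + 1) → PM τ N), (∀ b, PM.Deg (w (j + 1) b) e (x b)) → act χ (δ j) x = 0 →
      ∃ y : B (j + 2) → PM τ N, (∀ a, PM.Deg (w (j + 2) a) e (y a)) ∧ act χ (δ (j + 1)) y = x) := by
  classical
  obtain ⟨H, hH, hH0, hH1⟩ := exists_htpy B w δ hδδ hdeg hex0 hex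
  constructor
  · intro e x hx
    refine ⟨act χ (H 0) x, act_deg χ (hH 0) hx, ?_⟩
    rw [← act_mul, hH0, act_one]
  · intro j e x hx hd
    refine ⟨act χ (H (j + 1)) x, act_deg χ (hH (j + 1)) hx, ?_⟩
    rw [← act_mul, hH1, act_sub, act_one, act_mul, hd, act_zero, sub_zero]

end main

end Groth.Agent.Flat2B.GEx.Htpy
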