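import Groth.Agent.Flat2B.GExCech
import Groth.Agent.Flat2B.GExHtpy
import Mathlib.RingTheory.Flat.Basic
import Mathlib.RingTheory.Flat.Stability
import Mathlib.LinearAlgebra.TensorProduct.Basis
import Mathlib.Algebra.Category.Ring.Constructions

/-!
# S1270 route E: cycles over a flat extension are spanned by cycles
-/

universe u

open Finset MvPolynomial TensorProduct

namespace Groth.Agent.Flat2B.GEx.Span

section flat

variable {R R' : Type u} [CommRing R] [CommRing R'] (φ : R →+* R')

/-- `R' ⊗[R] G → G'` is injective. -/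
def InjBC {G G' : Type u} [AddCommGroup G] [Module R G] [AddCommGroup G'] [Module R' G']
    (g : G →ₛₗ[φ] G') : Prop :=
  letI := φ.toAlgebra
  ∀ (l : R' ⊗[R] G →+ G'), (∀ c v, l (c ⊗ₜ v) = c • g v) → ∀ X, l X = 0 → X = 0

/-- Cycles over a flat extension are spanned by cycles. -/
theorem mem_span_of_flat (hφ : φ.Flat) {P G F' G' : Type u} [AddCommGroup P] [Module R P]
    [AddCommGroup G] [Module R G] [AddCommGroup F'] [Module R' F'] [AddCommGroup G'] [Module R' G']
    (d : P →ₗ[R] G) (f : P →ₛₗ[φ] F') (g : G →ₛₗ[φ] G') (d' : F' →ₗ[R'] G')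
    (hcomm : ∀ v, d' (f v) = g (d v)) (hg : InjBC φ g) (x : F')
    (hx : x ∈ Submodule.span R' (Set.range f)) (hdx : d' x = 0) :
    x ∈ Submodule.span R' (f '' {v | d v = 0}) := by
  let := φ.toAlgebra
  have : Module.Flat R R' := hφ
  -- the additive lifts
  have hl : ∀ {M M' : Type u} [AddCommGroup M] [Module R M] [AddCommGroup M'] [Module R' M']
      (h : M →ₛₗ[φ] M'), ∃ l : R' ⊗[R] M →+ M', ∀ c v, l (c ⊗ₜ v) = c • h v := by
    intro M M' _ _ _ _ h
    refine ⟨TensorProduct.liftAddHom
      { toFun := fun c => { toFun := fun v => c • h v, map_zero' := by simp, map_add' := by simp }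
        map_zero' := by ext; simp
        map_add' := fun a b => by ext; simp [add_smul] } ?_, fun c v => rfl⟩
    intro r c v
    change (r • c) • h v = c • h (r • v)
    rw [h.map_smulₛₗ, Algebra.smul_def, smul_smul, mul_comm]
    rfl
  obtain ⟨lP, hlP⟩ := hl f
  obtain ⟨lG, hlG⟩ := hl g
  have hsmul : ∀ (c : R') X, lP (c • X) = c • lP X := by
    intro c X
    induction X using TensorProduct.induction_on with
    | zero => simp
    | tmul a v => rw [TensorProduct.smul_tmul', hlP, hlP, smul_smul, smul_eq_mul]
    | add X Y hX hY => rw [smul_add, map_add, hX, hY, map_add, smul_add]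
  -- `x` is the image of some `X`
  have hX : ∀ x ∈ Submodule.span R' (Set.range f), ∃ X, lP X = x := by
    intro x hx
    induction hx using Submodule.span_induction with
    | mem x hx =>
      obtain ⟨v, rfl⟩ := hx
      exact ⟨1 ⊗ₜ v, by rw [hlP, one_smul]⟩
    | zero => exact ⟨0, map_zero _⟩
    | add x y _ _ hx hy =>
      obtain ⟨X, rfl⟩ := hx
      obtain ⟨Y, rfl⟩ := hy
      exact ⟨X + Y, map_add _ _ _⟩
    | smul c x _ hx =>
      obtain ⟨X, rfl⟩ := hx
      exact ⟨c • X, hsmul c X⟩
  obtain ⟨X, rfl⟩ := hX x hx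
  have h1 : ∀ X, lG (d.lTensor R' X) = d' (lP X) := by
    intro X
    induction X using TensorProduct.induction_on with
    | zero => simp
    | tmul a v => rw [LinearMap.lTensor_tmul, hlG, hlP, map_smul, hcomm]
    | add X Y hX hY => rw [map_add, map_add, hX, hY, map_add, map_add]
  have h2 : d.lTensor R' X = 0 := hg lG hlG _ ((h1 X).trans hdx)
  have h3 : Function.Exact (d.ker.subtype.lTensor R') (d.lTensor R') :=
    Module.Flat.lTensor_exact R' (LinearMap.exact_subtype_ker_map d)
  obtain ⟨Y, rfl⟩ := (h3 X).1 h2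
  clear h2 hdx hx
  induction Y using TensorProduct.induction_on with
  | zero => rw [map_zero, map_zero]; exact Submodule.zero_mem _
  | tmul a v =>
    rw [LinearMap.lTensor_tmul, hlP]
    exact Submodule.smul_mem _ _ (Submodule.subset_span ⟨v.1, v.2, rfl⟩)
  | add X Y hX hY =>
    rw [map_add, map_add]
    exact Submodule.add_mem _ hX hY

end flat

/-! ### Polynomial vectors -/

section poly

variable {R R' : Type u} [CommRing R] [CommRing R'] (φ : R →+* R') {τ : Type}

/-- Extension by zero and coefficientwise application of `φ` is injective after base change. -/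
theorem injBC_poly {J J' : Type} [Finite J] (g : (J → MvPolynomial τ R) →ₛₗ[φ] (J' → MvPolynomial τ R'))
    (k : J → J') (hg : ∀ v a, g v (k a) = MvPolynomial.map φ (v a)) : InjBC φ g := by
  classical
  cases nonempty_fintype J
  intro l hl X hX
  let := φ.toAlgebra
  let b : Module.Basis (Σ _ : J, τ →₀ ℕ) R (J → MvPolynomial τ R) :=
    Pi.basis fun _ : J => MvPolynomial.basisMonomials τ R
  have hb : ∀ (v : J → MvPolynomial τ R) (a : J) (μ : τ →₀ ℕ), b.repr v ⟨a, μ⟩ = (v a).coeff μ := by
    intro v a μ
    change ((Pi.basis fun _ : J => MvPolynomial.basisMonomials τ R).repr v) ⟨a, μ⟩ = _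
    rw [Pi.basis_repr]
    rfl
  have h1 : ∀ (X : R' ⊗[R] (J → MvPolynomial τ R)) (a : J) (μ : τ →₀ ℕ),
      (b.baseChange R').repr X ⟨a, μ⟩ = (l X (k a)).coeff μ := by
    intro X a μ
    induction X using TensorProduct.induction_on with
    | zero => simp
    | tmul c v =>
      rw [Module.Basis.baseChange_repr_tmul, hb, hl, Pi.smul_apply, hg, MvPolynomial.coeff_smul,
        MvPolynomial.coeff_map, Algebra.smul_def, smul_eq_mul, mul_comm]
      rfl
    | add X Y hX hY => rw [map_add, map_add, Finsupp.add_apply, hX, hY, Pi.add_apply, coeff_add]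
  refine (b.baseChange R').repr.injective ?_
  rw [map_zero]
  ext ⟨a, μ⟩
  rw [h1, hX]
  rfl

/-- The ring version, from a pushout square. -/
theorem injBC_of_isPushout {A B : Type u} [CommRing A] [CommRing B] [Algebra R A] [Algebra R' B]
    (h : A →+* B)
    (H : CategoryTheory.IsPushout (CommRingCat.ofHom φ) (CommRingCat.ofHom (algebraMap R A))
      (CommRingCat.ofHom (algebraMap R' B)) (CommRingCat.ofHom h))
    (g : A →ₛₗ[φ] B) (hg : ∀ x, g x = h x) : InjBC φ g := by
  intro l hl X hX
  let := φ.toAlgebra
  let := h.toAlgebra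
  let : Algebra R B := (h.comp (algebraMap R A)).toAlgebra
  have : IsScalarTower R A B := IsScalarTower.of_algebraMap_eq' rfl
  have : IsScalarTower R R' B := IsScalarTower.of_algebraMap_eq' (by
    have := congrArg CommRingCat.Hom.hom H.w
    exact this.symm)
  have : Algebra.IsPushout R R' A B := CommRingCat.isPushout_iff_isPushout.1 H
  have h1 : ∀ X, l X = Algebra.IsPushout.equiv R R' A B X := by
    intro X
    induction X using TensorProduct.induction_on with
    | zero => simp
    | tmul c v =>
      rw [hl, Algebra.IsPushout.equiv_tmul, hg, Algebra.smul_def]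
      rfl
    | add X Y hX hY => rw [map_add, map_add, hX, hY]
  exact (Algebra.IsPushout.equiv R R' A B).injective (by rw [← h1, hX, map_zero])

end poly

end Groth.Agent.Flat2B.GEx.Span
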