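import Groth.Agent.Flat2B.GExAL5Defs
import Groth.Agent.Flat2B.GExSpan

/-!
# S1270 route E, AL5 (c): `L (s) ⊗ N → L (t) ⊗ N` is a filtered quasi-isomorphism
-/

universe u

open Finset MvPolynomial Groth.Agent.Ega3B.Cube

namespace Groth.Agent.Flat2B.GEx

namespace Qu

open Groth.Agent.Flat2B.GEx.Htpy Groth.Agent.Flat2B.GEx.Span

/-! ### Sums over subtypes -/

lemma sum_sub {J : Type} [Fintype J] {M : Type*} [AddCommMonoid M] (p : J → Prop)
    [Fintype {b // p b}] (F : J → M) (hF : ∀ b, ¬ p b → F b = 0) :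
    ∑ b : {b // p b}, F b.1 = ∑ b, F b := by
  classical
  rw [← Finset.sum_subtype (Finset.univ.filter p) (fun b => by simp) F]
  exact Finset.sum_filter_of_ne fun b _ hb => by
    by_contra h
    exact hb (hF b h)

variable {Λ : Type u} [CommRing Λ] {τ ι : Type} [LinearOrder ι] {C : RDiag Λ (NE ι)}

/-- Restriction maps on polynomial rings. -/
noncomputable abbrev pm (C : RDiag Λ (NE ι)) (τ : Type) {s t : NE ι} (h : s ≤ t) :
    MvPolynomial τ (C.C s) →+* MvPolynomial τ (C.C t) :=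
  MvPolynomial.map (C.res h).toRingHom

lemma pm_pm {s t u : NE ι} (h : s ≤ t) (h' : t ≤ u) (x : MvPolynomial τ (C.C s)) :
    pm C τ h' (pm C τ h x) = pm C τ (h.trans h') x := by
  rw [pm, pm, pm, MvPolynomial.map_map]
  congr 2
  exact RingHom.ext (C.res_res h h')

lemma evi_pm (i : ι) (b : τ → C.C (sg i)) {s t : NE ι} (h : s ≤ t) (x : MvPolynomial τ (C.C s)) :
    evi C i b t (pm C τ h x) = C.res (ins_le_ins i h) (evi C i b s x) := by
  have h1 : (evi C i b t).comp (pm C τ h) =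
      (C.res (ins_le_ins i h)).toRingHom.comp (evi C i b s) := by
    apply MvPolynomial.ringHom_ext
    · intro r
      simp only [evi, pm, RingHom.comp_apply, MvPolynomial.map_C, MvPolynomial.coe_eval₂Hom,
        MvPolynomial.eval₂_C, AlgHom.toRingHom_eq_coe, RingHom.coe_coe]
      rw [C.res_res, C.res_res]
    · intro j
      simp only [evi, pm, RingHom.comp_apply, MvPolynomial.map_X, MvPolynomial.coe_eval₂Hom,
        MvPolynomial.eval₂_X, AlgHom.toRingHom_eq_coe, RingHom.coe_coe]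
      rw [C.res_res]
  exact RingHom.congr_fun h1 x

variable (L : LData C τ)

/-- The matrix of the differential. -/
noncomputable def Δ (j : ℕ) (t : NE ι) :
    Matrix (L.G (j + 1) t) (L.G j t) (MvPolynomial τ (C.C t)) :=
  Matrix.of fun a b => pm C τ a.2 (L.δ j a.1 b.1)

lemma Δ_apply (j : ℕ) (t : NE ι) (a : L.G (j + 1) t) (b : L.G j t) :
    Δ L j t a b = pm C τ a.2 (L.δ j a.1 b.1) := rfl

lemma Δ_pm (j : ℕ) {s t : NE ι} (h : s ≤ t) (a : L.G (j + 1) s) (b : L.G j s) :
    pm C τ h (Δ L j s a b) = Δ L j t ⟨a.1, a.2.trans h⟩ ⟨b.1, b.2.trans h⟩ := by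
  rw [Δ_apply, Δ_apply, pm_pm]

lemma Δ_zero (j : ℕ) {t : NE ι} {a : L.G (j + 1) t} {b : L.G j t}
    (h : ¬ L.loc j b.1 ≤ L.loc (j + 1) a.1) : Δ L j t a b = 0 := by
  have : L.δ j a.1 b.1 = 0 := by
    by_contra h'
    exact h (L.δ_loc _ _ _ h')
  rw [Δ_apply, this, map_zero]

lemma Δ_zero' (j : ℕ) {s t : NE ι} {a : L.G (j + 1) t} {b : L.G j t}
    (ha : L.loc (j + 1) a.1 ≤ s) (hb : ¬ L.loc j b.1 ≤ s) : Δ L j t a b = 0 :=
  Δ_zero L j fun h => hb (h.trans ha)

lemma Δ_deg (j : ℕ) (t : NE ι) (a : L.G (j + 1) t) (b : L.G j t) :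
    PD (L.w j b.1) (L.w (j + 1) a.1) (Δ L j t a b) :=
  PD.map _ (L.δ_deg j a.1 b.1)

open scoped Classical in
lemma delP_apply (j : ℕ) (t : NE ι) (v : L.G (j + 1) t → MvPolynomial τ (C.C t)) (b : L.G j t) :
    L.delP j t v b = ∑ a : L.G (j + 1) t, v a * Δ L j t a b := by
  unfold LData.delP
  change (∑ a : L.G (j + 1) t, _) = _
  congr!

open scoped Classical in
lemma Δ_Δ (j : ℕ) (t : NE ι) (a : L.G (j + 2) t) (c : L.G j t) :
    ∑ b : L.G (j + 1) t, Δ L (j + 1) t a b * Δ L j t b c = 0 := by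
  let g : ∀ b : L.J (j + 1), MvPolynomial τ (C.C (L.loc (j + 2) a.1)) := fun b =>
    if h : L.loc (j + 1) b ≤ L.loc (j + 2) a.1 then pm C τ h (L.δ j b c.1) else 0
  have h0 := congrArg (pm C τ a.2) (L.δ_δ j a.1 c.1 g (fun b h => by simp only [g, dif_pos h]))
  rw [map_sum, map_zero] at h0
  rw [← h0]
  let F : L.J (j + 1) → MvPolynomial τ (C.C t) := fun b =>
    pm C τ a.2 (L.δ (j + 1) a.1 b * g b)
  refine Eq.trans (Finset.sum_congr rfl fun b _ => ?_)
    (sum_sub (fun b => L.loc (j + 1) b ≤ t) F fun b hb => ?_)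
  · simp only [F, g]
    rw [Δ_apply, Δ_apply, map_mul]
    by_cases h : L.loc (j + 1) b.1 ≤ L.loc (j + 2) a.1
    · rw [dif_pos h, pm_pm]
    · have h0 : L.δ (j + 1) a.1 b.1 = 0 := by
        by_contra h'
        exact h (L.δ_loc _ _ _ h')
      rw [h0, map_zero, zero_mul, zero_mul]
  · have h0 : L.δ (j + 1) a.1 b = 0 := by
      by_contra h'
      exact hb ((L.δ_loc _ _ _ h').trans a.2)
    simp only [F, h0, zero_mul, map_zero]

lemma delP_delP (j : ℕ) (t : NE ι) (v : L.G (j + 2) t → MvPolynomial τ (C.C t)) :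
    L.delP j t (L.delP (j + 1) t v) = 0 := by
  classical
  funext c
  rw [delP_apply, Pi.zero_apply]
  simp only [delP_apply, Finset.sum_mul, mul_assoc]
  rw [Finset.sum_comm]
  refine Finset.sum_eq_zero fun a _ => ?_
  rw [← Finset.mul_sum, Δ_Δ, mul_zero]

/-! ### Restriction of vectors -/

/-- Restriction of vectors: extension by zero. -/
noncomputable def rs (j : ℕ) {s t : NE ι} (h : s ≤ t) :
    (L.G j s → MvPolynomial τ (C.C s)) →ₛₗ[(C.res h).toRingHom]
      (L.G j t → MvPolynomial τ (C.C t)) where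
  toFun v b := by
    classical exact if hb : L.loc j b.1 ≤ s then pm C τ h (v ⟨b.1, hb⟩) else 0
  map_add' v v' := by
    classical
    funext b
    by_cases hb : L.loc j b.1 ≤ s
    · simp only [Pi.add_apply, dif_pos hb, map_add]
    · simp only [Pi.add_apply, dif_neg hb, add_zero]
  map_smul' r v := by
    classical
    funext b
    by_cases hb : L.loc j b.1 ≤ s
    · simp only [Pi.smul_apply, dif_pos hb, MvPolynomial.smul_eq_C_mul, map_mul,
        MvPolynomial.map_C]
    · simp only [Pi.smul_apply, dif_neg hb, smul_zero]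

lemma rs_of (j : ℕ) {s t : NE ι} (h : s ≤ t) (v : L.G j s → MvPolynomial τ (C.C s))
    (b : L.G j t) (hb : L.loc j b.1 ≤ s) : rs L j h v b = pm C τ h (v ⟨b.1, hb⟩) := dif_pos hb

lemma rs_of_not (j : ℕ) {s t : NE ι} (h : s ≤ t) (v : L.G j s → MvPolynomial τ (C.C s))
    (b : L.G j t) (hb : ¬ L.loc j b.1 ≤ s) : rs L j h v b = 0 := dif_neg hb

lemma rs_deg (j : ℕ) {s t : NE ι} (h : s ≤ t) {e : ℕ} {v : L.G j s → MvPolynomial τ (C.C s)}
    (hv : ∀ a, PD (L.w j a.1) e (v a)) (b : L.G j t) : PD (L.w j b.1) e (rs L j h v b) := by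
  by_cases hb : L.loc j b.1 ≤ s
  · rw [rs_of L j h v b hb]
    exact PD.map _ (hv _)
  · rw [rs_of_not L j h v b hb]
    exact PD.zero _ _

lemma delP_rs (j : ℕ) {s t : NE ι} (h : s ≤ t) (v : L.G (j + 1) s → MvPolynomial τ (C.C s)) :
    L.delP j t (rs L (j + 1) h v) = rs L j h (L.delP j s v) := by
  classical
  funext b
  rw [delP_apply]
  let F : L.J (j + 1) → MvPolynomial τ (C.C t) := fun a =>
    if ha : L.loc (j + 1) a ≤ s then pm C τ h (v ⟨a, ha⟩) * Δ L j t ⟨a, ha.trans h⟩ b else 0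
  have e1 : ∑ a : L.G (j + 1) t, rs L (j + 1) h v a * Δ L j t a b = ∑ a : L.J (j + 1), F a := by
    refine Eq.trans (Finset.sum_congr rfl fun a _ => ?_)
      (sum_sub (fun a => L.loc (j + 1) a ≤ t) F fun a ha => ?_)
    · by_cases ha : L.loc (j + 1) a.1 ≤ s
      · simp only [F]
        rw [dif_pos ha, rs_of _ _ _ _ _ ha]
      · simp only [F]
        rw [dif_neg ha, rs_of_not _ _ _ _ _ ha, zero_mul]
    · exact dif_neg fun ha' => ha (ha'.trans h)
  rw [e1]
  by_cases hb : L.loc j b.1 ≤ s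
  · rw [rs_of _ _ _ _ _ hb, delP_apply, map_sum]
    symm
    refine Eq.trans (Finset.sum_congr rfl fun a _ => ?_)
      (sum_sub (fun a => L.loc (j + 1) a ≤ s) F fun a ha => dif_neg ha)
    simp only [F]
    rw [dif_pos a.2, map_mul, Δ_pm]
  · rw [rs_of_not _ _ _ _ _ hb]
    refine Finset.sum_eq_zero fun a _ => ?_
    by_cases ha : L.loc (j + 1) a ≤ s
    · simp only [F]
      rw [dif_pos ha, Δ_zero' L j (s := s) ha hb, mul_zero]
    · exact dif_neg ha

open scoped Classical in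
lemma augP_apply (i : ι) (b : τ → C.C (sg i)) (ε : ∀ a : L.J 0, C.C (ins i (L.loc 0 a)))
    (t : NE ι) (v : L.G 0 t → MvPolynomial τ (C.C t)) :
    L.augP i b ε t v = ∑ a : L.G 0 t, evi C i b t (v a) * C.res (ins_le_ins i a.2) (ε a.1) := by
  unfold LData.augP
  congr!

lemma augP_rs (i : ι) (b : τ → C.C (sg i)) (ε : ∀ a : L.J 0, C.C (ins i (L.loc 0 a)))
    {s t : NE ι} (h : s ≤ t) (v : L.G 0 s → MvPolynomial τ (C.C s)) :
    L.augP i b ε t (rs L 0 h v) = C.res (ins_le_ins i h) (L.augP i b ε s v) := by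
  classical
  rw [augP_apply, augP_apply, map_sum]
  let F : L.J 0 → C.C (ins i t) := fun a =>
    if ha : L.loc 0 a ≤ s then evi C i b t (pm C τ h (v ⟨a, ha⟩)) *
      C.res (ins_le_ins i (ha.trans h)) (ε a) else 0
  refine Eq.trans (b := ∑ a : L.J 0, F a) ?_ ?_
  · refine Eq.trans (Finset.sum_congr rfl fun a _ => ?_)
      (sum_sub (fun a => L.loc 0 a ≤ t) F fun a ha => ?_)
    · by_cases ha : L.loc 0 a.1 ≤ s
      · simp only [F]
        rw [dif_pos ha, rs_of _ _ _ _ _ ha]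
      · simp only [F]
        rw [dif_neg ha, rs_of_not _ _ _ _ _ ha, map_zero, zero_mul]
    · exact dif_neg fun ha' => ha (ha'.trans h)
  · symm
    refine Eq.trans (Finset.sum_congr rfl fun a _ => ?_)
      (sum_sub (fun a => L.loc 0 a ≤ s) F fun a ha => dif_neg ha)
    simp only [F]
    rw [dif_pos a.2, map_mul, evi_pm, C.res_res]

/-! ### Flat base change -/

/-- Vectors of degree `≤ e`. -/
def degSub (R : Type u) [CommRing R] {J : Type} (w : J → ℕ) (e : ℕ) :
    Submodule R (J → MvPolynomial τ R) where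
  carrier := {v | ∀ a, PD (w a) e (v a)}
  add_mem' h h' a := (h a).add (h' a)
  zero_mem' _ := PD.zero _ _
  smul_mem' c v h a := by
    rw [Pi.smul_apply, MvPolynomial.smul_eq_C_mul]
    exact (h a).C_mul c

/-- The restriction map on vectors of degree `≤ e`. -/
noncomputable def rsd (j : ℕ) {s t : NE ι} (h : s ≤ t) (e : ℕ) :
    degSub (τ := τ) (C.C s) (fun a : L.G j s => L.w j a.1) e →ₛₗ[(C.res h).toRingHom]
      (L.G j t → MvPolynomial τ (C.C t)) :=
  (rs L j h).comp (Submodule.subtype _)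

lemma rsd_apply (j : ℕ) {s t : NE ι} (h : s ≤ t) (e : ℕ)
    (v : degSub (τ := τ) (C.C s) (fun a : L.G j s => L.w j a.1) e) :
    rsd L j h e v = rs L j h v.1 := rfl

lemma mem_span_rsd (j : ℕ) {s t : NE ι} (h : s ≤ t) {e : ℕ}
    (z : L.G j t → MvPolynomial τ (C.C t)) (hz : ∀ b, PD (L.w j b.1) e (z b))
    (hz' : ∀ b, ¬ L.loc j b.1 ≤ s → z b = 0) :
    z ∈ Submodule.span (C.C t) (Set.range (rsd L j h e)) := by
  classical
  have h1 : z = ∑ b, Pi.single b (z b) := (Finset.univ_sum_single z).symm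
  rw [h1]
  refine Submodule.sum_mem _ fun b _ => ?_
  by_cases hb : L.loc j b.1 ≤ s
  · rw [(z b).as_sum]
    have h2 : (Pi.single b (∑ μ ∈ (z b).support, monomial μ ((z b).coeff μ)) :
        L.G j t → MvPolynomial τ (C.C t)) =
        ∑ μ ∈ (z b).support, Pi.single b (monomial μ ((z b).coeff μ)) := by
      exact map_sum (AddMonoidHom.single (fun _ : L.G j t => MvPolynomial τ (C.C t)) b) _ _
    rw [h2]
    refine Submodule.sum_mem _ fun μ hμ => ?_
    have hd : (Pi.single ⟨b.1, hb⟩ (monomial μ 1) : L.G j s → MvPolynomial τ (C.C s)) ∈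
        degSub (τ := τ) (C.C s) (fun a : L.G j s => L.w j a.1) e := by
      intro a
      by_cases ha : a = ⟨b.1, hb⟩
      · subst ha
        rw [Pi.single_eq_same, pd_iff]
        intro ν hν
        have hνμ : μ = ν := by
          by_contra hne
          exact hν (by rw [coeff_monomial, if_neg hne])
        rw [← hνμ]
        exact pd_iff.1 (hz b) μ (MvPolynomial.mem_support_iff.1 hμ)
      · rw [Pi.single_eq_of_ne ha]
        exact PD.zero _ _
    have h3 : (Pi.single b (monomial μ ((z b).coeff μ)) : L.G j t → MvPolynomial τ (C.C t)) =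
        ((z b).coeff μ) • rsd L j h e ⟨_, hd⟩ := by
      funext c
      rw [rsd_apply, Pi.smul_apply]
      change _ = _ • rs L j h (Pi.single (M := fun _ => MvPolynomial τ (C.C s)) ⟨b.1, hb⟩
        (monomial μ 1)) c
      by_cases hc : c = b
      · subst hc
        rw [Pi.single_eq_same, rs_of _ _ _ _ _ hb, Pi.single_eq_same, MvPolynomial.map_monomial,
          map_one, MvPolynomial.smul_monomial, smul_eq_mul, mul_one]
      · rw [Pi.single_eq_of_ne hc]
        by_cases hcs : L.loc j c.1 ≤ s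
        · rw [rs_of _ _ _ _ _ hcs, Pi.single_eq_of_ne, map_zero, smul_zero]
          intro h'
          exact hc (Subtype.ext (congrArg (fun x : L.G j s => x.1) h'))
        · rw [rs_of_not _ _ _ _ _ hcs, smul_zero]
    rw [h3]
    exact Submodule.smul_mem _ _ (Submodule.subset_span ⟨_, rfl⟩)
  · rw [hz' b hb, Pi.single_zero]
    exact Submodule.zero_mem _

/-- The differential over the constants. -/
noncomputable def delC (j : ℕ) (t : NE ι) :
    (L.G (j + 1) t → MvPolynomial τ (C.C t)) →ₗ[C.C t] (L.G j t → MvPolynomial τ (C.C t)) :=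
  (L.delP j t).restrictScalars (C.C t)

lemma injBC_rs (j : ℕ) {s t : NE ι} (h : s ≤ t) : InjBC (C.res h).toRingHom (rs L j h) := by
  classical
  refine injBC_poly _ (rs L j h) (fun a => (⟨a.1, a.2.trans h⟩ : L.G j t)) fun v a => ?_
  exact rs_of L j h v ⟨a.1, a.2.trans h⟩ a.2

/-- Lifting of cycles supported on `s`, positive degrees. -/
theorem lift_succ (hC : C.Good) {i : ι} {b : τ → C.C (sg i)}
    {ε : ∀ a : L.J 0, C.C (ins i (L.loc 0 a))} (hL : L.IsResol i b ε) {s t : NE ι} (h : s ≤ t)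
    (j e : ℕ) (z : L.G (j + 1) t → MvPolynomial τ (C.C t)) (hz : ∀ b, PD (L.w (j + 1) b.1) e (z b))
    (hz' : ∀ b, ¬ L.loc (j + 1) b.1 ≤ s → z b = 0) (hd : L.delP j t z = 0) :
    ∃ u : L.G (j + 2) t → MvPolynomial τ (C.C t), (∀ b, PD (L.w (j + 2) b.1) e (u b)) ∧
      (∀ b, ¬ L.loc (j + 2) b.1 ≤ s → u b = 0) ∧ L.delP (j + 1) t u = z := by
  have h1 := mem_span_of_flat (C.res h).toRingHom (hC.flat h)
    ((delC L j s).comp (Submodule.subtype (degSub (τ := τ) (C.C s) (fun a : L.G (j + 1) s =>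
      L.w (j + 1) a.1) e))) (rsd L (j + 1) h e) (rs L j h) (delC L j t)
    (fun v => delP_rs L j h v.1) (injBC_rs L j h) z (mem_span_rsd L (j + 1) h z hz hz') hd
  clear hd hz hz'
  induction h1 using Submodule.span_induction with
  | mem x hx =>
    obtain ⟨v, hv, rfl⟩ := hx
    obtain ⟨u, hu, hu'⟩ := hL.exact j s e v.1 v.2 hv
    refine ⟨rs L (j + 2) h u, fun b => rs_deg L (j + 2) h hu b, fun b hb => rs_of_not _ _ _ _ _ hb, ?_⟩
    rw [delP_rs, hu']
    rfl
  | zero => exact ⟨0, fun b => PD.zero _ _, fun b _ => rfl, map_zero _⟩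
  | add x y _ _ hx hy =>
    obtain ⟨u, hu, hu', hu''⟩ := hx
    obtain ⟨v, hv, hv', hv''⟩ := hy
    refine ⟨u + v, fun b => (hu b).add (hv b), fun b hb => ?_, ?_⟩
    · rw [Pi.add_apply, hu' b hb, hv' b hb, add_zero]
    · rw [map_add, hu'', hv'']
  | smul c x _ hx =>
    obtain ⟨u, hu, hu', hu''⟩ := hx
    refine ⟨c • u, fun b => ?_, fun b hb => ?_, ?_⟩
    · rw [Pi.smul_apply, MvPolynomial.smul_eq_C_mul]
      exact (hu b).C_mul c
    · rw [Pi.smul_apply, hu' b hb, smul_zero]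
    · rw [← hu'']
      exact (delC L (j + 1) t).map_smul c u

/-- Lifting of cycles supported on `s`, degree zero. -/
theorem lift_zero (hC : C.Good) {i : ι} {b : τ → C.C (sg i)}
    {ε : ∀ a : L.J 0, C.C (ins i (L.loc 0 a))} (hL : L.IsResol i b ε) {s t : NE ι} (h : s ≤ t)
    (e : ℕ) (z : L.G 0 t → MvPolynomial τ (C.C t)) (hz : ∀ b, PD (L.w 0 b.1) e (z b))
    (hz' : ∀ b, ¬ L.loc 0 b.1 ≤ s → z b = 0) (hd : L.augP i b ε t z = 0) :
    ∃ u : L.G 1 t → MvPolynomial τ (C.C t), (∀ b, PD (L.w 1 b.1) e (u b)) ∧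
      (∀ b, ¬ L.loc 1 b.1 ≤ s → u b = 0) ∧ L.delP 0 t u = z := by
  classical
  let : Algebra (C.C s) (C.C (ins i s)) := (C.res (le_ins i s)).toRingHom.toAlgebra
  let : Algebra (C.C t) (C.C (ins i t)) := (C.res (le_ins i t)).toRingHom.toAlgebra
  -- the augmentations as linear maps
  let A : ∀ (t : NE ι) [Algebra (C.C t) (C.C (ins i t))]
      (_ : algebraMap (C.C t) (C.C (ins i t)) = (C.res (le_ins i t)).toRingHom),
      (L.G 0 t → MvPolynomial τ (C.C t)) →ₗ[C.C t] C.C (ins i t) := fun t _ ht =>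
    { toFun := fun v => L.augP i b ε t v
      map_add' := fun v v' => by
        rw [augP_apply, augP_apply, augP_apply, ← Finset.sum_add_distrib]
        exact Finset.sum_congr rfl fun a _ => by rw [Pi.add_apply, map_add, add_mul]
      map_smul' := fun c v => by
        rw [augP_apply, augP_apply, Finset.smul_sum]
        refine Finset.sum_congr rfl fun a _ => ?_
        rw [Pi.smul_apply, MvPolynomial.smul_eq_C_mul, map_mul, RingHom.id_apply, Algebra.smul_def,
          ht, ← mul_assoc]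
        congr 2
        exact MvPolynomial.eval₂_C _ _ _ }
  let g : C.C (ins i s) →ₛₗ[(C.res h).toRingHom] C.C (ins i t) :=
    { toFun := C.res (ins_le_ins i h)
      map_add' := map_add _
      map_smul' := fun c v => by
        rw [Algebra.smul_def, Algebra.smul_def, map_mul]
        congr 1
        change C.res _ (C.res _ c) = C.res _ (C.res _ c)
        rw [C.res_res, C.res_res] }
  have hg : InjBC (C.res h).toRingHom g :=
    injBC_of_isPushout (C.res h).toRingHom (C.res (ins_le_ins i h)).toRingHom (hC.po h i) g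
      fun x => rfl
  have h1 := mem_span_of_flat (C.res h).toRingHom (hC.flat h)
    ((A s rfl).comp (Submodule.subtype (degSub (τ := τ) (C.C s) (fun a : L.G 0 s =>
      L.w 0 a.1) e))) (rsd L 0 h e) g (A t rfl)
    (fun v => augP_rs L i b ε h v.1) hg z (mem_span_rsd L 0 h z hz hz') hd
  clear hd hz hz'
  induction h1 using Submodule.span_induction with
  | mem x hx =>
    obtain ⟨v, hv, rfl⟩ := hx
    obtain ⟨u, hu, hu'⟩ := hL.exact0 s e v.1 v.2 hv
    refine ⟨rs L 1 h u, fun b => rs_deg L 1 h hu b, fun b hb => rs_of_not _ _ _ _ _ hb, ?_⟩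
    rw [delP_rs, hu']
    rfl
  | zero => exact ⟨0, fun b => PD.zero _ _, fun b _ => rfl, map_zero _⟩
  | add x y _ _ hx hy =>
    obtain ⟨u, hu, hu', hu''⟩ := hx
    obtain ⟨v, hv, hv', hv''⟩ := hy
    refine ⟨u + v, fun b => (hu b).add (hv b), fun b hb => ?_, ?_⟩
    · rw [Pi.add_apply, hu' b hb, hv' b hb, add_zero]
    · rw [map_add, hu'', hv'']
  | smul c x _ hx =>
    obtain ⟨u, hu, hu', hu''⟩ := hx
    refine ⟨c • u, fun b => ?_, fun b hb => ?_, ?_⟩
    · rw [Pi.smul_apply, MvPolynomial.smul_eq_C_mul]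
      exact (hu b).C_mul c
    · rw [Pi.smul_apply, hu' b hb, smul_zero]
    · rw [← hu'']
      exact (delC L 0 t).map_smul c u

/-! ### Exactness of the quotient over `C t` -/

/-- The augmentation of a vector of degree `≤ e` comes from a polynomial of degree `≤ e`. -/
lemma augP_eq_evi {i : ι} {b : τ → C.C (sg i)} {ε : ∀ a : L.J 0, C.C (ins i (L.loc 0 a))}
    (hL : L.IsResol i b ε) {t : NE ι} {e : ℕ} {x : L.G 0 t → MvPolynomial τ (C.C t)}
    (hx : ∀ b, PD (L.w 0 b.1) e (x b)) :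
    ∃ p : MvPolynomial τ (C.C t), PD 0 e p ∧ L.augP i b ε t x = evi C i b t p := by
  classical
  choose q hq hq' using hL.ε_mem
  refine ⟨∑ a, x a * pm C τ a.2 (q a.1), PD.sum fun a _ => (hx a).mul ?_, ?_⟩
  · exact PD.map _ (Or.inr (hq a.1))
  · rw [augP_apply, map_sum]
    refine Finset.sum_congr rfl fun a _ => ?_
    rw [map_mul, evi_pm, hq']

/-- Every value of the augmentation is reached from `s`. -/
lemma exists_augP_eq {i : ι} {b : τ → C.C (sg i)} {ε : ∀ a : L.J 0, C.C (ins i (L.loc 0 a))}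
    (hL : L.IsResol i b ε) {s t : NE ι} (h : s ≤ t) {e : ℕ} {p : MvPolynomial τ (C.C t)}
    (hp : PD 0 e p) :
    ∃ x : L.G 0 t → MvPolynomial τ (C.C t), (∀ b, PD (L.w 0 b.1) e (x b)) ∧
      (∀ b, ¬ L.loc 0 b.1 ≤ s → x b = 0) ∧ L.augP i b ε t x = evi C i b t p := by
  classical
  have h1 : ∀ μ ∈ p.support, ∃ v : L.G 0 s → MvPolynomial τ (C.C s), L.DegP e v ∧
      L.augP i b ε s v = evi C i b s (monomial μ 1) := by
    intro μ hμ
    refine hL.surj s (monomial μ 1) e ?_
    have h2 := pd_iff.1 hp μ (MvPolynomial.mem_support_iff.1 hμ)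
    refine le_trans (MvPolynomial.totalDegree_monomial_le _ _) ?_
    rw [Finsupp.degree_apply] at h2
    exact h2
  choose! v hv hv' using h1
  refine ⟨∑ μ ∈ p.support, (MvPolynomial.C (p.coeff μ) : MvPolynomial τ (C.C t)) • rs L 0 h (v μ),
    fun b => ?_, fun b hb => ?_, ?_⟩
  · rw [Finset.sum_apply]
    refine PD.sum fun μ hμ => ?_
    rw [Pi.smul_apply, smul_eq_mul]
    exact (rs_deg L 0 h (hv μ hμ) b).C_mul _
  · rw [Finset.sum_apply]
    refine Finset.sum_eq_zero fun μ _ => ?_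
    rw [Pi.smul_apply, rs_of_not _ _ _ _ _ hb, smul_zero]
  · have h2 : ∀ v : L.G 0 t → MvPolynomial τ (C.C t), L.augP i b ε t v =
        ∑ a : L.G 0 t, evi C i b t (v a) * C.res (ins_le_ins i a.2) (ε a.1) :=
      fun v => augP_apply L i b ε t v
    rw [h2]
    simp only [Finset.sum_apply, Pi.smul_apply, smul_eq_mul, map_sum, map_mul, Finset.sum_mul]
    rw [Finset.sum_comm]
    conv_rhs => rw [p.as_sum]
    rw [map_sum]
    refine Finset.sum_congr rfl fun μ hμ => ?_
    simp only [mul_assoc]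
    rw [← Finset.mul_sum, ← h2, augP_rs, hv' μ hμ, ← evi_pm i b h, ← map_mul]
    congr 1
    rw [MvPolynomial.map_monomial, map_one, MvPolynomial.C_mul_monomial, mul_one]

theorem claim_zero {i : ι} {b : τ → C.C (sg i)}
    {ε : ∀ a : L.J 0, C.C (ins i (L.loc 0 a))} (hL : L.IsResol i b ε) {s t : NE ι} (h : s ≤ t)
    (e : ℕ) (x : L.G 0 t → MvPolynomial τ (C.C t)) (hx : ∀ b, PD (L.w 0 b.1) e (x b)) :
    ∃ y : L.G 1 t → MvPolynomial τ (C.C t), (∀ b, PD (L.w 1 b.1) e (y b)) ∧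
      ∀ b, ¬ L.loc 0 b.1 ≤ s → L.delP 0 t y b = x b := by
  classical
  obtain ⟨p, hp, hp'⟩ := augP_eq_evi L hL hx
  obtain ⟨x', h1, h2, h3⟩ := exists_augP_eq L hL h hp
  obtain ⟨y, hy, hy'⟩ := hL.exact0 t e (x - x') (fun b => (hx b).sub (h1 b)) (by
    have h4 : ∀ v : L.G 0 t → MvPolynomial τ (C.C t), L.augP i b ε t v =
        ∑ a : L.G 0 t, evi C i b t (v a) * C.res (ins_le_ins i a.2) (ε a.1) :=
      fun v => augP_apply L i b ε t v
    rw [h4]
    simp only [Pi.sub_apply, map_sub, sub_mul, Finset.sum_sub_distrib]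
    rw [← h4, ← h4, hp', h3, sub_self])
  refine ⟨y, hy, fun b hb => ?_⟩
  rw [hy', Pi.sub_apply, h2 b hb, sub_zero]

theorem claim_succ (hC : C.Good) {i : ι} {b : τ → C.C (sg i)}
    {ε : ∀ a : L.J 0, C.C (ins i (L.loc 0 a))} (hL : L.IsResol i b ε) {s t : NE ι} (h : s ≤ t)
    (j e : ℕ) (x : L.G (j + 1) t → MvPolynomial τ (C.C t))
    (hx : ∀ b, PD (L.w (j + 1) b.1) e (x b))
    (hd : ∀ b, ¬ L.loc j b.1 ≤ s → L.delP j t x b = 0) :
    ∃ y : L.G (j + 2) t → MvPolynomial τ (C.C t), (∀ b, PD (L.w (j + 2) b.1) e (y b)) ∧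
      ∀ b, ¬ L.loc (j + 1) b.1 ≤ s → L.delP (j + 1) t y b = x b := by
  classical
  have hdeg : ∀ b, PD (L.w j b.1) e (L.delP j t x b) := by
    intro b
    rw [delP_apply]
    exact PD.sum fun a _ => (hx a).mul (Δ_deg L j t a b)
  obtain ⟨u, hu, hu', hu''⟩ : ∃ u : L.G (j + 1) t → MvPolynomial τ (C.C t),
      (∀ b, PD (L.w (j + 1) b.1) e (u b)) ∧ (∀ b, ¬ L.loc (j + 1) b.1 ≤ s → u b = 0) ∧
      L.delP j t u = L.delP j t x := by
    cases j with
    | zero => exact lift_zero L hC hL h e _ hdeg hd (hL.aug_del t x)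
    | succ j => exact lift_succ L hC hL h j e _ hdeg hd (delP_delP L j t x)
  obtain ⟨y, hy, hy'⟩ := hL.exact j t e (x - u) (fun b => (hx b).sub (hu b)) (by
    rw [map_sub, hu'', sub_self])
  refine ⟨y, hy, fun b hb => ?_⟩
  rw [hy', Pi.sub_apply, hu' b hb, sub_zero]

/-! ### The quotient complex -/

/-- Generators of the quotient. -/
abbrev QG (s t : NE ι) (j : ℕ) : Type := {b : L.G j t // ¬ L.loc j b.1 ≤ s}

open scoped Classical in
noncomputable instance (s t : NE ι) (j : ℕ) : Fintype (QG L s t j) := inferInstance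

/-- The differential of the quotient. -/
noncomputable def Δq (s t : NE ι) (j : ℕ) :
    Matrix (QG L s t (j + 1)) (QG L s t j) (MvPolynomial τ (C.C t)) :=
  Matrix.of fun a b => Δ L j t a.1 b.1

open scoped Classical in
/-- Extension by zero. -/
noncomputable def ext {s t : NE ι} {j : ℕ} {M : Type*} [Zero M] (v : QG L s t j → M) :
    L.G j t → M := fun b => if hb : ¬ L.loc j b.1 ≤ s then v ⟨b, hb⟩ else 0

lemma ext_of {s t : NE ι} {j : ℕ} {M : Type*} [Zero M] (v : QG L s t j → M) (b : L.G j t)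
    (hb : ¬ L.loc j b.1 ≤ s) : ext L v b = v ⟨b, hb⟩ := dif_pos hb

lemma ext_of_not {s t : NE ι} {j : ℕ} {M : Type*} [Zero M] (v : QG L s t j → M) (b : L.G j t)
    (hb : L.loc j b.1 ≤ s) : ext L v b = 0 := dif_neg (not_not.2 hb)

lemma ext_restr {s t : NE ι} {j : ℕ} {M : Type*} [Zero M] (v : QG L s t j → M) :
    (fun a : QG L s t j => ext L v a.1) = v := funext fun a => ext_of L v a.1 a.2

open scoped Matrix in
lemma vecMul_Δq {s t : NE ι} (j : ℕ) (y : L.G (j + 1) t → MvPolynomial τ (C.C t))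
    (b : QG L s t j) : ((fun a : QG L s t (j + 1) => y a.1) ᵥ* Δq L s t j) b =
      L.delP j t y b.1 := by
  classical
  rw [delP_apply]
  exact sum_sub (fun a : L.G (j + 1) t => ¬ L.loc (j + 1) a.1 ≤ s)
    (fun a => y a * Δ L j t a b.1) fun a ha => by
      rw [Δ_zero' L j (not_not.1 ha) b.2, mul_zero]

lemma act_Δq {s t : NE ι} (j : ℕ) {E : Type u} [CommRing E] (χ : C.C t →+* E) (N : Type u)
    [AddCommGroup N] [Module E N] (y : L.G (j + 1) t → PM τ N) (b : QG L s t j) :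
    act χ (Δq L s t j) (fun a : QG L s t (j + 1) => y a.1) b = L.delX t χ N j y b.1 := by
  classical
  rw [LData.delX_apply]
  have h1 : ∀ a : L.G (j + 1) t, MvPolynomial.map (χ.comp (C.res a.2).toRingHom)
      (L.δ j a.1 b.1.1) • y a = MvPolynomial.map χ (Δ L j t a b.1) • y a := by
    intro a
    rw [Δ_apply, pm, MvPolynomial.map_map]
  rw [Finset.sum_congr rfl fun a _ => h1 a]
  exact sum_sub (fun a : L.G (j + 1) t => ¬ L.loc (j + 1) a.1 ≤ s)
    (fun a => MvPolynomial.map χ (Δ L j t a b.1) • y a) fun a ha => by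
      rw [Δ_zero' L j (not_not.1 ha) b.2, map_zero, zero_smul]

end Qu

open Groth.Agent.Flat2B.GEx.Htpy Qu in
/-- AL5 (c). The quotient of `L (t) ⊗ N` by `L (s) ⊗ N` is exact on every step of the filtration.
Proof: for `E = N = C t` it follows from `IsResol` at `s` and `t`, flatness of `C s → C t` and
`C t ⊗ C (s ∪ i) = C (t ∪ i)`; the quotient is a bounded below complex of finite free filtered
`C t [y]`-modules, so it has a contracting homotopy given by matrices over `C t [y]` with the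
degree conditions, and this homotopy works for every `N`. -/
theorem LData.exists_of_qcyc {Λ : Type u} [CommRing Λ] {τ ι : Type} [Finite τ] [LinearOrder ι]
    {C : RDiag Λ (NE ι)} (hC : C.Good) {i : ι} {b : τ → C.C (sg i)} {L : LData C τ}
    {ε : ∀ a : L.J 0, C.C (ins i (L.loc 0 a))} (hL : L.IsResol i b ε) {s t : NE ι} (hst : s ≤ t)
    {E : Type u} [CommRing E] (χ : C.C t →+* E) (N : Type u) [AddCommGroup N] [Module E N]
    (j e : ℕ) (x : L.G j t → PM τ N) (hx : ∀ a, PM.Deg (L.w j a.1) e (x a))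
    (hcyc : L.QCyc s t χ N j x) :
    ∃ y : L.G (j + 1) t → PM τ N, (∀ a, PM.Deg (L.w (j + 1) a.1) e (y a)) ∧
      ∀ b : L.G j t, ¬ L.loc j b.1 ≤ s → x b = L.delX t χ N j y b := by
  classical
  obtain ⟨h0, h1⟩ := exists_coeff (QG L s t) (fun j b => L.w j b.1.1) (Δq L s t) (fun j => by
      ext1 a c
      rw [Matrix.zero_apply, Matrix.mul_apply, ← Δ_Δ L j t a.1 c.1]
      exact sum_sub (fun b : L.G (j + 1) t => ¬ L.loc (j + 1) b.1 ≤ s)
        (fun b => Δ L (j + 1) t a.1 b * Δ L j t b c.1) fun b hb => by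
          rw [Δ_zero' L j (not_not.1 hb) c.2, mul_zero])
    (fun j a b => Δ_deg L j t a.1 b.1) (fun e v hv => by
      obtain ⟨y, hy, hy'⟩ := claim_zero L hL hst e (Qu.ext L v) (fun b => by
        by_cases hb : L.loc 0 b.1 ≤ s
        · rw [ext_of_not L v b hb]; exact PD.zero _ _
        · rw [ext_of L v b hb]; exact hv _)
      refine ⟨fun a => y a.1, fun a => hy a.1, funext fun b => ?_⟩
      rw [vecMul_Δq, hy' _ b.2, ext_of L v _ b.2])
    (fun j e v hv hd => by
      obtain ⟨y, hy, hy'⟩ := claim_succ L hC hL hst j e (Qu.ext L v) (fun b => by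
        by_cases hb : L.loc (j + 1) b.1 ≤ s
        · rw [ext_of_not L v b hb]; exact PD.zero _ _
        · rw [ext_of L v b hb]; exact hv _) (fun b hb => by
        rw [← vecMul_Δq (s := s) L j (Qu.ext L v) ⟨b, hb⟩, ext_restr]
        exact congrFun hd ⟨b, hb⟩)
      refine ⟨fun a => y a.1, fun a => hy a.1, funext fun b => ?_⟩
      rw [vecMul_Δq, hy' _ b.2, ext_of L v _ b.2]) χ N
  have key : ∀ (j : ℕ) (x : L.G j t → PM τ N), (∃ y : QG L s t (j + 1) → PM τ N,
      (∀ a, PM.Deg (L.w (j + 1) a.1.1) e (y a)) ∧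
        act χ (Δq L s t j) y = fun b => x b.1) →
      ∃ y : L.G (j + 1) t → PM τ N, (∀ a, PM.Deg (L.w (j + 1) a.1) e (y a)) ∧
        ∀ b : L.G j t, ¬ L.loc j b.1 ≤ s → x b = L.delX t χ N j y b := by
    rintro j x ⟨y, hy, hy'⟩
    refine ⟨Qu.ext L y, fun a => ?_, fun b hb => ?_⟩
    · by_cases ha : L.loc (j + 1) a.1 ≤ s
      · rw [ext_of_not L y a ha]; exact deg_zero _ _
      · rw [ext_of L y a ha]; exact hy _
    · rw [← act_Δq L j χ N (Qu.ext L y) ⟨b, hb⟩, ext_restr, hy']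
  cases j with
  | zero => exact key 0 x (h0 e (fun b => x b.1) fun b => hx b.1)
  | succ j =>
    refine key (j + 1) x (h1 j e (fun b => x b.1) (fun b => hx b.1) (funext fun b => ?_))
    rw [act_Δq L j χ N x b]
    exact hcyc b.1 b.2

end Groth.Agent.Flat2B.GEx
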