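import Groth.Agent.Flat2B.GExReesH
import Mathlib.Algebra.DirectSum.Module

/-!
# S1270 route E, AL5 (p3): flat base change of the Rees homology
-/

set_option autoImplicit false
set_option linter.style.haveILetI false
universe u

open MvPolynomial DirectSum

namespace Groth.Agent.Flat2B.GEx

theorem isBCMap_directSum {R R' : Type u} [CommRing R] [CommRing R'] {φ : R →+* R'}
    {N N' : ℕ → Type u} [∀ e, AddCommGroup (N e)] [∀ e, AddCommGroup (N' e)]
    [∀ e, Module R (N e)] [∀ e, Module R' (N' e)] (f : ∀ e, N e →+ N' e)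
    (h : ∀ e, IsBCMap φ (f e)) : IsBCMap φ (DirectSum.map f) := by
  have s : ∀ (a : R) m, DirectSum.map f (a • m) = φ a • DirectSum.map f m := by
    intro a m
    refine DFinsupp.ext fun e => ?_
    exact (h e).1 a (m e)
  refine ⟨s, ?_⟩
  algebraize [φ]
  letI : ∀ e, Module R (N' e) := fun e => Module.compHom (N' e) φ
  haveI : ∀ e, IsScalarTower R R' (N' e) := fun e => ⟨fun a b c => by
    change (φ a * b) • c = φ a • b • c
    rw [mul_smul]⟩
  exact IsBaseChange.directSum (R := R) (S := R')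
    (ε := fun e => ({ toFun := f e, map_add' := (f e).map_add, map_smul' := (h e).1 } : N e →ₗ[R] N' e))
    fun e => (h e).2

namespace FCx

variable {S S' : Type u} [CommRing S] [CommRing S'] {τ : Type} {T : FCx S τ}
  {φ : S →+* S'} {T' : FCx S' τ}

/-- The map on one step of the filtration. -/
def Map.fe (r : Map φ T T') (j e : ℕ) : T.F j e →+ T'.F j e where
  toFun x := ⟨r.f j x.1, r.f_mem j e _ x.2⟩
  map_zero' := Subtype.ext (map_zero _)
  map_add' _ _ := Subtype.ext (map_add _ _ _)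

variable (T) in
/-- The Rees module. -/
noncomputable def RF (j : ℕ) : Submodule S (T.RX j) where
  carrier := {g | ∀ e, g.cf e ∈ T.F j e}
  add_mem' {_ _} hg hh e := add_mem (hg e) (hh e)
  zero_mem' _ := zero_mem _
  smul_mem' a _ hg e := (T.F j e).smul_mem a (hg e)

lemma mem_RF {j : ℕ} {g : T.RX j} : g ∈ T.RF j ↔ ∀ e, g.cf e ∈ T.F j e := Iff.rfl

variable (T) in
/-- `x ↦ x t^e`. -/
noncomputable def lsingle (j e : ℕ) : T.F j e →ₗ[S] T.RF j where
  toFun x := ⟨RX.single T j e x.1, fun e' => by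
    rw [RX.cf_single]
    split_ifs with h
    · subst h; exact x.2
    · exact zero_mem _⟩
  map_add' x y := Subtype.ext (RX.ext fun e' => by
    change (RX.single T j e (x.1 + y.1)).cf e' = (RX.single T j e x.1).cf e' + (RX.single T j e y.1).cf e'
    rw [RX.cf_single, RX.cf_single, RX.cf_single]
    split_ifs <;> simp)
  map_smul' a x := Subtype.ext (RX.ext fun e' => by
    change (RX.single T j e (a • x.1)).cf e' = a • (RX.single T j e x.1).cf e'
    rw [RX.cf_single, RX.cf_single]
    split_ifs <;> simp)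

variable (T) in
/-- `⨁ F e → RF`. -/
noncomputable def dsMap (j : ℕ) : (⨁ e, T.F j e) →ₗ[S] T.RF j :=
  DirectSum.toModule S ℕ (T.RF j) (T.lsingle j)

lemma dsMap_of (j i : ℕ) (x : T.F j i) :
    T.dsMap j (DirectSum.of (fun e => T.F j e) i x) = T.lsingle j i x := by
  rw [← DirectSum.lof_eq_of S]
  exact DirectSum.toModule_lof S (φ := T.lsingle j) i x

lemma cf_dsMap (j : ℕ) (x : ⨁ e, T.F j e) (e : ℕ) : (T.dsMap j x).1.cf e = (x e : T.X j) := by
  classical
  induction x using DirectSum.induction_on with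
  | zero => rw [map_zero]; rfl
  | of i x =>
    rw [dsMap_of]
    change (RX.single T j i x.1).cf e = _
    rw [RX.cf_single]
    by_cases h : i = e
    · subst h
      rw [if_pos rfl, DirectSum.of_eq_same]
    · rw [if_neg h, DirectSum.of_eq_of_ne _ _ _ (Ne.symm h)]
      rfl
  | add x y hx hy =>
    rw [map_add]
    change (T.dsMap j x).1.cf e + (T.dsMap j y).1.cf e = _
    rw [hx, hy]
    rfl

lemma sum_single (j : ℕ) (s : Finset ℕ) (u : ℕ → T.X j) (e : ℕ) :
    (∑ i ∈ s, RX.single T j i (u i)).cf e = if e ∈ s then u e else 0 := by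
  classical
  induction s using Finset.induction_on with
  | empty => simp
  | insert i s hi ih =>
    rw [Finset.sum_insert hi, RX.cf_add, ih, RX.cf_single]
    by_cases h : i = e
    · subst h
      simp [hi]
    · by_cases h' : e ∈ s
      · simp [h, h']
      · simp [h, h', Ne.symm h]

lemma exists_RX {j : ℕ} (s : Finset ℕ) (u : ℕ → T.X j) :
    ∃ g : T.RX j, ∀ e, g.cf e = if e ∈ s then u e else 0 :=
  ⟨_, sum_single j s u⟩

lemma cf_eq_zero_of_notMem {j : ℕ} (g : T.RX j) {e : ℕ} (he : e ∉ g.pm.coeff.support) :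
    g.cf e = 0 := Finsupp.notMem_support_iff.1 he

lemma dsMap_bijective (j : ℕ) : Function.Bijective (T.dsMap j) := by
  classical
  constructor
  · intro x y h
    refine DFinsupp.ext fun e => Subtype.ext ?_
    rw [← cf_dsMap, ← cf_dsMap, h]
  · intro g
    refine ⟨∑ e ∈ g.1.pm.coeff.support, DirectSum.of (fun e => T.F j e) e ⟨g.1.cf e, g.2 e⟩, ?_⟩
    rw [map_sum]
    rw [Finset.sum_congr rfl fun e _ => dsMap_of j e ⟨g.1.cf e, g.2 e⟩]
    refine Subtype.ext (RX.ext fun e => ?_)
    rw [AddSubmonoidClass.coe_finsetSum]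
    change (∑ i ∈ g.1.pm.coeff.support, RX.single T j i (g.1.cf i)).cf e = _
    rw [sum_single]
    split_ifs with h
    · rfl
    · exact (cf_eq_zero_of_notMem g.1 h).symm

/-- The map on Rees modules. -/
noncomputable def Map.rf (r : Map φ T T') (j : ℕ) : T.RF j →+ T'.RF j where
  toFun g := ⟨r.rx j g.1, fun e => r.f_mem j e _ (g.2 e)⟩
  map_zero' := Subtype.ext (map_zero _)
  map_add' _ _ := Subtype.ext (map_add _ _ _)

theorem isBCMap_rf (r : Map φ T T') (j : ℕ) (h : ∀ e, IsBCMap φ (r.fe j e)) :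
    IsBCMap φ (r.rf j) := by
  refine IsBCMap.of_equiv (isBCMap_directSum (fun e => r.fe j e) h)
    (LinearEquiv.ofBijective (T.dsMap j) (dsMap_bijective j)).symm
    (LinearEquiv.ofBijective (T'.dsMap j) (dsMap_bijective j)).symm (r.rf j) ?_
  intro x
  rw [LinearEquiv.symm_apply_eq]
  obtain ⟨y, rfl⟩ := (LinearEquiv.ofBijective (T.dsMap j) (dsMap_bijective j)).surjective x
  rw [LinearEquiv.symm_apply_apply]
  refine Subtype.ext (RX.ext fun e => ?_)
  rw [LinearEquiv.ofBijective_apply, LinearEquiv.ofBijective_apply, cf_dsMap]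
  change r.f j ((T.dsMap j y).1.cf e) = _
  rw [cf_dsMap]
  rfl

variable (T) in
/-- The differential on Rees modules. -/
noncomputable def dRF (j : ℕ) : T.RF (j + 1) →ₗ[S] T.RF j where
  toFun g := ⟨PolynomialModule.ofCoeff _ (g.1.pm.coeff.mapRange (T.d j) (map_zero _)),
    fun e => T.d_mem j e _ (g.2 e)⟩
  map_add' g h := Subtype.ext (RX.ext fun e => by
    change T.d j (g.1.cf e + h.1.cf e) = _
    exact map_add _ _ _)
  map_smul' a g := Subtype.ext (RX.ext fun e => by
    change T.d j (a • g.1.cf e) = a • T.d j (g.1.cf e)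
    rw [← algebraMap_smul (MvPolynomial τ S) a (g.1.cf e), map_smul, algebraMap_smul])

lemma cf_dRF (j : ℕ) (g : T.RF (j + 1)) (e : ℕ) : (T.dRF j g).1.cf e = T.d j (g.1.cf e) := rfl

variable (T) in
/-- Rees cycles in the Rees module. -/
noncomputable def iZ (j : ℕ) : T.ZR j →ₗ[S] T.RF j where
  toFun g := ⟨g.1, fun e => (g.2 e).1⟩
  map_add' _ _ := rfl
  map_smul' _ _ := rfl

lemma iZ_injective (j : ℕ) : Function.Injective (T.iZ j) := fun _ _ h =>
  Subtype.ext (congrArg (fun z => z.1) h)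

/-- Restricted semilinear map on cycles. -/
theorem isBCMap_zr (hφ : φ.Flat) (r : Map φ T T') (j : ℕ) (h : ∀ j e, IsBCMap φ (r.fe j e)) :
    IsBCMap φ ((r.zr j).toAddMonoidHom : T.ZR j →+ T'.ZR j) := by
  cases j with
  | zero =>
    have hb : ∀ {S : Type u} [CommRing S] (T : FCx S τ), Function.Bijective (T.iZ 0) := fun T =>
      ⟨iZ_injective 0, fun g => ⟨⟨g.1, fun e => ⟨g.2 e, trivial⟩⟩, rfl⟩⟩
    exact IsBCMap.of_equiv (isBCMap_rf r 0 (h 0)) (LinearEquiv.ofBijective (T.iZ 0) (hb T))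
      (LinearEquiv.ofBijective (T'.iZ 0) (hb T')) _ fun x => rfl
  | succ j =>
    have hex : ∀ {S : Type u} [CommRing S] (T : FCx S τ),
        Function.Exact (T.iZ (j + 1)) (T.dRF j) := by
      intro S _ T g
      constructor
      · intro hg
        refine ⟨⟨g.1, fun e => ⟨g.2 e, ?_⟩⟩, rfl⟩
        change T.d j (g.1.cf e) = 0
        rw [← cf_dRF, hg]
        rfl
      · rintro ⟨z, rfl⟩
        refine Subtype.ext (RX.ext fun e => ?_)
        exact (z.2 e).2
    exact IsBCMap.left_exact hφ (isBCMap_rf r (j + 1) (h (j + 1))) (isBCMap_rf r j (h j))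
      (T.iZ (j + 1)) (T.dRF j) (iZ_injective _) (hex T) (T'.iZ (j + 1)) (T'.dRF j)
      (iZ_injective _) (hex T') _ (fun x => rfl) (fun x => Subtype.ext (RX.ext fun e =>
        (r.f_d j _)))

variable (T) in
/-- Boundaries. -/
noncomputable def iB (j : ℕ) : T.RF (j + 1) →ₗ[S] T.ZR j where
  toFun g := ⟨(T.dRF j g).1, fun e => ⟨(T.dRF j g).2 e, by
    rw [mem_cyc]
    cases j with
    | zero => trivial
    | succ j => exact T.d_d j _⟩⟩
  map_add' g h := Subtype.ext (RX.ext fun e =>
    congrArg (fun z : T.RF j => z.1.cf e) (map_add (T.dRF j) g h))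
  map_smul' a g := Subtype.ext (RX.ext fun e =>
    congrArg (fun z : T.RF j => z.1.cf e) (map_smul (T.dRF j) a g))

variable (T) in
lemma exact_iB (j : ℕ) : Function.Exact (T.iB j) ((T.hm j).restrictScalars S) := by
  classical
  intro g
  rw [LinearMap.restrictScalars_apply, hm_eq_zero]
  constructor
  · intro hg
    choose u hu hu' using hg
    obtain ⟨v, hv⟩ := exists_RX g.1.pm.coeff.support u
    refine ⟨⟨v, fun e => ?_⟩, Subtype.ext (RX.ext fun e => ?_)⟩
    · rw [hv]
      split_ifs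
      · exact hu e
      · exact zero_mem _
    · change T.d j (v.cf e) = g.1.cf e
      rw [hv]
      split_ifs with h
      · exact hu' e
      · rw [map_zero]
        exact (cf_eq_zero_of_notMem g.1 h).symm
  · rintro ⟨v, rfl⟩ e
    exact ⟨v.1.cf e, v.2 e, rfl⟩

/-- **Flat base change of the Rees homology.** -/
theorem isBCMap_hr (hφ : φ.Flat) (r : Map φ T T') (j : ℕ) (h : ∀ j e, IsBCMap φ (r.fe j e)) :
    IsBCMap (MvPolynomial.map (σ := Option τ) φ) (r.hr j).toAddMonoidHom := by
  have h1 : IsBCMap φ (r.hr j).toAddMonoidHom :=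
    IsBCMap.right_exact (isBCMap_rf r (j + 1) (h (j + 1))) (isBCMap_zr hφ r j h)
      (T.iB j) ((T.hm j).restrictScalars S) (hm_surjective j) (T.exact_iB j)
      (T'.iB j) ((T'.hm j).restrictScalars S') (hm_surjective j) (T'.exact_iB j) _
      (fun x => Subtype.ext (RX.ext fun e => r.f_d j _)) (fun x => rfl)
  exact IsBCMap.mvPolynomial h1 fun p m => map_smulₛₗ (r.hr j) p m

end FCx

end Groth.Agent.Flat2B.GEx
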