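import Groth.Agent.Flat2B.GExHDiag
import Groth.Agent.Flat2B.GExReesBC
import Groth.Agent.Flat2B.GExQuot
import Groth.Agent.Flat2B.GExDegBC

/-!
# S1270 route E, AL5 (p3): the diagram of Rees homology modules is cartesian
-/

set_option autoImplicit false
universe u

open Finset MvPolynomial

namespace Groth.Agent.Flat2B.GEx

namespace FCx

variable {S S' : Type u} [CommRing S] [CommRing S'] {τ : Type} {T : FCx S τ}
  {φ : S →+* S'} {T' : FCx S' τ}

/-- A filtered quasi-isomorphism induces a bijection on Rees homology. -/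
theorem hr_bijective (r : Map φ T T') (j : ℕ)
    (hinj : ∀ e, ∀ x ∈ T.F j e, T.IsCyc j x → (∃ u ∈ T'.F (j + 1) e, T'.d j u = r.f j x) →
      ∃ u ∈ T.F (j + 1) e, T.d j u = x)
    (hsurj : ∀ e, ∀ y ∈ T'.F j e, T'.IsCyc j y → ∃ x ∈ T.F j e, T.IsCyc j x ∧
      ∃ u ∈ T'.F (j + 1) e, T'.d j u = r.f j x - y) :
    Function.Bijective (r.hr j) := by
  classical
  constructor
  · rw [injective_iff_map_eq_zero]
    intro x hx
    obtain ⟨g, rfl⟩ := hm_surjective j x
    rw [Map.hr_hm, hm_eq_zero] at hx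
    rw [hm_eq_zero]
    intro e
    exact hinj e _ (g.2 e).1 (T.mem_cyc.1 (g.2 e).2) (hx e)
  · intro y
    obtain ⟨g, rfl⟩ := hm_surjective j y
    choose x hx hxc u hu hu' using fun e => hsurj e _ (g.2 e).1 (T'.mem_cyc.1 (g.2 e).2)
    obtain ⟨v, hv⟩ := exists_RX g.1.pm.coeff.support x
    refine ⟨T.hm j ⟨v, fun e => ?_⟩, ?_⟩
    · rw [hv]
      split_ifs
      · exact ⟨hx e, T.mem_cyc.2 (hxc e)⟩
      · exact ⟨zero_mem _, zero_mem _⟩
    · rw [Map.hr_hm, ← sub_eq_zero, ← map_sub, hm_eq_zero]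
      intro e
      change ∃ u ∈ T'.F (j + 1) e, T'.d j u = r.f j (v.cf e) - g.1.cf e
      rw [hv]
      split_ifs with h
      · exact ⟨u e, hu e, hu' e⟩
      · refine ⟨0, zero_mem _, ?_⟩
        rw [map_zero, map_zero, cf_eq_zero_of_notMem g.1 h, sub_zero]

end FCx

section Cart

variable {Λ : Type u} [CommRing Λ] {τ ι : Type} [LinearOrder ι] {C : RDiag Λ (NE ι)}

/-- A vector supported on the generators of `L (s)` is an extension by zero. -/
lemma exists_fibF_eq (L : LData C τ) {s t : NE ι} (hst : s ≤ t) {N : Type u} [AddCommGroup N] (j e : ℕ)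
    (f : N →+ N) (hf : ∀ n, f n = n)
    (y : L.G j t → PM τ N) (hy : ∀ b, PM.Deg (L.w j b.1) e (y b))
    (h0 : ∀ b : L.G j t, ¬ L.loc j b.1 ≤ s → y b = 0) :
    ∃ x : L.G j s → PM τ N, (∀ b, PM.Deg (L.w j b.1) e (x b)) ∧ L.fibF f j x = y := by
  refine ⟨fun b => y ⟨b.1, b.2.trans hst⟩, fun b => hy _, funext fun b => ?_⟩
  by_cases hb : L.loc j b.1 ≤ s
  · rw [LData.fibF_of _ _ _ _ _ hb]
    ext μ
    rw [PM.coeff_map, hf]
  · rw [LData.fibF_of_not _ _ _ _ _ hb, h0 b hb]

lemma fibF_injective (L : LData C τ) {s t : NE ι} (hst : s ≤ t) {N : Type u} [AddCommGroup N] (j : ℕ)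
    (f : N →+ N) (hf : ∀ n, f n = n) : Function.Injective (L.fibF (s := s) (t := t) f j) := by
  intro x y h
  funext b
  have h1 := congrFun h ⟨b.1, b.2.trans hst⟩
  rw [LData.fibF_of _ _ _ _ ⟨b.1, b.2.trans hst⟩ b.2, LData.fibF_of _ _ _ _ ⟨b.1, b.2.trans hst⟩ b.2] at h1
  ext μ
  have h2 := congrArg (PM.coeff μ) h1
  rw [PM.coeff_map, PM.coeff_map, hf, hf] at h2
  exact h2

/-- `L (s) ⊗ N → L (t) ⊗ N` is bijective on Rees homology. -/
theorem hr_fibMap_bijective [Finite τ] (hC : C.Good) {i : ι} {b : τ → C.C (sg i)} {L : LData C τ}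
    {ε : ∀ a : L.J 0, C.C (ins i (L.loc 0 a))} (hL : L.IsResol i b ε) {s t : NE ι} (hst : s ≤ t)
    {E : Type u} [CommRing E] (χ : C.C s →+* E) (χ' : C.C t →+* E)
    (hχ : ∀ x, χ' (C.res hst x) = RingHom.id E (χ x)) (N : Type u) [AddCommGroup N] [Module E N]
    (j : ℕ) :
    Function.Bijective ((L.fibMap hst χ χ' (RingHom.id E) hχ (AddMonoidHom.id N)
      (fun _ _ => rfl)).hr j) := by
  have hinj : ∀ j, Function.Injective (L.fibF (s := s) (t := t) (AddMonoidHom.id N) j) := fun j =>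
    fibF_injective L hst j _ fun _ => rfl
  have hd : ∀ (j : ℕ) (v : L.G (j + 1) s → PM τ N),
      L.fibF (t := t) (AddMonoidHom.id N) j (L.delX s χ N j v) =
        L.delX t χ' N j (L.fibF (AddMonoidHom.id N) (j + 1) v) := fun j v =>
    L.fibF_del (AddMonoidHom.id N) j hst χ χ' (RingHom.id E) hχ (fun _ _ => rfl) v
  refine FCx.hr_bijective _ j ?_ ?_
  · rintro e x hx hxc ⟨u, hu, hu'⟩
    change L.G (j + 1) t → PM τ N at u
    change L.delX t χ' N j u = L.fibF (AddMonoidHom.id N) j x at hu'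
    obtain ⟨v, hv, hv'⟩ := L.exists_of_qcyc hC hL hst χ' N (j + 1) e u hu (fun b hb => by
      rw [hu']
      exact LData.fibF_of_not _ _ _ _ _ hb)
    obtain ⟨w, hw, hw'⟩ := exists_fibF_eq L hst (j + 1) e (AddMonoidHom.id N) (fun _ => rfl)
      (u - L.delX t χ' N (j + 1) v)
      (fun b => (sub_mem (S := Submodule E (L.G (j + 1) t → PM τ N))
        (hu : u ∈ (L.fib t χ' N).F (j + 1) e)
        ((L.fib t χ' N).d_mem (j + 1) e v hv)) b)
      (fun b hb => by
        rw [Pi.sub_apply, hv' b hb, sub_self])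
    refine ⟨w, hw, ?_⟩
    apply hinj j
    refine (hd j w).trans ?_
    rw [hw', map_sub, LData.delX_delX, sub_zero, hu']
  · intro e y hy hyc
    change L.G j t → PM τ N at y
    have hq : L.QCyc s t χ' N j y := by
      cases j with
      | zero => trivial
      | succ j =>
        intro b _
        exact congrFun hyc b
    obtain ⟨u, hu, hu'⟩ := L.exists_of_qcyc hC hL hst χ' N j e y hy hq
    obtain ⟨x, hx, hx'⟩ := exists_fibF_eq L hst j e (AddMonoidHom.id N) (fun _ => rfl)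
      (y - L.delX t χ' N j u)
      (fun b => (sub_mem (S := Submodule E (L.G j t → PM τ N))
        (hy : y ∈ (L.fib t χ' N).F j e)
        ((L.fib t χ' N).d_mem j e u hu)) b)
      (fun b hb => by
        rw [Pi.sub_apply, hu' b hb, sub_self])
    refine ⟨x, hx, ?_, -u, ((L.fib t χ' N).F (j + 1) e).neg_mem hu, ?_⟩
    · cases j with
      | zero => trivial
      | succ j =>
        change L.delX s χ N j x = 0
        apply hinj j
        rw [hd j x, hx', map_sub, LData.delX_delX, sub_zero, map_zero]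
        exact hyc
    · change L.delX t χ' N j (-u) = L.fibF (AddMonoidHom.id N) j x - y
      rw [hx', map_neg]
      abel

/-- AL5 (p3). The diagram of Rees homology modules is cartesian. -/
theorem isCart_hDiag [Finite τ] (hC : C.Good) {i : ι} {b : τ → C.C (sg i)} {L : LData C τ}
    {ε : ∀ a : L.J 0, C.C (ins i (L.loc 0 a))} (hL : L.IsResol i b ε)
    {B : Type u} [CommRing B] {ψ : Λ →+* B} {D : RDiag B (NE ι)}
    {i₀ : RDiag.Hom ψ C D} (hflat : ∀ {s t : NE ι} (h : s ≤ t), (D.res h).toRingHom.Flat)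
    (M : MDiag D) (hcart : M.IsCart) (j : ℕ) : (hDiag L i₀ M j).IsCart := by
  intro s t h
  -- the two steps
  let r₁ : FCx.Map (D.res h).toRingHom (fibAt L i₀ M s)
      (L.fib s ((D.res h).toRingHom.comp (i₀.f s)) (M.M t)) :=
    L.fibMap le_rfl (i₀.f s) ((D.res h).toRingHom.comp (i₀.f s)) (D.res h).toRingHom
      (fun x => by rw [C.res_self]; rfl) (M.res h) (M.res_smul h)
  let r₂ : FCx.Map (RingHom.id (D.C t)) (L.fib s ((D.res h).toRingHom.comp (i₀.f s)) (M.M t))
      (fibAt L i₀ M t) :=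
    L.fibMap h ((D.res h).toRingHom.comp (i₀.f s)) (i₀.f t) (RingHom.id (D.C t))
      (fun x => i₀.f_res h x) (AddMonoidHom.id _) (fun _ _ => rfl)
  have h₁ : IsBCMap (MvPolynomial.map (σ := Option τ) (D.res h).toRingHom)
      (r₁.hr j).toAddMonoidHom := FCx.isBCMap_hr (hflat h) r₁ j fun j e =>
    L.fibMap_isBCMap le_rfl (i₀.f s) ((D.res h).toRingHom.comp (i₀.f s)) (D.res h).toRingHom
      (fun x => by rw [C.res_self]; rfl) (M.res h) (M.res_smul h) (hcart h) j e
  have h₂ : Function.Bijective (r₂.hr j) := hr_fibMap_bijective hC hL h _ _ _ _ j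
  let g : (L.fib s ((D.res h).toRingHom.comp (i₀.f s)) (M.M t)).HR j
      →ₗ[MvPolynomial (Option τ) (D.C t)] (fibAt L i₀ M t).HR j :=
    { toFun := r₂.hr j
      map_add' := map_add (r₂.hr j)
      map_smul' := fun p x => by
        rw [map_smulₛₗ, MvPolynomial.map_id]
        rfl }
  refine IsBCMap.comp_bijective (R := MvPolynomial (Option τ) (D.C s))
    (R' := MvPolynomial (Option τ) (D.C t)) (M₁ := (fibAt L i₀ M s).HR j)
    (N₂ := (fibAt L i₀ M t).HR j) h₁ g h₂ ((fibTr L i₀ M h).hr j).toAddMonoidHom ?_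
  intro x
  obtain ⟨y, rfl⟩ := FCx.hm_surjective j x
  refine congrArg ((fibAt L i₀ M t).hm j) (Subtype.ext (FCx.RX.ext fun e => ?_))
  change L.fibF (M.res h) j (y.1.cf e) =
    L.fibF (AddMonoidHom.id _) j (L.fibF (M.res h) j (y.1.cf e))
  exact (LData.fibF_fibF L (AddMonoidHom.id _) j le_rfl (M.res h) (y.1.cf e)).symm

end Cart

end Groth.Agent.Flat2B.GEx
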