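import Groth.Agent.Flat2B.GExHDiag

/-!
# S1270 route E, AL5 (a2): from Cech finiteness of the diagram of Rees homology modules to the
elementwise filtered statement `FG1`
-/

set_option autoImplicit false
universe u

open Finset MvPolynomial Groth.Agent.Ega3B.Cube

namespace Groth.Agent.Flat2B.GEx

namespace FCx

variable {S : Type u} [CommRing S] {τ : Type} (T : FCx S τ)

/-- Cycles in a step of the filtration. -/
noncomputable def FZ (j e : ℕ) : AddSubgroup (T.X j) := (T.F j e).toAddSubgroup ⊓ (T.cyc j).toAddSubgroup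

lemma mem_FZ {j e : ℕ} {x : T.X j} : x ∈ T.FZ j e ↔ x ∈ T.F j e ∧ T.IsCyc j x :=
  and_congr Iff.rfl T.mem_cyc

lemma cf_eq_zero_of_notMem' {j : ℕ} (g : T.RX j) {e : ℕ} (he : e ∉ g.pm.coeff.support) :
    g.cf e = 0 := Finsupp.notMem_support_iff.1 he

/-- The class in degree `e` of a cycle. -/
noncomputable def cls (j e : ℕ) : T.FZ j e →+ T.HR j where
  toFun x := T.hm j ⟨RX.single T j e x.1, single_mem_ZR (T.mem_FZ.1 x.2).1 (T.mem_FZ.1 x.2).2⟩
  map_zero' := by
    rw [← map_zero (T.hm j)]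
    congr 1
    refine Subtype.ext (RX.ext fun e' => ?_)
    change (RX.single T j e 0).cf e' = 0
    rw [RX.cf_single]
    split_ifs <;> rfl
  map_add' x y := by
    rw [← map_add]
    congr 1
    refine Subtype.ext (RX.ext fun e' => ?_)
    change (RX.single T j e (x.1 + y.1)).cf e' = (RX.single T j e x.1).cf e' + (RX.single T j e y.1).cf e'
    rw [RX.cf_single, RX.cf_single, RX.cf_single]
    split_ifs <;> simp

variable {T}

lemma cls_eq_zero {j e : ℕ} {x : T.X j} (hx : x ∈ T.FZ j e) (h : ∃ u ∈ T.F (j + 1) e, T.d j u = x) :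
    T.cls j e ⟨x, hx⟩ = 0 := by
  refine hm_eq_zero.2 fun e' => ?_
  change ∃ u ∈ T.F (j + 1) e', T.d j u = (RX.single T j e x).cf e'
  rw [RX.cf_single]
  split_ifs with h'
  · subst h'
    exact h
  · exact ⟨0, zero_mem _, map_zero _⟩

lemma Map.f_mem_FZ {S' : Type u} [CommRing S'] {φ : S →+* S'} {T' : FCx S' τ} (r : Map φ T T')
    {j e : ℕ} {x : T.X j} (hx : x ∈ T.FZ j e) : r.f j x ∈ T'.FZ j e :=
  ⟨r.f_mem j e x hx.1, r.cyc hx.2⟩

lemma Map.hr_cls {S' : Type u} [CommRing S'] {φ : S →+* S'} {T' : FCx S' τ} (r : Map φ T T')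
    {j e : ℕ} {x : T.X j} (hx : x ∈ T.FZ j e) :
    r.hr j (T.cls j e ⟨x, hx⟩) = T'.cls j e ⟨r.f j x, r.f_mem_FZ hx⟩ := by
  refine (Map.hr_hm _ _).trans (congrArg (T'.hm j) (Subtype.ext (RX.ext fun e' => ?_)))
  change r.f j ((RX.single T j e x).cf e') = (RX.single T' j e (r.f j x)).cf e'
  rw [RX.cf_single, RX.cf_single]
  split_ifs
  · rfl
  · exact map_zero _

/-- `v` is the `e`-th component of a cycle representing `x`. -/
def Rep (e : ℕ) {j : ℕ} (x : T.HR j) (v : T.X j) : Prop := ∃ g : T.ZR j, T.hm j g = x ∧ g.1.cf e = v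

namespace Rep

variable {j e : ℕ} {x y : T.HR j} {v w : T.X j}

lemma zero : T.Rep e (0 : T.HR j) 0 := ⟨0, map_zero _, rfl⟩

lemma add (h : T.Rep e x v) (h' : T.Rep e y w) : T.Rep e (x + y) (v + w) := by
  obtain ⟨g, rfl, rfl⟩ := h
  obtain ⟨g', rfl, rfl⟩ := h'
  exact ⟨g + g', map_add _ _ _, rfl⟩

lemma sub (h : T.Rep e x v) (h' : T.Rep e y w) : T.Rep e (x - y) (v - w) := by
  obtain ⟨g, rfl, rfl⟩ := h
  obtain ⟨g', rfl, rfl⟩ := h'
  exact ⟨g - g', map_sub _ _ _, rfl⟩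

lemma zsmul (h : T.Rep e x v) (n : ℤ) : T.Rep e (n • x) (n • v) := by
  obtain ⟨g, rfl, rfl⟩ := h
  refine ⟨n • g, map_zsmul _ _ _, ?_⟩
  exact map_zsmul (AddMonoidHom.mk' (fun g : T.RX j => g.cf e) fun _ _ => rfl) n g.1

lemma sum {κ : Type*} (s : Finset κ) {x : κ → T.HR j} {v : κ → T.X j}
    (h : ∀ i ∈ s, T.Rep e (x i) (v i)) : T.Rep e (∑ i ∈ s, x i) (∑ i ∈ s, v i) := by
  classical
  induction s using Finset.induction_on with
  | empty => exact zero
  | insert i s hi ih =>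
    rw [Finset.sum_insert hi, Finset.sum_insert hi]
    exact (h i (Finset.mem_insert_self _ _)).add (ih fun i' hi' => h i' (Finset.mem_insert_of_mem hi'))

lemma exists_of_zero (h : T.Rep e (0 : T.HR j) v) : ∃ u ∈ T.F (j + 1) e, T.d j u = v := by
  obtain ⟨g, hg, rfl⟩ := h
  exact hm_eq_zero.1 hg e

lemma map {S' : Type u} [CommRing S'] {φ : S →+* S'} {T' : FCx S' τ} (r : Map φ T T')
    (h : T.Rep e x v) : T'.Rep e (r.hr j x) (r.f j v) := by
  obtain ⟨g, rfl, rfl⟩ := h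
  exact ⟨r.zr j g, (Map.hr_hm _ _).symm, rfl⟩

end Rep

end FCx

section

variable {Λ : Type u} [CommRing Λ] {τ ι : Type} [LinearOrder ι]
  {C : RDiag Λ (NE ι)} (L : LData C τ) {B : Type u} [CommRing B] {ψ : Λ →+* B}
  {D : RDiag B (NE ι)} (i₀ : RDiag.Hom ψ C D) (M : MDiag D) (j : ℕ)

lemma vcyc_iff (s : NE ι) (x : (fibAt L i₀ M s).X j) :
    (fibAt L i₀ M s).IsCyc j x ↔ ((L.map i₀).tensor M).VCyc j s x := by
  cases j with
  | zero => exact Iff.rfl
  | succ j =>
    change (fibAt L i₀ M s).d j x = 0 ↔ (L.map i₀).del M j s x = 0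
    rw [fibAt_d]
    exact Iff.rfl

lemma mem_FZ_iff (s : NE ι) (e : ℕ) (x : (fibAt L i₀ M s).X j) :
    x ∈ (fibAt L i₀ M s).FZ j e ↔ x ∈ ((L.map i₀).tensor M).F j s e ∧
      ((L.map i₀).tensor M).VCyc j s x := by
  rw [FCx.mem_FZ, vcyc_iff]
  exact Iff.rfl

variable [Fintype ι]

lemma colev_mem {k e : ℕ} (x : ((L.map i₀).tensor M).Col j k)
    (hx : ∀ s, x s ∈ (fibAt L i₀ M s.1).FZ j e) (s : NE ι) (t : Finset ι) :
    FCD.colev x s t ∈ (fibAt L i₀ M s).FZ j e := by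
  unfold FCD.colev
  split_ifs with h
  · have h2 := (fibTr L i₀ M (show (⟨t, h.1⟩ : NE ι) ≤ s from h.2.1)).f_mem_FZ (hx ⟨⟨t, h.1⟩, h.2.2⟩)
    have h3 := fibTr_f' L i₀ M (show (⟨t, h.1⟩ : NE ι) ≤ s from h.2.1) j (x ⟨⟨t, h.1⟩, h.2.2⟩)
    exact (congrArg (fun z => z ∈ (fibAt L i₀ M s).FZ j e) h3).mp h2
  · exact zero_mem _

/-- Restriction of classes. -/
lemma cev_cls {k e : ℕ} (x : ((L.map i₀).tensor M).Col j k)
    (hx : ∀ s, x s ∈ (fibAt L i₀ M s.1).FZ j e) (s : NE ι) (t : Finset ι) :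
    MDiag.cev (M := hDiag L i₀ M j) (fun s => (fibAt L i₀ M s.1).cls j e ⟨x s, hx s⟩) s t =
      (fibAt L i₀ M s).cls j e ⟨FCD.colev x s t, colev_mem L i₀ M j x hx s t⟩ := by
  by_cases h : t.Nonempty ∧ t ⊆ s.1 ∧ t.card + k = Fintype.card ι
  · have h1 : FCD.colev x s t = (fibTr L i₀ M (show (⟨t, h.1⟩ : NE ι) ≤ s from h.2.1)).f j
        (x ⟨⟨t, h.1⟩, h.2.2⟩) :=
      Eq.trans (dif_pos h) (fibTr_f' L i₀ M _ j (x ⟨⟨t, h.1⟩, h.2.2⟩)).symm
    refine (dif_pos h).trans ?_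
    refine ((fibTr L i₀ M (show (⟨t, h.1⟩ : NE ι) ≤ s from h.2.1)).hr_cls
      (hx ⟨⟨t, h.1⟩, h.2.2⟩)).trans ?_
    congr 1
    exact Subtype.ext h1.symm
  · have h1 : FCD.colev x s t = 0 := dif_neg h
    refine (dif_neg h).trans ?_
    refine (map_zero ((fibAt L i₀ M s).cls j e)).symm.trans ?_
    congr 1
    exact Subtype.ext h1.symm

lemma colD_mem {k e : ℕ} (x : ((L.map i₀).tensor M).Col j (k + 1))
    (hx : ∀ s, x s ∈ (fibAt L i₀ M s.1).FZ j e)
    (s : {s : NE ι // s.1.card + k = Fintype.card ι}) :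
    FCD.colD x s ∈ (fibAt L i₀ M s.1).FZ j e :=
  AddSubgroup.sum_mem _ fun _ _ => AddSubgroup.zsmul_mem _ (colev_mem L i₀ M j x hx _ _) _

lemma cd_cls {k e : ℕ} (x : ((L.map i₀).tensor M).Col j (k + 1))
    (hx : ∀ s, x s ∈ (fibAt L i₀ M s.1).FZ j e)
    (s : {s : NE ι // s.1.card + k = Fintype.card ι}) :
    (hDiag L i₀ M j).cd k (fun s => (fibAt L i₀ M s.1).cls j e ⟨x s, hx s⟩) s =
      (fibAt L i₀ M s.1).cls j e ⟨FCD.colD x s, colD_mem L i₀ M j x hx s⟩ := by
  have h1 : (⟨FCD.colD x s, colD_mem L i₀ M j x hx s⟩ : (fibAt L i₀ M s.1).FZ j e) =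
      ∑ i ∈ s.1.1, sgn i s.1.1 • ⟨FCD.colev x s.1 (s.1.1.erase i),
        colev_mem L i₀ M j x hx s.1 (s.1.1.erase i)⟩ := by
    apply Subtype.ext
    rw [AddSubgroup.val_finsetSum]
    rfl
  rw [h1, map_sum]
  refine Finset.sum_congr rfl fun i _ => ?_
  rw [map_zsmul]
  congr 1
  exact cev_cls L i₀ M j x hx _ _

omit [Fintype ι] in
variable {L i₀ M j} in
/-- The `e`-th coefficient of a multiple, with coefficients from the base. -/
lemma cf_map_smul {s : NE ι} (P : MvPolynomial (Option τ) B) (g : (fibAt L i₀ M s).RX j) (E e : ℕ)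
    (hE : ∀ b, E ≤ b → g.cf b = 0) :
    ((MvPolynomial.map (algebraMap B (D.C s)) P : MvPolynomial (Option τ) (D.C s)) • g).cf e =
      ∑ b : Fin E, (if b.1 ≤ e then (θ B τ P).coeff (e - b.1) else 0 : MvPolynomial τ B) •
        (show ((L.map i₀).tensor M).E j s from g.cf b.1) := by
  classical
  let F : ℕ → (fibAt L i₀ M s).X j := fun b =>
    if b ≤ e then (θ (D.C s) τ (MvPolynomial.map (algebraMap B (D.C s)) P)).coeff (e - b) • g.cf b
    else 0
  have h0 : ∀ b, g.cf b = 0 → F b = 0 := by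
    intro b hb
    simp only [F, hb, smul_zero, ite_self]
  have h1 : ((MvPolynomial.map (algebraMap B (D.C s)) P : MvPolynomial (Option τ) (D.C s)) • g).cf e =
      ∑ b ∈ g.pm.coeff.support, F b := FCx.RX.cf_smul _ _ _
  have h2 : ∑ b ∈ g.pm.coeff.support, F b = ∑ b ∈ Finset.range E, F b := by
    refine Finset.sum_subset ?_ ?_
    · intro b hb
      rw [Finset.mem_range]
      by_contra h
      exact (Finsupp.mem_support_iff.1 hb) (hE b (not_lt.1 h))
    · intro b _ hb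
      exact h0 b (FCx.cf_eq_zero_of_notMem' _ g hb)
  rw [h1, h2, Finset.sum_range]
  refine Finset.sum_congr rfl fun b _ => ?_
  simp only [F]
  split_ifs with h
  · rw [θ_map, Polynomial.coeff_map]
    refine funext fun a => ?_
    exact PM.map_algebraMap_smul (R := D.C s) _ _
  · exact (zero_smul (MvPolynomial τ B) (show ((L.map i₀).tensor M).E j s from g.cf b.1)).symm

/-- Representatives. -/
def RepAt (s : NE ι) (e : ℕ) (x : (hDiag L i₀ M j).M s) (v : ((L.map i₀).tensor M).E j s) : Prop :=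
  FCx.Rep (T := fibAt L i₀ M s) (j := j) e x v

variable {L i₀ M j}

lemma cev_rep {k e : ℕ} (Y : (hDiag L i₀ M j).HK k) (v : ((L.map i₀).tensor M).Col j k)
    (h : ∀ s, RepAt L i₀ M j s.1 e (Y s) (v s)) (s : NE ι) (t : Finset ι) :
    RepAt L i₀ M j s e (MDiag.cev Y s t) (FCD.colev v s t) := by
  by_cases ht : t.Nonempty ∧ t ⊆ s.1 ∧ t.card + k = Fintype.card ι
  · have h1 : FCD.colev v s t = (fibTr L i₀ M (show (⟨t, ht.1⟩ : NE ι) ≤ s from ht.2.1)).f j
        (v ⟨⟨t, ht.1⟩, ht.2.2⟩) :=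
      Eq.trans (dif_pos ht) (fibTr_f' L i₀ M _ j (v ⟨⟨t, ht.1⟩, ht.2.2⟩)).symm
    have h2 : MDiag.cev Y s t = (fibTr L i₀ M (show (⟨t, ht.1⟩ : NE ι) ≤ s from ht.2.1)).hr j
        (Y ⟨⟨t, ht.1⟩, ht.2.2⟩) := dif_pos ht
    have h3 := FCx.Rep.map (fibTr L i₀ M (show (⟨t, ht.1⟩ : NE ι) ≤ s from ht.2.1))
      (h ⟨⟨t, ht.1⟩, ht.2.2⟩)
    exact (congrArg₂ (fun a b => RepAt L i₀ M j s e a b) h2 h1).mpr h3
  · have h1 : FCD.colev v s t = 0 := dif_neg ht
    have h2 : MDiag.cev Y s t = 0 := dif_neg ht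
    exact (congrArg₂ (fun a b => RepAt L i₀ M j s e a b) h2 h1).mpr FCx.Rep.zero

lemma cd_rep {k e : ℕ} (Y : (hDiag L i₀ M j).HK (k + 1)) (v : ((L.map i₀).tensor M).Col j (k + 1))
    (h : ∀ s, RepAt L i₀ M j s.1 e (Y s) (v s))
    (s : {s : NE ι // s.1.card + k = Fintype.card ι}) :
    RepAt L i₀ M j s.1 e ((hDiag L i₀ M j).cd k Y s) (FCD.colD v s) :=
  FCx.Rep.sum (T := fibAt L i₀ M s.1) (x := fun i => sgn i s.1.1 • MDiag.cev Y s.1 (s.1.1.erase i))
    (v := fun i => sgn i s.1.1 • FCD.colev v s.1 (s.1.1.erase i)) _ fun i _ =>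
      FCx.Rep.zsmul (T := fibAt L i₀ M s.1) (cev_rep Y v h s.1 (s.1.1.erase i)) (sgn i s.1.1)

end

/-- AL5 (a2). -/
theorem fg1_of_cechFG {Λ : Type u} [CommRing Λ] {τ ι : Type} [LinearOrder ι] [Fintype ι]
    {C : RDiag Λ (NE ι)} (L : LData C τ) {B : Type u} [CommRing B] {ψ : Λ →+* B}
    {D : RDiag B (NE ι)} (i₀ : RDiag.Hom ψ C D) (M : MDiag D) (j : ℕ)
    (h : (hDiag L i₀ M j).CechFG) (k : ℕ) : ((L.map i₀).tensor M).FG1 j k := by
  classical
  obtain ⟨N, hN, hfg⟩ := h k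
  obtain ⟨n, G, hG⟩ := Submodule.fg_iff_exists_fin_generating_family.1 hN
  -- lifts of the generators
  have hlift : ∀ (a : Fin n) (s : {s : NE ι // s.1.card + k = Fintype.card ι}),
      ∃ g : (fibAt L i₀ M s.1).ZR j, (fibAt L i₀ M s.1).hm j g = G a s := fun a s =>
    FCx.hm_surjective j (G a s)
  choose g hg using hlift
  have : Finite {s : NE ι // s.1.card + k = Fintype.card ι} := inferInstance
  obtain ⟨E, hE⟩ : ∃ E : ℕ, ∀ a s b, E ≤ b → (g a s).1.cf b = 0 := by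
    cases nonempty_fintype {s : NE ι // s.1.card + k = Fintype.card ι}
    refine ⟨Finset.univ.sup fun a => Finset.univ.sup fun s =>
      (g a s).1.pm.coeff.support.sup (fun b => b + 1), fun a s b hb => ?_⟩
    by_contra h
    have h1 : b ∈ (g a s).1.pm.coeff.support := Finsupp.mem_support_iff.2 h
    have h2 : b + 1 ≤ (g a s).1.pm.coeff.support.sup (fun b => b + 1) :=
      Finset.le_sup (f := fun b => b + 1) h1
    have h3 : (g a s).1.pm.coeff.support.sup (fun b => b + 1) ≤ Finset.univ.sup fun s =>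
      (g a s).1.pm.coeff.support.sup (fun b => b + 1) :=
      Finset.le_sup (f := fun s => (g a s).1.pm.coeff.support.sup (fun b => b + 1)) (Finset.mem_univ s)
    have h4 := Finset.le_sup (f := fun a => Finset.univ.sup fun s =>
      (g a s).1.pm.coeff.support.sup (fun b => b + 1)) (Finset.mem_univ a)
    have h5 := h3.trans h4
    omega
  let ε : Fin n × Fin E ≃ Fin (n * E) := finProdFinEquiv
  refine ⟨n * E, fun c => (ε.symm c).2.1, fun c s => (g (ε.symm c).1 s).1.cf (ε.symm c).2.1, ?_, ?_, ?_⟩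
  · intro c s
    exact ((g (ε.symm c).1 s).2 _).1
  · intro c s
    exact (vcyc_iff L i₀ M j s.1 _).1 (FCx.mem_cyc _ |>.1 ((g (ε.symm c).1 s).2 _).2)
  · intro e x hxF hxc hcol
    have hx : ∀ s, x s ∈ (fibAt L i₀ M s.1).FZ j e := fun s =>
      (mem_FZ_iff L i₀ M j s.1 e (x s)).2 ⟨hxF s, hxc s⟩
    let X : (hDiag L i₀ M j).HK k := fun s => (fibAt L i₀ M s.1).cls j e ⟨x s, hx s⟩
    have hX : (hDiag L i₀ M j).IsCyc k X := by
      cases k with
      | zero => trivial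
      | succ k =>
        refine funext fun s => ?_
        refine (cd_cls L i₀ M j x hx s).trans ?_
        refine FCx.cls_eq_zero _ ?_
        obtain ⟨u, hu, hu'⟩ := hcol s
        exact ⟨u, hu, (fibAt_d L i₀ M s.1 j u).trans hu'.symm⟩
    obtain ⟨m, hm, Y, hY⟩ := hfg X hX
    rw [← hG, Submodule.mem_span_range_iff_exists_fun] at hm
    obtain ⟨P, hP⟩ := hm
    -- lifts of `Y`
    have hlift : ∀ (s : {s : NE ι // s.1.card + (k + 1) = Fintype.card ι}),
        ∃ g : (fibAt L i₀ M s.1).ZR j, (fibAt L i₀ M s.1).hm j g = Y s := fun s =>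
      FCx.hm_surjective j (Y s)
    choose y hy using hlift
    let p : Fin n × Fin E → MvPolynomial τ B := fun c =>
      if c.2.1 ≤ e then (θ B τ (P c.1)).coeff (e - c.2.1) else 0
    have hp : ∀ c, p c = 0 ∨ (p c).totalDegree + c.2.1 ≤ e := by
      intro c
      by_cases hc : c.2.1 ≤ e
      · right
        simp only [p, if_pos hc]
        have := θ_mem (P c.1) (e - c.2.1)
        omega
      · left
        simp only [p, if_neg hc]
    -- the equation at `s`
    have key : ∀ s : {s : NE ι // s.1.card + k = Fintype.card ι},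
        ∃ v ∈ ((L.map i₀).tensor M).F (j + 1) s.1 e,
          x s = ∑ c, p c • (show ((L.map i₀).tensor M).E j s.1 from (g c.1 s).1.cf c.2.1) +
            FCD.colD (C := (L.map i₀).tensor M) (fun s => (y s).1.cf e) s +
            ((L.map i₀).tensor M).del j s.1 v := by
      intro s
      have r1 : (fibAt L i₀ M s.1).Rep e (X s) (x s) :=
        ⟨⟨FCx.RX.single _ j e (x s), FCx.single_mem_ZR (FCx.mem_FZ _ |>.1 (hx s)).1
          (FCx.mem_FZ _ |>.1 (hx s)).2⟩, rfl, FCx.RX.cf_single_self _ _⟩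
      have r2 : (fibAt L i₀ M s.1).Rep e (m s)
          (∑ c, p c • (show ((L.map i₀).tensor M).E j s.1 from (g c.1 s).1.cf c.2.1)) := by
        have e1 : m s = ∑ a, (P a • G a) s := by
          rw [← hP, Finset.sum_apply]
        have e2 : (∑ c, p c • (show ((L.map i₀).tensor M).E j s.1 from (g c.1 s).1.cf c.2.1)) =
            ∑ a, ∑ b, p (a, b) • (show ((L.map i₀).tensor M).E j s.1 from (g a s).1.cf b.1) :=
          Fintype.sum_prod_type _
        have r3 : (fibAt L i₀ M s.1).Rep e (∑ a, (P a • G a) s)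
            (∑ a, ∑ b, p (a, b) • (show ((L.map i₀).tensor M).E j s.1 from (g a s).1.cf b.1)) := by
          refine FCx.Rep.sum (x := fun a => (P a • G a) s)
            (v := fun a => ∑ b, p (a, b) • (show ((L.map i₀).tensor M).E j s.1 from
              (g a s).1.cf b.1)) _ fun a _ => ?_
          refine ⟨(MvPolynomial.map (algebraMap B (D.C s.1)) (P a) :
            MvPolynomial (Option τ) (D.C s.1)) • g a s, ?_, ?_⟩
          · rw [map_smul, hg]
            rfl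
          · exact cf_map_smul (P a) (g a s).1 E e (hE a s)
        exact (congrArg₂ (fun a b => (fibAt L i₀ M s.1).Rep e a b) e1 e2).mpr r3
      have r3 : (fibAt L i₀ M s.1).Rep e ((hDiag L i₀ M j).cd k Y s)
          (FCD.colD (C := (L.map i₀).tensor M) (fun s => (y s).1.cf e) s) :=
        cd_rep Y _ (fun s => ⟨y s, hy s, rfl⟩) s
      have r4 := (r1.sub r2).sub r3
      have e0 : X s - m s - (hDiag L i₀ M j).cd k Y s = 0 := by
        rw [hY]
        simp
      obtain ⟨u, hu, hu'⟩ := FCx.Rep.exists_of_zero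
        ((congrArg (fun a => (fibAt L i₀ M s.1).Rep e a _) e0).mp r4)
      refine ⟨u, hu, ?_⟩
      have h3 : ((L.map i₀).tensor M).del j s.1 u = _ := (fibAt_d L i₀ M s.1 j u).symm.trans hu'
      rw [h3]
      have h4 : ∀ a b c : ((L.map i₀).tensor M).E j s.1, a = b + c + (a - b - c) := fun a b c => by abel
      exact h4 _ _ _
    choose v hv hv' using key
    refine ⟨fun c => p (ε.symm c), fun c => hp _, fun s => (y s).1.cf e, v, ?_, ?_, hv, fun s => ?_⟩
    · intro s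
      exact ((y s).2 e).1
    · intro s
      exact (vcyc_iff L i₀ M j s.1 _).1 (FCx.mem_cyc _ |>.1 ((y s).2 e).2)
    · rw [hv' s]
      congr 2
      exact (Equiv.sum_comp ε.symm (fun c => p c •
        (show ((L.map i₀).tensor M).E j s.1 from (g c.1 s).1.cf c.2.1))).symm

end Groth.Agent.Flat2B.GEx
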