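import Groth.Agent.Flat2B.GExHDiag
import Groth.Agent.Flat2B.GExHtpy
import Mathlib.Algebra.Category.Ring.Constructions
import Mathlib.RingTheory.FiniteType
import Mathlib.RingTheory.RingHom.FiniteType

/-!
# S1270 route E, AL5 (p2): finiteness of the Rees homology modules
-/

set_option autoImplicit false
universe u

open Finset MvPolynomial

namespace Groth.Agent.Flat2B.GEx

namespace FinH

open scoped TensorProduct

variable {τ : Type} {E : Type u} [CommRing E] {N : Type u} [AddCommGroup N] [Module E N]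

lemma monomial_smul_single (μ : τ →₀ ℕ) (a : E) (n : N) :
    (monomial μ a : MvPolynomial τ E) • PM.single (0 : τ →₀ ℕ) n = PM.single μ (a • n) := by
  classical
  ext ν
  rw [PM.coeff_single]
  by_cases h : μ ≤ ν
  · obtain ⟨ν, rfl⟩ := exists_add_of_le h
    rw [PM.coeff_monomial_smul_add, PM.coeff_single]
    by_cases h0 : 0 = ν
    · rw [if_pos h0, if_pos (by rw [← h0, add_zero])]
    · rw [if_neg h0, if_neg (fun h' => h0 (left_eq_add.1 h').symm), smul_zero]
  · rw [PM.coeff_monomial_smul_of_not _ _ _ _ h, if_neg (fun h' => h h'.le)]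

lemma coeff_sum' {ι : Type*} (s : Finset ι) (f : ι → PM τ N) (μ : τ →₀ ℕ) :
    PM.coeff μ (∑ i ∈ s, f i) = ∑ i ∈ s, PM.coeff μ (f i) :=
  map_sum (AddMonoidHom.mk' (PM.coeff (M := N) μ) (PM.coeff_add μ)) _ _

lemma eq_sum_single (x : PM τ N) :
    x = ∑ μ ∈ (PM.toFun' x).support, PM.single μ (PM.coeff μ x) := by
  classical
  ext ν
  rw [coeff_sum']
  simp only [PM.coeff_single]
  rw [Finset.sum_ite_eq' (PM.toFun' x).support ν (fun μ => PM.coeff μ x)]
  split_ifs with h
  · rfl
  · exact Finsupp.notMem_support_iff.1 h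

/-- The image of a Noetherian base under a finitely generated extension. -/
theorem isNoetherianRing_of_isPushout {Λ B C D : Type u} [CommRing Λ] [CommRing B] [CommRing C]
    [CommRing D] [IsNoetherianRing B] (ψ : Λ →+* B) (a : Λ →+* C) (c : B →+* D) (f : C →+* D)
    (ha : a.FiniteType)
    (H : CategoryTheory.IsPushout (CommRingCat.ofHom ψ) (CommRingCat.ofHom a)
      (CommRingCat.ofHom c) (CommRingCat.ofHom f)) : IsNoetherianRing D := by
  let := ψ.toAlgebra
  let := a.toAlgebra
  let := c.toAlgebra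
  let := f.toAlgebra
  let : Algebra Λ D := (c.comp ψ).toAlgebra
  have : IsScalarTower Λ B D := IsScalarTower.of_algebraMap_eq' rfl
  have : IsScalarTower Λ C D := IsScalarTower.of_algebraMap_eq' (congrArg CommRingCat.Hom.hom H.w)
  have : Algebra.IsPushout Λ B C D := CommRingCat.isPushout_iff_isPushout.1 H
  have : Algebra.FiniteType Λ C := ha
  have : Algebra.FiniteType B D :=
    Algebra.FiniteType.equiv inferInstance (Algebra.IsPushout.equiv Λ B C D)
  exact Algebra.FiniteType.isNoetherianRing B D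

end FinH

open FinH Htpy in
/-- The filtration of `L (s) ⊗ N` is generated by `e_a ⊗ n`, `n` in a generating set of `N`. -/
theorem LData.finite_HR_fib {Λ : Type u} [CommRing Λ] {τ ι : Type} [Finite τ] [LinearOrder ι]
    {C : RDiag Λ (NE ι)} (L : LData C τ) (s : NE ι) {E : Type u} [CommRing E] [IsNoetherianRing E]
    (χ : C.C s →+* E) (N : Type u) [AddCommGroup N] [Module E N] [Module.Finite E N] (j : ℕ) :
    Module.Finite (MvPolynomial (Option τ) E) ((L.fib s χ N).HR j) := by
  classical
  obtain ⟨r, n, hn⟩ := Module.Finite.exists_fin (R := E) (M := N)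
  have hc : ∀ y : N, ∃ c : Fin r → E, ∑ k, c k • n k = y := by
    intro y
    have hy : y ∈ Submodule.span E (Set.range n) := by rw [hn]; trivial
    exact (Submodule.mem_span_range_iff_exists_fun E).1 hy
  choose c hc using hc
  refine (L.fib s χ N).finite_HR j (κ := L.G j s × Fin r) (fun k => L.w j k.1.1)
    (fun k => (Pi.single k.1 (PM.single 0 (n k.2)) : L.G j s → PM τ N)) ?_
  intro e x hx
  let p : L.G j s × Fin r → MvPolynomial τ E := fun k =>
    ∑ μ ∈ (PM.toFun' (x k.1)).support, monomial μ (c (PM.coeff μ (x k.1)) k.2)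
  refine ⟨p, fun k => ?_, ?_⟩
  · refine PD.sum fun μ hμ => pd_iff.2 fun ν hν => ?_
    have hνμ : μ = ν := by
      by_contra hne
      exact hν (by rw [coeff_monomial, if_neg hne])
    rw [← hνμ]
    exact hx k.1 μ (Finsupp.mem_support_iff.1 hμ)
  · have h1 : ∀ b : L.G j s, x b = ∑ k, p (b, k) • PM.single 0 (n k) := by
      intro b
      have h2 : ∀ k, p (b, k) • PM.single (0 : τ →₀ ℕ) (n k) =
          ∑ μ ∈ (PM.toFun' (x b)).support, PM.single μ (c (PM.coeff μ (x b)) k • n k) := by
        intro k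
        simp only [p]
        rw [Finset.sum_smul]
        exact Finset.sum_congr rfl fun μ _ => monomial_smul_single _ _ _
      rw [Finset.sum_congr rfl fun k _ => h2 k, Finset.sum_comm]
      refine (eq_sum_single (x b)).trans (Finset.sum_congr rfl fun μ _ => ?_)
      conv_lhs => rw [← hc (PM.coeff μ (x b))]
      ext ν
      rw [coeff_sum', PM.coeff_single]
      simp only [PM.coeff_single]
      split_ifs
      · rfl
      · rw [Finset.sum_const_zero]
    refine (Finset.univ_sum_single x).symm.trans ?_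
    rw [Fintype.sum_prod_type]
    refine Finset.sum_congr rfl fun b _ => ?_
    rw [h1 b]
    refine (map_sum (AddMonoidHom.single (fun _ : L.G j s => PM τ N) b) _ _).trans
      (Finset.sum_congr rfl fun k _ => ?_)
    exact Pi.single_smul b (p (b, k)) _

/-- AL5 (p2). -/
theorem finite_hDiag {Λ : Type u} [CommRing Λ] {τ ι : Type} [Finite τ] [LinearOrder ι]
    {C : RDiag Λ (NE ι)} (L : LData C τ) (hft : ∀ s, (algebraMap Λ (C.C s)).FiniteType)
    {B : Type u} [CommRing B] [IsNoetherianRing B] {ψ : Λ →+* B}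
    {D : RDiag B (NE ι)} {i₀ : RDiag.Hom ψ C D} (hi₀ : i₀.IsPO) (M : MDiag D)
    (hM : ∀ s, Module.Finite (D.C s) (M.M s)) (j : ℕ) (s : NE ι) :
    Module.Finite ((D.poly (Option τ)).C s) ((hDiag L i₀ M j).M s) := by
  have := FinH.isNoetherianRing_of_isPushout _ _ _ _ (hft s) (hi₀ s)
  have := hM s
  exact L.finite_HR_fib s (i₀.f s) (M.M s) j

end Groth.Agent.Flat2B.GEx
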