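import Groth.Agent.Flat2B.GExDefs
import Mathlib.RingTheory.Flat.Equalizer
import Mathlib.RingTheory.Flat.Stability
import Mathlib.RingTheory.MvPolynomial.Basic
import Mathlib.LinearAlgebra.TensorProduct.RightExactness
import Mathlib.LinearAlgebra.TensorProduct.Pi
import Mathlib.LinearAlgebra.TensorProduct.Prod

/-!
# S1270, route E: base change of pseudo-coherent flat filtered complexes (AL2b)
-/

set_option autoImplicit false
universe u

open TensorProduct MvPolynomial

namespace Groth.Agent.Flat2B.GEx.BC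

section Alg

variable {B : Type*} [CommRing B] (S : Type*) [CommRing S] [Algebra B S]

/-- A flat submodule whose inclusion stays injective after tensoring with `S`. -/
structure Good {R : Type*} [AddCommGroup R] [Module B R] (N : Submodule B R) : Prop where
  flat : Module.Flat B N
  inj : Function.Injective (N.subtype.lTensor S)

variable {S} {P Q R : Type*} [AddCommGroup P] [Module B P] [AddCommGroup Q] [Module B Q]
  [AddCommGroup R] [Module B R]

/-- Kernel of a surjection between flat modules is flat. -/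
lemma flat_ker [Module.Flat B Q] [Module.Flat B R] (f : Q →ₗ[B] R) (hf : Function.Surjective f) :
    Module.Flat B (LinearMap.ker f) := by
  rw [Module.Flat.iff_lTensor_preserves_injective_linearMap]
  intro P' Q' _ _ _ _ g hg
  have h2 : Function.Injective (((LinearMap.ker f).subtype.rTensor Q') ∘ₗ
      (g.lTensor (LinearMap.ker f))) := by
    rw [LinearMap.rTensor_comp_lTensor, ← LinearMap.lTensor_comp_rTensor]
    refine (Module.Flat.lTensor_preserves_injective_linearMap g hg).comp ?_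
    rw [← LinearMap.lTensor_inj_iff_rTensor_inj]
    exact LinearMap.lTensor_injective_of_exact_of_flat f hf (LinearMap.ker f).subtype
      (LinearMap.ker f).subtype_injective (LinearMap.exact_subtype_ker_map _) P'
  exact Function.Injective.of_comp h2

instance flat_prod [Module.Flat B Q] [Module.Flat B R] : Module.Flat B (Q × R) := by
  rw [Module.Flat.iff_rTensor_preserves_injective_linearMap]
  intro N P _ _ _ _ f hf
  have h1 : (TensorProduct.prodRight B B P Q R).toLinearMap ∘ₗ (f.rTensor (Q × R)) =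
      ((f.rTensor Q).prodMap (f.rTensor R)) ∘ₗ (TensorProduct.prodRight B B N Q R).toLinearMap := by
    apply TensorProduct.ext'
    intro x y
    rfl
  have h2 : Function.Injective
      ((TensorProduct.prodRight B B P Q R).toLinearMap ∘ₗ (f.rTensor (Q × R))) := by
    rw [h1]
    have h3 : Function.Injective ((f.rTensor Q).prodMap (f.rTensor R)) :=
      Prod.map_injective.mpr ⟨Module.Flat.rTensor_preserves_injective_linearMap f hf,
        Module.Flat.rTensor_preserves_injective_linearMap f hf⟩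
    exact h3.comp (TensorProduct.prodRight B B N Q R).injective
  exact Function.Injective.of_comp (f := (TensorProduct.prodRight B B P Q R)) h2

lemma Good.top [Module.Flat B R] : Good S (⊤ : Submodule B R) where
  flat := Module.Flat.of_linearEquiv Submodule.topEquiv
  inj := by
    have : (⊤ : Submodule B R).subtype = (Submodule.topEquiv (R := B) (M := R)).toLinearMap := rfl
    rw [this]
    exact (LinearEquiv.lTensor S Submodule.topEquiv).injective

lemma Good.ker {b : Q →ₗ[B] R} [Module.Flat B Q] (h : Good S (LinearMap.range b)) :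
    Good S (LinearMap.ker b) := by
  have := h.flat
  have hs : Function.Surjective b.rangeRestrict := b.surjective_rangeRestrict
  rw [← LinearMap.ker_rangeRestrict b]
  exact ⟨flat_ker _ hs, LinearMap.lTensor_injective_of_exact_of_flat _ hs
      (LinearMap.ker b.rangeRestrict).subtype (Submodule.subtype_injective _)
      (LinearMap.exact_subtype_ker_map _) S⟩

/-- Exactness of the base change. -/
lemma exact_lTensor {a : P →ₗ[B] Q} {b : Q →ₗ[B] R} (hab : Function.Exact a b)
    (h : Good S (LinearMap.range b)) : Function.Exact (a.lTensor S) (b.lTensor S) := by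
  have hs : Function.Surjective b.rangeRestrict := b.surjective_rangeRestrict
  have hex : Function.Exact a b.rangeRestrict := by
    intro x
    rw [← hab x, ← Subtype.coe_injective.eq_iff]
    rfl
  have h1 := lTensor_exact S hex hs
  have h2 : b.lTensor S = ((LinearMap.range b).subtype.lTensor S) ∘ₗ (b.rangeRestrict.lTensor S) := by
    rw [← LinearMap.lTensor_comp]
    rfl
  intro x
  rw [← h1 x, h2, LinearMap.comp_apply, ← map_zero ((LinearMap.range b).subtype.lTensor S),
    h.inj.eq_iff]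

end Alg

section Sq

variable {B : Type*} [CommRing B] {S : Type*} [CommRing S] [Algebra B S]
  {P Q R : Type*} [AddCommGroup P] [Module B P] [AddCommGroup Q] [Module B Q]
  [AddCommGroup R] [Module B R] {P' Q' R' : Type*} [AddCommGroup P'] [Module S P']
  [AddCommGroup Q'] [Module S Q'] [AddCommGroup R'] [Module S R']
  (eP : S ⊗[B] P ≃ₗ[S] P') (eQ : S ⊗[B] Q ≃ₗ[S] Q') (eR : S ⊗[B] R ≃ₗ[S] R')

lemma comm_of {a : P →ₗ[B] Q} {a' : P' →ₗ[S] Q'} (h : ∀ p, a' (eP (1 ⊗ₜ p)) = eQ (1 ⊗ₜ a p))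
    (t : S ⊗[B] P) : a' (eP t) = eQ (a.lTensor S t) := by
  induction t with
  | zero => simp
  | tmul s p =>
    have h1 : s ⊗ₜ[B] p = s • (1 ⊗ₜ p) := by rw [TensorProduct.smul_tmul', smul_eq_mul, mul_one]
    conv_lhs => rw [h1, map_smul, map_smul, h, ← map_smul, TensorProduct.smul_tmul', smul_eq_mul,
      mul_one]
    rw [LinearMap.lTensor_tmul]
  | add x y hx hy => rw [map_add, map_add, hx, hy, map_add, map_add]

/-- Surjectivity passes to the base change. -/
lemma surjective_of {a : P →ₗ[B] Q} {a' : P' →ₗ[S] Q'}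
    (h : ∀ p, a' (eP (1 ⊗ₜ p)) = eQ (1 ⊗ₜ a p)) (ha : Function.Surjective a) :
    Function.Surjective a' := by
  intro y
  obtain ⟨t, rfl⟩ := eQ.surjective y
  obtain ⟨s, rfl⟩ := LinearMap.lTensor_surjective S ha t
  exact ⟨eP s, comm_of eP eQ h s⟩

/-- Exactness passes to the base change if the image is good. -/
lemma exact_of {a : P →ₗ[B] Q} {b : Q →ₗ[B] R} (hab : Function.Exact a b)
    (hg : Good S (LinearMap.range b)) {a' : P' →ₗ[S] Q'} {b' : Q' →ₗ[S] R'}
    (ha : ∀ p, a' (eP (1 ⊗ₜ p)) = eQ (1 ⊗ₜ a p)) (hb : ∀ p, b' (eQ (1 ⊗ₜ p)) = eR (1 ⊗ₜ b p))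
    (x : Q') (hx : b' x = 0) : ∃ y, a' y = x := by
  obtain ⟨t, rfl⟩ := eQ.surjective x
  rw [comm_of eQ eR hb, LinearEquiv.map_eq_zero_iff, exact_lTensor hab hg t] at hx
  obtain ⟨s, rfl⟩ := hx
  exact ⟨eP s, comm_of eP eQ ha s⟩

end Sq

section Supp

/-- Monomials allowed in the `e`-th step for a generator of weight `w`. -/
def mons (τ : Type) (w e : ℕ) : Set (τ →₀ ℕ) := {m | (m.sum fun _ i => i) + w ≤ e}

variable {B : Type u} [CommRing B] {τ : Type}

lemma mem_mons_iff (w e : ℕ) (p : MvPolynomial τ B) :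
    p ∈ restrictSupport B (mons τ w e) ↔ p = 0 ∨ p.totalDegree + w ≤ e := by
  rw [mem_restrictSupport_iff]
  constructor
  · intro h
    by_cases hp : p = 0
    · exact Or.inl hp
    right
    obtain ⟨m, hm⟩ := Finset.nonempty_iff_ne_empty.2 (fun h => hp (MvPolynomial.support_eq_empty.1 h))
    have hwe : w ≤ e := le_trans (Nat.le_add_left _ _) (h hm)
    rw [← Nat.le_sub_iff_add_le hwe]
    exact Finset.sup_le fun m hm => (Nat.le_sub_iff_add_le hwe).2 (h hm)
  · rintro (rfl | h)
    · simp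
    · intro m hm
      exact le_trans (Nat.add_le_add_right (le_totalDegree hm) _) h

variable {S : Type u} [CommRing S] (ψ : B →+* S)

lemma map_mem_restrictSupport {s : Set (τ →₀ ℕ)} {p : MvPolynomial τ B} (hp : p ∈ restrictSupport B s) :
    MvPolynomial.map ψ p ∈ restrictSupport S s :=
  fun _ hm => hp (MvPolynomial.support_map_subset ψ p hm)

/-- The base change of polynomials with restricted support. -/
theorem exists_equiv_restrictSupport (s : Set (τ →₀ ℕ)) :
    letI := ψ.toAlgebra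
    ∃ e : S ⊗[B] restrictSupport B s ≃ₗ[S] restrictSupport S s, ∀ p : restrictSupport B s,
      (e (1 ⊗ₜ p) : MvPolynomial τ S) = MvPolynomial.map ψ p := by
  let _ := ψ.toAlgebra
  refine ⟨((basisRestrictSupport B s).baseChange S).equiv (basisRestrictSupport S s) (Equiv.refl _),
    fun p => ?_⟩
  have h1 : ((basisRestrictSupport B s).baseChange S).equiv (basisRestrictSupport S s) (Equiv.refl _)
      (1 ⊗ₜ p) = ⟨MvPolynomial.map ψ p, map_mem_restrictSupport ψ p.2⟩ := by
    apply (basisRestrictSupport S s).repr.injective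
    ext i
    have h2 : (basisRestrictSupport S s).repr (((basisRestrictSupport B s).baseChange S).equiv
      (basisRestrictSupport S s) (Equiv.refl _) (1 ⊗ₜ p)) i =
      ((basisRestrictSupport B s).baseChange S).repr (1 ⊗ₜ p) i := by
      simp [Module.Basis.equiv]
    rw [h2, Module.Basis.baseChange_repr_tmul]
    change ((p : MvPolynomial τ B).coeff i) • (1 : S) =
      MvPolynomial.coeff i (MvPolynomial.map ψ (p : MvPolynomial τ B))
    rw [MvPolynomial.coeff_map, Algebra.smul_def, mul_one]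
    rfl
  rw [h1]

end Supp

section Free

variable {B : Type u} [CommRing B] {τ : Type} (K : FreeCx B τ)

lemma F_iff (k e : ℕ) (v : K.J k → MvPolynomial τ B) :
    K.F k e v ↔ ∀ a, v a ∈ restrictSupport B (mons τ (K.w k a) e) :=
  forall_congr' fun _ => (mem_mons_iff _ _ _).symm

/-- The `e`-th step of the filtration as a type. -/
abbrev Kt (k e : ℕ) : Type u := ∀ a : K.J k, restrictSupport B (mons τ (K.w k a) e)

variable {K}

/-- The underlying vector. -/
def und {k e : ℕ} (v : Kt K k e) : K.J k → MvPolynomial τ B := fun a => v a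

lemma und_mem {k e : ℕ} (v : Kt K k e) : K.F k e (und v) := (F_iff K k e _).2 fun a => (v a).2

lemma exists_und {k e : ℕ} (v : K.J k → MvPolynomial τ B) (h : K.F k e v) : ∃ v' : Kt K k e, und v' = v :=
  ⟨fun a => ⟨v a, (F_iff K k e v).1 h a⟩, rfl⟩

lemma und_injective {k e : ℕ} : Function.Injective (und : Kt K k e → _) := by
  intro v w h
  funext a
  exact Subtype.ext (congrFun h a)

lemma d_mem {k e : ℕ} {v : K.J (k + 1) → MvPolynomial τ B} (h : K.F (k + 1) e v) :
    K.F k e (K.d k v) := by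
  rw [F_iff]
  intro b
  rw [FreeCx.d_apply]
  refine Submodule.sum_mem _ fun a _ => ?_
  rw [mem_mons_iff]
  rcases h a with h0 | h1
  · left
    rw [h0, zero_mul]
  · rcases K.D_deg k a b with h0 | h2
    · left
      rw [h0, mul_zero]
    · right
      have := totalDegree_mul (v a) (K.D k a b)
      omega

variable {T : FCx B τ}

lemma f_mem (φ : FreeCx.Hom K T) {k e : ℕ} {v : K.J k → MvPolynomial τ B} (h : K.F k e v) :
    φ.f k v ∈ T.F k e := by
  change ∑ a, v a • φ.t k a ∈ T.F k e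
  refine Submodule.sum_mem _ fun a _ => ?_
  rcases h a with h0 | h1
  · rw [h0, zero_smul]
    exact zero_mem _
  · have hw : K.w k a ≤ e := le_trans (Nat.le_add_left _ _) h1
    have := T.smul_mem k (K.w k a) (e - K.w k a) (v a) (φ.t k a)
      ((Nat.le_sub_iff_add_le hw).2 h1) (φ.t_mem k a)
    rwa [Nat.add_sub_cancel' hw] at this

lemma f_d (φ : FreeCx.Hom K T) (k : ℕ) (v : K.J (k + 1) → MvPolynomial τ B) :
    φ.f k (K.d k v) = T.d k (φ.f (k + 1) v) := by
  change ∑ b, (K.d k v b) • φ.t k b = T.d k (∑ a, v a • φ.t (k + 1) a)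
  rw [map_sum]
  simp only [map_smul, φ.comm, FreeCx.d_apply, Finset.sum_smul, Finset.smul_sum, mul_smul]
  exact Finset.sum_comm

variable (K) in
/-- The differential of `K` on the steps of the filtration. -/
noncomputable def Kd (k e : ℕ) : Kt K (k + 1) e →ₗ[B] Kt K k e where
  toFun v a := ⟨K.d k (und v) a, (F_iff K k e _).1 (d_mem (und_mem v)) a⟩
  map_add' v w := by
    funext a
    apply Subtype.ext
    exact congrFun ((K.d k).map_add (und v) (und w)) a
  map_smul' c v := by
    funext a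
    apply Subtype.ext
    exact congrFun ((K.d k).map_smul_of_tower c (und v)) a

lemma und_Kd (k e : ℕ) (v : Kt K (k + 1) e) : und (Kd K k e v) = K.d k (und v) := rfl

/-- The chain map on the steps of the filtration. -/
noncomputable def Kf (φ : FreeCx.Hom K T) (k e : ℕ) : Kt K k e →ₗ[B] T.F k e where
  toFun v := ⟨φ.f k (und v), f_mem φ (und_mem v)⟩
  map_add' v w := Subtype.ext ((φ.f k).map_add (und v) (und w))
  map_smul' c v := Subtype.ext ((φ.f k).map_smul_of_tower c (und v))

lemma coe_Kf (φ : FreeCx.Hom K T) (k e : ℕ) (v : Kt K k e) :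
    (Kf φ k e v : T.X k) = φ.f k (und v) := rfl

variable (T) in
/-- The differential of `T` on the steps of the filtration. -/
noncomputable def Td (k e : ℕ) : T.F (k + 1) e →ₗ[B] T.F k e where
  toFun v := ⟨T.d k v, T.d_mem k e _ v.2⟩
  map_add' v w := Subtype.ext ((T.d k).map_add (v : T.X (k + 1)) w)
  map_smul' c v := Subtype.ext ((T.d k).map_smul_of_tower c (v : T.X (k + 1)))

lemma coe_Td (k e : ℕ) (v : T.F (k + 1) e) : (Td T k e v : T.X k) = T.d k v := rfl

/-- The lowest differential of the cone. -/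
noncomputable def C₀ (φ : FreeCx.Hom K T) (e : ℕ) : (Kt K 0 e × T.F 1 e) →ₗ[B] T.F 0 e :=
  (Kf φ 0 e).coprod (-(Td T 0 e))

/-- The higher differentials of the cone. -/
noncomputable def C (φ : FreeCx.Hom K T) (k e : ℕ) :
    (Kt K (k + 1) e × T.F (k + 2) e) →ₗ[B] (Kt K k e × T.F (k + 1) e) :=
  (Kd K k e ∘ₗ LinearMap.fst B _ _).prod ((Kf φ (k + 1) e).coprod (-(Td T (k + 1) e)))

lemma coe_C₀ (φ : FreeCx.Hom K T) (e : ℕ) (x : Kt K 0 e × T.F 1 e) :
    (C₀ φ e x : T.X 0) = φ.f 0 (und x.1) - T.d 0 x.2 := by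
  rw [C₀, LinearMap.coprod_apply, LinearMap.neg_apply, Submodule.coe_add, Submodule.coe_neg, coe_Kf,
    coe_Td, ← sub_eq_add_neg]

lemma C_fst (φ : FreeCx.Hom K T) (k e : ℕ) (x : Kt K (k + 1) e × T.F (k + 2) e) :
    und (C φ k e x).1 = K.d k (und x.1) := rfl

lemma C_snd (φ : FreeCx.Hom K T) (k e : ℕ) (x : Kt K (k + 1) e × T.F (k + 2) e) :
    ((C φ k e x).2 : T.X (k + 1)) = φ.f (k + 1) (und x.1) - T.d (k + 1) x.2 := by
  change (((Kf φ (k + 1) e).coprod (-(Td T (k + 1) e)) x : T.F (k + 1) e) : T.X (k + 1)) = _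
  rw [LinearMap.coprod_apply, LinearMap.neg_apply, Submodule.coe_add, Submodule.coe_neg, coe_Kf,
    coe_Td, ← sub_eq_add_neg]

lemma C₀_C (φ : FreeCx.Hom K T) (e : ℕ) (x : Kt K 1 e × T.F 2 e) : C₀ φ e (C φ 0 e x) = 0 := by
  apply Subtype.ext
  rw [coe_C₀, C_fst, C_snd, map_sub, T.d_d, f_d, sub_zero, sub_self]
  rfl

lemma C_C (φ : FreeCx.Hom K T) (k e : ℕ) (x : Kt K (k + 2) e × T.F (k + 3) e) :
    C φ k e (C φ (k + 1) e x) = 0 := by
  refine Prod.ext ?_ ?_
  · apply und_injective
    rw [C_fst, C_fst, K.d_d]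
    rfl
  · apply Subtype.ext
    rw [C_snd, C_fst, C_snd, map_sub, T.d_d, f_d, sub_zero, sub_self]
    rfl

lemma QI_iff (φ : FreeCx.Hom K T) : φ.QI ↔ ∀ e, Function.Surjective (C₀ φ e) ∧
    (∀ x, C₀ φ e x = 0 → ∃ y, C φ 0 e y = x) ∧
    ∀ k x, C φ k e x = 0 → ∃ y, C φ (k + 1) e y = x := by
  constructor
  · intro h e
    refine ⟨fun y => ?_, fun x hx => ?_, fun k x hx => ?_⟩
    · obtain ⟨v, hv, z, hz, hvz⟩ := h.1 e y y.2
      obtain ⟨v', rfl⟩ := exists_und v hv
      refine ⟨(v', -⟨z, hz⟩), Subtype.ext ?_⟩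
      rw [coe_C₀, ← hvz, Submodule.coe_neg, map_neg, sub_neg_eq_add]
    · have h1 := congrArg Subtype.val hx
      rw [coe_C₀, Submodule.coe_zero, sub_eq_zero] at h1
      obtain ⟨v, hv, z, hz, h2, h3⟩ := h.2 0 e (und x.1) x.2 (und_mem x.1) trivial x.2.2 h1
      obtain ⟨v', rfl⟩ := exists_und v hv
      refine ⟨(v', -⟨z, hz⟩), Prod.ext (und_injective ?_) (Subtype.ext ?_)⟩
      · rw [C_fst, h2]
      · rw [C_snd, ← h3, Submodule.coe_neg, map_neg, sub_neg_eq_add]
    · have h0 := congrArg und (congrArg Prod.fst hx)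
      rw [C_fst] at h0
      have h1 := congrArg Subtype.val (congrArg Prod.snd hx)
      rw [C_snd] at h1
      obtain ⟨v, hv, z, hz, h2, h3⟩ := h.2 (k + 1) e (und x.1) x.2 (und_mem x.1) h0 x.2.2
        (sub_eq_zero.1 h1)
      obtain ⟨v', rfl⟩ := exists_und v hv
      refine ⟨(v', -⟨z, hz⟩), Prod.ext (und_injective ?_) (Subtype.ext ?_)⟩
      · rw [C_fst, h2]
      · rw [C_snd, ← h3, Submodule.coe_neg, map_neg, sub_neg_eq_add]
  · intro h
    refine ⟨fun e y hy => ?_, fun k e v y hv hc hy hvy => ?_⟩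
    · obtain ⟨x, hx⟩ := (h e).1 ⟨y, hy⟩
      have h1 := congrArg Subtype.val hx
      rw [coe_C₀] at h1
      refine ⟨und x.1, und_mem x.1, -x.2, neg_mem x.2.2, ?_⟩
      rw [map_neg, ← sub_eq_add_neg]
      exact h1
    · obtain ⟨v', rfl⟩ := exists_und v hv
      cases k with
      | zero =>
        obtain ⟨x, hx⟩ := (h e).2.1 (v', ⟨y, hy⟩) (Subtype.ext (by
          rw [coe_C₀]
          exact sub_eq_zero.2 hvy))
        have h0 := congrArg und (congrArg Prod.fst hx)
        rw [C_fst] at h0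
        have h1 := congrArg Subtype.val (congrArg Prod.snd hx)
        rw [C_snd] at h1
        refine ⟨und x.1, und_mem x.1, -x.2, neg_mem x.2.2, h0, ?_⟩
        rw [map_neg, ← sub_eq_add_neg]
        exact h1
      | succ k =>
        obtain ⟨x, hx⟩ := (h e).2.2 k (v', ⟨y, hy⟩) (Prod.ext (und_injective (by
          rw [C_fst]
          exact hc)) (Subtype.ext (by
          rw [C_snd]
          exact sub_eq_zero.2 hvy)))
        have h0 := congrArg und (congrArg Prod.fst hx)
        rw [C_fst] at h0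
        have h1 := congrArg Subtype.val (congrArg Prod.snd hx)
        rw [C_snd] at h1
        refine ⟨und x.1, und_mem x.1, -x.2, neg_mem x.2.2, h0, ?_⟩
        rw [map_neg, ← sub_eq_add_neg]
        exact h1

end Free

section BaseChange

variable {B S : Type u} [CommRing B] [CommRing S] {τ : Type} (ψ : B →+* S)

theorem exists_equiv_Kt (K : FreeCx B τ) (k e : ℕ) :
    letI := ψ.toAlgebra
    ∃ E : S ⊗[B] Kt K k e ≃ₗ[S] Kt (K.map ψ) k e, ∀ v : Kt K k e,
      und (E (1 ⊗ₜ v)) = fun a => MvPolynomial.map ψ (und v a) := by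
  classical
  let _ := ψ.toAlgebra
  choose E hE using fun a : K.J k => exists_equiv_restrictSupport (B := B) ψ (mons τ (K.w k a) e)
  refine ⟨(TensorProduct.piRight B S S (fun a : K.J k => restrictSupport B (mons τ (K.w k a) e))).trans
    (LinearEquiv.piCongrRight E), fun v => ?_⟩
  funext a
  rw [LinearEquiv.trans_apply]
  have h1 := hE a (v a)
  have h2 : ((TensorProduct.piRight B S S (fun a : K.J k => restrictSupport B (mons τ (K.w k a) e)))
      (1 ⊗ₜ v)) a = 1 ⊗ₜ v a := by
    simp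
  change ((E a (((TensorProduct.piRight B S S _) (1 ⊗ₜ v)) a) : restrictSupport S _) : MvPolynomial τ S) = _
  rw [h2]
  exact h1

variable {ψ} in
theorem exists_equiv_F {T : FCx B τ} {T' : FCx S τ} {r : FCx.Map ψ T T'} (hr : r.IsBC) (k e : ℕ) :
    letI := ψ.toAlgebra
    ∃ E : S ⊗[B] T.F k e ≃ₗ[S] T'.F k e, ∀ v : T.F k e, (E (1 ⊗ₜ v) : T'.X k) = r.f k v := by
  let _ := ψ.toAlgebra
  let i1 : Module B (T'.F k e) := Module.compHom _ ψ
  have i2 : IsScalarTower B S (T'.F k e) := ⟨fun a b c => by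
      change (ψ a * b) • c = ψ a • b • c
      rw [mul_smul]⟩
  obtain ⟨g, hg, hbc⟩ := hr k e
  refine ⟨IsBaseChange.equiv hbc, fun v => ?_⟩
  rw [IsBaseChange.equiv_tmul, one_smul, hg]

variable {ψ} {K : FreeCx B τ} {T : FCx B τ} {T' : FCx S τ}

lemma push_f (φ : FreeCx.Hom K T) (r : FCx.Map ψ T T') (k : ℕ) (v : K.J k → MvPolynomial τ B) :
    (φ.push r).f k (fun a => MvPolynomial.map ψ (v a)) = r.f k (φ.f k v) := by
  change ∑ a, MvPolynomial.map ψ (v a) • r.f k (φ.t k a) = r.f k (∑ a, v a • φ.t k a)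
  rw [map_sum]
  exact Finset.sum_congr rfl fun a _ => (r.f_smul _ _ _).symm

lemma map_d (k : ℕ) (v : K.J (k + 1) → MvPolynomial τ B) :
    (K.map ψ).d k (fun a => MvPolynomial.map ψ (v a)) = fun a => MvPolynomial.map ψ (K.d k v a) := by
  funext b
  rw [FreeCx.d_apply, FreeCx.d_apply, map_sum]
  exact Finset.sum_congr rfl fun a _ => (map_mul _ _ _).symm

instance flat_Kt (K : FreeCx B τ) (k e : ℕ) : Module.Flat B (Kt K k e) := by
  have : ∀ a : K.J k, Module.Free B (restrictSupport B (mons τ (K.w k a) e)) := fun a =>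
    Module.Free.of_basis (basisRestrictSupport B _)
  infer_instance

/-- The image of a quasi-isomorphism `K ⟶ T`, `T` flat, under a base change. -/
theorem push_QI {φ : FreeCx.Hom K T} (hφ : φ.QI) (hflat : T.IsFlat) {r : FCx.Map ψ T T'}
    (hr : r.IsBC) : (φ.push r).QI := by
  rw [QI_iff] at hφ ⊢
  intro e
  let _ := ψ.toAlgebra
  obtain ⟨h1, h2, h3⟩ := hφ e
  have hfl : ∀ k, Module.Flat B (T.F k e) := fun k => hflat k e
  have x0 : Function.Exact (C φ 0 e) (C₀ φ e) := fun x =>
    ⟨h2 x, by rintro ⟨y, rfl⟩; exact C₀_C φ e y⟩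
  have x1 : ∀ k, Function.Exact (C φ (k + 1) e) (C φ k e) := fun k x =>
    ⟨h3 k x, by rintro ⟨y, rfl⟩; exact C_C φ k e y⟩
  have g0 : Good S (LinearMap.range (C₀ φ e)) := by
    rw [LinearMap.range_eq_top.2 h1]
    exact Good.top
  have g1 : ∀ k, Good S (LinearMap.range (C φ k e)) := by
    intro k
    induction k with
    | zero =>
      rw [← LinearMap.exact_iff.1 x0]
      exact g0.ker
    | succ k ih =>
      rw [← LinearMap.exact_iff.1 (x1 k)]
      exact ih.ker
  choose EK hEK using fun k => exists_equiv_Kt ψ K k e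
  choose ET hET using fun k => exists_equiv_F hr k e
  let E : ∀ k, S ⊗[B] (Kt K k e × T.F (k + 1) e) ≃ₗ[S] (Kt (K.map ψ) k e × T'.F (k + 1) e) :=
    fun k => (TensorProduct.prodRight B S S (Kt K k e) (T.F (k + 1) e)).trans
      ((EK k).prodCongr (ET (k + 1)))
  have hE1 : ∀ k x, (E k (1 ⊗ₜ x)).1 = EK k (1 ⊗ₜ x.1) := fun k x => by
    simp [E]
  have hE2 : ∀ k x, (E k (1 ⊗ₜ x)).2 = ET (k + 1) (1 ⊗ₜ x.2) := fun k x => by
    simp [E]
  have c0 : ∀ x, C₀ (φ.push r) e (E 0 (1 ⊗ₜ x)) = ET 0 (1 ⊗ₜ C₀ φ e x) := by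
    intro x
    apply Subtype.ext
    rw [coe_C₀, hE1, hE2, hEK, hET, hET, push_f, ← r.f_d, coe_C₀, map_sub]
  have c1 : ∀ k x, C (φ.push r) k e (E (k + 1) (1 ⊗ₜ x)) = E k (1 ⊗ₜ C φ k e x) := by
    intro k x
    refine Prod.ext (und_injective ?_) (Subtype.ext ?_)
    · rw [C_fst, hE1, hE1, hEK, hEK, map_d, C_fst]
    · rw [C_snd, hE1, hE2, hE2, hEK, hET, hET, push_f, ← r.f_d, C_snd, map_sub]
  refine ⟨surjective_of (E 0) (ET 0) c0 h1, exact_of (E 1) (E 0) (ET 0) x0 g0 (c1 0) c0, fun k =>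
    exact_of (E (k + 2)) (E (k + 1)) (E k) (x1 k) (g1 k) (c1 (k + 1)) (c1 k)⟩

end BaseChange

/-- AL2b. Pseudo-coherence of flat complexes passes to base changes. -/
theorem isPC_baseChange {B S : Type u} [CommRing B] [CommRing S] {τ : Type}
    {ψ : B →+* S} {T : FCx B τ} {T' : FCx S τ} (r : FCx.Map ψ T T') (hr : r.IsBC)
    (hflat : T.IsFlat) (h : T.IsPC) : T'.IsPC := by
  obtain ⟨K, φ, hφ⟩ := h
  exact ⟨K.map ψ, φ.push r, push_QI hφ hflat hr⟩

end Groth.Agent.Flat2B.GEx.BC
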