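import Groth.Agent.Flat2B.GExCech
import Groth.Agent.Flat2B.GExBC
import Groth.Agent.Flat2B.BCTools
import Mathlib.Algebra.Category.Ring.Constructions
import Mathlib.LinearAlgebra.DirectSum.Finsupp

/-!
# S1270 route E: AL6b-1, exactness of the columns `L (s) ⊗ M (s) → N (s)`
-/

universe u

open Finset MvPolynomial TensorProduct

namespace Groth.Agent.Flat2B.GEx

namespace Col

section Alg

variable {R : Type*} [CommRing R] (Q : Type*) [AddCommGroup Q] [Module R Q]

/-- A flat submodule whose inclusion stays injective after tensoring with `Q`. -/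
structure GoodM {E : Type*} [AddCommGroup E] [Module R E] (N : Submodule R E) : Prop where
  flat : Module.Flat R N
  inj : Function.Injective (N.subtype.lTensor Q)

variable {Q} {P P' E : Type*} [AddCommGroup P] [Module R P] [AddCommGroup P'] [Module R P']
  [AddCommGroup E] [Module R E]

lemma GoodM.top [Module.Flat R E] : GoodM Q (⊤ : Submodule R E) where
  flat := Module.Flat.of_linearEquiv Submodule.topEquiv
  inj := by
    have : (⊤ : Submodule R E).subtype = (Submodule.topEquiv (R := R) (M := E)).toLinearMap := rfl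
    rw [this]
    exact (LinearEquiv.lTensor Q Submodule.topEquiv).injective

lemma GoodM.ker {b : P →ₗ[R] E} [Module.Flat R P] (h : GoodM Q (LinearMap.range b)) :
    GoodM Q (LinearMap.ker b) := by
  have := h.flat
  have hs : Function.Surjective b.rangeRestrict := b.surjective_rangeRestrict
  rw [← LinearMap.ker_rangeRestrict b]
  exact ⟨BC.flat_ker _ hs, LinearMap.lTensor_injective_of_exact_of_flat _ hs
      (LinearMap.ker b.rangeRestrict).subtype (Submodule.subtype_injective _)
      (LinearMap.exact_subtype_ker_map _) Q⟩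

/-- Exactness after tensoring. -/
lemma exact_lTensorM {a : P' →ₗ[R] P} {b : P →ₗ[R] E} (hab : Function.Exact a b)
    (h : GoodM Q (LinearMap.range b)) : Function.Exact (a.lTensor Q) (b.lTensor Q) := by
  have hs : Function.Surjective b.rangeRestrict := b.surjective_rangeRestrict
  have hex : Function.Exact a b.rangeRestrict := by
    intro x
    rw [← hab x, ← Subtype.coe_injective.eq_iff]
    rfl
  have h1 := lTensor_exact Q hex hs
  have h2 : b.lTensor Q = ((LinearMap.range b).subtype.lTensor Q) ∘ₗ (b.rangeRestrict.lTensor Q) := by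
    rw [← LinearMap.lTensor_comp]
    rfl
  intro x
  rw [← h1 x, h2, LinearMap.comp_apply, ← map_zero ((LinearMap.range b).subtype.lTensor Q),
    h.inj.eq_iff]

/-- An exact complex of flat modules, bounded below, stays exact after tensoring. -/
theorem exact_family {P : ℕ → Type*} [∀ j, AddCommGroup (P j)] [∀ j, Module R (P j)]
    [∀ j, Module.Flat R (P j)] [Module.Flat R E] (d : ∀ j, P (j + 1) →ₗ[R] P j) (a : P 0 →ₗ[R] E)
    (ha : Function.Surjective a) (h0 : Function.Exact (d 0) a)
    (h1 : ∀ j, Function.Exact (d (j + 1)) (d j)) :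
    Function.Surjective (a.lTensor Q) ∧ Function.Exact ((d 0).lTensor Q) (a.lTensor Q) ∧
      ∀ j, Function.Exact ((d (j + 1)).lTensor Q) ((d j).lTensor Q) := by
  have g0 : GoodM Q (LinearMap.range a) := by
    rw [LinearMap.range_eq_top.2 ha]
    exact GoodM.top
  have g1 : ∀ k, GoodM Q (LinearMap.range (d k)) := by
    intro k
    induction k with
    | zero =>
      rw [← LinearMap.exact_iff.1 h0]
      exact g0.ker
    | succ k ih =>
      rw [← LinearMap.exact_iff.1 (h1 k)]
      exact ih.ker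
  exact ⟨LinearMap.lTensor_surjective Q ha, exact_lTensorM h0 g0, fun j => exact_lTensorM (h1 j) (g1 j)⟩

end Alg

section Sq

variable {R : Type*} [CommRing R] {Q : Type*} [AddCommGroup Q] [Module R Q]
  {P P' : Type*} [AddCommGroup P] [Module R P] [AddCommGroup P'] [Module R P']
  {X X' : Type*} [AddCommGroup X] [AddCommGroup X']

lemma comm_of {a : P →ₗ[R] P'} {a' : X →+ X'} (e : Q ⊗[R] P ≃+ X) (e' : Q ⊗[R] P' ≃+ X')
    (h : ∀ m p, a' (e (m ⊗ₜ p)) = e' (m ⊗ₜ a p)) (t : Q ⊗[R] P) : a' (e t) = e' (a.lTensor Q t) := by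
  induction t with
  | zero => simp
  | tmul s p => rw [h, LinearMap.lTensor_tmul]
  | add x y hx hy => rw [map_add, map_add, hx, hy, map_add, map_add]

end Sq

section Poly

variable {R : Type*} [CommRing R] {τ : Type} {M : Type u} [AddCommGroup M] [Module R M]

lemma coeff_smul_single (p : MvPolynomial τ R) (m : M) (μ : τ →₀ ℕ) :
    PM.coeff μ (p • PM.single 0 m) = p.coeff μ • m := by
  classical
  induction p using MvPolynomial.induction_on' with
  | monomial ν a =>
    rw [PM.monomial_smul, PM.coeff_smul, coeff_monomial]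
    by_cases h : ν ≤ μ
    · obtain ⟨ξ, rfl⟩ := exists_add_of_le h
      rw [PM.coeff_sh_add, PM.coeff_single]
      by_cases hξ : ξ = 0
      · subst hξ
        rw [if_pos rfl, if_pos (add_zero _).symm]
      · rw [if_neg (Ne.symm hξ), if_neg (fun h => hξ (by simpa using h)), zero_smul, smul_zero]
    · rw [PM.coeff_sh_of_not _ _ _ h, if_neg (fun h' => h (le_of_eq h')), zero_smul, smul_zero]
  | add p q hp hq => rw [add_smul, PM.coeff_add, hp, hq, coeff_add, add_smul]

/-- `M ⊗[R] R[y] ≃ M[y]`. -/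
theorem exists_equiv_PM : ∃ e : M ⊗[R] MvPolynomial τ R ≃+ PM τ M,
    ∀ m p, e (m ⊗ₜ p) = p • PM.single 0 m := by
  classical
  refine ⟨(((LinearEquiv.lTensor M (MvPolynomial.basisMonomials τ R).repr).trans
    (TensorProduct.finsuppScalarRight R R M (τ →₀ ℕ))).toAddEquiv :
      M ⊗[R] MvPolynomial τ R ≃+ ((τ →₀ ℕ) →₀ M)), fun m p => ?_⟩
  ext μ
  rw [coeff_smul_single]
  exact TensorProduct.finsuppScalarRight_apply_tmul_apply m ((MvPolynomial.basisMonomials τ R).repr p) μ

/-- `M ⊗[R] R[y]^G ≃ M[y]^G`. -/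
theorem exists_equiv_pi (G : Type*) [Finite G] : ∃ e : M ⊗[R] (G → MvPolynomial τ R) ≃+ (G → PM τ M),
    ∀ m p b, e (m ⊗ₜ p) b = p b • PM.single 0 m := by
  classical
  cases nonempty_fintype G
  obtain ⟨e, he⟩ := exists_equiv_PM (R := R) (τ := τ) (M := M)
  refine ⟨(TensorProduct.piRight R R M (fun _ : G => MvPolynomial τ R)).toAddEquiv.trans
    (AddEquiv.piCongrRight fun _ => e), fun m p b => ?_⟩
  have h2 : ((TensorProduct.piRight R R M (fun _ : G => MvPolynomial τ R)) (m ⊗ₜ p)) b = m ⊗ₜ p b := by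
    simp
  change e (((TensorProduct.piRight R R M (fun _ : G => MvPolynomial τ R)) (m ⊗ₜ p)) b) = _
  rw [h2, he]

end Poly

section Push

open CategoryTheory in
/-- `N = A₁ ⊗[A] M`, `A₁ = R' ⊗[R] A` implies `N = M ⊗[R] R'`. -/
theorem exists_equiv_gen {R R' A A₁ : Type u} [CommRing R] [CommRing R'] [CommRing A] [CommRing A₁]
    (f : R →+* R') (g : R →+* A) (g' : R' →+* A₁) (h : A →+* A₁)
    (hpo : IsPushout (CommRingCat.ofHom f) (CommRingCat.ofHom g) (CommRingCat.ofHom g')
      (CommRingCat.ofHom h)) {M N : Type u} [AddCommGroup M] [Module A M] [AddCommGroup N]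
    [Module A₁ N] (κ : M →+ N) (hκ : IsBCMap h κ) :
    letI := f.toAlgebra
    letI : Module R M := Module.compHom M g
    ∃ e : M ⊗[R] R' ≃+ N, ∀ m c, e (m ⊗ₜ c) = g' c • κ m := by
  let i1 : Algebra R R' := f.toAlgebra
  let i2 : Algebra R A := g.toAlgebra
  let i3 : Algebra R' A₁ := g'.toAlgebra
  let i4 : Algebra A A₁ := h.toAlgebra
  let i5 : Algebra R A₁ := (g'.comp f).toAlgebra
  have t1 : IsScalarTower R R' A₁ := IsScalarTower.of_algebraMap_eq fun _ => rfl
  have hw : h.comp g = g'.comp f := congrArg CommRingCat.Hom.hom hpo.w.symm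
  have t2 : IsScalarTower R A A₁ := IsScalarTower.of_algebraMap_eq fun x =>
    (RingHom.congr_fun hw x).symm
  let i6 : Module R M := Module.compHom M g
  have t3 : IsScalarTower R A M := IsScalarTower.of_algebraMap_smul fun _ _ => rfl
  let i7 : Module A N := Module.compHom N h
  have t4 : IsScalarTower A A₁ N := IsScalarTower.of_algebraMap_smul fun _ _ => rfl
  let i8 : Module R' N := Module.compHom N g'
  have t5 : IsScalarTower R' A₁ N := IsScalarTower.of_algebraMap_smul fun _ _ => rfl
  let i9 : Module R N := Module.compHom N (g'.comp f)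
  have t6 : IsScalarTower R R' N := IsScalarTower.of_algebraMap_smul fun _ _ => rfl
  have t7 : IsScalarTower R A N := IsScalarTower.of_algebraMap_smul fun x n => by
    change h (g x) • n = (g' (f x)) • n
    rw [← RingHom.comp_apply, hw]
    rfl
  obtain ⟨hf, hbc⟩ := hκ
  have hPO : Algebra.IsPushout R R' A A₁ := CommRingCat.isPushout_iff_isPushout.1 hpo
  have hPO' : Algebra.IsPushout R A R' A₁ := Algebra.IsPushout.symm hPO
  have h2 := BCTools.isBaseChange_of_isPushout (S := R) (A := A) (S₁ := R') (A₁ := A₁) _ hbc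
  refine ⟨(TensorProduct.comm R M R').toAddEquiv.trans h2.equiv.toAddEquiv, fun m c => ?_⟩
  change h2.equiv (TensorProduct.comm R M R' (m ⊗ₜ c)) = _
  rw [TensorProduct.comm_tmul, IsBaseChange.equiv_tmul]
  rfl

end Push

section Main

open CategoryTheory

variable {Λ S : Type u} [CommRing Λ] [CommRing S] {τ ι : Type} [LinearOrder ι] [Fintype ι]
  {C : RDiag Λ (NE ι)} {ψ : Λ →+* S} {D : RDiag S (NE ι)} {i₀ : RDiag.Hom ψ C D}

omit [Fintype ι] in
/-- `D t = C t ⊗[C s] D s`. -/
theorem isPushout_res (hi₀ : i₀.IsPO) {s t : NE ι} (h : s ≤ t) :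
    IsPushout (CommRingCat.ofHom (C.res h).toRingHom) (CommRingCat.ofHom (i₀.f s))
      (CommRingCat.ofHom (i₀.f t)) (CommRingCat.ofHom (D.res h).toRingHom) := by
  refine (IsPushout.of_top (h₁₁ := CommRingCat.ofHom ψ)
    (v₁₁ := CommRingCat.ofHom (algebraMap Λ (C.C s))) (v₁₂ := CommRingCat.ofHom (algebraMap S (D.C s)))
    (h₂₁ := CommRingCat.ofHom (i₀.f s)) (v₂₁ := CommRingCat.ofHom (C.res h).toRingHom)
    (v₂₂ := CommRingCat.ofHom (D.res h).toRingHom) (h₃₁ := CommRingCat.ofHom (i₀.f t)) ?_ ?_ (hi₀ s)).flip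
  · have e1 : CommRingCat.ofHom (algebraMap Λ (C.C s)) ≫ CommRingCat.ofHom (C.res h).toRingHom =
        CommRingCat.ofHom (algebraMap Λ (C.C t)) := by
      ext x
      exact (C.res h).commutes x
    have e2 : CommRingCat.ofHom (algebraMap S (D.C s)) ≫ CommRingCat.ofHom (D.res h).toRingHom =
        CommRingCat.ofHom (algebraMap S (D.C t)) := by
      ext x
      exact (D.res h).commutes x
    rw [e1, e2]
    exact hi₀ t
  · ext x
    exact (i₀.f_res h x).symm

end Main

section Eval

variable {τ : Type} {R' : Type u} [CommRing R'] {M N : Type u} [AddCommGroup M] [AddCommGroup N]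
  [Module R' N]

/-- Evaluation of a polynomial with coefficients in `M` along `κ : M → N` and `β : τ → R'`. -/
noncomputable def evalM (β : τ → R') (κ : M →+ N) : PM τ M →+ N :=
  (Finsupp.liftAddHom (fun μ : τ →₀ ℕ =>
    (DistribMulAction.toAddMonoidEnd R' N (μ.prod fun t k => β t ^ k)).comp κ) :
      ((τ →₀ ℕ) →₀ M) →+ N)

lemma evalM_single (β : τ → R') (κ : M →+ N) (μ : τ →₀ ℕ) (m : M) :
    evalM β κ (PM.single μ m) = (μ.prod fun t k => β t ^ k) • κ m :=
  Finsupp.liftAddHom_apply_single _ _ _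

lemma evalM_smul_single {R : Type u} [CommRing R] [Module R M] (f : R →+* R') (β : τ → R')
    (κ : M →+ N) (hκ : ∀ (r : R) m, κ (r • m) = f r • κ m) (p : MvPolynomial τ R) (m : M) :
    evalM β κ (p • PM.single 0 m) = MvPolynomial.eval₂ f β p • κ m := by
  induction p using MvPolynomial.induction_on' with
  | monomial μ a =>
    have h : (monomial μ a) • PM.single (0 : τ →₀ ℕ) m = PM.single μ (a • m) := by
      classical
      ext ν
      rw [coeff_smul_single, coeff_monomial, PM.coeff_single]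
      split_ifs
      · rfl
      · rw [zero_smul]
    rw [h, evalM_single, hκ, eval₂_monomial, smul_smul, mul_comm]
  | add p q hp hq => rw [add_smul, map_add, hp, hq, eval₂_add, add_smul]

end Eval

section DelP

variable {Λ : Type u} [CommRing Λ] {τ ι : Type} [LinearOrder ι] {C : RDiag Λ (NE ι)}
  (L : LData C τ)

open Classical in
lemma delP_apply (j : ℕ) (s : NE ι) (v : L.G (j + 1) s → MvPolynomial τ (C.C s)) (b : L.G j s) :
    L.delP j s v b = ∑ a : L.G (j + 1) s, v a * MvPolynomial.map (C.res a.2).toRingHom (L.δ j a.1 b.1) := by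
  unfold LData.delP
  change (∑ a : L.G (j + 1) s, _) = _
  congr!

lemma delP_delP (j : ℕ) (s : NE ι) (v : L.G (j + 2) s → MvPolynomial τ (C.C s)) :
    L.delP j s (L.delP (j + 1) s v) = 0 := by
  classical
  funext c
  rw [delP_apply, Pi.zero_apply]
  simp only [delP_apply, Finset.sum_mul, mul_assoc]
  rw [Finset.sum_comm]
  refine Finset.sum_eq_zero fun a _ => ?_
  rw [← Finset.mul_sum]
  have : (∑ b : L.G (j + 1) s, MvPolynomial.map (C.res a.2).toRingHom (L.δ (j + 1) a.1 b.1) *
      MvPolynomial.map (C.res b.2).toRingHom (L.δ j b.1 c.1)) = 0 := by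
    let g : ∀ b : L.J (j + 1), MvPolynomial τ (C.C (L.loc (j + 2) a.1)) := fun b =>
      if h : L.loc (j + 1) b ≤ L.loc (j + 2) a.1 then
        MvPolynomial.map (C.res h).toRingHom (L.δ j b c.1) else 0
    have h0 := congrArg (MvPolynomial.map (C.res a.2).toRingHom) (L.δ_δ j a.1 c.1 g (fun b h => by
      simp only [g, dif_pos h]))
    rw [map_sum, map_zero] at h0
    rw [← h0]
    let h : L.J (j + 1) → MvPolynomial τ (C.C s) := fun b =>
      if hb : L.loc (j + 1) b ≤ s then
        MvPolynomial.map (C.res a.2).toRingHom (L.δ (j + 1) a.1 b) *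
        MvPolynomial.map (C.res hb).toRingHom (L.δ j b c.1) else 0
    have e1 : ∀ b, MvPolynomial.map (C.res a.2).toRingHom (L.δ (j + 1) a.1 b * g b) = h b := by
      intro b
      by_cases hba : L.loc (j + 1) b ≤ L.loc (j + 2) a.1
      · simp only [g, h, dif_pos hba, dif_pos (hba.trans a.2)]
        rw [map_mul, MvPolynomial.map_map]
        congr 3
        ext x
        exact C.res_res hba a.2 x
      · have h0 : L.δ (j + 1) a.1 b = 0 := by
          by_contra h'
          exact hba (L.δ_loc _ _ _ h')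
        simp only [h, h0, map_zero, zero_mul, dite_eq_ite, ite_self]
    rw [Finset.sum_congr rfl fun b _ => e1 b]
    rw [← Finset.sum_subset (Finset.filter_subset (fun b => L.loc (j + 1) b ≤ s) Finset.univ)
      (fun b _ hb => by
        have hb' : ¬ L.loc (j + 1) b ≤ s := fun h' => hb (by simp [h'])
        simp only [dif_neg hb'])]
    rw [Finset.sum_subtype (p := fun b => L.loc (j + 1) b ≤ s) _ (fun b => by simp)]
    exact Finset.sum_congr rfl fun b _ => by simp only [dif_pos b.2]
  rw [this, mul_zero]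

lemma exists_degP {j : ℕ} {s : NE ι} (v : L.G j s → MvPolynomial τ (C.C s)) : ∃ e, L.DegP e v := by
  classical
  refine ⟨Finset.univ.sup fun a : L.G j s => (v a).totalDegree + L.w j a.1, fun a => Or.inr ?_⟩
  exact Finset.le_sup (f := fun a : L.G j s => (v a).totalDegree + L.w j a.1) (Finset.mem_univ a)

variable (i : ι) (b : τ → C.C (sg i)) (ε : ∀ a : L.J 0, C.C (ins i (L.loc 0 a)))

open Classical in
lemma augP_apply (s : NE ι) (v : L.G 0 s → MvPolynomial τ (C.C s)) :
    L.augP i b ε s v = ∑ a : L.G 0 s, evi C i b s (v a) * C.res (ins_le_ins i a.2) (ε a.1) := by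
  unfold LData.augP
  congr!

end DelP

section Final

open CategoryTheory

variable {Λ S : Type u} [CommRing Λ] [CommRing S] {τ ι : Type} [LinearOrder ι]
  {C : RDiag Λ (NE ι)} {ψ : Λ →+* S} {D : RDiag S (NE ι)}

/-- The augmentation `L_0 (s) ⊗ M → N`. -/
noncomputable def aug (L : LData C τ) (i : ι) (b : τ → C.C (sg i))
    (ε : ∀ a : L.J 0, C.C (ins i (L.loc 0 a))) (i₀ : RDiag.Hom ψ C D) (s : NE ι) {M N : Type u}
    [AddCommGroup M] [AddCommGroup N] [Module (D.C (ins i s)) N] (κ : M →+ N) :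
    (L.G 0 s → PM τ M) →+ N where
  toFun v := by
    classical
    exact ∑ a : L.G 0 s, i₀.f (ins i s) (C.res (ins_le_ins i a.2) (ε a.1)) •
      evalM (fun t => i₀.f (ins i s) (C.res (sg_le_ins i s) (b t))) κ (v a)
  map_zero' := by
    simp
  map_add' v v' := by
    simp [Finset.sum_add_distrib]

open Classical in
lemma aug_apply (L : LData C τ) (i : ι) (b : τ → C.C (sg i))
    (ε : ∀ a : L.J 0, C.C (ins i (L.loc 0 a))) (i₀ : RDiag.Hom ψ C D) (s : NE ι) {M N : Type u}
    [AddCommGroup M] [AddCommGroup N] [Module (D.C (ins i s)) N] (κ : M →+ N)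
    (v : L.G 0 s → PM τ M) : aug L i b ε i₀ s κ v =
      ∑ a : L.G 0 s, i₀.f (ins i s) (C.res (ins_le_ins i a.2) (ε a.1)) •
        evalM (fun t => i₀.f (ins i s) (C.res (sg_le_ins i s) (b t))) κ (v a) := by
  change (∑ a : L.G 0 s, _) = _
  congr!

variable {L : LData C τ} {i : ι} {b : τ → C.C (sg i)} {ε : ∀ a : L.J 0, C.C (ins i (L.loc 0 a))}
  {i₀ : RDiag.Hom ψ C D}

open Classical in
lemma del_map_apply (M : MDiag D) (j : ℕ) (s : NE ι) (v : L.G (j + 1) s → PM τ (M.M s))
    (a : L.G j s) : (L.map i₀).del M j s v a =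
      ∑ b : L.G (j + 1) s,
        MvPolynomial.map (i₀.f s) (MvPolynomial.map (C.res b.2).toRingHom (L.δ j b.1 a.1)) • v b := by
  refine ((L.map i₀).del_apply M j s v a).trans ?_
  change (∑ b : L.G (j + 1) s, MvPolynomial.map (D.res b.2).toRingHom
    (MvPolynomial.map (i₀.f _) (L.δ j b.1 a.1)) • v b) = _
  refine Finset.sum_congr rfl fun b _ => ?_
  rw [MvPolynomial.map_map, MvPolynomial.map_map]
  congr 3
  ext x
  exact (i₀.f_res b.2 x).symm

variable (L i₀) in
/-- The differential of `L ⊗ M` at `s`, as an additive map. -/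
noncomputable def dl (M : MDiag D) (j : ℕ) (s : NE ι) :
    (L.G (j + 1) s → PM τ (M.M s)) →+ (L.G j s → PM τ (M.M s)) :=
  ((L.map i₀).del M j s).toAddMonoidHom

open Classical in
lemma dl_apply (M : MDiag D) (j : ℕ) (s : NE ι) (v : L.G (j + 1) s → PM τ (M.M s))
    (a : L.G j s) : dl L i₀ M j s v a =
      ∑ b : L.G (j + 1) s,
        MvPolynomial.map (i₀.f s) (MvPolynomial.map (C.res b.2).toRingHom (L.δ j b.1 a.1)) • v b :=
  del_map_apply M j s v a

/-- Exactness of the columns. -/
theorem col_exact (hC : C.Good) (hL : L.IsResol i b ε) (hi₀ : i₀.IsPO) (s : NE ι)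
    (hgen : Function.Surjective (evi C i b s)) (M : MDiag D) {N : Type u}
    [AddCommGroup N] [Module (D.C (ins i s)) N] (κ : M.M s →+ N)
    (hκ : IsBCMap (D.res (le_ins i s)).toRingHom κ) :
    (∀ n, ∃ v : L.G 0 s → PM τ (M.M s), aug L i b ε i₀ s κ v = n) ∧
    (∀ v : L.G 0 s → PM τ (M.M s), aug L i b ε i₀ s κ v = 0 ↔ ∃ v', dl L i₀ M 0 s v' = v) ∧
    ∀ j (v : L.G (j + 1) s → PM τ (M.M s)), dl L i₀ M j s v = 0 ↔
      ∃ v', dl L i₀ M (j + 1) s v' = v := by
  classical
  let m1 : Module (C.C s) (M.M s) := Module.compHom _ (i₀.f s)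
  let a1 : Algebra (C.C s) (C.C (ins i s)) := (C.res (le_ins i s)).toRingHom.toAlgebra
  have hfl : Module.Flat (C.C s) (C.C (ins i s)) := hC.flat (le_ins i s)
  -- the source complex
  let d : ∀ j, (L.G (j + 1) s → MvPolynomial τ (C.C s)) →ₗ[C.C s] (L.G j s → MvPolynomial τ (C.C s)) :=
    fun j => (L.delP j s).restrictScalars (C.C s)
  let a : (L.G 0 s → MvPolynomial τ (C.C s)) →ₗ[C.C s] C.C (ins i s) :=
    { toFun := L.augP i b ε s
      map_add' := fun v w => by
        rw [augP_apply, augP_apply, augP_apply, ← Finset.sum_add_distrib]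
        exact Finset.sum_congr rfl fun x _ => by rw [Pi.add_apply, map_add, add_mul]
      map_smul' := fun r v => by
        rw [augP_apply, augP_apply, RingHom.id_apply, Finset.smul_sum]
        refine Finset.sum_congr rfl fun x _ => ?_
        rw [Pi.smul_apply, MvPolynomial.smul_eq_C_mul, map_mul, mul_assoc, Algebra.smul_def]
        congr 1
        exact MvPolynomial.eval₂_C _ _ _ }
  have ha : Function.Surjective a := by
    intro c
    obtain ⟨p, rfl⟩ := hgen c
    obtain ⟨v, -, hv⟩ := hL.surj s p _ le_rfl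
    exact ⟨v, hv⟩
  have h0 : Function.Exact (d 0) a := by
    intro v
    constructor
    · intro hv
      obtain ⟨e, he⟩ := exists_degP L v
      obtain ⟨v', -, hv'⟩ := hL.exact0 s e v he hv
      exact ⟨v', hv'⟩
    · rintro ⟨v', rfl⟩
      exact hL.aug_del s v'
  have h1 : ∀ j, Function.Exact (d (j + 1)) (d j) := by
    intro j v
    constructor
    · intro hv
      obtain ⟨e, he⟩ := exists_degP L v
      obtain ⟨v', -, hv'⟩ := hL.exact j s e v he hv
      exact ⟨v', hv'⟩
    · rintro ⟨v', rfl⟩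
      exact delP_delP L j s v'
  obtain ⟨q1, q2, q3⟩ := exact_family (Q := M.M s)
    (P := fun j => (L.G j s → MvPolynomial τ (C.C s))) d a ha h0 h1
  choose eP heP using fun j => exists_equiv_pi (R := C.C s) (τ := τ) (M := M.M s) (L.G j s)
  obtain ⟨eN, heN⟩ := exists_equiv_gen _ _ _ _ (isPushout_res hi₀ (le_ins i s)) κ hκ
  let a2 : Algebra (C.C s) (D.C s) := (i₀.f s).toAlgebra
  have tw : IsScalarTower (C.C s) (D.C s) (M.M s) := IsScalarTower.of_algebraMap_smul fun _ _ => rfl
  have c1 : ∀ j m p, dl L i₀ M j s (eP (j + 1) (m ⊗ₜ p)) = eP j (m ⊗ₜ d j p) := by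
    intro j m p
    funext b'
    rw [heP, dl_apply]
    have e1 : (d j p) b' = ∑ x : L.G (j + 1) s,
        p x * MvPolynomial.map (C.res x.2).toRingHom (L.δ j x.1 b'.1) := delP_apply L j s p b'
    rw [e1, Finset.sum_smul]
    refine Finset.sum_congr rfl fun x _ => ?_
    rw [heP, mul_comm, mul_smul]
    exact PM.map_algebraMap_smul (S := C.C s) (R := D.C s) _ _
  have c0 : ∀ m p, aug L i b ε i₀ s κ (eP 0 (m ⊗ₜ p)) = eN (m ⊗ₜ a p) := by
    intro m p
    rw [heN, aug_apply]
    have e1 : a p = ∑ x : L.G 0 s, evi C i b s (p x) * C.res (ins_le_ins i x.2) (ε x.1) :=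
      augP_apply L i b ε s p
    rw [e1, map_sum, Finset.sum_smul]
    refine Finset.sum_congr rfl fun x _ => ?_
    rw [heP, evalM_smul_single ((D.res (le_ins i s)).toRingHom.comp (i₀.f s)), map_mul, mul_comm,
      mul_smul]
    · congr 2
      rw [evi, MvPolynomial.coe_eval₂Hom, MvPolynomial.hom_eval₂]
      congr 1
      ext y
      exact (i₀.f_res (le_ins i s) y).symm
    · intro r m
      obtain ⟨hf, -⟩ := hκ
      exact hf (i₀.f s r) m
  refine ⟨fun n => ?_, fun v => ?_, fun j v => ?_⟩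
  · obtain ⟨t, rfl⟩ := eN.surjective n
    obtain ⟨t', rfl⟩ := q1 t
    exact ⟨eP 0 t', comm_of (eP 0) eN c0 t'⟩
  · obtain ⟨t, rfl⟩ := (eP 0).surjective v
    rw [comm_of (eP 0) eN c0, EmbeddingLike.map_eq_zero_iff]
    refine (q2 t).trans ?_
    constructor
    · rintro ⟨t', rfl⟩
      exact ⟨eP 1 t', comm_of (eP 1) (eP 0) (c1 0) t'⟩
    · rintro ⟨v', hv'⟩
      obtain ⟨t', rfl⟩ := (eP 1).surjective v'
      exact ⟨t', (eP 0).injective ((comm_of (eP 1) (eP 0) (c1 0) t').symm.trans hv')⟩
  · obtain ⟨t, rfl⟩ := (eP (j + 1)).surjective v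
    rw [comm_of (eP (j + 1)) (eP j) (c1 j), EmbeddingLike.map_eq_zero_iff]
    refine (q3 j t).trans ?_
    constructor
    · rintro ⟨t', rfl⟩
      exact ⟨eP (j + 2) t', comm_of (eP (j + 2)) (eP (j + 1)) (c1 (j + 1)) t'⟩
    · rintro ⟨v', hv'⟩
      obtain ⟨t', rfl⟩ := (eP (j + 2)).surjective v'
      exact ⟨t', (eP (j + 1)).injective
        ((comm_of (eP (j + 2)) (eP (j + 1)) (c1 (j + 1)) t').symm.trans hv')⟩

end Final

end Col

end Groth.Agent.Flat2B.GEx
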