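import Groth.Agent.Flat2B.GExHDiag
import Groth.Agent.Flat2B.GExAL6col
import Mathlib.RingTheory.TensorProduct.MvPolynomial
import Mathlib.RingTheory.RingHom.Flat

/-!
# S1270 route E, AL5 (p1): pushouts and flatness of the restrictions
-/

set_option autoImplicit false
universe u

open Finset MvPolynomial CategoryTheory

namespace Groth.Agent.Flat2B.GEx

/-- `E[y_σ] = E ⊗[B] B[y_σ]`. -/
theorem isPushout_mvPolynomial (σ : Type) (B E : Type u) [CommRing B] [CommRing E] [Algebra B E] :
    IsPushout (CommRingCat.ofHom (MvPolynomial.C (σ := σ) (R := B)))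
      (CommRingCat.ofHom (algebraMap B E))
      (CommRingCat.ofHom (MvPolynomial.map (σ := σ) (algebraMap B E)))
      (CommRingCat.ofHom (MvPolynomial.C (σ := σ) (R := E))) := by
  letI : Algebra (MvPolynomial σ B) (MvPolynomial σ E) := MvPolynomial.algebraMvPolynomial
  exact CommRingCat.isPushout_of_isPushout B (MvPolynomial σ B) E (MvPolynomial σ E)

/-- AL5 (p1). `D[y_σ] = C ⊗ B[y_σ]`. -/
theorem RDiag.Hom.IsPO.poly {Λ B : Type u} [CommRing Λ] [CommRing B] {P : Type} [Preorder P]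
    {ψ : Λ →+* B} {C : RDiag Λ P} {D : RDiag B P} {i₀ : RDiag.Hom ψ C D} (hi₀ : i₀.IsPO)
    (σ : Type) : (i₀.poly σ).IsPO := fun s =>
  (hi₀ s).paste_horiz (isPushout_mvPolynomial σ B (D.C s))

/-- AL5 (p1'). The restrictions of the base change of a good diagram are flat. -/
theorem flat_res_of_isPO {Λ B : Type u} [CommRing Λ] [CommRing B] {ι : Type} [LinearOrder ι]
    {ψ : Λ →+* B} {C : RDiag Λ (NE ι)} (hC : C.Good) {D : RDiag B (NE ι)}
    {i₀ : RDiag.Hom ψ C D} (hi₀ : i₀.IsPO) {s t : NE ι} (h : s ≤ t) :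
    (D.res h).toRingHom.Flat := by
  letI := (C.res h).toRingHom.toAlgebra
  letI := (i₀.f s).toAlgebra
  letI := (i₀.f t).toAlgebra
  letI := (D.res h).toRingHom.toAlgebra
  letI : Algebra (C.C s) (D.C t) := ((i₀.f t).comp (C.res h).toRingHom).toAlgebra
  have : IsScalarTower (C.C s) (C.C t) (D.C t) := IsScalarTower.of_algebraMap_eq fun x => rfl
  have : IsScalarTower (C.C s) (D.C s) (D.C t) :=
    IsScalarTower.of_algebraMap_eq fun x => i₀.f_res h x
  have : Algebra.IsPushout (C.C s) (C.C t) (D.C s) (D.C t) :=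
    CommRingCat.isPushout_iff_isPushout.1 (Col.isPushout_res hi₀ h)
  exact RingHom.Flat.isStableUnderBaseChange (C.C s) (C.C t) (D.C s) (D.C t) (hC.flat h)

end Groth.Agent.Flat2B.GEx
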