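import Groth.Agent.Flat2B.GExAL5Defs

/-!
# S1270 route E, AL5 (b): way-out argument
-/

universe u

open Finset MvPolynomial Groth.Agent.Ega3B.Cube

namespace Groth.Agent.Flat2B.GEx

/-! ### Generalities on filtered complexes -/

namespace FCx

variable {S : Type u} [CommRing S] {τ : Type} (T : FCx.{u} S τ)

/-- The submodule of cycles. -/
noncomputable def cycS : ∀ k : ℕ, Submodule (MvPolynomial τ S) (T.X k)
  | 0 => ⊤
  | k + 1 => LinearMap.ker (T.d k)

variable {T}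

lemma mem_cycS {k : ℕ} {x : T.X k} : x ∈ T.cycS k ↔ T.IsCyc k x := by
  cases k with
  | zero => exact ⟨fun _ => trivial, fun _ => Submodule.mem_top⟩
  | succ k => exact LinearMap.mem_ker

lemma d_mem_cycS {k : ℕ} (y : T.X (k + 1)) : T.d k y ∈ T.cycS k := by
  cases k with
  | zero => exact Submodule.mem_top
  | succ k => exact LinearMap.mem_ker.2 (T.d_d k y)

lemma smul_memF {k e w : ℕ} {p : MvPolynomial τ S} {x : T.X k}
    (hp : p = 0 ∨ p.totalDegree + w ≤ e) (hx : x ∈ T.F k w) : p • x ∈ T.F k e := by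
  rcases hp with rfl | hp
  · rw [zero_smul]; exact Submodule.zero_mem _
  · have h1 := T.smul_mem k w (e - w) p x (by omega) hx
    rwa [Nat.add_sub_cancel' (by omega)] at h1

end FCx

namespace FCD

variable {S : Type u} [CommRing S] {τ ι : Type} [LinearOrder ι] [Fintype ι] {C : FCD.{u} S τ ι}

omit [Fintype ι] in
lemma smul_memF {j : ℕ} {s : NE ι} {e w : ℕ} {p : MvPolynomial τ S} {x : C.E j s}
    (hp : p = 0 ∨ p.totalDegree + w ≤ e) (hx : x ∈ C.F j s w) : p • x ∈ C.F j s e := by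
  rcases hp with rfl | hp
  · rw [zero_smul]; exact Submodule.zero_mem _
  · have h1 := C.smul_mem j s w (e - w) p x (by omega) hx
    rwa [Nat.add_sub_cancel' (by omega)] at h1

/-- The index `(s, j)`. -/
abbrev ridx {j l k : ℕ} (hk : j + l = k) (s : {s : NE ι // s.1.card + l = Fintype.card ι}) :
    Idx ι k := ⟨(s.1, j), by have := s.2; dsimp only; omega⟩

lemma ridx_cases {j l k : ℕ} (hk : j + l = k) (q : Idx ι k) : q.1.2 ≠ j ∨ ∃ s, q = ridx hk s := by
  obtain ⟨⟨s, j'⟩, hq⟩ := q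
  by_cases h : j' = j
  · subst h
    right
    have h1 := CD.card_le s
    dsimp only at hq
    exact ⟨⟨s, by omega⟩, rfl⟩
  · exact Or.inl h

/-- The `j`-th row. -/
def row {j l k : ℕ} (hk : j + l = k) (x : C.toCD.X k) : C.Col j l := fun s => x (ridx hk s)

lemma row_apply {j l k : ℕ} (hk : j + l = k) (x : C.toCD.X k) (s) : row hk x s = x (ridx hk s) := rfl

lemma ev_row {j l k : ℕ} (hk : j + l = k) (x : C.toCD.X k) (s : NE ι) (t : Finset ι) :
    CD.ev x s j t = colev (row hk x) s t := by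
  have h1 : t.card ≤ Fintype.card ι := card_le_univ _
  unfold CD.ev colev
  by_cases h : t.Nonempty ∧ t ⊆ s.1 ∧ t.card + l = Fintype.card ι
  · rw [dif_pos h, dif_pos ⟨h.1, h.2.1, by omega⟩]
    rfl
  · rw [dif_neg h, dif_neg]
    rintro ⟨h2, h3, h4⟩
    exact h ⟨h2, h3, by omega⟩

lemma ev_zero {k : ℕ} (x : C.toCD.X k) (s : NE ι) (j : ℕ) (t : Finset ι)
    (h : ∀ q : Idx ι k, q.1.2 = j → x q = 0) : CD.ev x s j t = 0 := by
  unfold CD.ev
  split_ifs with h1
  · rw [h _ rfl, map_zero]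
  · rfl

/-- Elements of the total complex concentrated in one row. -/
def emb {j l k : ℕ} (hk : j + l = k) (y : C.Col j l) : C.toCD.X k := fun q =>
  if h : q.1.2 = j then
    (h.symm ▸ y ⟨q.1.1, by have := q.2; have := CD.card_le q.1.1; omega⟩ : C.E q.1.2 q.1.1)
  else 0

lemma emb_ridx {j l k : ℕ} (hk : j + l = k) (y : C.Col j l) (s) : emb hk y (ridx hk s) = y s := by
  unfold emb
  rw [dif_pos rfl]

lemma emb_ne {j l k : ℕ} (hk : j + l = k) (y : C.Col j l) (q : Idx ι k) (h : q.1.2 ≠ j) :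
    emb hk y q = 0 := dif_neg h

lemma row_emb {j l k : ℕ} (hk : j + l = k) (y : C.Col j l) : row hk (emb hk y) = y :=
  funext fun s => emb_ridx hk y s

lemma emb_mem {j l k : ℕ} (hk : j + l = k) (y : C.Col j l) {e : ℕ} (hy : ∀ s, y s ∈ C.F j s.1 e) :
    emb hk y ∈ C.tot.F k e := by
  intro q _
  rcases ridx_cases hk q with h | ⟨s, rfl⟩
  · rw [emb_ne _ _ _ h]
    exact Submodule.zero_mem _
  · rw [emb_ridx]
    exact hy s

/-- The differential of a row of vertical cycles. -/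
lemma D_emb_of_vcyc {j l k : ℕ} (hk : j + l = k) (y : C.Col j (l + 1)) (hy : ∀ s, C.VCyc j s.1 (y s)) :
    C.toCD.D k (emb (by omega : j + (l + 1) = k + 1) y) = emb hk (colD y) := by
  have hk1 : j + (l + 1) = k + 1 := by omega
  funext q
  rw [CD.D_apply]
  have h1 : C.del q.1.2 q.1.1 (emb hk1 y (CD.up q)) = 0 := by
    rcases ridx_cases hk1 (CD.up q) with h | ⟨s, hs⟩
    · rw [emb_ne _ _ _ h, map_zero]
    · obtain ⟨⟨t, j'⟩, hq⟩ := q
      obtain ⟨h1, rfl⟩ := Prod.mk.inj (congrArg Subtype.val hs)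
      dsimp only at h1
      subst h1
      have h2 : emb hk1 y (CD.up ⟨(s.1, j'), hq⟩) = y s := emb_ridx hk1 y s
      rw [h2]
      exact hy s
  rw [h1, smul_zero, zero_add]
  rcases ridx_cases hk q with h | ⟨s, rfl⟩
  · rw [emb_ne _ _ _ h]
    refine Finset.sum_eq_zero fun i _ => ?_
    rw [ev_zero _ _ _ _ fun q' hq' => emb_ne _ _ _ (fun h' => h (hq'.symm.trans h')), smul_zero]
  · rw [emb_ridx]
    refine Finset.sum_congr rfl fun i _ => ?_
    rw [ev_row hk1, row_emb]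

/-- The rows `≤ j` of the differential of the row `j + 1`. -/
lemma D_emb_succ {j l k : ℕ} (hk : j + l = k) (v : C.Col (j + 1) l) (s) :
    C.toCD.D k (emb (by omega : (j + 1) + l = k + 1) v) (ridx hk s) =
      (-1 : ℤ) ^ (s.1.1.card + 1) • C.del j s.1 (v s) := by
  have hk1 : (j + 1) + l = k + 1 := by omega
  rw [CD.D_apply]
  have h1 : emb hk1 v (CD.up (ridx hk s)) = v s := emb_ridx hk1 v s
  rw [h1, Finset.sum_eq_zero, add_zero]
  intro i _
  rw [ev_zero _ _ _ _ fun q' hq' => emb_ne _ _ _ (by rw [hq']; dsimp only; omega), smul_zero]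

lemma D_emb_lt {j l k : ℕ} (hk : j + l = k) (v : C.Col (j + 1) l) (q : Idx ι k) (hq : q.1.2 < j) :
    C.toCD.D k (emb (by omega : (j + 1) + l = k + 1) v) q = 0 := by
  rw [CD.D_apply, emb_ne _ _ _ (by dsimp only [CD.up]; omega), map_zero, smul_zero, zero_add]
  refine Finset.sum_eq_zero fun i _ => ?_
  rw [ev_zero _ _ _ _ fun q' hq' => emb_ne _ _ _ (by rw [hq']; omega), smul_zero]

variable (C) in
/-- Cycles of the total complex without components in the rows `< j`. -/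
noncomputable def Zr (j k : ℕ) : Submodule (MvPolynomial τ S) (C.tot.X k) where
  carrier := {x | x ∈ C.tot.cycS k ∧ ∀ q : Idx ι k, q.1.2 < j → x q = 0}
  add_mem' := by
    rintro a b ⟨h1, h2⟩ ⟨h3, h4⟩
    refine ⟨add_mem h1 h3, fun q hq => ?_⟩
    change a q + b q = 0
    rw [h2 q hq, h4 q hq, add_zero]
  zero_mem' := ⟨zero_mem _, fun _ _ => rfl⟩
  smul_mem' := by
    rintro c a ⟨h1, h2⟩
    refine ⟨Submodule.smul_mem _ _ h1, fun q hq => ?_⟩
    change c • a q = 0
    rw [h2 q hq, smul_zero]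

lemma mem_Zr {j k : ℕ} {x : C.tot.X k} :
    x ∈ C.Zr j k ↔ x ∈ C.tot.cycS k ∧ ∀ q : Idx ι k, q.1.2 < j → x q = 0 := Iff.rfl

/-- The first row consists of vertical cycles. -/
lemma row_vcyc {j l k : ℕ} (hk : j + l = k) {x : C.tot.X k} (hx : x ∈ C.Zr j k) (s) :
    C.VCyc j s.1 (row hk x s) := by
  cases j with
  | zero => trivial
  | succ j =>
    obtain ⟨k, rfl⟩ : ∃ k', k = k' + 1 := ⟨j + l, by omega⟩
    have h1 : C.toCD.D k x = 0 := LinearMap.mem_ker.1 hx.1
    have h2 := congrFun h1 (ridx (by omega : j + l = k) s)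
    rw [CD.D_apply, Pi.zero_apply, Finset.sum_eq_zero fun i _ => by
      rw [ev_zero _ _ _ _ fun q hq => hx.2 q (by rw [hq]; exact Nat.lt_succ_self j), smul_zero],
      add_zero] at h2
    change C.del j s.1 (x (ridx hk s)) = 0
    have h3 : (-1 : ℤ) ^ (s.1.1.card + 1) • (-1 : ℤ) ^ (s.1.1.card + 1) •
        C.del j s.1 (x (ridx hk s)) = 0 := by
      rw [show (-1 : ℤ) ^ (s.1.1.card + 1) • C.del j s.1 (x (ridx hk s)) = 0 from h2, smul_zero]
    rwa [smul_smul, ← mul_pow, neg_one_mul, neg_neg, one_pow, one_smul] at h3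

/-- The first row is a Cech cocycle modulo vertical boundaries. -/
lemma row_colCyc {j l k e : ℕ} (hk : j + l = k) {x : C.tot.X k} (hx : x ∈ C.Zr j k)
    (hxe : x ∈ C.tot.F k e) : C.ColCyc j e l (row hk x) := by
  cases l with
  | zero => trivial
  | succ l =>
    obtain ⟨k, rfl⟩ : ∃ k', k = k' + 1 := ⟨j + l, by omega⟩
    have h1 : C.toCD.D k x = 0 := LinearMap.mem_ker.1 hx.1
    intro s
    have hk' : j + l = k := by omega
    have h2 := congrFun h1 (ridx hk' s)
    rw [CD.D_apply, Pi.zero_apply] at h2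
    refine ⟨-((-1 : ℤ) ^ (s.1.1.card + 1) • x (CD.up (ridx hk' s))), ?_, ?_⟩
    · exact neg_mem (zsmul_mem (show x (CD.up (ridx hk' s)) ∈ C.F (j + 1) s.1 e from
        hxe (CD.up (ridx hk' s)) trivial) _)
    · rw [map_neg, map_zsmul]
      refine (neg_eq_of_add_eq_zero_right ?_).symm
      refine Eq.trans ?_ h2
      congr 1
      refine Finset.sum_congr rfl fun i _ => ?_
      rw [ev_row hk]

/-- The inductive statement. -/
def PW (C : FCD.{u} S τ ι) (j k : ℕ) : Prop :=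
  ∃ (I : Type) (_ : Fintype I) (w : I → ℕ) (z : I → C.tot.X k), (∀ i, z i ∈ C.tot.F k (w i)) ∧
    (∀ i, z i ∈ C.tot.cycS k) ∧
    ∀ e, ∀ x ∈ C.tot.F k e, x ∈ C.Zr j k → ∃ p : I → MvPolynomial τ S,
      (∀ i, p i = 0 ∨ (p i).totalDegree + w i ≤ e) ∧
      ∃ y ∈ C.tot.F (k + 1) e, x = ∑ i, p i • z i + C.tot.d k y

lemma PW_top (k : ℕ) : C.PW (k + 1) k := by
  refine ⟨Empty, inferInstance, fun i => i.elim, fun i => i.elim, fun i => i.elim, fun i => i.elim,
    fun e x hx hx' => ⟨fun i => i.elim, fun i => i.elim, 0, Submodule.zero_mem _, ?_⟩⟩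
  rw [map_zero, Finset.univ_eq_empty, Finset.sum_empty, add_zero]
  funext q
  exact hx'.2 q (by have := q.2; omega)

/-- The combinations of the generators of the cohomology of the `j`-th row which are rows of
cycles of the total complex. -/
def liftR {j l k : ℕ} (hk : j + l = k) {m : ℕ} (w : Fin m → ℕ) (z : Fin m → C.Col j l) (e : ℕ) :
    AddSubmonoid (Fin m → MvPolynomial τ S) where
  carrier := {p | (∀ a, p a = 0 ∨ (p a).totalDegree + w a ≤ e) ∧ ∃ x ∈ C.tot.F k e, x ∈ C.Zr j k ∧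
    ∀ s, row hk x s = ∑ a, p a • z a s}
  zero_mem' := ⟨fun _ => Or.inl rfl, 0, Submodule.zero_mem _, Submodule.zero_mem _, fun s => by
    simp only [Pi.zero_apply, zero_smul, Finset.sum_const_zero]
    rfl⟩
  add_mem' := by
    rintro p p' ⟨h1, x, hx, hx1, hx2⟩ ⟨h1', x', hx', hx1', hx2'⟩
    refine ⟨fun a => ?_, x + x', Submodule.add_mem _ hx hx', Submodule.add_mem _ hx1 hx1',
      fun s => ?_⟩
    · rcases h1 a with h | h
      · rcases h1' a with h' | h'
        · left; rw [Pi.add_apply, h, h', add_zero]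
        · right; rw [Pi.add_apply, h, zero_add]; exact h'
      · rcases h1' a with h' | h'
        · right; rw [Pi.add_apply, h', add_zero]; exact h
        · right
          have := totalDegree_add (p a) (p' a)
          rw [Pi.add_apply]
          omega
    · simp only [Pi.add_apply, add_smul, Finset.sum_add_distrib]
      rw [← hx2 s, ← hx2' s]
      rfl

lemma smul_mem_liftR {j l k : ℕ} (hk : j + l = k) {m : ℕ} (w : Fin m → ℕ) (z : Fin m → C.Col j l)
    (e n : ℕ) (q : MvPolynomial τ S) (p : Fin m → MvPolynomial τ S) (hq : q.totalDegree ≤ n)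
    (hp : p ∈ liftR hk w z e) : q • p ∈ liftR hk w z (e + n) := by
  obtain ⟨h1, x, hx, hx1, hx2⟩ := hp
  refine ⟨fun a => ?_, q • x, C.tot.smul_mem _ _ _ _ _ hq hx, Submodule.smul_mem _ _ hx1,
    fun s => ?_⟩
  · rcases h1 a with h | h
    · left; rw [Pi.smul_apply, h, smul_zero]
    · right
      rw [Pi.smul_apply, smul_eq_mul]
      have := totalDegree_mul q (p a)
      omega
  · simp only [Pi.smul_apply, smul_eq_mul, mul_smul]
    rw [← Finset.smul_sum, ← hx2 s]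
    rfl

/-- The inductive step. -/
lemma PW_step [IsNoetherianRing S] [Finite τ] {j k : ℕ} (hjk : j ≤ k) (h : C.FG1 j (k - j))
    (ih : C.PW (j + 1) k) : C.PW j k := by
  classical
  obtain ⟨l, hk⟩ : ∃ l, j + l = k := ⟨k - j, by omega⟩
  have hl : k - j = l := by omega
  rw [hl] at h
  obtain ⟨m, w, z, hz, hzc, hgen⟩ := h
  obtain ⟨m₁, w₁, v₁, hv₁, hgen₁⟩ := Rees.exists_fg (B := S) (τ := τ) w
    (fun a => Pi.single a (1 : MvPolynomial τ S)) (liftR hk w z) (smul_mem_liftR hk w z)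
    (fun e v hv => ⟨v, hv.1, by
      funext b
      simp [Finset.sum_apply, Pi.single_apply]⟩)
  choose hF₁ x₁ hx₁ hZ₁ hr₁ using hv₁
  obtain ⟨I₂, _, w₂, z₂, hz₂, hc₂, hgen₂⟩ := ih
  refine ⟨Fin m₁ ⊕ I₂, inferInstance, Sum.elim w₁ w₂, Sum.elim x₁ z₂, ?_, ?_, ?_⟩
  · rintro (i | i)
    · exact hx₁ i
    · exact hz₂ i
  · rintro (i | i)
    · exact (hZ₁ i).1
    · exact hc₂ i
  intro e x hx hxZ
  obtain ⟨p₀, hp₀, y, v, hy, hyc, hv, hxy⟩ := hgen e (row hk x) (fun s => hx (ridx hk s) trivial)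
    (row_vcyc hk hxZ) (row_colCyc hk hxZ hx)
  have hk1 : j + (l + 1) = k + 1 := by omega
  have hk2 : (j + 1) + l = k + 1 := by omega
  let v' : C.Col (j + 1) l := fun s => (-1 : ℤ) ^ (s.1.1.card + 1) • v s
  have hv' : ∀ s, v' s ∈ C.F (j + 1) s.1 e := fun s => zsmul_mem (hv s) _
  let Y : C.tot.X (k + 1) := emb hk1 y + emb hk2 v'
  have hY : Y ∈ C.tot.F (k + 1) e := Submodule.add_mem _ (emb_mem hk1 y hy) (emb_mem hk2 v' hv')
  have hDY : C.toCD.D k Y = emb hk (colD y) + C.toCD.D k (emb hk2 v') := by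
    change C.toCD.D k (emb hk1 y + emb hk2 v') = _
    rw [map_add, D_emb_of_vcyc hk y hyc]
  have hsq : ∀ (s : {s : NE ι // s.1.card + l = Fintype.card ι}) (u : C.E j s.1),
      (-1 : ℤ) ^ (s.1.1.card + 1) • (-1 : ℤ) ^ (s.1.1.card + 1) • u = u := by
    intro s u
    rw [smul_smul, ← mul_pow, neg_one_mul, neg_neg, one_pow, one_smul]
  have hrowY : ∀ s, C.toCD.D k Y (ridx hk s) = colD y s + C.del j s.1 (v s) := by
    intro s
    rw [hDY, Pi.add_apply, emb_ridx, D_emb_succ hk v' s]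
    congr 1
    change _ • C.del j s.1 ((-1 : ℤ) ^ (s.1.1.card + 1) • v s) = _
    rw [map_zsmul, hsq]
  have hltY : ∀ q : Idx ι k, q.1.2 < j → C.toCD.D k Y q = 0 := by
    intro q hq
    rw [hDY, Pi.add_apply, emb_ne _ _ _ (by omega), D_emb_lt hk v' q hq, add_zero]
  have hYZ : C.tot.d k Y ∈ C.Zr j k := ⟨FCx.d_mem_cycS Y, hltY⟩
  let x' : C.tot.X k := x - C.tot.d k Y
  have hx'F : x' ∈ C.tot.F k e := Submodule.sub_mem _ hx (C.tot.d_mem _ _ _ hY)
  have hx'Z : x' ∈ C.Zr j k := Submodule.sub_mem _ hxZ hYZ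
  have hx'r : ∀ s, row hk x' s = ∑ a, p₀ a • z a s := by
    intro s
    change x (ridx hk s) - C.toCD.D k Y (ridx hk s) = _
    rw [hrowY s]
    have h1 : x (ridx hk s) = ∑ a, p₀ a • z a s + colD y s + C.del j s.1 (v s) := hxy s
    rw [h1]
    abel
  obtain ⟨r, hr, hr'⟩ := hgen₁ e p₀ ⟨hp₀, x', hx'F, hx'Z, hx'r⟩
  let x'' : C.tot.X k := x' - ∑ i, r i • x₁ i
  have hx''F : x'' ∈ C.tot.F k e := Submodule.sub_mem _ hx'F
    (Submodule.sum_mem _ fun i _ => FCx.smul_memF (hr i) (hx₁ i))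
  have hx''Z : x'' ∈ C.Zr (j + 1) k := by
    have h1 : x'' ∈ C.Zr j k := Submodule.sub_mem _ hx'Z
      (Submodule.sum_mem _ fun i _ => Submodule.smul_mem _ _ (hZ₁ i))
    refine ⟨h1.1, fun q hq => ?_⟩
    rcases Nat.lt_succ_iff_lt_or_eq.1 hq with h2 | h2
    · exact h1.2 q h2
    · rcases ridx_cases hk q with h3 | ⟨s, rfl⟩
      · exact absurd h2 h3
      · change x' (ridx hk s) - (∑ i, r i • x₁ i) (ridx hk s) = 0
        have h4 : x' (ridx hk s) = ∑ a, p₀ a • z a s := hx'r s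
        have h5 : (∑ i, r i • x₁ i) (ridx hk s) = ∑ i, r i • ∑ a, v₁ i a • z a s := by
          refine (Finset.sum_apply _ _ _).trans (Finset.sum_congr rfl fun i _ => ?_)
          rw [← hr₁ i s]
          rfl
        rw [h4, h5, hr', sub_eq_zero]
        simp only [Finset.sum_apply, Pi.smul_apply, smul_eq_mul, Finset.sum_smul, Finset.smul_sum,
          mul_smul]
        exact Finset.sum_comm
  obtain ⟨p₂, hp₂, y₂, hy₂, hxy₂⟩ := hgen₂ e x'' hx''F hx''Z
  refine ⟨Sum.elim r p₂, ?_, y₂ + Y, Submodule.add_mem _ hy₂ hY, ?_⟩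
  · rintro (i | i)
    · exact hr i
    · exact hp₂ i
  · rw [Fintype.sum_sum_type]
    simp only [Sum.elim_inl, Sum.elim_inr]
    rw [map_add, add_assoc, ← add_assoc (∑ i, p₂ i • z₂ i), ← hxy₂]
    change x = ∑ i, r i • x₁ i + (x - C.tot.d k Y - ∑ i, r i • x₁ i + C.tot.d k Y)
    abel

end FCD

/-- AL5 (b). -/
theorem FCD.tot_homFG {S : Type u} [CommRing S] [IsNoetherianRing S] {τ ι : Type} [Finite τ]
    [LinearOrder ι] [Fintype ι] (C : FCD.{u} S τ ι) (h : ∀ j k, C.FG1 j k) (k : ℕ) :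
    C.tot.HomFG k := by
  have h1 : ∀ n, n ≤ k + 1 → C.PW (k + 1 - n) k := by
    intro n
    induction n with
    | zero => exact fun _ => FCD.PW_top k
    | succ n ih =>
      intro hn
      have h2 : k + 1 - n = k + 1 - (n + 1) + 1 := by omega
      refine FCD.PW_step (by omega) (h _ _) ?_
      rw [← h2]
      exact ih (by omega)
  obtain ⟨I, _, w, z, hz, hc, hgen⟩ := h1 (k + 1) le_rfl
  obtain ⟨m, ⟨ε⟩⟩ := Finite.exists_equiv_fin I
  refine ⟨m, fun i => w (ε.symm i), fun i => z (ε.symm i), fun i => hz _,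
    fun i => FCx.mem_cycS.1 (hc _), fun e x hx hxc => ?_⟩
  obtain ⟨p, hp, y, hy, hxy⟩ := hgen e x hx ⟨FCx.mem_cycS.2 hxc, fun q hq => by omega⟩
  refine ⟨fun i => p (ε.symm i), fun i => hp _, y, hy, ?_⟩
  rw [hxy]
  congr 1
  exact (Equiv.sum_comp ε.symm (fun i => p i • z i)).symm

end Groth.Agent.Flat2B.GEx
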