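import Groth.Agent.Flat2B.GExCech
import Groth.Agent.Flat2B.GExWayOut
import Groth.Agent.Flat2B.GExConv
import Groth.Agent.Flat2B.GExPO
import Groth.Agent.Flat2B.GExFinH
import Groth.Agent.Flat2B.GExCart

/-!
# S1270 route E: AL5, finiteness over Noetherian rings
-/

universe u

open Finset MvPolynomial

namespace Groth.Agent.Flat2B.GEx

/-- AL5. Finite generation of the homology of the total complexes over Noetherian rings. -/
theorem homFG {Λ : Type u} [CommRing Λ] {τ ι : Type} [Finite τ] [LinearOrder ι] [Fintype ι]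
    {C : RDiag Λ (NE ι)} (hC : C.Good) (hfin : C.FIN)
    (hft : ∀ s, (algebraMap Λ (C.C s)).FiniteType)
    {i : ι} {b : τ → C.C (sg i)} {L : LData C τ}
    {ε : ∀ a : L.J 0, C.C (ins i (L.loc 0 a))} (hL : L.IsResol i b ε)
    {B : Type u} [CommRing B] [IsNoetherianRing B] {ψ : Λ →+* B} {D : RDiag B (NE ι)}
    {i₀ : RDiag.Hom ψ C D} (hi₀ : i₀.IsPO) (M : MDiag D)
    (hM : ∀ s, Module.Finite (D.C s) (M.M s)) (hcart : M.IsCart) (k : ℕ) :
    ((L.map i₀).tensor M).tot.HomFG k := by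
  have h1 : ∀ j, (hDiag L i₀ M j).CechFG := fun j =>
    hfin (MvPolynomial (Option τ) B) ((MvPolynomial.C (σ := Option τ)).comp ψ) (D.poly (Option τ))
      (i₀.poly (Option τ)) (hi₀.poly (Option τ)) (hDiag L i₀ M j)
      (fun s => finite_hDiag L hft hi₀ M hM j s)
      (isCart_hDiag hC hL (fun h => flat_res_of_isPO hC hi₀ h) M hcart j)
  exact FCD.tot_homFG _ (fun j k => fg1_of_cechFG L i₀ M j (h1 j) k) k

end Groth.Agent.Flat2B.GEx
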