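import Groth.Agent.Flat2B.GExCech
import Groth.Agent.Flat2B.GExRees

/-!
# S1270 route E, AL5: columns of a filtered complex of diagrams, elementwise finiteness of the
Cech cohomology of the homology diagrams
-/

universe u

open Finset MvPolynomial Groth.Agent.Ega3B.Cube

namespace Groth.Agent.Flat2B.GEx

namespace FCD

variable {S : Type u} [CommRing S] {τ ι : Type} [LinearOrder ι] [Fintype ι] (C : FCD.{u} S τ ι)

/-- Cech cochains of the diagram `C.E j`, indexed homologically. -/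
abbrev Col (j k : ℕ) : Type u := ∀ s : {s : NE ι // s.1.card + k = Fintype.card ι}, C.E j s.1

variable {C}

/-- The restriction to `s` of the `t`-component. -/
noncomputable def colev {j k : ℕ} (x : C.Col j k) (s : NE ι) (t : Finset ι) : C.E j s :=
  if h : t.Nonempty ∧ t ⊆ s.1 ∧ t.card + k = Fintype.card ι then
    C.res j (show (⟨t, h.1⟩ : NE ι) ≤ s from h.2.1) (x ⟨⟨t, h.1⟩, h.2.2⟩) else 0

/-- The Cech differential. -/
noncomputable def colD {j k : ℕ} (x : C.Col j (k + 1)) : C.Col j k := fun s =>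
  ∑ i ∈ s.1.1, sgn i s.1.1 • colev x s.1 (s.1.1.erase i)

variable (C)

/-- Vertical cycles. -/
def VCyc : ∀ (j : ℕ) (s : NE ι), C.E j s → Prop
  | 0, _, _ => True
  | j + 1, s, x => C.del j s x = 0

/-- Cech cocycles modulo the vertical boundaries of `F e`. -/
def ColCyc (j e : ℕ) : ∀ k : ℕ, C.Col j k → Prop
  | 0, _ => True
  | k + 1, x => ∀ s : {s : NE ι // s.1.card + k = Fintype.card ι},
      ∃ u ∈ C.F (j + 1) s.1 e, colD x s = C.del j s.1 u

/-- Elementwise filtered form of: the Cech cohomology, in homological degree `k`, of the diagram of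
Rees modules `⊕ e, H_j (F e)` is finitely generated. -/
def FG1 (j k : ℕ) : Prop :=
  ∃ (m : ℕ) (w : Fin m → ℕ) (z : Fin m → C.Col j k),
    (∀ a s, z a s ∈ C.F j s.1 (w a)) ∧ (∀ a s, C.VCyc j s.1 (z a s)) ∧
    ∀ (e : ℕ) (x : C.Col j k), (∀ s, x s ∈ C.F j s.1 e) → (∀ s, C.VCyc j s.1 (x s)) →
      C.ColCyc j e k x →
      ∃ p : Fin m → MvPolynomial τ S, (∀ a, p a = 0 ∨ (p a).totalDegree + w a ≤ e) ∧
      ∃ (y : C.Col j (k + 1)) (v : C.Col (j + 1) k), (∀ s, y s ∈ C.F j s.1 e) ∧
        (∀ s, C.VCyc j s.1 (y s)) ∧ (∀ s, v s ∈ C.F (j + 1) s.1 e) ∧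
        ∀ s, x s = ∑ a, p a • z a s + colD y s + C.del j s.1 (v s)

end FCD

namespace LData

variable {Λ : Type u} [CommRing Λ] {τ ι : Type} [LinearOrder ι] {C : RDiag Λ (NE ι)}
  (L : LData C τ)

/-- The differential of `L (t) ⊗ N` for a module `N` over a `C (t)`-algebra `E`. -/
noncomputable def delX (t : NE ι) {E : Type u} [CommRing E] (χ : C.C t →+* E) (N : Type u)
    [AddCommGroup N] [Module E N] (j : ℕ) :
    (L.G (j + 1) t → PM τ N) →ₗ[MvPolynomial τ E] (L.G j t → PM τ N) where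
  toFun v b := by
    classical exact ∑ a : L.G (j + 1) t,
      MvPolynomial.map (χ.comp (C.res a.2).toRingHom) (L.δ j a.1 b.1) • v a
  map_add' v v' := by
    funext b
    simp only [Pi.add_apply, smul_add, Finset.sum_add_distrib]
  map_smul' p v := by
    funext b
    simp only [Pi.smul_apply, RingHom.id_apply, Finset.smul_sum]
    refine Finset.sum_congr rfl fun a _ => ?_
    rw [smul_smul, smul_smul, mul_comm]

open Classical in
lemma delX_apply (t : NE ι) {E : Type u} [CommRing E] (χ : C.C t →+* E) (N : Type u)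
    [AddCommGroup N] [Module E N] (j : ℕ) (v : L.G (j + 1) t → PM τ N) (b : L.G j t) :
    L.delX t χ N j v b = ∑ a : L.G (j + 1) t,
      MvPolynomial.map (χ.comp (C.res a.2).toRingHom) (L.δ j a.1 b.1) • v a := by
  unfold delX
  change (∑ a : L.G (j + 1) t, _) = _
  congr!

/-- Cycles of `(L (t) ⊗ N) / (L (s) ⊗ N)`. -/
def QCyc (s t : NE ι) {E : Type u} [CommRing E] (χ : C.C t →+* E) (N : Type u)
    [AddCommGroup N] [Module E N] : ∀ j : ℕ, (L.G j t → PM τ N) → Prop
  | 0, _ => True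
  | j + 1, x => ∀ b : L.G j t, ¬ L.loc j b.1 ≤ s → L.delX t χ N j x b = 0

end LData

end Groth.Agent.Flat2B.GEx
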