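import Groth.Agent.Flat2B.GExAL6c
import Groth.Agent.Flat2B.GExAL6col

/-!
# S1270 route E: AL6, comparison with the Cech complex
-/

universe u

open Finset MvPolynomial

namespace Groth.Agent.Flat2B.GEx

section AL6

variable {Λ S : Type u} [CommRing Λ] [CommRing S] {τ ι : Type} [LinearOrder ι] [Fintype ι]
  {C : RDiag Λ (NE ι)}

/-- The module structure of `N s` over `D (s ∪ {i})` for a diagram `N` over `D.shift i`. -/
instance shiftMod {D : RDiag S (NE ι)} {i : ι} (N : MDiag (D.shift i)) (s : NE ι) :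
    Module (D.C (ins i s)) (N.M s) := N.mod s

/-- Evaluation of a polynomial with coefficients in `M` along `κ : M → N` and `β : τ → R'`. -/
noncomputable def PM.eval {R' : Type u} [CommRing R'] {M N : Type u} [AddCommGroup M]
    [AddCommGroup N] [Module R' N] (β : τ → R') (κ : M →+ N) : PM τ M →+ N :=
  (Finsupp.liftAddHom (fun μ : τ →₀ ℕ =>
    (DistribMulAction.toAddMonoidEnd R' N (μ.prod fun t k => β t ^ k)).comp κ) :
      ((τ →₀ ℕ) →₀ M) →+ N)

/-- The augmentation `L_0 (s) ⊗ M (s) → N (s)`, `N (s) = C (s ∪ {i}) ⊗ M (s)`. -/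
noncomputable def augM (L : LData C τ) (i : ι) (b : τ → C.C (sg i))
    (ε : ∀ a : L.J 0, C.C (ins i (L.loc 0 a))) {ψ : Λ →+* S} {D : RDiag S (NE ι)}
    (i₀ : RDiag.Hom ψ C D) (M : MDiag D) (N : MDiag (D.shift i)) (κ : ∀ s, M.M s →+ N.M s)
    (s : NE ι) : (L.G 0 s → PM τ (M.M s)) →+ N.M s where
  toFun v := by
    classical
    exact ∑ a : L.G 0 s, i₀.f (ins i s) (C.res (ins_le_ins i a.2) (ε a.1)) •
      PM.eval (fun t => i₀.f (ins i s) (C.res (sg_le_ins i s) (b t))) (κ s) (v a)
  map_zero' := by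
    simp
  map_add' v v' := by
    simp [Finset.sum_add_distrib]

variable {L : LData C τ} {i : ι} {b : τ → C.C (sg i)}
  {ε : ∀ a : L.J 0, C.C (ins i (L.loc 0 a))} {ψ : Λ →+* S} {D : RDiag S (NE ι)}
  {i₀ : RDiag.Hom ψ C D} {M : MDiag D} {N : MDiag (D.shift i)} {κ : ∀ s, M.M s →+ N.M s}

/-- The induced map from the total complex to the Cech complex of `N`. -/
noncomputable def augTot (L : LData C τ) (i : ι) (b : τ → C.C (sg i))
    (ε : ∀ a : L.J 0, C.C (ins i (L.loc 0 a))) {ψ : Λ →+* S} {D : RDiag S (NE ι)}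
    (i₀ : RDiag.Hom ψ C D) (M : MDiag D) (N : MDiag (D.shift i)) (κ : ∀ s, M.M s →+ N.M s)
    (k : ℕ) : ((L.map i₀).tensor M).tot.X k →+ N.HK k where
  toFun x s := augM L i b ε i₀ M N κ s.1 (x ⟨(s.1, 0), by have := s.2; dsimp only; omega⟩)
  map_zero' := by
    funext s
    exact map_zero _
  map_add' x y := by
    funext s
    exact map_add _ _ _

namespace AL6

open Col Groth.Agent.Ega3B.Cube

omit [Fintype ι] in
lemma PM_hom_ext {M A : Type*} [AddCommGroup M] [AddCommGroup A] {f g : PM τ M →+ A}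
    (h : ∀ μ m, f (PM.single μ m) = g (PM.single μ m)) : f = g :=
  Finsupp.addHom_ext (M := M) h

omit [Fintype ι] in
open Classical in
lemma augM_apply (s : NE ι) (v : L.G 0 s → PM τ (M.M s)) : augM L i b ε i₀ M N κ s v =
    ∑ a : L.G 0 s, i₀.f (ins i s) (C.res (ins_le_ins i a.2) (ε a.1)) •
      PM.eval (fun t => i₀.f (ins i s) (C.res (sg_le_ins i s) (b t))) (κ s) (v a) := by
  change (∑ a : L.G 0 s, _) = _
  congr!

omit [Fintype ι] in
lemma eval_single {R' : Type u} [CommRing R'] {M N : Type u} [AddCommGroup M]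
    [AddCommGroup N] [Module R' N] (β : τ → R') (κ : M →+ N) (μ : τ →₀ ℕ) (m : M) :
    PM.eval β κ (PM.single μ m) = (μ.prod fun t k => β t ^ k) • κ m :=
  Finsupp.liftAddHom_apply_single _ _ _

omit [Fintype ι] in
lemma Nres_smul {s t : NE ι} (h : s ≤ t) (c : D.C (ins i s)) (n : N.M s) :
    N.res h (c • n) = D.res (ins_le_ins i h) c • N.res h n := N.res_smul h c n

omit [Fintype ι] in
lemma res_eval (hκr : ∀ {s t : NE ι} (h : s ≤ t) m, κ t (M.res h m) = N.res h (κ s m))
    {s t : NE ι} (h : s ≤ t) (y : PM τ (M.M s)) :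
    N.res h (PM.eval (fun x => i₀.f (ins i s) (C.res (sg_le_ins i s) (b x))) (κ s) y) =
      PM.eval (fun x => i₀.f (ins i t) (C.res (sg_le_ins i t) (b x))) (κ t) (PM.map (M.res h) y) := by
  have key : (N.res h).comp (PM.eval (fun x => i₀.f (ins i s) (C.res (sg_le_ins i s) (b x))) (κ s)) =
      (PM.eval (fun x => i₀.f (ins i t) (C.res (sg_le_ins i t) (b x))) (κ t)).comp
        (PM.map (M.res h)) := by
    refine PM_hom_ext fun μ m => ?_
    have h1 : PM.map (M.res h) (PM.single μ m) = PM.single μ (M.res h m) := by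
      classical
      ext ν
      rw [PM.coeff_map, PM.coeff_single, PM.coeff_single]
      split_ifs
      · rfl
      · exact map_zero _
    rw [AddMonoidHom.comp_apply, AddMonoidHom.comp_apply, h1, eval_single, eval_single, Nres_smul,
      hκr, Finsupp.prod, Finsupp.prod, map_prod]
    congr 1
    refine Finset.prod_congr rfl fun x _ => ?_
    rw [map_pow, ← i₀.f_res, C.res_res]
  exact DFunLike.congr_fun key y

omit [Fintype ι] in
/-- The augmentation commutes with restriction. -/
lemma augM_res (hκr : ∀ {s t : NE ι} (h : s ≤ t) m, κ t (M.res h m) = N.res h (κ s m))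
    {s t : NE ι} (h : s ≤ t) (v : L.G 0 s → PM τ (M.M s)) :
    augM L i b ε i₀ M N κ t ((L.map i₀).res M 0 h v) = N.res h (augM L i b ε i₀ M N κ s v) := by
  classical
  refine (augM_apply t _).trans ?_
  rw [augM_apply, map_sum]
  let f : L.J 0 → N.M t := fun a => if ha : L.loc 0 a ≤ s then
    i₀.f (ins i t) (C.res (ins_le_ins i (ha.trans h)) (ε a)) •
      PM.eval (fun x => i₀.f (ins i t) (C.res (sg_le_ins i t) (b x))) (κ t)
        (PM.map (M.res h) (v ⟨a, ha⟩)) else 0
  have e1 : ∀ a : L.G 0 s, N.res h (i₀.f (ins i s) (C.res (ins_le_ins i a.2) (ε a.1)) •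
      PM.eval (fun x => i₀.f (ins i s) (C.res (sg_le_ins i s) (b x))) (κ s) (v a)) = f a.1 := by
    intro a
    simp only [f, dif_pos a.2]
    rw [Nres_smul, res_eval hκr h, ← i₀.f_res, C.res_res]
  have e2 : ∀ a : L.G 0 t, i₀.f (ins i t) (C.res (ins_le_ins i a.2) (ε a.1)) •
      PM.eval (fun x => i₀.f (ins i t) (C.res (sg_le_ins i t) (b x))) (κ t)
        ((L.map i₀).res M 0 h v a) = f a.1 := by
    intro a
    by_cases ha : L.loc 0 a.1 ≤ s
    · have h1 : (L.map i₀).res M 0 h v a = PM.map (M.res h) (v ⟨a.1, ha⟩) :=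
        (L.map i₀).res_of M 0 h v a ha
      rw [h1]
      simp only [f, dif_pos ha]
    · have h1 : (L.map i₀).res M 0 h v a = 0 := (L.map i₀).res_of_not M 0 h v a ha
      rw [h1, map_zero, smul_zero]
      simp only [f, dif_neg ha]
  rw [Finset.sum_congr rfl fun a _ => e1 a]
  refine (Finset.sum_congr rfl fun a _ => e2 a).trans ?_
  have s1 : ∑ a : L.G 0 t, f a.1 = ∑ a ∈ Finset.univ.filter (fun a => L.loc 0 a ≤ t), f a :=
    (Finset.sum_subtype (Finset.univ.filter fun a => L.loc 0 a ≤ t) (fun b => by simp) f).symm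
  have s2 : ∑ a : L.G 0 s, f a.1 = ∑ a ∈ Finset.univ.filter (fun a => L.loc 0 a ≤ s), f a :=
    (Finset.sum_subtype (Finset.univ.filter fun a => L.loc 0 a ≤ s) (fun b => by simp) f).symm
  rw [s2]
  refine s1.trans ?_
  symm
  refine Finset.sum_subset (fun a ha => ?_) (fun a _ ha => ?_)
  · simp only [Finset.mem_filter, Finset.mem_univ, true_and] at ha ⊢
    exact ha.trans h
  · simp only [Finset.mem_filter, Finset.mem_univ, true_and] at ha
    simp only [f, dif_neg ha]

omit [Fintype ι] in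
open Classical in
lemma del_smul_single (s : NE ι) (j : ℕ) (m : M.M s) (p : L.G (j + 1) s → MvPolynomial τ (C.C s)) :
    dl L i₀ M j s (fun a => MvPolynomial.map (i₀.f s) (p a) • PM.single 0 m) =
      fun a => MvPolynomial.map (i₀.f s) (L.delP j s p a) • PM.single 0 m := by
  funext a
  rw [dl_apply, delP_apply, map_sum, Finset.sum_smul]
  refine Finset.sum_congr rfl fun x _ => ?_
  rw [smul_smul, map_mul, mul_comm]

omit [Fintype ι] in
lemma augM_smul_single (hκ : ∀ s (c : D.C s) m, κ s (c • m) = D.res (le_ins i s) c • κ s m)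
    (s : NE ι) (m : M.M s) (p : L.G 0 s → MvPolynomial τ (C.C s)) :
    augM L i b ε i₀ M N κ s (fun a => MvPolynomial.map (i₀.f s) (p a) • PM.single 0 m) =
      i₀.f (ins i s) (L.augP i b ε s p) • κ s m := by
  classical
  rw [augM_apply, augP_apply, map_sum, Finset.sum_smul]
  refine Finset.sum_congr rfl fun x _ => ?_
  rw [map_mul, mul_comm, mul_smul]
  congr 1
  refine (evalM_smul_single (D.res (le_ins i s)).toRingHom _ (κ s) (hκ s) _ m).trans ?_
  congr 1
  rw [MvPolynomial.eval₂_map, evi, MvPolynomial.coe_eval₂Hom, MvPolynomial.hom_eval₂]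
  congr 1
  ext y
  exact (i₀.f_res (le_ins i s) y).symm

omit [Fintype ι] in
/-- The augmentation kills boundaries. -/
lemma augM_del (hL : L.IsResol i b ε)
    (hκ : ∀ s (c : D.C s) m, κ s (c • m) = D.res (le_ins i s) c • κ s m) (s : NE ι)
    (v : L.G 1 s → PM τ (M.M s)) : augM L i b ε i₀ M N κ s (dl L i₀ M 0 s v) = 0 := by
  classical
  have key : (augM L i b ε i₀ M N κ s).comp (dl L i₀ M 0 s) = 0 := by
    refine AddMonoidHom.functions_ext _ _ _ fun a y => ?_
    have key2 : ((augM L i b ε i₀ M N κ s).comp (dl L i₀ M 0 s)).comp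
        (AddMonoidHom.single (fun _ : L.G 1 s => PM τ (M.M s)) a) = 0 := by
      refine PM_hom_ext fun μ m => ?_
      have h1 : (Pi.single a (PM.single μ m) : L.G 1 s → PM τ (M.M s)) = fun x =>
          MvPolynomial.map (i₀.f s) ((Pi.single a (monomial μ 1) :
            L.G 1 s → MvPolynomial τ (C.C s)) x) • PM.single 0 m := by
        funext x
        ext ν
        rw [coeff_smul_single]
        by_cases hx : x = a
        · subst hx
          rw [Pi.single_eq_same, Pi.single_eq_same, map_monomial, coeff_monomial, PM.coeff_single,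
            map_one]
          split_ifs
          · rw [one_smul]
          · rw [zero_smul]
        · rw [Pi.single_eq_of_ne hx, Pi.single_eq_of_ne hx, map_zero, coeff_zero, zero_smul]
          rfl
      change augM L i b ε i₀ M N κ s (dl L i₀ M 0 s (Pi.single a (PM.single μ m))) = 0
      rw [h1, del_smul_single, augM_smul_single hκ, hL.aug_del, map_zero, zero_smul]
    exact DFunLike.congr_fun key2 y
  exact DFunLike.congr_fun key v

/-- The augmentation of the restriction of a component of a cochain. -/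
lemma augM_ev (hκr : ∀ {s t : NE ι} (h : s ≤ t) m, κ t (M.res h m) = N.res h (κ s m)) {k : ℕ}
    (x : ((L.map i₀).tensor M).tot.X (k + 1)) (s : NE ι) (t : Finset ι) (ht : t ⊆ s.1) :
    augM L i b ε i₀ M N κ s (CD.ev (C := ((L.map i₀).tensor M).toCD) x s 0 t) =
      MDiag.cev (augTot L i b ε i₀ M N κ (k + 1) x) s t := by
  unfold CD.ev MDiag.cev
  have hc : t.card ≤ Fintype.card ι := card_le_univ _
  by_cases h : t.Nonempty ∧ t.card + (k + 1) = Fintype.card ι
  · rw [dif_pos ⟨h.1, ht, by omega⟩, dif_pos ⟨h.1, ht, h.2⟩]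
    exact augM_res hκr (show (⟨t, h.1⟩ : NE ι) ≤ s from ht) _
  · rw [dif_neg (fun h' => h ⟨h'.1, by omega⟩), dif_neg (fun h' => h ⟨h'.1, h'.2.2⟩)]
    exact map_zero _

end AL6

/-- AL6a: chain map. -/
theorem augTot_d (hL : L.IsResol i b ε)
    (hκ : ∀ s (c : D.C s) m, κ s (c • m) = D.res (le_ins i s) c • κ s m)
    (hκr : ∀ {s t : NE ι} (h : s ≤ t) m, κ t (M.res h m) = N.res h (κ s m)) (k : ℕ)
    (x : ((L.map i₀).tensor M).tot.X (k + 1)) :
    augTot L i b ε i₀ M N κ k (((L.map i₀).tensor M).tot.d k x) =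
      N.cd k (augTot L i b ε i₀ M N κ (k + 1) x) := by
  funext s
  obtain ⟨s, hs⟩ := s
  have hs0 : 0 + (Fintype.card ι - s.1.card) = k := by omega
  let y : L.G 1 s → PM τ (M.M s) := x (CD.up ⟨(s, 0), hs0⟩)
  let z : Finset ι → L.G 0 s → PM τ (M.M s) := CD.ev (C := ((L.map i₀).tensor M).toCD) x s 0
  have hD : ((((L.map i₀).tensor M).tot.d k x ⟨(s, 0), hs0⟩ : L.G 0 s → PM τ (M.M s))) =
      (-1 : ℤ) ^ (s.1.card + 1) • Col.dl L i₀ M 0 s y +
        ∑ a ∈ s.1, Groth.Agent.Ega3B.Cube.sgn a s.1 • z (s.1.erase a) :=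
    CD.D_apply (C := ((L.map i₀).tensor M).toCD) x ⟨(s, 0), hs0⟩
  refine (congrArg (augM L i b ε i₀ M N κ s) hD).trans ?_
  change _ = ∑ a ∈ s.1, Groth.Agent.Ega3B.Cube.sgn a s.1 •
      MDiag.cev (augTot L i b ε i₀ M N κ (k + 1) x) s (s.1.erase a)
  rw [map_add, map_zsmul, map_sum, AL6.augM_del hL hκ, smul_zero, zero_add]
  refine Finset.sum_congr rfl fun a _ => ?_
  rw [map_zsmul]
  congr 1
  exact AL6.augM_ev hκr x s _ (erase_subset _ _)

namespace AL6

section ZigZag

open Groth.Agent.Ega3B.Cube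

universe v

variable {R : Type v} [CommRing R] {S' : Type u} [CommRing S'] (E : CD.{u} R (NE ι))
  {D' : RDiag S' (NE ι)} (N' : MDiag D') (ag : ∀ s, E.E 0 s →+ N'.M s)

lemma ev_congr {k : ℕ} {x x' : E.X k} (s : NE ι) (j : ℕ) (t : Finset ι)
    (h : ∀ (t : NE ι) (hq : j + (Fintype.card ι - t.1.card) = k), x ⟨(t, j), hq⟩ = x' ⟨(t, j), hq⟩) :
    CD.ev x s j t = CD.ev x' s j t := by
  unfold CD.ev
  split_ifs with h1
  · rw [h ⟨t, h1.1⟩ h1.2.2]
  · rfl

lemma ev_zero' {k : ℕ} {x : E.X k} (s : NE ι) (j : ℕ) (t : Finset ι)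
    (h : ∀ (t : NE ι) (hq : j + (Fintype.card ι - t.1.card) = k), x ⟨(t, j), hq⟩ = 0) :
    CD.ev x s j t = 0 := by
  unfold CD.ev
  split_ifs with h1
  · rw [h ⟨t, h1.1⟩ h1.2.2, map_zero]
  · rfl

/-- The augmentation of the total complex. -/
def agT (k : ℕ) (x : E.X k) : N'.HK k := fun s => ag s.1 (x ⟨(s.1, 0), by have := s.2; dsimp only; omega⟩)

/-- The condition used to modify a cochain. -/
def Cond {k : ℕ} (x : E.X k) (x' : E.X (k + 1)) (m : ℕ) (s : NE ι) : ∀ (j : ℕ)
    (_ : j + (Fintype.card ι - s.1.card) = k + 1), E.E j s → Prop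
  | 0, hq, y => y = x' ⟨(s, 0), hq⟩
  | j + 1, hq, y => (j ≠ m → y = x' ⟨(s, j + 1), hq⟩) ∧
      (j = m → (-1 : ℤ) ^ (s.1.card + 1) • E.del j s y +
        ∑ a ∈ s.1, sgn a s.1 • CD.ev x' s j (s.1.erase a) = x ⟨(s, j), by dsimp only; omega⟩)

/-- The condition for the lift. -/
def Cond₀ {k : ℕ} (n : N'.HK k) (s : NE ι) : ∀ (j : ℕ)
    (_ : j + (Fintype.card ι - s.1.card) = k), E.E j s → Prop
  | 0, hq, y => ag s y = n ⟨s, by
      have := card_le_univ s.1
      have := Finset.card_pos.2 s.2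
      omega⟩
  | _ + 1, _, _ => True

lemma exists_lift (hs : ∀ s, Function.Surjective (ag s)) {k : ℕ} (n : N'.HK k) :
    ∃ x' : E.X k, agT E N' ag k x' = n := by
  have : ∀ q : Idx ι k, ∃ y : E.E q.1.2 q.1.1, Cond₀ E N' ag n q.1.1 q.1.2 q.2 y := by
    rintro ⟨⟨s, j⟩, hq⟩
    cases j with
    | zero => exact hs s _
    | succ j => exact ⟨0, trivial⟩
  choose x' hx' using this
  refine ⟨x', ?_⟩
  funext s
  exact hx' ⟨(s.1, 0), _⟩

theorem zigzag (hd : ∀ k (x : E.X (k + 1)), agT E N' ag k (E.D k x) = N'.cd k (agT E N' ag (k + 1) x))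
    (hs : ∀ s, Function.Surjective (ag s)) (h0 : ∀ s v, ag s v = 0 → ∃ v', E.del 0 s v' = v)
    (h1 : ∀ j s v, E.del j s v = 0 → ∃ v', E.del (j + 1) s v' = v) (k : ℕ) (x : E.X k)
    (n : N'.HK (k + 1)) (hx : ∀ k' (e : k = k' + 1), E.D k' (e ▸ x) = 0)
    (hn : agT E N' ag k x = N'.cd k n) :
    ∃ x' : E.X (k + 1), E.D k x' = x ∧ agT E N' ag (k + 1) x' = n := by
  have claim : ∀ m, ∃ x' : E.X (k + 1), agT E N' ag (k + 1) x' = n ∧
      ∀ s j (hj : j + (Fintype.card ι - s.1.card) = k), j < m →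
        E.D k x' ⟨(s, j), hj⟩ = x ⟨(s, j), hj⟩ := by
    intro m
    induction m with
    | zero =>
      obtain ⟨x', hx'⟩ := exists_lift E N' ag hs n
      exact ⟨x', hx', fun s j hj h => absurd h (Nat.not_lt_zero j)⟩
    | succ m ih =>
      obtain ⟨x', hx', hD⟩ := ih
      have : ∀ q : Idx ι (k + 1), ∃ y : E.E q.1.2 q.1.1, Cond E x x' m q.1.1 q.1.2 q.2 y := by
        rintro ⟨⟨s, j⟩, hq⟩
        cases j with
        | zero => exact ⟨_, rfl⟩
        | succ j =>
          by_cases hjm : j = m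
          · subst hjm
            have hj : j + (Fintype.card ι - s.1.card) = k := by dsimp only at hq; omega
            -- the defect
            have hr : ∃ y, E.del j s y = x ⟨(s, j), hj⟩ - E.D k x' ⟨(s, j), hj⟩ := by
              cases j with
              | zero =>
                apply h0
                rw [map_sub]
                have hc : s.1.card + k = Fintype.card ι := by
                  have := card_le_univ s.1
                  omega
                have e1 := congrFun hn ⟨s, hc⟩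
                have e2 := congrFun (hd k x') ⟨s, hc⟩
                rw [hx'] at e2
                exact sub_eq_zero.2 (e1.trans e2.symm)
              | succ j =>
                apply h1
                obtain ⟨k', rfl⟩ : ∃ k', k = k' + 1 := ⟨k - 1, by omega⟩
                have hj' : j + (Fintype.card ι - s.1.card) = k' := by omega
                have e1 : E.D k' (x - E.D (k' + 1) x') = 0 := by
                  rw [map_sub, CD.D_D, sub_zero]
                  exact hx k' rfl
                have e2 := congrFun e1 ⟨(s, j), hj'⟩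
                rw [CD.D_apply, Finset.sum_eq_zero (fun a _ => by
                  rw [ev_zero' E s j _ (fun t hq => by
                    rw [Pi.sub_apply, hD t j hq (Nat.lt_succ_self j), sub_self]), smul_zero]),
                  add_zero] at e2
                have e3 := congrArg ((-1 : ℤ) ^ (s.1.card + 1) • ·) e2
                simp only [Pi.zero_apply, smul_zero, smul_smul] at e3
                rw [← mul_pow, neg_one_mul, neg_neg, one_pow, one_smul] at e3
                exact e3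
            obtain ⟨y, hy⟩ := hr
            refine ⟨x' ⟨(s, j + 1), hq⟩ + (-1 : ℤ) ^ (s.1.card + 1) • y, fun h => absurd rfl h,
              fun _ => ?_⟩
            have e1 := CD.D_apply x' ⟨(s, j), hj⟩
            rw [map_add, map_zsmul, smul_add, smul_smul, ← mul_pow, neg_one_mul, neg_neg, one_pow,
              one_smul, hy, e1]
            dsimp only [CD.up]
            abel
          · exact ⟨x' ⟨(s, j + 1), hq⟩, fun _ => rfl, fun h => absurd h hjm⟩
      choose x'' hx'' using this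
      refine ⟨x'', ?_, fun s j hj hjm => ?_⟩
      · rw [← hx']
        funext s
        exact congrArg (ag s.1) (hx'' ⟨(s.1, 0), _⟩)
      · have hne : ∀ (t : NE ι) (hq : j + (Fintype.card ι - t.1.card) = k + 1),
            x'' ⟨(t, j), hq⟩ = x' ⟨(t, j), hq⟩ := by
          intro t hq
          have := hx'' ⟨(t, j), hq⟩
          cases j with
          | zero => exact this
          | succ j => exact this.1 (by omega)
        have h2 := hx'' ⟨(s, j + 1), by dsimp only; omega⟩
        have hsum : ∑ a ∈ s.1, sgn a s.1 • CD.ev x'' s j (s.1.erase a) =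
            ∑ a ∈ s.1, sgn a s.1 • CD.ev x' s j (s.1.erase a) :=
          Finset.sum_congr rfl fun a _ => by rw [ev_congr E s j _ hne]
        rw [CD.D_apply]
        dsimp only [CD.up]
        rw [hsum]
        by_cases hjm' : j = m
        · exact h2.2 hjm'
        · rw [h2.1 hjm']
          exact (CD.D_apply x' ⟨(s, j), hj⟩).symm.trans (hD s j hj (by omega))
  obtain ⟨x', hx', hD⟩ := claim (k + 1)
  refine ⟨x', ?_, hx'⟩
  funext q
  obtain ⟨⟨s, j⟩, hq⟩ := q
  exact hD s j hq (by dsimp only at hq; omega)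

end ZigZag

end AL6

/-- AL6b: `L ⊗ M → Cech(N)` is a quasi-isomorphism. -/
theorem augTot_qis (hC : C.Good) (hL : L.IsResol i b ε)
    (hgen : ∀ s, Function.Surjective (evi C i b s)) (hi₀ : i₀.IsPO)
    (hκ : ∀ s, IsBCMap (D.res (le_ins i s)).toRingHom (κ s))
    (hκr : ∀ {s t : NE ι} (h : s ≤ t) m, κ t (M.res h m) = N.res h (κ s m)) :
    (∀ n : N.HK 0, ∃ (x : ((L.map i₀).tensor M).tot.X 0) (n' : N.HK 1),
      augTot L i b ε i₀ M N κ 0 x + N.cd 0 n' = n) ∧
    ∀ k (x : ((L.map i₀).tensor M).tot.X k) (n : N.HK (k + 1)),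
      ((L.map i₀).tensor M).tot.IsCyc k x → augTot L i b ε i₀ M N κ k x = N.cd k n →
      ∃ (x' : ((L.map i₀).tensor M).tot.X (k + 1)) (n' : N.HK (k + 2)),
        ((L.map i₀).tensor M).tot.d k x' = x ∧ augTot L i b ε i₀ M N κ (k + 1) x' + N.cd (k + 1) n' = n :=
  by
  have hκ' : ∀ s (c : D.C s) m, κ s (c • m) = D.res (le_ins i s) c • κ s m := fun s => (hκ s).1
  let E := ((L.map i₀).tensor M).toCD
  let ag : ∀ s, E.E 0 s →+ N.M s := fun s => augM L i b ε i₀ M N κ s
  have hcol := fun s => Col.col_exact hC hL hi₀ s (hgen s) M (N := N.M s) (κ s) (hκ s)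
  have hs : ∀ s, Function.Surjective (ag s) := fun s n => (hcol s).1 n
  have h0 : ∀ s v, ag s v = 0 → ∃ v', E.del 0 s v' = v := fun s v hv => ((hcol s).2.1 v).1 hv
  have h1 : ∀ j s v, E.del j s v = 0 → ∃ v', E.del (j + 1) s v' = v := fun j s v hv =>
    ((hcol s).2.2 j v).1 hv
  refine ⟨fun n => ?_, fun k x n hx hn => ?_⟩
  · obtain ⟨x, hx⟩ := AL6.exists_lift E N ag hs n
    refine ⟨x, 0, ?_⟩
    rw [map_zero, add_zero]
    exact hx
  · obtain ⟨x', hx', hn'⟩ := AL6.zigzag E N ag (fun k x => augTot_d hL hκ' hκr k x) hs h0 h1 k x n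
      (by rintro k' rfl; exact hx) hn
    refine ⟨x', 0, hx', ?_⟩
    rw [map_zero, add_zero]
    exact hn'

end AL6
end Groth.Agent.Flat2B.GEx
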