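import Groth.Agent.Flat2B.GExCech

/-!
# S1270 route E: AL6c, contractibility of the Cech complex of `s ↦ M (s ∪ {i})`
-/

universe u

open Finset MvPolynomial Groth.Agent.Ega3B.Cube

namespace Groth.Agent.Flat2B.GEx

namespace AL6c

variable {S : Type u} [CommRing S] {ι : Type} [LinearOrder ι] [Fintype ι] {D : RDiag S (NE ι)}
  {M : MDiag D} {i : ι}

/-- The value at `s` as an element of `M (s ∪ {i})`. -/
def vl {k : ℕ} (x : (M.shift i).HK k) (s : {s : NE ι // s.1.card + k = Fintype.card ι}) :
    M.M (ins i s.1) := x s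

/-- Restriction for `M`, as an additive map. -/
def rs (M : MDiag D) {u v : NE ι} (h : u ≤ v) : M.M u →+ M.M v := M.res h

omit [Fintype ι] in
lemma rs_rs {u v w : NE ι} (h : u ≤ v) (h' : v ≤ w) (x : M.M u) :
    rs M h' (rs M h x) = rs M (h.trans h') x := M.res_res h h' x

omit [Fintype ι] in
lemma rs_self {u : NE ι} (h : u ≤ u) (x : M.M u) : rs M h x = x := M.res_self u h x

/-- The restriction to `u` of the `t`-component. -/
def sv {k : ℕ} (x : (M.shift i).HK k) (u : NE ι) (t : Finset ι) : M.M u :=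
  if h : t.Nonempty ∧ insert i t ⊆ u.1 ∧ t.card + k = Fintype.card ι then
    rs M (show ins i ⟨t, h.1⟩ ≤ u from h.2.1) (vl x ⟨⟨t, h.1⟩, h.2.2⟩) else 0

lemma cev_eq {k : ℕ} (x : (M.shift i).HK k) (s : NE ι) (t : Finset ι) (ht : t ⊆ s.1) :
    (MDiag.cev x s t : M.M (ins i s)) = sv x (ins i s) t := by
  unfold MDiag.cev sv
  by_cases h : t.Nonempty ∧ t.card + k = Fintype.card ι
  · rw [dif_pos ⟨h.1, ht, h.2⟩, dif_pos ⟨h.1, insert_subset_insert _ ht, h.2⟩]
    rfl
  · rw [dif_neg (fun h' => h ⟨h'.1, h'.2.2⟩), dif_neg (fun h' => h ⟨h'.1, h'.2.2⟩)]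
    rfl

lemma sv_res {k : ℕ} (x : (M.shift i).HK k) {u u' : NE ι} (h : u ≤ u') (t : Finset ι)
    (ht : insert i t ⊆ u.1) : rs M h (sv x u t) = sv x u' t := by
  unfold sv
  by_cases h1 : t.Nonempty ∧ t.card + k = Fintype.card ι
  · rw [dif_pos ⟨h1.1, ht, h1.2⟩, dif_pos ⟨h1.1, ht.trans h, h1.2⟩, rs_rs]
  · rw [dif_neg (fun h' => h1 ⟨h'.1, h'.2.2⟩), dif_neg (fun h' => h1 ⟨h'.1, h'.2.2⟩), map_zero]

lemma sv_self {k : ℕ} (x : (M.shift i).HK k) (s : {s : NE ι // s.1.card + k = Fintype.card ι}) :
    sv x (ins i s.1) s.1.1 = vl x s := by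
  unfold sv
  rw [dif_pos ⟨s.1.2, Finset.Subset.refl _, s.2⟩]
  exact rs_self _ _

lemma sv_zero {k : ℕ} (u : NE ι) (t : Finset ι) : sv (0 : (M.shift i).HK k) u t = 0 := by
  unfold sv
  split_ifs
  · exact map_zero _
  · rfl

lemma cd_apply {k : ℕ} (x : (M.shift i).HK (k + 1)) (s : {s : NE ι // s.1.card + k = Fintype.card ι}) :
    vl ((M.shift i).cd k x) s =
      ∑ a ∈ s.1.1, sgn a s.1.1 • sv x (ins i s.1) (s.1.1.erase a) := by
  refine Finset.sum_congr rfl fun a _ => ?_
  exact congrArg (sgn a s.1.1 • ·) (cev_eq x s.1 _ (erase_subset _ _))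

/-- The cocycle condition at `t`, restricted to `u`. -/
lemma cocycle {k : ℕ} {x : (M.shift i).HK (k + 1)} (hx : (M.shift i).cd k x = 0) (t : Finset ι)
    (ht : t.Nonempty) (hk : t.card + k = Fintype.card ι) (u : NE ι) (hu : insert i t ⊆ u.1) :
    ∑ a ∈ t, sgn a t • sv x u (t.erase a) = 0 := by
  have h1 : vl ((M.shift i).cd k x) ⟨⟨t, ht⟩, hk⟩ = 0 := by
    rw [hx]
    rfl
  rw [cd_apply] at h1
  have h2 := congrArg (rs M (show ins i ⟨t, ht⟩ ≤ u from hu)) h1
  rw [map_zero, map_sum] at h2
  rw [← h2]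
  refine Finset.sum_congr rfl fun a _ => ?_
  rw [map_zsmul, sv_res]
  exact insert_subset_insert _ (erase_subset _ _)

/-- The contracting homotopy. -/
def hom {k : ℕ} (x : (M.shift i).HK k) : (M.shift i).HK (k + 1) := fun s =>
  show M.M (ins i s.1) from if i ∈ s.1.1 then 0 else
    sgn i (insert i s.1.1) • sv x (ins i s.1) (insert i s.1.1)

lemma sv_hom {k : ℕ} (x : (M.shift i).HK k) (u : NE ι) (t : Finset ι) (ht : t.Nonempty)
    (hu : insert i t ⊆ u.1) (hk : t.card + (k + 1) = Fintype.card ι) :
    sv (hom x) u t = if i ∈ t then 0 else sgn i (insert i t) • sv x u (insert i t) := by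
  rw [sv, dif_pos ⟨ht, hu, hk⟩]
  change rs M _ (if i ∈ t then 0 else
    sgn i (insert i t) • sv x (ins i ⟨t, ht⟩) (insert i t)) = _
  split_ifs with h
  · exact map_zero _
  · rw [map_zsmul, sv_res]
    simp

omit [Fintype ι] in
lemma erase_nonempty {s : Finset ι} (hs : 2 ≤ s.card) (a : ι) : (s.erase a).Nonempty := by
  rw [← Finset.card_pos]
  have := Finset.pred_card_le_card_erase (s := s) (a := a)
  omega

omit [Fintype ι] in
lemma sgn_pair {a b : ι} (hab : a ≠ b) : sgn a ({a, b} : Finset ι) = - sgn b {a, b} := by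
  have h := sgn_erase_key (s := {a, b}) (mem_insert_self a {b})
    (mem_insert_of_mem (mem_singleton_self b)) hab
  have e1 : ({a, b} : Finset ι).erase a = {b} := by
    rw [erase_insert (by simpa using hab)]
  have e2 : ({a, b} : Finset ι).erase b = {a} := by
    rw [pair_comm, erase_insert (by simpa using hab.symm)]
  have e3 : ∀ c : ι, sgn c ({c} : Finset ι) = 1 := fun c => by
    unfold sgn
    rw [filter_singleton, if_neg (lt_irrefl c)]
    simp
  rw [e1, e2, e3, e3, mul_one, mul_one] at h
  exact h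

/-- The value of `sv` at a singleton. -/
lemma sv_singleton {k : ℕ} (x : (M.shift i).HK k) (u : NE ι) (a : ι) (hu : insert i {a} ⊆ u.1)
    (hk : k + 1 = Fintype.card ι) :
    sv x u {a} = rs M (show ins i (sg a) ≤ u from hu) (vl x ⟨sg a, by simp; omega⟩) := by
  rw [sv, dif_pos ⟨singleton_nonempty a, hu, by simp; omega⟩]

/-- The constant cochain. -/
def cst (k : ℕ) (m : M.M (sg i)) : (M.shift i).HK k := fun s => M.res (sg_le_ins i s.1) m

lemma vl_cst (k : ℕ) (m : M.M (sg i)) (s : {s : NE ι // s.1.card + k = Fintype.card ι}) :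
    vl (cst k m) s = rs M (sg_le_ins i s.1) m := rfl

end AL6c

open AL6c

section AL6

variable {S : Type u} [CommRing S] {ι : Type} [LinearOrder ι] [Fintype ι]

/-- AL6c: contractibility of the Cech complex of `s ↦ M (s ∪ {i})`, higher cohomology. -/
theorem shift_exact {D : RDiag S (NE ι)} (M : MDiag D) (i : ι) (k : ℕ)
    (hk : k + 1 ≠ Fintype.card ι) (x : (M.shift i).HK k) (hx : (M.shift i).IsCyc k x) :
    ∃ y, (M.shift i).cd k y = x := by
  refine ⟨hom x, ?_⟩
  funext s
  obtain ⟨s, hs⟩ := s
  have hs1 : 1 ≤ s.1.card := Finset.card_pos.2 s.2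
  have hs2 : 2 ≤ s.1.card := by omega
  refine (cd_apply (hom x) ⟨s, hs⟩).trans ?_
  dsimp only
  have hsub : ∀ a, insert i (s.1.erase a) ⊆ (ins i s).1 := fun a =>
    insert_subset_insert _ (erase_subset _ _)
  by_cases his : i ∈ s.1
  · rw [Finset.sum_eq_single i]
    · rw [sv_hom x _ _ (erase_nonempty hs2 i) (hsub i) (by
        rw [card_erase_of_mem his]; omega), if_neg (by simp), insert_erase his, smul_smul,
        sgn_mul_self, one_smul]
      exact sv_self x ⟨s, hs⟩
    · intro a ha hai
      rw [sv_hom x _ _ (erase_nonempty hs2 a) (hsub a) (by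
        rw [card_erase_of_mem ha]; omega), if_pos (mem_erase.2 ⟨Ne.symm hai, his⟩), smul_zero]
    · intro h
      exact absurd his h
  · -- `i ∉ s`
    have hcard : (insert i s.1).card = s.1.card + 1 := card_insert_of_notMem his
    have hle : (insert i s.1).card ≤ Fintype.card ι := card_le_univ _
    obtain ⟨k', rfl⟩ : ∃ k', k = k' + 1 := ⟨k - 1, by omega⟩
    have hc := cocycle (k := k') hx (insert i s.1) (insert_nonempty _ _) (by omega) (ins i s) (by simp)
    rw [sum_insert his, erase_insert his] at hc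
    have hself : sv x (ins i s) s.1 = vl x ⟨s, hs⟩ := sv_self x ⟨s, hs⟩
    rw [hself] at hc
    have h1 : vl x ⟨s, hs⟩ = ∑ a ∈ s.1, (-(sgn i (insert i s.1) * sgn a (insert i s.1))) •
        sv x (ins i s) ((insert i s.1).erase a) := by
      have h2 := congrArg (sgn i (insert i s.1) • ·) hc
      simp only [smul_add, smul_smul, sgn_mul_self, one_smul, smul_zero, smul_sum] at h2
      rw [eq_neg_of_add_eq_zero_left h2, ← sum_neg_distrib]
      exact sum_congr rfl fun a _ => (neg_smul _ _).symm
    refine Eq.trans ?_ h1.symm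
    refine sum_congr rfl fun a ha => ?_
    have hai : a ≠ i := fun h => his (h ▸ ha)
    have herase : (insert i s.1).erase a = insert i (s.1.erase a) :=
      erase_insert_of_ne (Ne.symm hai)
    rw [sv_hom x _ _ (erase_nonempty hs2 a) (hsub a) (by
      rw [card_erase_of_mem ha]; omega), if_neg (fun h => his (mem_of_mem_erase h)), smul_smul, herase]
    congr 1
    have hkey := sgn_erase_key (mem_insert_self i s.1) (mem_insert_of_mem (a := a) ha) (Ne.symm hai)
    rw [erase_insert his, herase] at hkey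
    have e1 := sgn_mul_self i (insert i s.1)
    have e2 := sgn_mul_self i (insert i (s.1.erase a))
    linear_combination (sgn i (insert i s.1) * sgn i (insert i (s.1.erase a))) * hkey +
      (- sgn a s.1 * sgn i (insert i (s.1.erase a))) * e1 -
      (sgn a (insert i s.1) * sgn i (insert i s.1)) * e2

/-- AL6c: contractibility of the Cech complex of `s ↦ M (s ∪ {i})`, degree zero. -/
theorem shift_exact_zero {D : RDiag S (NE ι)} (M : MDiag D) (i : ι) (k : ℕ)
    (hk : k + 1 = Fintype.card ι) :
    (∀ m : M.M (sg i), (M.shift i).IsCyc k (fun s => M.res (sg_le_ins i s.1) m)) ∧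
    (∀ m : M.M (sg i), (∀ s : {s : NE ι // s.1.card + k = Fintype.card ι},
      M.res (sg_le_ins i s.1) m = 0) → m = 0) ∧
    ∀ x : (M.shift i).HK k, (M.shift i).IsCyc k x →
      ∃ m : M.M (sg i), ∀ s, x s = M.res (sg_le_ins i s.1) m := by
  have hback : ins i (sg i) ≤ sg i := by
    intro a ha
    simpa using ha
  refine ⟨fun m => ?_, fun m hm => ?_, fun x hx => ?_⟩
  · cases k with
    | zero => trivial
    | succ k =>
      change (M.shift i).cd k (cst (k + 1) m) = 0
      funext s
      have hs : s.1.1.card = 2 := by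
        have := s.2
        omega
      obtain ⟨a, b, hab, hsab⟩ := Finset.card_eq_two.1 hs
      refine (cd_apply _ s).trans ?_
      have key : ∀ c ∈ s.1.1, sv (cst (k + 1) m) (ins i s.1) {c} =
          rs M (sg_le_ins i s.1) m := by
        intro c hc
        rw [sv_singleton (cst (k + 1) m) (ins i s.1) c
          (insert_subset_insert i (singleton_subset_iff.2 hc)) hk, vl_cst, rs_rs]
      have ha : a ∈ s.1.1 := by rw [hsab]; simp
      have hb : b ∈ s.1.1 := by rw [hsab]; simp
      have e1 : s.1.1.erase a = {b} := by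
        rw [hsab, erase_insert (by simpa using hab)]
      have e2 : s.1.1.erase b = {a} := by
        rw [hsab, pair_comm, erase_insert (by simpa using hab.symm)]
      have hsum : ∀ g : ι → M.M (ins i s.1), ∑ c ∈ s.1.1, g c = g a + g b := by
        intro g
        rw [hsab, sum_pair hab]
      rw [hsum, e1, e2, key b hb, key a ha, ← add_smul]
      have h3 := sgn_pair hab
      rw [← hsab] at h3
      rw [h3, neg_add_cancel, zero_smul]
      rfl
  · have h1 := hm ⟨sg i, by simp; omega⟩
    have h2 := congrArg (rs M hback) h1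
    rw [map_zero] at h2
    rw [← h2]
    exact (rs_self le_rfl m).symm.trans (rs_rs _ _ _).symm
  · refine ⟨rs M hback (vl x ⟨sg i, by simp; omega⟩), fun s => ?_⟩
    change vl x s = rs M _ (rs M _ _)
    rw [rs_rs]
    obtain ⟨⟨s, hne⟩, hs'⟩ := s
    have hs : s.card = 1 := by
      dsimp only at hs'
      omega
    obtain ⟨a, rfl⟩ := Finset.card_eq_one.1 hs
    by_cases hai : a = i
    · subst hai
      exact (rs_self _ _).symm
    · have hcard : ({a, i} : Finset ι).card = 2 := card_pair hai
      have hle : ({a, i} : Finset ι).card ≤ Fintype.card ι := card_le_univ _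
      obtain ⟨k', rfl⟩ : ∃ k', k = k' + 1 := ⟨k - 1, by omega⟩
      have hsub : insert i ({a, i} : Finset ι) ⊆ (ins i (sg a)).1 := by
        intro c hc
        simp only [mem_insert, mem_singleton] at hc ⊢
        tauto
      have hc := cocycle (k := k') hx {a, i} (insert_nonempty _ _) (by omega) (ins i (sg a)) hsub
      have e1 : ({a, i} : Finset ι).erase a = {i} := by
        rw [erase_insert (by simpa using hai)]
      have e2 : ({a, i} : Finset ι).erase i = {a} := by
        rw [pair_comm, erase_insert (by simpa using Ne.symm hai)]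
      rw [sum_pair hai, e1, e2, sgn_pair hai, neg_smul, neg_add_eq_zero,
        sv_singleton _ _ _ (by
          intro c hc
          simp only [mem_insert, mem_singleton] at hc ⊢
          tauto) hk, sv_singleton _ _ _ (by
          intro c hc
          simp only [mem_insert, mem_singleton] at hc ⊢
          tauto) hk, rs_self] at hc
      have h2 := congrArg (sgn i ({a, i} : Finset ι) • ·) hc
      simp only [smul_smul, sgn_mul_self, one_smul] at h2
      exact h2.symm

end AL6

end Groth.Agent.Flat2B.GEx
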