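import Groth.Agent.Flat2B.GExLoc
import Groth.Agent.Flat2B.LocTransfer
import Mathlib.RingTheory.IsTensorProduct
import Mathlib.LinearAlgebra.TensorProduct.RightExactness

/-!
# The algebra of the end game of Grothendieck existence (0CTK)

A complex `… → P (k+1) → P k → … → P 0` of modules over `R`.  `cyc P d r` is the module of cycles in degree `r`
(everything for `r = 0`).  If all `P k` are projective and the complex is exact in degrees `< r`, the cycles in degree
`r` are a direct summand.  With a base change `A → A₀` for which the homology in degree `r` is a flat `A₀`-module and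
the homology in degree `r + 1` vanishes we get flatness of the homology in degree `r` at all primes over `Spec A₀`.
-/

set_option autoImplicit false
universe u v

open TensorProduct

namespace Groth.Agent.Flat2B.GExAlg

section Cyc

variable {R : Type u} [CommRing R] (P : ℕ → Type v) [∀ k, AddCommGroup (P k)] [∀ k, Module R (P k)]
  (d : ∀ k, P (k + 1) →ₗ[R] P k)

/-- The cycles in degree `r`. -/
def cyc : ∀ r : ℕ, Submodule R (P r)
  | 0 => ⊤
  | k + 1 => LinearMap.ker (d k)

@[simp] lemma cyc_zero : cyc P d 0 = ⊤ := rfl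
@[simp] lemma cyc_succ (k : ℕ) : cyc P d (k + 1) = LinearMap.ker (d k) := rfl

variable {P d}

lemma d_mem_cyc (hd : ∀ k x, d k (d (k + 1) x) = 0) (r : ℕ) (x : P (r + 1)) : d r x ∈ cyc P d r := by
  cases r with
  | zero => simp
  | succ k => exact hd k x

/-- The differential with values in the cycles. -/
def dZ (hd : ∀ k x, d k (d (k + 1) x) = 0) (r : ℕ) : P (r + 1) →ₗ[R] cyc P d r :=
  (d r).codRestrict _ (d_mem_cyc hd r)

@[simp] lemma dZ_coe (hd : ∀ k x, d k (d (k + 1) x) = 0) (r : ℕ) (x : P (r + 1)) :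
    (dZ hd r x : P r) = d r x := rfl

lemma dZ_comp (hd : ∀ k x, d k (d (k + 1) x) = 0) (r : ℕ) (x : P (r + 1 + 1)) :
    dZ hd r (d (r + 1) x) = 0 := Subtype.ext (hd r x)

variable [∀ k, Module.Projective R (P k)]

theorem exists_section_of_retraction (hd : ∀ k x, d k (d (k + 1) x) = 0) (k : ℕ)
    (hex : ∀ x ∈ cyc P d k, ∃ y, d k y = x)
    (h : ∃ e : P k →ₗ[R] cyc P d k, (∀ z : cyc P d k, e z = z)) :
    ∃ s : cyc P d k →ₗ[R] P (k + 1), ∀ z, dZ hd k (s z) = z := by
  obtain ⟨e, he⟩ := h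
  have hproj : Module.Projective R (cyc P d k) :=
    Module.Projective.of_split (cyc P d k).subtype e (LinearMap.ext he)
  obtain ⟨s, hs⟩ := Module.projective_lifting_property (dZ hd k) LinearMap.id (by
    intro x
    obtain ⟨y, hy⟩ := hex x x.2
    exact ⟨y, Subtype.ext hy⟩)
  exact ⟨s, fun z => LinearMap.congr_fun hs z⟩

/-- A retraction of the cycles. -/
theorem exists_retraction (hd : ∀ k x, d k (d (k + 1) x) = 0) :
    ∀ r : ℕ, (∀ k < r, ∀ x ∈ cyc P d k, ∃ y, d k y = x) →
      ∃ e : P r →ₗ[R] cyc P d r, (∀ z : cyc P d r, e z = z) := by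
  intro r
  induction r with
  | zero => intro _; exact ⟨LinearMap.id.codRestrict _ (fun _ => trivial), fun z => rfl⟩
  | succ k ih =>
    intro hex
    obtain ⟨s, hs⟩ := exists_section_of_retraction hd k (hex k (by omega)) (ih (fun j hj => hex j (by omega)))
    have hmem : ∀ x, (LinearMap.id - s ∘ₗ dZ hd k : P (k + 1) →ₗ[R] P (k + 1)) x ∈ cyc P d (k + 1) := by
      intro x
      have := congrArg Subtype.val (hs (dZ hd k x))
      simp only [dZ_coe] at this
      rw [cyc_succ, LinearMap.mem_ker]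
      simp only [LinearMap.sub_apply, LinearMap.id_apply, LinearMap.comp_apply, map_sub, this, sub_self]
    refine ⟨(LinearMap.id - s ∘ₗ dZ hd k).codRestrict _ hmem, ?_⟩
    · intro z
      apply Subtype.ext
      have h0 : dZ hd k (z : P (k + 1)) = 0 := Subtype.ext (LinearMap.mem_ker.mp z.2)
      change (z : P (k + 1)) - s (dZ hd k (z : P (k + 1))) = z
      rw [h0, map_zero, sub_zero]

theorem exists_section (hd : ∀ k x, d k (d (k + 1) x) = 0) (k : ℕ)
    (hex : ∀ j < k + 1, ∀ x ∈ cyc P d j, ∃ y, d j y = x) :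
    ∃ s : cyc P d k →ₗ[R] P (k + 1), ∀ z, dZ hd k (s z) = z :=
  exists_section_of_retraction hd k (hex k (by omega)) (exists_retraction hd k (fun j hj => hex j (by omega)))

end Cyc

section BaseChange

variable {A R : Type u} [CommRing A] [CommRing R] [Algebra A R] {P : ℕ → Type u} [∀ k, AddCommGroup (P k)]
  [∀ k, Module R (P k)] [∀ k, Module A (P k)] [∀ k, IsScalarTower A R (P k)]
  {d : ∀ k, P (k + 1) →ₗ[R] P k} [∀ k, Module.Projective R (P k)]

variable (A₀ : Type u) [CommRing A₀] [Algebra A A₀]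

variable (A d) in
/-- The base changed differential. -/
noncomputable def bd (k : ℕ) : A₀ ⊗[A] P (k + 1) →ₗ[A₀] A₀ ⊗[A] P k :=
  ((d k).restrictScalars A).baseChange A₀

variable (A P d) in
/-- The base change of the inclusion of the cycles. -/
noncomputable def bincl (r : ℕ) : A₀ ⊗[A] cyc P d r →ₗ[A₀] A₀ ⊗[A] P r :=
  ((cyc P d r).subtype.restrictScalars A).baseChange A₀

omit [∀ (k : ℕ), Module.Projective R (P k)] in
lemma bd_bd (hd : ∀ k x, d k (d (k + 1) x) = 0) (k : ℕ) (x : A₀ ⊗[A] P (k + 1 + 1)) :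
    bd A d A₀ k (bd A d A₀ (k + 1) x) = 0 := by
  have h : ((d k).restrictScalars A) ∘ₗ ((d (k + 1)).restrictScalars A) = 0 := LinearMap.ext (hd k)
  have h2 : bd A d A₀ k ∘ₗ bd A d A₀ (k + 1) = 0 := by
    rw [bd, bd, ← LinearMap.baseChange_comp, h, LinearMap.baseChange_zero]
  exact LinearMap.congr_fun h2 x

omit [∀ (k : ℕ), Module.Projective R (P k)] in
lemma bincl_dZ (hd : ∀ k x, d k (d (k + 1) x) = 0) (r : ℕ) (x : A₀ ⊗[A] P (r + 1)) :
    bincl A P d A₀ r (((dZ hd r).restrictScalars A).baseChange A₀ x) = bd A d A₀ r x := by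
  have h2 : bincl A P d A₀ r ∘ₗ ((dZ hd r).restrictScalars A).baseChange A₀ = bd A d A₀ r := by
    rw [bd, bincl, ← LinearMap.baseChange_comp]
    rfl
  exact LinearMap.congr_fun h2 x

lemma bincl_injective (hd : ∀ k x, d k (d (k + 1) x) = 0) (r : ℕ)
    (hex : ∀ k < r, ∀ x ∈ cyc P d k, ∃ y, d k y = x) : Function.Injective (bincl A P d A₀ r) := by
  obtain ⟨e, he⟩ := exists_retraction hd r hex
  have h2 : (e.restrictScalars A).baseChange A₀ ∘ₗ bincl A P d A₀ r = LinearMap.id := by
    rw [bincl, ← LinearMap.baseChange_comp]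
    have : (e.restrictScalars A) ∘ₗ ((cyc P d r).subtype.restrictScalars A) = LinearMap.id :=
      LinearMap.ext he
    rw [this, LinearMap.baseChange_id]
  exact Function.LeftInverse.injective (g := (e.restrictScalars A).baseChange A₀) (LinearMap.congr_fun h2)

omit [∀ (k : ℕ), Module.Projective R (P k)] in
lemma bincl_mem_cyc (r : ℕ) (w : A₀ ⊗[A] cyc P d r) :
    bincl A P d A₀ r w ∈ cyc (fun k => A₀ ⊗[A] P k) (bd A d A₀) r := by
  cases r with
  | zero => trivial
  | succ k =>
    rw [cyc_succ, LinearMap.mem_ker]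
    have h : ((d k).restrictScalars A) ∘ₗ ((cyc P d (k + 1)).subtype.restrictScalars A) = 0 :=
      LinearMap.ext (fun z => LinearMap.mem_ker.mp z.2)
    have h2 : bd A d A₀ k ∘ₗ bincl A P d A₀ (k + 1) = 0 := by
      rw [bd, bincl, ← LinearMap.baseChange_comp, h, LinearMap.baseChange_zero]
    exact LinearMap.congr_fun h2 w

lemma exists_bincl_eq (hd : ∀ k x, d k (d (k + 1) x) = 0) (r : ℕ)
    (hex : ∀ k < r, ∀ x ∈ cyc P d k, ∃ y, d k y = x) (z : A₀ ⊗[A] P r)
    (hz : z ∈ cyc (fun k => A₀ ⊗[A] P k) (bd A d A₀) r) : ∃ w, bincl A P d A₀ r w = z := by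
  cases r with
  | zero =>
    have hs : Function.Surjective ((cyc P d 0).subtype.restrictScalars A) := fun x => ⟨⟨x, trivial⟩, rfl⟩
    exact LinearMap.lTensor_surjective A₀ hs z
  | succ k =>
    obtain ⟨s, hs⟩ := exists_section hd k hex
    have hmem : ∀ x, (LinearMap.id - s ∘ₗ dZ hd k : P (k + 1) →ₗ[R] P (k + 1)) x ∈ cyc P d (k + 1) := by
      intro x
      have := congrArg Subtype.val (hs (dZ hd k x))
      simp only [dZ_coe] at this
      rw [cyc_succ, LinearMap.mem_ker]
      simp only [LinearMap.sub_apply, LinearMap.id_apply, LinearMap.comp_apply, map_sub, this, sub_self]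
    let e : P (k + 1) →ₗ[R] cyc P d (k + 1) := (LinearMap.id - s ∘ₗ dZ hd k).codRestrict _ hmem
    refine ⟨(e.restrictScalars A).baseChange A₀ z, ?_⟩
    have h1 : bincl A P d A₀ (k + 1) ∘ₗ (e.restrictScalars A).baseChange A₀ =
        LinearMap.id - (s.restrictScalars A).baseChange A₀ ∘ₗ ((dZ hd k).restrictScalars A).baseChange A₀ := by
      rw [bincl, ← LinearMap.baseChange_comp, ← LinearMap.baseChange_comp]
      have : ((cyc P d (k + 1)).subtype.restrictScalars A) ∘ₗ (e.restrictScalars A) =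
          LinearMap.id - (s.restrictScalars A) ∘ₗ ((dZ hd k).restrictScalars A) := rfl
      rw [this, LinearMap.baseChange_sub, LinearMap.baseChange_id]
    have h2 : ((dZ hd k).restrictScalars A).baseChange A₀ z = 0 := by
      apply bincl_injective (A := A) A₀ hd k (fun j hj => hex j (by omega))
      rw [bincl_dZ, map_zero]
      exact LinearMap.mem_ker.mp hz
    have h3 := LinearMap.congr_fun h1 z
    rw [LinearMap.comp_apply] at h3
    rw [h3, LinearMap.sub_apply, LinearMap.comp_apply, h2, map_zero, sub_zero]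
    rfl

variable {r : ℕ} {G : Type u} [AddCommGroup G] [Module R G] [Module A G] [IsScalarTower A R G]
  {V : Type u} [AddCommGroup V] [Module A₀ V] [Module A V] [IsScalarTower A A₀ V]

omit [∀ (k : ℕ), Module.Projective R (P k)] in
lemma one_tmul_mem_cyc (z : cyc P d r) :
    (1 : A₀) ⊗ₜ[A] (z : P r) ∈ cyc (fun k => A₀ ⊗[A] P k) (bd A d A₀) r :=
  bincl_mem_cyc A₀ r (1 ⊗ₜ z)

/-- The homology in degree `r` commutes with base change. -/
theorem isBaseChange_of (hd : ∀ k x, d k (d (k + 1) x) = 0) 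
    (hex : ∀ k < r, ∀ x ∈ cyc P d k, ∃ y, d k y = x)
    (σ : cyc P d r →ₗ[R] G) (hσ : Function.Surjective σ)
    (hker : ∀ z : cyc P d r, σ z = 0 ↔ ∃ y, d r y = z)
    (σ₀ : cyc (fun k => A₀ ⊗[A] P k) (bd A d A₀) r →ₗ[A₀] V) (hσ₀ : Function.Surjective σ₀)
    (hker₀ : ∀ z, σ₀ z = 0 ↔ ∃ y, bd A d A₀ r y = z.1)
    (c : G →ₗ[A] V) (hc : ∀ z : cyc P d r, c (σ z) = σ₀ ⟨1 ⊗ₜ (z : P r), one_tmul_mem_cyc A₀ z⟩) :
    IsBaseChange A₀ c := by
  let φ : A₀ ⊗[A] cyc P d r →ₗ[A₀] V := σ₀ ∘ₗ (bincl A P d A₀ r).codRestrict _ (bincl_mem_cyc A₀ r)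
  let ψ : A₀ ⊗[A] cyc P d r →ₗ[A₀] A₀ ⊗[A] G := (σ.restrictScalars A).baseChange A₀
  have hφ : Function.Surjective φ := by
    intro v
    obtain ⟨z, rfl⟩ := hσ₀ v
    obtain ⟨w, hw⟩ := exists_bincl_eq A₀ hd r hex z.1 z.2
    exact ⟨w, congrArg σ₀ (Subtype.ext hw)⟩
  have hψ : Function.Surjective ψ := LinearMap.lTensor_surjective A₀ hσ
  have hkerψ : ∀ w, ψ w = 0 ↔ ∃ y, ((dZ hd r).restrictScalars A).baseChange A₀ y = w := by
    have h1 : Function.Exact ((dZ hd r).restrictScalars A) (σ.restrictScalars A) := by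
      intro z
      rw [LinearMap.restrictScalars_apply, hker]
      constructor
      · rintro ⟨y, hy⟩; exact ⟨y, Subtype.ext hy⟩
      · rintro ⟨y, hy⟩; exact ⟨y, congrArg Subtype.val hy⟩
    exact lTensor_exact A₀ h1 hσ
  have hkerφ : ∀ w, φ w = 0 ↔ ∃ y, ((dZ hd r).restrictScalars A).baseChange A₀ y = w := by
    intro w
    have : φ w = 0 ↔ ∃ y, bd A d A₀ r y = bincl A P d A₀ r w := hker₀ _
    rw [this]
    constructor
    · rintro ⟨y, hy⟩
      refine ⟨y, bincl_injective A₀ hd r hex ?_⟩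
      rw [bincl_dZ, hy]
    · rintro ⟨y, rfl⟩
      exact ⟨y, (bincl_dZ A₀ hd r y).symm⟩
  have hk : LinearMap.ker ψ = LinearMap.ker φ := by
    ext w
    rw [LinearMap.mem_ker, LinearMap.mem_ker, hkerψ, hkerφ]
  let e : A₀ ⊗[A] G ≃ₗ[A₀] V := (ψ.quotKerEquivOfSurjective hψ).symm ≪≫ₗ
    Submodule.quotEquivOfEq _ _ hk ≪≫ₗ (φ.quotKerEquivOfSurjective hφ)
  have he : ∀ w, e (ψ w) = φ w := by
    intro w
    have h1 : (ψ.quotKerEquivOfSurjective hψ).symm (ψ w) = Submodule.Quotient.mk w := by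
      rw [LinearEquiv.symm_apply_eq]
      rfl
    simp only [e, LinearEquiv.trans_apply, h1]
    rfl
  refine IsBaseChange.of_equiv e ?_
  intro g
  obtain ⟨z, rfl⟩ := hσ g
  rw [hc]
  exact he (1 ⊗ₜ z)

omit [∀ (k : ℕ), Module.Projective R (P k)] in
theorem lTensor_injective_of {X Y M N : Type u} [AddCommGroup X] [Module A X] [AddCommGroup Y] [Module A Y]
    [AddCommGroup M] [Module A M] [AddCommGroup N] [Module A N] (a : X →ₗ[A] Y) (p : Y →ₗ[A] M)
    (hp : Function.Surjective p) (hpa : ∀ x, p (a x) = 0) (u : M →ₗ[A] N) (b : Y →ₗ[A] N)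
    (hub : ∀ y, u (p y) = b y)
    (hex : ∀ y, b.lTensor A₀ y = 0 → ∃ x, a.lTensor A₀ x = y) : Function.Injective (u.lTensor A₀) := by
  rw [injective_iff_map_eq_zero]
  intro x hx
  obtain ⟨y, rfl⟩ := LinearMap.lTensor_surjective A₀ hp x
  have h2 : u.lTensor A₀ ∘ₗ p.lTensor A₀ = b.lTensor A₀ := by
    rw [← LinearMap.lTensor_comp]
    congr 1
    exact LinearMap.ext hub
  have h3 : b.lTensor A₀ y = 0 := by
    rw [← h2, LinearMap.comp_apply, hx]
  obtain ⟨z, rfl⟩ := hex y h3
  have h4 : p.lTensor A₀ ∘ₗ a.lTensor A₀ = 0 := by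
    rw [← LinearMap.lTensor_comp]
    have : p ∘ₗ a = 0 := LinearMap.ext hpa
    rw [this, LinearMap.lTensor_zero]
  exact LinearMap.congr_fun h4 z

/-- Flatness of a cokernel, three term version. -/
theorem flatAt_aux {A R : Type u} [CommRing A] [CommRing R] [Algebra A R] [Algebra.FinitePresentation A R]
    (A₀ : Type u) [CommRing A₀] [Algebra A A₀]
    {X Y N G : Type u} [AddCommGroup X] [Module R X] [Module A X] [IsScalarTower A R X] [Module.Finite R X]
    [AddCommGroup Y] [Module R Y] [Module A Y] [IsScalarTower A R Y] [Module.FinitePresentation R Y]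
    [AddCommGroup N] [Module R N] [Module A N] [IsScalarTower A R N] [Module.FinitePresentation R N]
    [Module.Flat A N] [AddCommGroup G] [Module R G] [Module A G] [IsScalarTower A R G]
    (a : X →ₗ[R] Y) (b : Y →ₗ[R] N) (hab : ∀ x, b (a x) = 0) (σ : N →ₗ[R] G) (hσ : Function.Surjective σ)
    (hker : ∀ z, σ z = 0 ↔ ∃ y, b y = z)
    (hex₀ : ∀ y, (b.restrictScalars A).lTensor A₀ y = 0 → ∃ x, (a.restrictScalars A).lTensor A₀ x = y)
    (hflat : Module.Flat A₀ (A₀ ⊗[A] G))
    (q : Ideal R) [q.IsPrime] (p₀ : Ideal A₀) [p₀.IsPrime]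
    (h : q.comap (algebraMap A R) = p₀.comap (algebraMap A A₀)) :
    FlatCA.FlatAt A q G := by
  have hfg : (LinearMap.range a).FG := Module.Finite.iff_fg.mp inferInstance
  have hM : Module.FinitePresentation R (Y ⧸ LinearMap.range a) :=
    Module.finitePresentation_of_surjective (Submodule.mkQ _) (Submodule.mkQ_surjective _) (by
      rwa [Submodule.ker_mkQ])
  let u : (Y ⧸ LinearMap.range a) →ₗ[R] N :=
    (LinearMap.range a).liftQ b (by
      rintro _ ⟨x, rfl⟩
      exact hab x)
  have hr : LinearMap.range u = LinearMap.ker σ := by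
    ext z
    rw [LinearMap.mem_ker, hker]
    constructor
    · rintro ⟨x, rfl⟩
      obtain ⟨x, rfl⟩ := Submodule.Quotient.mk_surjective _ x
      exact ⟨x, rfl⟩
    · rintro ⟨y, hy⟩
      exact ⟨Submodule.Quotient.mk y, hy⟩
  let eG : (N ⧸ LinearMap.range u) ≃ₗ[R] G :=
    Submodule.quotEquivOfEq _ _ hr ≪≫ₗ σ.quotKerEquivOfSurjective hσ
  have hinj : Function.Injective ((u.restrictScalars A).lTensor A₀) := by
    have hs : Function.Surjective ((LinearMap.range a).mkQ.restrictScalars A) :=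
      Submodule.mkQ_surjective (LinearMap.range a)
    have hz : ∀ x, ((LinearMap.range a).mkQ.restrictScalars A) ((a.restrictScalars A) x) = 0 :=
      fun x => (Submodule.Quotient.mk_eq_zero (LinearMap.range a)).mpr (LinearMap.mem_range_self a x)
    refine lTensor_injective_of A₀ (a.restrictScalars A)
      ((LinearMap.range a).mkQ.restrictScalars A) hs hz (u.restrictScalars A)
      (b.restrictScalars A) (fun y => rfl) ?_
    exact hex₀
  have hfl2 : Module.Flat A₀ (A₀ ⊗[A] (N ⧸ LinearMap.range u)) :=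
    Module.Flat.of_linearEquiv (TensorProduct.AlgebraTensorModule.congr (LinearEquiv.refl A₀ A₀)
      (eG.restrictScalars A))
  rw [← Flat2B.LocTransfer.flatAt_congr q eG]
  exact GExLoc.flatAt_coker u A₀ hinj hfl2 q p₀ h

/-- Flatness of the homology in degree `r` near the image of `Spec A₀`. -/
theorem flatAt_of [Algebra.FinitePresentation A R] [Module.Flat A R] [∀ k, Module.Finite R (P k)]
    (hd : ∀ k x, d k (d (k + 1) x) = 0)
    (hex : ∀ k < r, ∀ x ∈ cyc P d k, ∃ y, d k y = x)
    (σ : cyc P d r →ₗ[R] G) (hσ : Function.Surjective σ)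
    (hker : ∀ z : cyc P d r, σ z = 0 ↔ ∃ y, d r y = z)
    (hex₀ : ∀ x, bd A d A₀ r x = 0 → ∃ y, bd A d A₀ (r + 1) y = x)
    (hflat : Module.Flat A₀ (A₀ ⊗[A] G))
    (q : Ideal R) [q.IsPrime] (p₀ : Ideal A₀) [p₀.IsPrime]
    (h : q.comap (algebraMap A R) = p₀.comap (algebraMap A A₀)) :
    FlatCA.FlatAt A q G := by
  obtain ⟨e, he⟩ := exists_retraction hd r hex
  have hproj : Module.Projective R (cyc P d r) :=
    Module.Projective.of_split (cyc P d r).subtype e (LinearMap.ext he)
  have hfin : Module.Finite R (cyc P d r) := Module.Finite.of_surjective e (fun z => ⟨z, he z⟩)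
  have hfp : Module.FinitePresentation R (cyc P d r) := Module.finitePresentation_of_projective _ _
  have hfl : Module.Flat A (cyc P d r) := Module.Flat.trans A R _
  have hfpP : Module.FinitePresentation R (P (r + 1)) := Module.finitePresentation_of_projective _ _
  refine flatAt_aux A₀ (d (r + 1)) (dZ hd r) (dZ_comp hd r) σ hσ (fun z => ?_) (fun y hy => ?_) hflat q p₀ h
  · rw [hker]
    constructor
    · rintro ⟨y, hy⟩; exact ⟨y, Subtype.ext hy⟩
    · rintro ⟨y, hy⟩; exact ⟨y, congrArg Subtype.val hy⟩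
  · refine hex₀ y ?_
    rw [← bincl_dZ A₀ hd]
    have : ((dZ hd r).restrictScalars A).baseChange A₀ y = 0 := hy
    rw [this, map_zero]

/-- The homology in degree `r` is finitely presented. -/
theorem finitePresentation_of [∀ k, Module.Finite R (P k)]
    (hd : ∀ k x, d k (d (k + 1) x) = 0)
    (hex : ∀ k < r, ∀ x ∈ cyc P d k, ∃ y, d k y = x)
    (σ : cyc P d r →ₗ[R] G) (hσ : Function.Surjective σ)
    (hker : ∀ z : cyc P d r, σ z = 0 ↔ ∃ y, d r y = z) : Module.FinitePresentation R G := by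
  obtain ⟨e, he⟩ := exists_retraction hd r hex
  have hproj : Module.Projective R (cyc P d r) :=
    Module.Projective.of_split (cyc P d r).subtype e (LinearMap.ext he)
  have hfin : Module.Finite R (cyc P d r) := Module.Finite.of_surjective e (fun z => ⟨z, he z⟩)
  have hfp : Module.FinitePresentation R (cyc P d r) := Module.finitePresentation_of_projective _ _
  refine Module.finitePresentation_of_surjective σ hσ ?_
  have : LinearMap.ker σ = LinearMap.range (dZ hd r) := by
    ext z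
    rw [LinearMap.mem_ker, hker]
    constructor
    · rintro ⟨y, hy⟩; exact ⟨y, Subtype.ext hy⟩
    · rintro ⟨y, hy⟩; exact ⟨y, congrArg Subtype.val hy⟩
  rw [this]
  exact Module.Finite.iff_fg.mp inferInstance

end BaseChange

end Groth.Agent.Flat2B.GExAlg
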