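import Groth.Agent.Flat2B.GExTowerQI

/-!
# The tower lemma (S1270, route E, AL1)
-/

set_option autoImplicit false

universe u v

open MvPolynomial

namespace Groth.Agent.Flat2B.GExTowerAlg

open GEx

noncomputable section

section conv

variable {S : Type u} [CommRing S] {τ : Type}

/-- The complex of filtered modules of a filtered complex. -/
def ofFCx (T : FCx S τ) : ACx S τ where
  M k :=
    { C := T.X k
      F := T.F k
      mono := T.mono k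
      exh := T.exh k
      smul_mem := T.smul_mem k }
  d k := ⟨T.d k, T.d_mem k⟩
  d_d k x := T.d_d k x

theorem dK_mem (K : FreeCx S τ) (k e : ℕ) (v : K.J (k + 1) → MvPolynomial τ S)
    (hv : v ∈ (free S τ (K.J (k + 1)) (K.w (k + 1))).F e) :
    K.d k v ∈ (free S τ (K.J k) (K.w k)).F e := by
  refine mem_free_iff.mpr fun b ↦ ?_
  have : K.d k v b ∈ comp S τ (K.J k) (K.w k) b e := by
    rw [FreeCx.d_apply]
    refine Submodule.sum_mem _ fun a _ ↦ ?_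
    rw [mem_comp_iff]
    rcases mem_free_iff.mp hv a with h | h
    · left
      rw [h, zero_mul]
    · rcases K.D_deg k a b with h' | h'
      · left
        rw [h', mul_zero]
      · right
        have := totalDegree_mul (v a) (K.D k a b)
        omega
  exact mem_comp_iff.mp this

/-- The complex of filtered modules of a free complex. -/
def ofFreeCx (K : FreeCx S τ) : ACx S τ where
  M k := free S τ (K.J k) (K.w k)
  d k := ⟨K.d k, dK_mem K k⟩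
  d_d k x := K.d_d k x

theorem homF_comm {K : FreeCx S τ} {T : FCx S τ} (φ : FreeCx.Hom K T) (k : ℕ)
    (v : K.J (k + 1) → MvPolynomial τ S) : T.d k (φ.f (k + 1) v) = φ.f k (K.d k v) := by
  change T.d k (∑ a, v a • φ.t (k + 1) a) = ∑ b, (∑ a, v a * K.D k a b) • φ.t k b
  rw [map_sum]
  simp only [Finset.sum_smul, map_smul, φ.comm, Finset.smul_sum, mul_smul]
  rw [Finset.sum_comm]

/-- The map of complexes of filtered modules. -/
def ofHom {K : FreeCx S τ} {T : FCx S τ} (φ : FreeCx.Hom K T) : AHom (ofFreeCx K) (ofFCx T) where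
  f k := ⟨φ.f k, (ofFam (M := (ofFCx T).M k) (φ.t k) (φ.t_mem k)).mem⟩
  comm k v := homF_comm φ k v

theorem qi_ofHom {K : FreeCx S τ} {T : FCx S τ} {φ : FreeCx.Hom K T} (h : φ.QI) :
    (ofHom φ).QI where
  zero e y hy := by
    obtain ⟨v, hv, z, hz, h1⟩ := h.1 e y hy
    exact ⟨v, mem_free_iff.mpr hv, z, hz, h1⟩
  one e v y hv hy h1 := by
    obtain ⟨v', hv', z, hz, h2⟩ := h.2 0 e v y (mem_free_iff.mp hv) trivial hy h1
    exact ⟨v', mem_free_iff.mpr hv', z, hz, h2⟩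
  succ k e v y hv h0 hy h1 := by
    obtain ⟨v', hv', z, hz, h2⟩ := h.2 (k + 1) e v y (mem_free_iff.mp hv) h0 hy h1
    exact ⟨v', mem_free_iff.mpr hv', z, hz, h2⟩

end conv

section final

variable {A : Type u} [CommRing A] {A' : ℕ → Type u} [∀ n, CommRing (A' n)]
  {φ : ∀ n, A' (n + 1) →+* A' n} {π : ∀ n, A →+* A' n} {τ : Type}

/-- Conversion of towers. -/
def ofTower (𝒯 : Tower A' φ π τ) (K : ∀ n, FreeCx (A' n) τ) (f : ∀ n, FreeCx.Hom (K n) (𝒯.T n))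
    (hf : ∀ n, (f n).QI) : ATower A' φ τ where
  T n := ofFCx (𝒯.T n)
  flat n k e := 𝒯.flat n k e
  r n k := ⟨(𝒯.r n).f k, (𝒯.r n).f_smul k, (𝒯.r n).f_mem k⟩
  bc n k := ⟨(𝒯.bc n).surj k, (𝒯.bc n).ker k⟩
  r_d n k x := (𝒯.r n).f_d k x
  P n := ofFreeCx (K n)
  hP _ _ := FP.free _ _
  ψ n := ofHom (f n)
  qi n := qi_ofHom (hf n)

/-- Conversion of limits of towers. -/
def ofTowerLim (𝒯 : Tower A' φ π τ) (K : ∀ n, FreeCx (A' n) τ)
    (f : ∀ n, FreeCx.Hom (K n) (𝒯.T n)) (hf : ∀ n, (f n).QI) : ALim (ofTower 𝒯 K f hf) π where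
  L := ofFCx 𝒯.L
  ρ n k := ⟨(𝒯.ρ n).f k, (𝒯.ρ n).f_smul k, (𝒯.ρ n).f_mem k⟩
  ρ_d n k x := (𝒯.ρ n).f_d k x
  comp n k x := 𝒯.comp n k x
  inj k e x hx h := 𝒯.lim_inj k e x hx h
  surj k e y hy h := 𝒯.lim_surj k e y hy h

variable [Finite τ] (hlim : FlatCA.IsRingLimit A A' φ π)
  (hsurj : ∀ n, Function.Surjective (φ n)) (hnil : ∀ n, ∀ x ∈ RingHom.ker (φ n), IsNilpotent x)
  (𝒯 : ATower A' φ τ) (𝓛 : ALim 𝒯 π)

/-- The generators in degree `k`. -/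
abbrev gn (k : ℕ) : Gens (stg 𝒯 hsurj hnil k).1 := (stg 𝒯 hsurj hnil k).2

/-- The generators in degree `k + 1`. -/
def gs (k : ℕ) : Gens ((gn hsurj hnil 𝒯 k).next hsurj) := gn hsurj hnil 𝒯 (k + 1)

/-- The limit complex. -/
def KK : FreeCx A τ where
  J k := (gn hsurj hnil 𝒯 k).J
  fin k := (gn hsurj hnil 𝒯 k).fin
  w k := (gn hsurj hnil 𝒯 k).w
  D k := (gn hsurj hnil 𝒯 k).D (gs hsurj hnil 𝒯 k) hlim
  D_deg k a b := mem_free_iff.mp ((gn hsurj hnil 𝒯 k).D_mem (gs hsurj hnil 𝒯 k) hlim a) b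
  D_D k a c := (gn hsurj hnil 𝒯 k).D_D (gs hsurj hnil 𝒯 k) hlim (gs hsurj hnil 𝒯 (k + 1)) a c

omit [Finite τ] in
theorem ofFam_free_apply {S : Type u} [CommRing S] {J J' : Type} [Fintype J] [Fintype J']
    {w : J → ℕ} {w' : J' → ℕ} (z : J' → J → MvPolynomial τ S)
    (hz : ∀ a, z a ∈ (free S τ J w).F (w' a)) (v : J' → MvPolynomial τ S) (b : J) :
    ((ofFam (M := free S τ J w) z hz).f v : J → MvPolynomial τ S) b = ∑ a, v a * z a b := by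
  change (∑ a, v a • z a) b = _
  rw [Finset.sum_apply]
  rfl

theorem Gens.q_ε {k : ℕ} {p : PreStage 𝒯 k} (g : Gens p) (g' : Gens (g.next hsurj)) (n : ℕ)
    (v : g'.J → MvPolynomial τ (A' n)) (b : g.J) :
    ((g.q n).f ((g'.ε n).f v) : g.J → MvPolynomial τ (A' n)) b =
      ∑ a, v a * MvPolynomial.map (π n) (g.D g' hlim a b) := by
  have h0 : ∀ a, (g.q n).f (g'.γ n a) = mapFun (π n) (g.D g' hlim a) :=
    fun a ↦ (g.map_D g' hlim n a).symm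
  have h1 := Gens.map_ofFam' (g.q n) (g'.γ n) (g'.γ_mem n) (fun a ↦ mapFun (π n) (g.D g' hlim a))
    (fun a ↦ mapFun_mem (π n) (g.D_mem g' hlim a)) h0 v
  exact (congrFun h1 b).trans (ofFam_free_apply _ _ v b)

omit [Finite τ] in
theorem Gens.pT_ε {k : ℕ} {p : PreStage 𝒯 k} (g : Gens p) (n : ℕ)
    (v : g.J → MvPolynomial τ (A' n)) :
    (p.pT n).f ((g.ε n).f v) = ∑ a, v a • (𝓛.ρ n k).f (g.t 𝓛 a) := by
  have h1 := Gens.map_ofFam' (p.pT n) (g.γ n) (g.γ_mem n) (fun a ↦ (p.pT n).f (g.γ n a))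
    (fun a ↦ (p.pT n).mem _ _ (g.γ_mem n a)) (fun a ↦ rfl) v
  refine h1.trans ?_
  rw [ofFam_apply]
  refine Finset.sum_congr rfl fun a _ ↦ ?_
  rw [g.ρ_t]

theorem Gens.dH_apply {k : ℕ} {p : PreStage 𝒯 k} (g : Gens p) (g' : Gens (g.next hsurj))
    (v : g'.J → MvPolynomial τ A) (b : g.J) :
    ((g.dH g' hlim).f v : g.J → MvPolynomial τ A) b = ∑ a, v a * g.D g' hlim a b :=
  ofFam_free_apply _ _ v b

theorem Gens.d_t {k : ℕ} {p : PreStage 𝒯 k} (g : Gens p) (g' : Gens (g.next hsurj)) (a : g'.J) :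
    (𝓛.L.d k).f (g'.t 𝓛 a) = ∑ b, g.D g' hlim a b • g.t 𝓛 b := by
  classical
  have h1 := g.comm 𝓛 g' hlim (Pi.single a 1)
  have h2 : (g'.tH 𝓛).f (Pi.single a 1 : g'.J → MvPolynomial τ A) = g'.t 𝓛 a :=
    ofFam_single (g'.t 𝓛) (g'.t_mem 𝓛) a
  have h3 : (g.dH g' hlim).f (Pi.single a 1 : g'.J → MvPolynomial τ A) = g.D g' hlim a :=
    ofFam_single (M := free A τ g.J g.w) (g.D g' hlim) (g.D_mem g' hlim) a
  refine (congrArg (𝓛.L.d k).f h2).symm.trans (h1.trans ?_)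
  refine (congrArg (g.tH 𝓛).f h3).trans ?_
  rfl

section zero

variable {𝒯} (g : Gens (PreStage.zero 𝒯))

include hlim hsurj in
theorem zero_limit (e : ℕ) (y : (𝓛.L.M 0).C) (hy : y ∈ (𝓛.L.M 0).F e) :
    ∃ v ∈ (free A τ g.J g.w).F e, ∃ z ∈ (𝓛.L.M 1).F e,
      (g.tH 𝓛).f v + (𝓛.L.d 0).f z = y := by
  obtain ⟨v, hv, z, hz, h⟩ := g.exists_limit 𝓛 hsurj hlim e (fun n ↦ (𝓛.ρ n 0).f y)
    (fun n ↦ (𝓛.ρ n 0).mem e y hy) (fun n ↦ 𝓛.comp n 0 y)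
  refine ⟨v, hv, z, hz, (sub_eq_zero.mp (𝓛.inj 0 e _ (sub_mem hy (add_mem
    ((g.tH 𝓛).mem e _ hv) ((𝓛.L.d 0).mem e _ hz))) fun n ↦ ?_)).symm⟩
  have h3 : (𝓛.ρ n 0).f ((g.tH 𝓛).f v) = (g.ε n).f (mapFun (π n) v) := g.ρ_tH 𝓛 n v
  have h5 : (𝓛.ρ n 0).f ((𝓛.L.d 0).f z) = ((𝒯.T n).d 0).f ((𝓛.ρ n 1).f z) := 𝓛.ρ_d n 0 z
  rw [map_sub, map_add, h3, h5, sub_eq_zero]
  exact h n

omit [Finite τ] in
theorem cyc_zero (v : g.J → MvPolynomial τ A) (y : (𝓛.L.M 1).C)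
    (h : (g.tH 𝓛).f v = (𝓛.L.d 0).f y) (n : ℕ) :
    (g.ε n).f (mapFun (π n) v) = ((PreStage.zero 𝒯).δ n).f ((𝓛.ρ n 1).f y) := by
  have h3 : (𝓛.ρ n 0).f ((g.tH 𝓛).f v) = (g.ε n).f (mapFun (π n) v) := g.ρ_tH 𝓛 n v
  rw [← h3, h, 𝓛.ρ_d]
  rfl

end zero

theorem KK_d (k : ℕ) (v : (gn hsurj hnil 𝒯 (k + 1)).J → MvPolynomial τ A) :
    (KK hlim hsurj hnil 𝒯).d k v =
      ((gn hsurj hnil 𝒯 k).dH (gs hsurj hnil 𝒯 k) hlim).f v := by
  funext b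
  exact (Gens.dH_apply hlim hsurj 𝒯 (gn hsurj hnil 𝒯 k) (gs hsurj hnil 𝒯 k) v b).symm

theorem map_KK_d (n k : ℕ) (v : (gn hsurj hnil 𝒯 (k + 1)).J → MvPolynomial τ (A' n)) :
    ((KK hlim hsurj hnil 𝒯).map (π n)).d k v =
      ((gn hsurj hnil 𝒯 k).q n).f (((gs hsurj hnil 𝒯 k).ε n).f v) := by
  funext b
  exact (Gens.q_ε hlim hsurj 𝒯 (gn hsurj hnil 𝒯 k) (gs hsurj hnil 𝒯 k) n v b).symm

end final

section main

variable {A : Type u} [CommRing A] {A' : ℕ → Type u} [∀ n, CommRing (A' n)]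
  {φ : ∀ n, A' (n + 1) →+* A' n} {π : ∀ n, A →+* A' n} {τ : Type}
  [Finite τ] (hlim : FlatCA.IsRingLimit A A' φ π)
  (hsurj : ∀ n, Function.Surjective (φ n)) (hnil : ∀ n, ∀ x ∈ RingHom.ker (φ n), IsNilpotent x)
  (𝒯 : Tower A' φ π τ) (K : ∀ n, FreeCx (A' n) τ) (f : ∀ n, FreeCx.Hom (K n) (𝒯.T n))
  (hf : ∀ n, (f n).QI)

/-- The chain map from the limit complex. -/
def KH : FreeCx.Hom (KK hlim hsurj hnil (ofTower 𝒯 K f hf)) 𝒯.L where
  t k a := (gn hsurj hnil (ofTower 𝒯 K f hf) k).t (ofTowerLim 𝒯 K f hf) a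
  t_mem k a := (gn hsurj hnil (ofTower 𝒯 K f hf) k).t_mem (ofTowerLim 𝒯 K f hf) a
  comm k a := Gens.d_t hlim hsurj (ofTower 𝒯 K f hf) (ofTowerLim 𝒯 K f hf)
    (gn hsurj hnil (ofTower 𝒯 K f hf) k) (gs hsurj hnil (ofTower 𝒯 K f hf) k) a

theorem KH_f (k : ℕ) (v : (gn hsurj hnil (ofTower 𝒯 K f hf) k).J → MvPolynomial τ A) :
    (KH hlim hsurj hnil 𝒯 K f hf).f k v =
      ((gn hsurj hnil (ofTower 𝒯 K f hf) k).tH (ofTowerLim 𝒯 K f hf)).f v := rfl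

theorem push_KH_f (n k : ℕ)
    (v : (gn hsurj hnil (ofTower 𝒯 K f hf) k).J → MvPolynomial τ (A' n)) :
    ((KH hlim hsurj hnil 𝒯 K f hf).push (𝒯.ρ n)).f k v =
      ((stg (ofTower 𝒯 K f hf) hsurj hnil k).1.pT n).f
        (((gn hsurj hnil (ofTower 𝒯 K f hf) k).ε n).f v) :=
  (Gens.pT_ε (ofTower 𝒯 K f hf) (ofTowerLim 𝒯 K f hf)
    (gn hsurj hnil (ofTower 𝒯 K f hf) k) n v).symm

theorem qi_KH : (KH hlim hsurj hnil 𝒯 K f hf).QI := by
  constructor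
  · intro e y hy
    obtain ⟨v, hv, z, hz, h⟩ := zero_limit hlim hsurj (ofTowerLim 𝒯 K f hf)
      (gn hsurj hnil (ofTower 𝒯 K f hf) 0) e y hy
    exact ⟨v, mem_free_iff.mp hv, z, hz, h⟩
  · intro k e v y hv hcyc hy h
    have key : ∀ n, ((gn hsurj hnil (ofTower 𝒯 K f hf) k).ε n).f (mapFun (π n) v) =
        ((stg (ofTower 𝒯 K f hf) hsurj hnil k).1.δ n).f
          (((ofTowerLim 𝒯 K f hf).ρ n (k + 1)).f y) := by
      rcases k with - | k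
      · exact cyc_zero (ofTowerLim 𝒯 K f hf) (gn hsurj hnil (ofTower 𝒯 K f hf) 0) v y h
      · exact (gn hsurj hnil (ofTower 𝒯 K f hf) k).cyc_limit (ofTowerLim 𝒯 K f hf)
          (gs hsurj hnil (ofTower 𝒯 K f hf) k) hlim v y
          ((KK_d hlim hsurj hnil (ofTower 𝒯 K f hf) k v).symm.trans hcyc) h
    obtain ⟨v', hv', z, hz, h1, h2⟩ := (gn hsurj hnil (ofTower 𝒯 K f hf) k).key_limit
      (ofTowerLim 𝒯 K f hf) (gs hsurj hnil (ofTower 𝒯 K f hf) k) hlim e v y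
      (mem_free_iff.mpr hv) hy key
    exact ⟨v', mem_free_iff.mp hv', z, hz,
      (KK_d hlim hsurj hnil (ofTower 𝒯 K f hf) k v').trans h1, h2⟩

theorem qi_push_KH (n : ℕ) : ((KH hlim hsurj hnil 𝒯 K f hf).push (𝒯.ρ n)).QI := by
  constructor
  · intro e y hy
    obtain ⟨v, hv, z, hz, h⟩ := (gn hsurj hnil (ofTower 𝒯 K f hf) 0).gen n e y hy
    refine ⟨v, mem_free_iff.mp hv, z, hz, ?_⟩
    exact (congrArg (fun t ↦ t + (𝒯.T n).d 0 z)
      (push_KH_f hlim hsurj hnil 𝒯 K f hf n 0 v)).trans h.symm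
  · intro k e v y hv hcyc hy h
    have h0 : ((stg (ofTower 𝒯 K f hf) hsurj hnil k).1.pT n).f
        (((gn hsurj hnil (ofTower 𝒯 K f hf) k).ε n).f v) =
        (((ofTower 𝒯 K f hf).T n).d k).f y :=
      (push_KH_f hlim hsurj hnil 𝒯 K f hf n k v).symm.trans h
    have key : ((gn hsurj hnil (ofTower 𝒯 K f hf) k).ε n).f v =
        ((stg (ofTower 𝒯 K f hf) hsurj hnil k).1.δ n).f y := by
      rcases k with - | k
      · exact h0
      · exact (gn hsurj hnil (ofTower 𝒯 K f hf) k).cyc_level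
          (gs hsurj hnil (ofTower 𝒯 K f hf) k) n v y
          ((map_KK_d hlim hsurj hnil (ofTower 𝒯 K f hf) n k v).symm.trans hcyc) h0
    obtain ⟨v', hv', z, hz, h1, h2⟩ := (gn hsurj hnil (ofTower 𝒯 K f hf) k).key_level
      (gs hsurj hnil (ofTower 𝒯 K f hf) k) n e v y
      (mem_free_iff.mpr hv) hy key
    refine ⟨v', mem_free_iff.mp hv', z, hz,
      (map_KK_d hlim hsurj hnil (ofTower 𝒯 K f hf) n k v').trans h1, ?_⟩
    exact (congrArg (fun t ↦ t + (𝒯.T n).d (k + 1) z)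
      (push_KH_f hlim hsurj hnil 𝒯 K f hf n (k + 1) v')).trans h2

include hlim hsurj hnil in
omit K f hf in
/-- AL1. Tower lemma. -/
theorem tower_exists_free (hPC : ∀ n, (𝒯.T n).IsPC) :
    ∃ (K : FreeCx A τ) (f : FreeCx.Hom K 𝒯.L), f.QI ∧ ∀ n, (f.push (𝒯.ρ n)).QI := by
  choose K f hf using hPC
  exact ⟨_, KH hlim hsurj hnil 𝒯 K f hf, qi_KH hlim hsurj hnil 𝒯 K f hf,
    qi_push_KH hlim hsurj hnil 𝒯 K f hf⟩

end main

end

end Groth.Agent.Flat2B.GExTowerAlg
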