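import Groth.Agent.Flat2B.GExNoeth
import Groth.Agent.Flat2B.GExBC
import Groth.Agent.Flat2B.GExTower
import Groth.Agent.Flat2B.GExAL3
import Groth.Agent.Flat2B.GExAL4
import Groth.Agent.Flat2B.GExAL5
import Groth.Agent.Flat2B.GExAL6

/-!
# S1270, route E: assembly of the algebraic part
-/

universe u

open Finset MvPolynomial

namespace Groth.Agent.Flat2B.GEx

namespace FreeCx

variable {S S' : Type u} [CommRing S] [CommRing S'] {τ : Type} {K : FreeCx S τ} {T : FCx S τ}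

lemma Hom.f_apply (φ : Hom K T) (k : ℕ) (v : K.J k → MvPolynomial τ S) :
    φ.f k v = ∑ a, v a • φ.t k a := rfl

/-- `f` is a chain map. -/
lemma Hom.f_d (φ : Hom K T) (k : ℕ) (v : K.J (k + 1) → MvPolynomial τ S) :
    T.d k (φ.f (k + 1) v) = φ.f k (K.d k v) := by
  rw [f_apply, f_apply, map_sum]
  simp only [d_apply, Finset.sum_smul, map_smul, φ.comm, Finset.smul_sum, mul_smul]
  exact Finset.sum_comm

/-- Base change of vectors. -/
noncomputable def mapVec (χ : S →+* S') {k : ℕ} (v : K.J k → MvPolynomial τ S) :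
    K.J k → MvPolynomial τ S' := fun a => MvPolynomial.map χ (v a)

lemma d_mapVec (χ : S →+* S') (k : ℕ) (v : K.J (k + 1) → MvPolynomial τ S) :
    (K.map χ).d k (mapVec χ v) = mapVec χ (K.d k v) := by
  funext b
  rw [d_apply, mapVec, d_apply, map_sum]
  simp only [map_mul]
  rfl

lemma IsCyc.mapVec {χ : S →+* S'} {k : ℕ} {v : K.J k → MvPolynomial τ S} (hv : K.IsCyc k v) :
    (K.map χ).IsCyc k (FreeCx.mapVec χ v) := by
  cases k with
  | zero => trivial
  | succ k =>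
    change (K.map χ).d k (FreeCx.mapVec χ v) = 0
    rw [d_mapVec, show K.d k v = 0 from hv]
    funext b
    exact map_zero _

lemma Hom.push_mapVec {T' : FCx S' τ} (f : Hom K T) {χ : S →+* S'} (ρ : FCx.Map χ T T') (k : ℕ)
    (v : K.J k → MvPolynomial τ S) :
    (f.push ρ).f k (mapVec χ v) = ρ.f k (f.f k v) := by
  rw [f_apply, f_apply, map_sum]
  exact Finset.sum_congr rfl fun a _ => (ρ.f_smul k (v a) (f.t k a)).symm

/-- The unfiltered form of `QI`. -/
lemma Hom.QI.unf {φ : Hom K T} (h : φ.QI) :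
    (∀ y, ∃ v z, φ.f 0 v + T.d 0 z = y) ∧
    ∀ k v y, K.IsCyc k v → φ.f k v = T.d k y →
      ∃ v' z, K.d k v' = v ∧ φ.f (k + 1) v' + T.d (k + 1) z = y := by
  classical
  refine ⟨fun y => ?_, fun k v y hv hy => ?_⟩
  · obtain ⟨e, he⟩ := T.exh 0 y
    obtain ⟨v, -, z, -, h1⟩ := h.1 e y he
    exact ⟨v, z, h1⟩
  · obtain ⟨e, he⟩ := T.exh (k + 1) y
    let e' := max e (Finset.univ.sup fun a => (v a).totalDegree + K.w k a)
    have h1 : K.F k e' v := fun a => Or.inr ((Finset.le_sup (f := fun a => (v a).totalDegree +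
      K.w k a) (Finset.mem_univ a)).trans (le_max_right _ _))
    obtain ⟨v', -, z, -, h2, h3⟩ := h.2 k e' v y h1 hv (T.mono _ (le_max_left _ _) he) hy
    exact ⟨v', z, h2, h3⟩

end FreeCx

section Main

variable {Λ : Type u} [CommRing Λ] {τ ι : Type} [LinearOrder ι] [Fintype ι] {C : RDiag Λ (NE ι)}

/-- The composition `K → L ⊗ M → Cech(N)` of quasi-isomorphisms. -/
theorem comp_qis {S : Type u} [CommRing S] {L : LData C τ} {i : ι} {b : τ → C.C (sg i)}
    {ε : ∀ a : L.J 0, C.C (ins i (L.loc 0 a))} {ψ : Λ →+* S} {D : RDiag S (NE ι)}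
    {i₀ : RDiag.Hom ψ C D} {M : MDiag D} {N : MDiag (D.shift i)} {κ : ∀ s, M.M s →+ N.M s}
    (hC : C.Good) (hL : L.IsResol i b ε) (hgen : ∀ s, Function.Surjective (evi C i b s))
    (hi₀ : i₀.IsPO) (hκ : ∀ s, IsBCMap (D.res (le_ins i s)).toRingHom (κ s))
    (hκr : ∀ {s t : NE ι} (h : s ≤ t) m, κ t (M.res h m) = N.res h (κ s m))
    {K : FreeCx S τ} {f : FreeCx.Hom K ((L.map i₀).tensor M).tot} (hf : f.QI) :
    (∀ k (v : K.J (k + 1) → MvPolynomial τ S), augTot L i b ε i₀ M N κ k (f.f k (K.d k v)) =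
      N.cd k (augTot L i b ε i₀ M N κ (k + 1) (f.f (k + 1) v))) ∧
    (∀ n : N.HK 0, ∃ (v : K.J 0 → MvPolynomial τ S) (n' : N.HK 1),
      augTot L i b ε i₀ M N κ 0 (f.f 0 v) + N.cd 0 n' = n) ∧
    ∀ k (v : K.J k → MvPolynomial τ S) (n : N.HK (k + 1)), K.IsCyc k v →
      augTot L i b ε i₀ M N κ k (f.f k v) = N.cd k n →
      ∃ (v' : K.J (k + 1) → MvPolynomial τ S) (n' : N.HK (k + 2)), K.d k v' = v ∧
        augTot L i b ε i₀ M N κ (k + 1) (f.f (k + 1) v') + N.cd (k + 1) n' = n := by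
  have hκ' : ∀ s (c : D.C s) m, κ s (c • m) = D.res (le_ins i s) c • κ s m := fun s =>
    (hκ s).1
  have hd := fun k x => augTot_d (N := N) (κ := κ) (i₀ := i₀) (M := M) hL hκ' hκr k x
  obtain ⟨h0, h1⟩ := augTot_qis (N := N) (κ := κ) (M := M) hC hL hgen hi₀ hκ hκr
  obtain ⟨g0, g1⟩ := hf.unf
  refine ⟨fun k v => ?_, fun n => ?_, fun k v n hv hn => ?_⟩
  · rw [← f.f_d, hd]
  · obtain ⟨x, n', hx⟩ := h0 n
    obtain ⟨v, z, hv⟩ := g0 x
    refine ⟨v, n' + augTot L i b ε i₀ M N κ 1 z, ?_⟩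
    rw [map_add, ← hd, ← hx, ← hv, map_add]
    abel
  · have hc : ((L.map i₀).tensor M).tot.IsCyc k (f.f k v) := by
      cases k with
      | zero => trivial
      | succ k =>
        change ((L.map i₀).tensor M).tot.d k (f.f (k + 1) v) = 0
        rw [f.f_d, show K.d k v = 0 from hv, map_zero]
    obtain ⟨x', n', hx', hn'⟩ := h1 k (f.f k v) n hc hn
    obtain ⟨v', z, hv', hz⟩ := g1 k v x' hv hx'.symm
    refine ⟨v', n' + augTot L i b ε i₀ M N κ (k + 2) z, hv', ?_⟩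
    rw [map_add, ← hd, ← hn', ← hz, map_add]
    abel

end Main

/-! ### Naturality of the augmentation -/

section Nat

variable {τ : Type}

lemma PM.addHom_ext' {M N : Type u} [AddCommGroup M] [AddCommGroup N] {f g : PM τ M →+ N}
    (h : ∀ μ m, f (PM.single μ m) = g (PM.single μ m)) : f = g :=
  Finsupp.addHom_ext (M := M) (f := f) (g := g) h

lemma PM.eval_single {R' : Type u} [CommRing R'] {M N : Type u} [AddCommGroup M]
    [AddCommGroup N] [Module R' N] (β : τ → R') (κ : M →+ N) (μ : τ →₀ ℕ) (m : M) :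
    PM.eval β κ (PM.single μ m) = (μ.prod fun t k => β t ^ k) • κ m :=
  Finsupp.liftAddHom_apply_single (fun μ : τ →₀ ℕ =>
    (DistribMulAction.toAddMonoidEnd R' N (μ.prod fun t k => β t ^ k)).comp κ) μ m

lemma PM.map_single {M N : Type u} [AddCommGroup M] [AddCommGroup N] (g : M →+ N) (μ : τ →₀ ℕ)
    (m : M) : PM.map g (PM.single μ m) = PM.single μ (g m) :=
  Finsupp.mapRange_single (hf := g.map_zero)

lemma PM.eval_map {R R' : Type u} [CommRing R] [CommRing R'] {M M' N N' : Type u} [AddCommGroup M]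
    [AddCommGroup M'] [AddCommGroup N] [AddCommGroup N'] [Module R N] [Module R' N'] (h : R →+* R')
    (β : τ → R) (κ : M →+ N) (κ' : M' →+ N') (g : M →+ M') (θ : N →+ N')
    (hθ : ∀ c x, θ (c • x) = h c • θ x) (hθκ : ∀ m, θ (κ m) = κ' (g m)) (x : PM τ M) :
    θ (PM.eval β κ x) = PM.eval (fun t => h (β t)) κ' (PM.map g x) := by
  have : θ.comp (PM.eval β κ) = (PM.eval (fun t => h (β t)) κ').comp (PM.map g) := by
    refine PM.addHom_ext' fun μ m => ?_
    rw [AddMonoidHom.comp_apply, AddMonoidHom.comp_apply, PM.eval_single, PM.map_single,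
      PM.eval_single, hθ, hθκ]
    congr 1
    rw [Finsupp.prod, map_prod, Finsupp.prod]
    exact Finset.prod_congr rfl fun t _ => map_pow h _ _
  exact DFunLike.congr_fun this x

lemma PM.sh_single {M : Type u} [AddCommGroup M] (μ ν : τ →₀ ℕ) (m : M) :
    PM.sh μ (PM.single ν m) = PM.single (μ + ν) m :=
  Finsupp.mapDomain_single

lemma PM.eval_sh {R' : Type u} [CommRing R'] {M N : Type u} [AddCommGroup M]
    [AddCommGroup N] [Module R' N] (β : τ → R') (κ : M →+ N) (μ : τ →₀ ℕ) (x : PM τ M) :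
    PM.eval β κ (PM.sh μ x) = (μ.prod fun t k => β t ^ k) • PM.eval β κ x := by
  classical
  have : (PM.eval β κ).comp (PM.sh μ) =
      (DistribMulAction.toAddMonoidEnd R' N (μ.prod fun t k => β t ^ k)).comp (PM.eval β κ) := by
    refine PM.addHom_ext' fun ν m => ?_
    change PM.eval β κ (PM.sh μ (PM.single ν m)) =
      (μ.prod fun t k => β t ^ k) • PM.eval β κ (PM.single ν m)
    rw [PM.sh_single, PM.eval_single, PM.eval_single, smul_smul]
    congr 1
    exact Finsupp.prod_add_index' (fun _ => pow_zero _) (fun _ _ _ => pow_add _ _ _)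
  exact DFunLike.congr_fun this x

lemma PM.eval_smul {A R' : Type u} [CommRing A] [CommRing R'] {M N : Type u} [AddCommGroup M]
    [AddCommGroup N] [Module A M] [Module R' N] (h : A →+* R') (β : τ → R') (κ : M →+ N)
    (hκ : ∀ a m, κ (a • m) = h a • κ m) (p : MvPolynomial τ A) (x : PM τ M) :
    PM.eval β κ (p • x) = MvPolynomial.eval₂Hom h β p • PM.eval β κ x := by
  induction p using MvPolynomial.induction_on' with
  | monomial μ a =>
    rw [PM.monomial_smul, MvPolynomial.coe_eval₂Hom, MvPolynomial.eval₂_monomial, mul_smul,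
      ← PM.eval_sh]
    generalize PM.sh μ x = y
    have : (PM.eval β κ).comp (DistribMulAction.toAddMonoidEnd A (PM τ M) a) =
        (DistribMulAction.toAddMonoidEnd R' N (h a)).comp (PM.eval β κ) := by
      refine PM.addHom_ext' fun ν m => ?_
      have h1 : a • PM.single ν m = PM.single ν (a • m) := Finsupp.smul_single _ _ _
      change PM.eval β κ (a • PM.single ν m) = h a • PM.eval β κ (PM.single ν m)
      rw [h1, PM.eval_single, PM.eval_single, hκ, smul_comm]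
    exact DFunLike.congr_fun this y
  | add p q hp hq => rw [add_smul, map_add, map_add, add_smul, hp, hq]

variable {Λ : Type u} [CommRing Λ] {ι : Type} [LinearOrder ι] [Fintype ι] {C : RDiag Λ (NE ι)}

open Classical in
omit [Fintype ι] in
lemma augM_apply {S : Type u} [CommRing S] (L : LData C τ) (i : ι) (b : τ → C.C (sg i))
    (ε : ∀ a : L.J 0, C.C (ins i (L.loc 0 a))) {ψ : Λ →+* S} {D : RDiag S (NE ι)}
    (i₀ : RDiag.Hom ψ C D) (M : MDiag D) (N : MDiag (D.shift i)) (κ : ∀ s, M.M s →+ N.M s)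
    (s : NE ι) (v : L.G 0 s → PM τ (M.M s)) :
    augM L i b ε i₀ M N κ s v = ∑ a : L.G 0 s, i₀.f (ins i s) (C.res (ins_le_ins i a.2) (ε a.1)) •
      PM.eval (fun t => i₀.f (ins i s) (C.res (sg_le_ins i s) (b t))) (κ s) (v a) := by
  unfold augM
  change (∑ a : L.G 0 s, _) = _
  congr!

theorem augM_nat {S S' : Type u} [CommRing S] [CommRing S'] (L : LData C τ) (i : ι)
    (b : τ → C.C (sg i)) (ε : ∀ a : L.J 0, C.C (ins i (L.loc 0 a))) {ψ : Λ →+* S} {ψ' : Λ →+* S'}
    {χ : S →+* S'} {D : RDiag S (NE ι)} {D' : RDiag S' (NE ι)} {i₀ : RDiag.Hom ψ C D}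
    {i₀' : RDiag.Hom ψ' C D'} {j : RDiag.Hom χ D D'} (hij : ∀ s x, j.f s (i₀.f s x) = i₀'.f s x)
    {M : MDiag D} {M' : MDiag D'} (g : MDiag.Hom j M M') {N : MDiag (D.shift i)}
    {N' : MDiag (D'.shift i)} (κ : ∀ s, M.M s →+ N.M s) (κ' : ∀ s, M'.M s →+ N'.M s)
    (θ : ∀ s, N.M s →+ N'.M s) (hθ : ∀ s (c : D.C (ins i s)) x, θ s (c • x) = j.f (ins i s) c • θ s x)
    (hθκ : ∀ s m, θ s (κ s m) = κ' s (g.f s m)) (s : NE ι) (v : L.G 0 s → PM τ (M.M s)) :
    θ s (augM L i b ε i₀ M N κ s v) =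
      augM L i b ε i₀' M' N' κ' s (fun a => PM.map (g.f s) (v a)) := by
  classical
  rw [augM_apply, augM_apply, map_sum]
  refine Finset.sum_congr rfl fun a _ => ?_
  rw [hθ, hij, PM.eval_map (j.f (ins i s)) _ (κ s) (κ' s) (g.f s) (θ s) (hθ s) (hθκ s)]
  simp only [hij]

theorem augTot_nat {S S' : Type u} [CommRing S] [CommRing S'] (L : LData C τ) (i : ι)
    (b : τ → C.C (sg i)) (ε : ∀ a : L.J 0, C.C (ins i (L.loc 0 a))) {ψ : Λ →+* S} {ψ' : Λ →+* S'}
    {χ : S →+* S'} {D : RDiag S (NE ι)} {D' : RDiag S' (NE ι)} {i₀ : RDiag.Hom ψ C D}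
    {i₀' : RDiag.Hom ψ' C D'} {j : RDiag.Hom χ D D'} (hij : ∀ s x, j.f s (i₀.f s x) = i₀'.f s x)
    {M : MDiag D} {M' : MDiag D'} (g : MDiag.Hom j M M') {N : MDiag (D.shift i)}
    {N' : MDiag (D'.shift i)} (κ : ∀ s, M.M s →+ N.M s) (κ' : ∀ s, M'.M s →+ N'.M s)
    (θ : ∀ s, N.M s →+ N'.M s) (hθ : ∀ s (c : D.C (ins i s)) x, θ s (c • x) = j.f (ins i s) c • θ s x)
    (hθκ : ∀ s m, θ s (κ s m) = κ' s (g.f s m)) (k : ℕ)
    (x : ((L.map i₀).tensor M).tot.X k) (s : {s : NE ι // s.1.card + k = Fintype.card ι}) :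
    θ s.1 (augTot L i b ε i₀ M N κ k x s) =
      augTot L i b ε i₀' M' N' κ' k ((tensorMap L hij g).f k x) s :=
  augM_nat L i b ε hij g κ κ' θ hθ hθκ s.1 _

end Nat

section Smul

variable {Λ : Type u} [CommRing Λ] {τ ι : Type} [LinearOrder ι] {C : RDiag Λ (NE ι)}

/-- The ring map `A[y] → D (sg i)`. -/
noncomputable def psi {A : Type u} [CommRing A] {l : Λ →+* A} {DA : RDiag A (NE ι)}
    (iA : RDiag.Hom l C DA) {i : ι} (b : τ → C.C (sg i)) : MvPolynomial τ A →+* DA.C (sg i) :=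
  MvPolynomial.eval₂Hom (algebraMap A (DA.C (sg i))) (fun t => iA.f (sg i) (b t))

theorem augM_smul {S : Type u} [CommRing S] (L : LData C τ) (i : ι) (b : τ → C.C (sg i))
    (ε : ∀ a : L.J 0, C.C (ins i (L.loc 0 a))) {ψ : Λ →+* S} {D : RDiag S (NE ι)}
    (i₀ : RDiag.Hom ψ C D) (M : MDiag D) (N : MDiag (D.shift i)) (κ : ∀ s, M.M s →+ N.M s)
    (hκ : ∀ s (c : D.C s) m, κ s (c • m) = D.res (le_ins i s) c • κ s m)
    (s : NE ι) (v : L.G 0 s → PM τ (M.M s)) (p : MvPolynomial τ S) :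
    augM L i b ε i₀ M N κ s (p • v) =
      D.res (sg_le_ins i s) (psi i₀ b p) • augM L i b ε i₀ M N κ s v := by
  classical
  rw [augM_apply, augM_apply, Finset.smul_sum]
  refine Finset.sum_congr rfl fun a _ => ?_
  rw [smul_comm]
  congr 1
  rw [Pi.smul_apply, PM.eval_smul (algebraMap S (D.C (ins i s))) _ _ (fun a m => by
    have := hκ s (algebraMap S (D.C s) a) m
    rw [algebraMap_smul] at this
    rw [this]
    congr 1
    exact (D.res (le_ins i s)).commutes a)]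
  congr 1
  have : (MvPolynomial.eval₂Hom (algebraMap S (D.C (ins i s)))
      fun t => i₀.f (ins i s) (C.res (sg_le_ins i s) (b t))) =
      (D.res (sg_le_ins i s)).toRingHom.comp (psi i₀ b) := by
    refine MvPolynomial.ringHom_ext (fun a => ?_) (fun t => ?_)
    · simp [psi]
    · simp [psi, i₀.f_res]
  exact DFunLike.congr_fun this p

end Smul

section Final

variable {Λ : Type u} [CommRing Λ] {τ ι : Type} [Finite τ] [LinearOrder ι] [Fintype ι]
  {C : RDiag Λ (NE ι)}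

/-- A Noetherian model of a diagram `M` over `D = C ⊗ S`. -/
def HasModel {S : Type u} [CommRing S] {ψ : Λ →+* S} {D : RDiag S (NE ι)} (i₀ : RDiag.Hom ψ C D)
    (M : MDiag D) : Prop :=
  ∃ (B : Type u) (_ : CommRing B) (_ : IsNoetherianRing B) (ψB : Λ →+* B) (χ : B →+* S)
    (DB : RDiag B (NE ι)) (iB : RDiag.Hom ψB C DB) (_ : iB.IsPO) (jB : RDiag.Hom χ DB D)
    (_ : ∀ s x, jB.f s (iB.f s x) = i₀.f s x) (MB : MDiag DB)
    (_ : ∀ s, Module.Finite (DB.C s) (MB.M s)) (_ : MB.IsCart) (_ : ∀ s, Module.Flat B (MB.M s))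
    (g : MDiag.Hom jB MB M), ∀ s, IsBCMap χ (g.f s)

theorem HasModel.isPC {S : Type u} [CommRing S] {ψ : Λ →+* S} {D : RDiag S (NE ι)}
    {i₀ : RDiag.Hom ψ C D} {M : MDiag D} (hM : HasModel i₀ M) (hC : C.Good) (hfin : C.FIN)
    (hft : ∀ s, (algebraMap Λ (C.C s)).FiniteType) {L : LData C τ} {i : ι} {b : τ → C.C (sg i)}
    {ε : ∀ a : L.J 0, C.C (ins i (L.loc 0 a))} (hL : L.IsResol i b ε) :
    ((L.map i₀).tensor M).tot.IsPC := by
  obtain ⟨B, _, _, ψB, χ, DB, iB, hiB, jB, hij, MB, hMB, hcart, hflat, g, hg⟩ := hM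
  have h1 : ((L.map iB).tensor MB).tot.IsPC :=
    Noeth.isPC_of_noetherian _ (fun k => homFG hC hfin hft hL hiB MB hMB hcart k)
  exact BC.isPC_baseChange (tensorMap L hij g) (tensorMap_isBC L hij g hg) (tensor_isFlat _ _ hflat) h1

/-- The algebraic part of route E: existence of the complex `K` for one member of the covering. -/
theorem exists_local (hC : C.Good) (hfin : C.FIN) (hft : ∀ s, (algebraMap Λ (C.C s)).FiniteType)
    (hN : ∀ s, IsNoetherianRing (C.C s)) {i : ι} (b : τ → C.C (sg i))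
    (hgen : ∀ s, Function.Surjective (evi C i b s))
    {A : Type u} [CommRing A] {A' : ℕ → Type u} [∀ n, CommRing (A' n)]
    {φ : ∀ n, A' (n + 1) →+* A' n} {π : ∀ n, A →+* A' n} (hlim : FlatCA.IsRingLimit A A' φ π)
    (hφsurj : ∀ n, Function.Surjective (φ n)) (hnil : ∀ n, ∀ x ∈ RingHom.ker (φ n), IsNilpotent x)
    {l : Λ →+* A} {ln : ∀ n, Λ →+* A' n}
    {DA : RDiag A (NE ι)} {iA : RDiag.Hom l C DA} (hiA : iA.IsPO)
    {Dn : ∀ n, RDiag (A' n) (NE ι)} {iN : ∀ n, RDiag.Hom (ln n) C (Dn n)} (hiN : ∀ n, (iN n).IsPO)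
    {jn : ∀ n, RDiag.Hom (φ n) (Dn (n + 1)) (Dn n)} {jA : ∀ n, RDiag.Hom (π n) DA (Dn n)}
    (hjn : ∀ n s x, (jn n).f s ((iN (n + 1)).f s x) = (iN n).f s x)
    (hjA : ∀ n s x, (jA n).f s (iA.f s x) = (iN n).f s x)
    (MA : MDiag DA) (M : ∀ n, MDiag (Dn n)) (hflat : ∀ n s, Module.Flat (A' n) ((M n).M s))
    (r : ∀ n, MDiag.Hom (jn n) (M (n + 1)) (M n)) (ρ : ∀ n, MDiag.Hom (jA n) MA (M n))
    (hrρ : ∀ n s x, (r n).f s ((ρ (n + 1)).f s x) = (ρ n).f s x)
    (hsurj : ∀ n s, Function.Surjective ((r n).f s))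
    (hker : ∀ n s x, (r n).f s x = 0 →
      x ∈ RingHom.ker (φ n) • (⊤ : Submodule (A' (n + 1)) ((M (n + 1)).M s)))
    (hinj : ∀ s (x : MA.M s), (∀ n, (ρ n).f s x = 0) → x = 0)
    (hMlim : ∀ s (y : ∀ n, (M n).M s), (∀ n, (r n).f s (y (n + 1)) = y n) →
      ∃ x : MA.M s, ∀ n, (ρ n).f s x = y n)
    (hcart : ∀ n, (M n).IsCart) (hmodel : ∀ n, HasModel (iN n) (M n))
    (NA : MDiag (DA.shift i)) (κ : ∀ s, MA.M s →+ NA.M s)
    (hκ : ∀ s, IsBCMap (DA.res (le_ins i s)).toRingHom (κ s))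
    (hκr : ∀ {s t : NE ι} (h : s ≤ t) m, κ t (MA.res h m) = NA.res h (κ s m))
    (θ : ∀ n s, NA.M s →+ (M n).M (ins i s))
    (hθ : ∀ n s (c : DA.C (ins i s)) x, θ n s (c • x) = (jA n).f (ins i s) c • θ n s x)
    (hθκ : ∀ n s m, θ n s (κ s m) = (M n).res (le_ins i s) ((ρ n).f s m)) :
    ∃ (K : FreeCx A τ) (a : ∀ k, (K.J k → MvPolynomial τ A) →+ NA.HK k),
      (∀ k p v s, a k (p • v) s = DA.res (sg_le_ins i s.1) (psi iA b p) • a k v s) ∧
      (∀ k v, a k (K.d k v) = NA.cd k (a (k + 1) v)) ∧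
      (∀ n : NA.HK 0, ∃ v n', a 0 v + NA.cd 0 n' = n) ∧
      (∀ k v n, K.IsCyc k v → a k v = NA.cd k n →
        ∃ v' n', K.d k v' = v ∧ a (k + 1) v' + NA.cd (k + 1) n' = n) ∧
      (∀ n k, k + 1 ≠ Fintype.card ι → ∀ v, (K.map (π n)).IsCyc k v →
        ∃ w, (K.map (π n)).d k w = v) ∧
      ∀ n k, k + 1 = Fintype.card ι →
        (∀ m : (M n).M (sg i), ∃ v', (K.map (π n)).IsCyc k v' ∧ ∀ v, K.IsCyc k v →
          FreeCx.mapVec (π n) v = v' → ∀ s, θ n s.1 (a k v s) = (M n).res (sg_le_ins i s.1) m) ∧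
        ∀ v, K.IsCyc k v → (∀ s, θ n s.1 (a k v s) = 0) →
          ∃ w, (K.map (π n)).d k w = FreeCx.mapVec (π n) v := by
  obtain ⟨L, ε, hL⟩ := exists_resol C hN i b
  obtain ⟨K, f, hf, hfn⟩ : ∃ (K : FreeCx A τ) (f : FreeCx.Hom K ((L.map iA).tensor MA).tot),
      f.QI ∧ ∀ n, (f.push (tensorMap L (hjA n) (ρ n))).QI :=
    GExTowerAlg.tower_exists_free hlim hφsurj hnil
      (tower L hjn hjA MA M hflat r ρ hrρ hsurj hker hinj hMlim)
      (fun n => (hmodel n).isPC hC hfin hft hL)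
  have hc := comp_qis (N := NA) (κ := κ) (i₀ := iA) hC hL hgen hiA hκ hκr hf
  have hn := fun n => comp_qis (M := M n) (N := (M n).shift i)
      (κ := fun s => (M n).res (le_ins i s)) hC hL hgen (hiN n) (fun s => hcart n _)
      (fun {s t} h m => by
        change (M n).res _ ((M n).res _ m) = (M n).res _ ((M n).res _ m)
        rw [(M n).res_res, (M n).res_res]) (hfn n)
  have hnat : ∀ n k (v : K.J k → MvPolynomial τ A) s,
      θ n s.1 (augTot L i b ε iA MA NA κ k (f.f k v) s) =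
      augTot L i b ε (iN n) (M n) ((M n).shift i) (fun s => (M n).res (le_ins i s)) k
        ((f.push (tensorMap L (hjA n) (ρ n))).f k (FreeCx.mapVec (π n) v)) s := by
    intro n k v s
    rw [FreeCx.Hom.push_mapVec]
    exact augTot_nat (N' := (M n).shift i) L i b ε (hjA n) (ρ n) κ
      (fun s => (M n).res (le_ins i s)) (θ n) (hθ n) (hθκ n) k (f.f k v) s
  refine ⟨K, fun k => (augTot L i b ε iA MA NA κ k).comp (f.f k).toAddMonoidHom,
    fun k p v s => ?_, hc.1, hc.2.1, hc.2.2, ?_, ?_⟩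
  · have e1 : f.f k (p • v) = p • f.f k v := map_smul _ _ _
    change augTot L i b ε iA MA NA κ k (f.f k (p • v)) s = _ • augTot L i b ε iA MA NA κ k (f.f k v) s
    rw [e1]
    exact augM_smul L i b ε iA MA NA κ (fun s => (hκ s).1) s.1 _ p
  · intro n k hk v hv
    obtain ⟨h1, h2, h3⟩ := hn n
    obtain ⟨y, hy⟩ := shift_exact (M n) i k hk
      (augTot L i b ε (iN n) (M n) ((M n).shift i) (fun s => (M n).res (le_ins i s)) k
        ((f.push (tensorMap L (hjA n) (ρ n))).f k v)) (by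
        cases k with
        | zero => trivial
        | succ k =>
          change ((M n).shift i).cd k _ = 0
          rw [← h1, show (K.map (π n)).d k v = 0 from hv, map_zero, map_zero])
    obtain ⟨w, n', hw, -⟩ := h3 k v y hv hy.symm
    exact ⟨w, hw⟩
  · intro n k hk
    obtain ⟨h1, h2, h3⟩ := hn n
    obtain ⟨g1, g2, g3⟩ := shift_exact_zero (M n) i k hk
    have hemp : ∀ x : ((M n).shift i).HK (k + 1), x = 0 := by
      intro x
      funext s
      have h1 := s.2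
      have h2 := Finset.card_pos.2 s.1.2
      omega
    refine ⟨fun m => ?_, fun v hv h0 => ?_⟩
    · let m' : ∀ k, ((M n).shift i).HK k := fun k s => (M n).res (sg_le_ins i s.1) m
      obtain ⟨v', hv', hv''⟩ : ∃ v', (K.map (π n)).IsCyc k v' ∧
          augTot L i b ε (iN n) (M n) ((M n).shift i) (fun s => (M n).res (le_ins i s)) k
            ((f.push (tensorMap L (hjA n) (ρ n))).f k v') = m' k := by
        cases k with
        | zero =>
          obtain ⟨v', n', h⟩ := h2 (m' 0)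
          refine ⟨v', trivial, ?_⟩
          rw [hemp n', map_zero, add_zero] at h
          exact h
        | succ k =>
          have hm : ((M n).shift i).cd k (m' (k + 1)) = 0 := g1 m
          obtain ⟨v', n', hv', h⟩ := h3 k 0 (m' (k + 1)) (by
            cases k with
            | zero => trivial
            | succ k => exact map_zero _) (by rw [hm, map_zero, map_zero])
          refine ⟨v', hv', ?_⟩
          rw [hemp n', map_zero, add_zero] at h
          exact h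
      refine ⟨v', hv', fun v _ hvv s => ?_⟩
      change θ n s.1 (augTot L i b ε iA MA NA κ k (f.f k v) s) = _
      rw [hnat, hvv, hv'']
    · have h4 : augTot L i b ε (iN n) (M n) ((M n).shift i) (fun s => (M n).res (le_ins i s)) k
            ((f.push (tensorMap L (hjA n) (ρ n))).f k (FreeCx.mapVec (π n) v)) =
            ((M n).shift i).cd k 0 := by
        rw [map_zero]
        funext s
        rw [← hnat]
        exact h0 s
      obtain ⟨w, n', hw, -⟩ := h3 k (FreeCx.mapVec (π n) v) 0 hv.mapVec h4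
      exact ⟨w, hw⟩

end Final

end Groth.Agent.Flat2B.GEx
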