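import Groth.Agent.Flat2B.GExDefs

/-!
# S1270, route E, lemma AL1, first half: augmented truncations and Schanuel's lemma

`Aug T k`: a filtered module `W` with a differential `T.X (k+1) → W`. `X.next G`: the next cycles
`{(x, t) | lin x = d t}`, for generators `G` of `X.W` modulo `d`. `PCn N X`: there are `N`
successive steps after which everything is still finitely generated. The predicate does not
depend on the choices.
-/

universe u

open MvPolynomial

namespace Groth.Agent.Flat2B.GEx

variable {S : Type u} [CommRing S] {τ : Type}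

/-- The filtration of the free module `J → S[y]` with weights `w`. -/
def freeF {J : Type} (w : J → ℕ) (e : ℕ) : Submodule S (J → MvPolynomial τ S) where
  carrier := {v | ∀ a, v a = 0 ∨ (v a).totalDegree + w a ≤ e}
  add_mem' {v v'} hv hv' a := by
    rcases hv a with h | h
    · rcases hv' a with h' | h'
      · left; simp [h, h']
      · right; simpa [h] using h'
    · rcases hv' a with h' | h'
      · right; simpa [h'] using h
      · right
        have := totalDegree_add (v a) (v' a)
        simp only [Pi.add_apply]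
        omega
  zero_mem' a := Or.inl rfl
  smul_mem' c v hv a := by
    rcases hv a with h | h
    · left; simp [h]
    · right
      have := totalDegree_smul_le c (v a)
      simp only [Pi.smul_apply]
      omega

lemma mem_freeF {J : Type} {w : J → ℕ} {e : ℕ} {v : J → MvPolynomial τ S} :
    v ∈ freeF (S := S) (τ := τ) w e ↔ ∀ a, v a = 0 ∨ (v a).totalDegree + w a ≤ e := Iff.rfl

lemma freeF_mono {J : Type} (w : J → ℕ) : Monotone (freeF (S := S) (τ := τ) w) :=
  fun _ _ h _ hv a => (hv a).imp id fun h' => h'.trans h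

lemma freeF_smul {J : Type} (w : J → ℕ) {e m : ℕ} {p : MvPolynomial τ S}
    {v : J → MvPolynomial τ S} (hp : p.totalDegree ≤ m) (hv : v ∈ freeF (S := S) (τ := τ) w e) :
    p • v ∈ freeF (S := S) (τ := τ) w (e + m) := by
  intro a
  rcases hv a with h | h
  · left; simp [h]
  · right
    have := totalDegree_mul p (v a)
    simp only [Pi.smul_apply, smul_eq_mul]
    omega

lemma freeF_single {J : Type} [DecidableEq J] (w : J → ℕ) (a : J) :
    (Pi.single a 1 : J → MvPolynomial τ S) ∈ freeF (S := S) (τ := τ) w (w a) := by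
  intro b
  by_cases h : b = a
  · subst h
    right
    simp
  · left
    simp [h]

section lin

variable {W : Type u} [AddCommGroup W] [Module (MvPolynomial τ S) W]
variable {W' : Type u} [AddCommGroup W'] [Module (MvPolynomial τ S) W']
variable {J J' : Type} [Fintype J] [Fintype J']

/-- The linear map `v ↦ ∑ a, v a • z a`. -/
noncomputable def lin (z : J → W) : (J → MvPolynomial τ S) →ₗ[MvPolynomial τ S] W where
  toFun v := ∑ a, v a • z a
  map_add' v w := by simp [add_smul, Finset.sum_add_distrib]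
  map_smul' p v := by simp [Finset.smul_sum, mul_smul]

lemma lin_apply (z : J → W) (v : J → MvPolynomial τ S) : lin z v = ∑ a, v a • z a := rfl

lemma lin_single [DecidableEq J] (z : J → W) (a : J) :
    lin z (Pi.single a (1 : MvPolynomial τ S)) = z a := by
  rw [lin_apply, Finset.sum_eq_single a]
  · simp
  · intro b _ hb
    simp [hb]
  · intro h; exact absurd (Finset.mem_univ a) h

lemma map_lin (g : W →ₗ[MvPolynomial τ S] W') (z : J → W) (v : J → MvPolynomial τ S) :
    g (lin z v) = lin (fun a => g (z a)) v := by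
  simp [lin_apply, map_sum]

lemma lin_elim (z : J → W) (z' : J' → W) (v : J ⊕ J' → MvPolynomial τ S) :
    lin (Sum.elim z z') v = lin z (fun a => v (.inl a)) + lin z' (fun a => v (.inr a)) := by
  simp [lin_apply, Fintype.sum_sum_type]

lemma lin_id [DecidableEq J] (v : J → MvPolynomial τ S) :
    lin (fun a => (Pi.single a (1 : MvPolynomial τ S) : J → MvPolynomial τ S)) v = v := by
  funext b
  rw [lin_apply, Finset.sum_apply, Finset.sum_eq_single b]
  · simp
  · intro a _ hb
    simp [Ne.symm hb]
  · intro h; exact absurd (Finset.mem_univ b) h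

lemma lin_add (z z' : J → W) (v : J → MvPolynomial τ S) :
    lin (fun a => z a + z' a) v = lin z v + lin z' v := by
  simp [lin_apply, Finset.sum_add_distrib]

lemma lin_neg (z : J → W) (v : J → MvPolynomial τ S) :
    lin (fun a => - z a) v = - lin z v := by
  simp [lin_apply]

lemma lin_comp_equiv (σ : J ≃ J') (z : J' → W) (v : J → MvPolynomial τ S) :
    lin z (fun b => v (σ.symm b)) = lin (fun a => z (σ a)) v := by
  rw [lin_apply, lin_apply]
  exact Fintype.sum_equiv σ.symm _ _ fun b => by simp

/-- A family with `z a ∈ F (w a)` gives a map compatible with the filtrations. -/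
lemma lin_mem [Module S W] [IsScalarTower S (MvPolynomial τ S) W] {F : ℕ → Submodule S W}
    (hmono : Monotone F)
    (hsmul : ∀ e m (p : MvPolynomial τ S) x, p.totalDegree ≤ m → x ∈ F e → p • x ∈ F (e + m))
    {w : J → ℕ} {z : J → W} (hz : ∀ a, z a ∈ F (w a)) {e : ℕ} {v : J → MvPolynomial τ S}
    (hv : v ∈ freeF (S := S) (τ := τ) w e) : lin z v ∈ F e := by
  rw [lin_apply]
  refine Submodule.sum_mem _ fun a _ => ?_
  rcases hv a with h | h
  · rw [h, zero_smul]; exact Submodule.zero_mem _
  · exact hmono (by omega : w a + (v a).totalDegree ≤ e) (hsmul _ _ _ _ le_rfl (hz a))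

end lin

/-- Augmented truncations. -/
structure Aug (T : FCx S τ) (k : ℕ) where
  W : Type u
  [grp : AddCommGroup W]
  [modS : Module S W]
  [mod : Module (MvPolynomial τ S) W]
  [tower : IsScalarTower S (MvPolynomial τ S) W]
  F : ℕ → Submodule S W
  mono : Monotone F
  smul_mem : ∀ e m (p : MvPolynomial τ S) x, p.totalDegree ≤ m → x ∈ F e → p • x ∈ F (e + m)
  d : T.X (k + 1) →ₗ[MvPolynomial τ S] W
  d_d : ∀ x, d (T.d (k + 1) x) = 0
  d_mem : ∀ e x, x ∈ T.F (k + 1) e → d x ∈ F e

attribute [instance] Aug.grp Aug.modS Aug.mod Aug.tower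

namespace Aug

variable {T : FCx S τ} {k : ℕ}

/-- Families of elements with weights, generating `W` modulo `d` in the filtered sense. -/
structure Gen (X : Aug T k) where
  J : Type
  [fin : Fintype J]
  w : J → ℕ
  z : J → X.W
  z_mem : ∀ a, z a ∈ X.F (w a)
  gen : ∀ e, ∀ y ∈ X.F e, ∃ v ∈ freeF (S := S) (τ := τ) w e, ∃ t ∈ T.F (k + 1) e,
    lin z v + X.d t = y

attribute [instance] Gen.fin

lemma lin_mem_F (X : Aug T k) {J : Type} [Fintype J] {w : J → ℕ} {z : J → X.W}
    (hz : ∀ a, z a ∈ X.F (w a)) {e : ℕ} {v : J → MvPolynomial τ S}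
    (hv : v ∈ freeF (S := S) (τ := τ) w e) : lin z v ∈ X.F e :=
  lin_mem X.mono X.smul_mem hz hv

/-- The truncation in degree `0`. -/
@[simps]
def zero (T : FCx S τ) : Aug T 0 where
  W := T.X 0
  F := T.F 0
  mono := T.mono 0
  smul_mem := T.smul_mem 0
  d := T.d 0
  d_d := T.d_d 0
  d_mem := T.d_mem 0

/-- The submodule `{(x, t) | lin x = d t}`. -/
noncomputable def nextSub (X : Aug T k) {J : Type} [Fintype J] (z : J → X.W) :
    Submodule (MvPolynomial τ S) ((J → MvPolynomial τ S) × T.X (k + 1)) where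
  carrier := {p | lin z p.1 = X.d p.2}
  add_mem' {p q} hp hq := by
    change lin z (p.1 + q.1) = X.d (p.2 + q.2)
    rw [map_add, map_add]
    exact congrArg₂ _ hp hq
  zero_mem' := by
    change lin z 0 = X.d 0
    rw [map_zero, map_zero]
  smul_mem' c p hp := by
    change lin z (c • p.1) = X.d (c • p.2)
    rw [map_smul, map_smul]
    exact congrArg _ hp

/-- The next cycles, for any family. -/
noncomputable def nextRaw (X : Aug T k) {J : Type} [Fintype J] (w : J → ℕ) (z : J → X.W) :
    Aug T (k + 1) where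
  W := X.nextSub z
  F e := (Submodule.prod (freeF (S := S) (τ := τ) w e) (T.F (k + 1) e)).comap
    ((X.nextSub z).subtype.restrictScalars S)
  mono _ _ h _ hx := ⟨freeF_mono w h hx.1, T.mono (k + 1) h hx.2⟩
  smul_mem e m p _ hp hx := ⟨freeF_smul w hp hx.1, T.smul_mem (k + 1) e m p _ hp hx.2⟩
  d := LinearMap.codRestrict _ (LinearMap.prod 0 (T.d (k + 1))) fun t => by
    change lin z 0 = X.d (T.d (k + 1) t)
    rw [X.d_d, map_zero]
  d_d x := by
    apply Subtype.ext
    refine Prod.ext rfl ?_
    exact T.d_d (k + 1) x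
  d_mem e x hx := ⟨Submodule.zero_mem _, T.d_mem (k + 1) e x hx⟩

lemma mem_nextRaw_F (X : Aug T k) {J : Type} [Fintype J] (w : J → ℕ) (z : J → X.W) {e : ℕ}
    {p : X.nextSub z} :
    p ∈ (X.nextRaw w z).F e ↔ p.1.1 ∈ freeF (S := S) (τ := τ) w e ∧ p.1.2 ∈ T.F (k + 1) e :=
  Iff.rfl

lemma nextRaw_d (X : Aug T k) {J : Type} [Fintype J] (w : J → ℕ) (z : J → X.W)
    (t : T.X (k + 1 + 1)) :
    ((X.nextRaw w z).d t : X.nextSub z).1 = (0, T.d (k + 1) t) := rfl

/-- The next cycles. -/
noncomputable def next (X : Aug T k) (G : X.Gen) : Aug T (k + 1) := X.nextRaw G.w G.z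

/-- Finite generation modulo `d`. -/
def FG (X : Aug T k) : Prop := Nonempty X.Gen

/-- `N` steps of a resolution. -/
def PCn : ℕ → ∀ {k : ℕ}, Aug T k → Prop
  | 0, _, X => X.FG
  | N + 1, _, X => ∃ G : X.Gen, PCn N (X.next G)

/-- Isomorphisms. -/
structure Iso (X Y : Aug T k) where
  e : X.W ≃ₗ[MvPolynomial τ S] Y.W
  mem : ∀ i x, e x ∈ Y.F i ↔ x ∈ X.F i
  comm : ∀ t, e (X.d t) = Y.d t

/-- Adding a free module. -/
@[simps!]
noncomputable def plus (X : Aug T k) {J : Type} [Fintype J] (w : J → ℕ) : Aug T k where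
  W := X.W × (J → MvPolynomial τ S)
  F e := Submodule.prod (X.F e) (freeF (S := S) (τ := τ) w e)
  mono _ _ h _ hx := ⟨X.mono h hx.1, freeF_mono w h hx.2⟩
  smul_mem e m p _ hp hx := ⟨X.smul_mem e m p _ hp hx.1, freeF_smul w hp hx.2⟩
  d := LinearMap.prod X.d 0
  d_d x := Prod.ext (X.d_d x) rfl
  d_mem e x hx := ⟨X.d_mem e x hx, Submodule.zero_mem _⟩

namespace Iso

variable {X Y : Aug T k}

/-- The inverse. -/
noncomputable def symm (φ : Iso X Y) : Iso Y X where
  e := φ.e.symm
  mem i y := by
    rw [← φ.mem, LinearEquiv.apply_symm_apply]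
  comm t := by
    rw [LinearEquiv.symm_apply_eq, φ.comm]

/-- Transport of generators. -/
@[simps]
noncomputable def gen (φ : Iso X Y) (G : X.Gen) : Y.Gen where
  J := G.J
  w := G.w
  z a := φ.e (G.z a)
  z_mem a := (φ.mem _ _).2 (G.z_mem a)
  gen i y hy := by
    obtain ⟨v, hv, t, ht, h⟩ := G.gen i (φ.e.symm y) ((φ.symm.mem _ _).2 hy)
    refine ⟨v, hv, t, ht, ?_⟩
    have h' := congrArg φ.e h
    rw [LinearEquiv.apply_symm_apply, map_add, φ.comm] at h'
    rw [← h']
    congr 1
    exact (map_lin φ.e.toLinearMap G.z v).symm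

end Iso

/-- Isomorphisms and reindexing. -/
noncomputable def nextIso {X Y : Aug T k} (φ : Iso X Y) {J J' : Type} [Fintype J] [Fintype J']
    (σ : J ≃ J') {w : J → ℕ} {w' : J' → ℕ} {z : J → X.W} {z' : J' → Y.W}
    (hw : ∀ a, w' (σ a) = w a) (hz : ∀ a, z' (σ a) = φ.e (z a)) :
    Iso (X.nextRaw w z) (Y.nextRaw w' z') where
  e :=
    { toFun := fun p => ⟨(fun b => p.1.1 (σ.symm b), p.1.2), by
        change lin z' (fun b => p.1.1 (σ.symm b)) = Y.d p.1.2
        rw [lin_comp_equiv, ← φ.comm, ← show lin z p.1.1 = X.d p.1.2 from p.2]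
        simp only [hz]
        exact (map_lin φ.e.toLinearMap z _).symm⟩
      map_add' := fun p q => rfl
      map_smul' := fun c p => rfl
      invFun := fun p => ⟨(fun a => p.1.1 (σ a), p.1.2), by
        change lin z (fun a => p.1.1 (σ a)) = X.d p.1.2
        apply φ.e.injective
        rw [φ.comm, ← show lin z' p.1.1 = Y.d p.1.2 from p.2]
        refine (map_lin φ.e.toLinearMap z _).trans ?_
        have := lin_comp_equiv σ z' (fun a => p.1.1 (σ a))
        simp only [Equiv.apply_symm_apply, hz] at this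
        exact this.symm⟩
      left_inv := fun p => by
        apply Subtype.ext
        refine Prod.ext ?_ rfl
        funext a
        exact congrArg p.1.1 (σ.symm_apply_apply a)
      right_inv := fun p => by
        apply Subtype.ext
        refine Prod.ext ?_ rfl
        funext a
        exact congrArg p.1.1 (σ.apply_symm_apply a) }
  mem i p := by
    refine and_congr_left fun _ => ?_
    constructor
    · intro h a
      have := h (σ a)
      simp only [hw] at this
      change p.1.1 (σ.symm (σ a)) = 0 ∨ (p.1.1 (σ.symm (σ a))).totalDegree + w a ≤ i at this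
      rwa [Equiv.symm_apply_apply] at this
    · intro h b
      have := h (σ.symm b)
      rwa [← hw, Equiv.apply_symm_apply] at this
  comm t := rfl

/-- The generators of `X.plus w`. -/
noncomputable def plusZ (X : Aug T k) {J J' : Type} [DecidableEq J'] (z : J → X.W) :
    J ⊕ J' → X.W × (J' → MvPolynomial τ S) :=
  Sum.elim (fun a => (z a, 0)) (fun j => (0, Pi.single j 1))

lemma lin_plusZ (X : Aug T k) {J J' : Type} [Fintype J] [Fintype J'] [DecidableEq J'] (z : J → X.W)
    (v : J ⊕ J' → MvPolynomial τ S) :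
    lin (X.plusZ (J' := J') z) v = (lin z (fun a => v (.inl a)), fun j => v (.inr j)) := by
  rw [plusZ, lin_elim]
  refine Prod.ext ?_ ?_
  · rw [Prod.fst_add]
    refine (congrArg₂ _
      (map_lin (LinearMap.fst (MvPolynomial τ S) X.W (J' → MvPolynomial τ S)) _ _)
      (map_lin (LinearMap.fst (MvPolynomial τ S) X.W (J' → MvPolynomial τ S)) _ _)).trans ?_
    simp [lin_apply]
  · rw [Prod.snd_add]
    refine (congrArg₂ _
      (map_lin (LinearMap.snd (MvPolynomial τ S) X.W (J' → MvPolynomial τ S)) _ _)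
      (map_lin (LinearMap.snd (MvPolynomial τ S) X.W (J' → MvPolynomial τ S)) _ _)).trans ?_
    refine Eq.trans ?_ (lin_id _)
    simp [lin_apply]

/-- Adding the basis of a free module does not change the next cycles. -/
noncomputable def plusNextIso (X : Aug T k) {J J' : Type} [Fintype J] [Fintype J']
    [DecidableEq J'] (w : J → ℕ) (w' : J' → ℕ) (z : J → X.W) :
    Iso ((X.plus w').nextRaw (Sum.elim w w') (X.plusZ z)) (X.nextRaw w z) where
  e :=
    { toFun := fun p => ⟨(fun a => p.1.1 (.inl a), p.1.2), by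
        have h : lin (X.plusZ (J' := J') z) p.1.1 = (X.d p.1.2, 0) := p.2
        rw [lin_plusZ] at h
        exact congrArg Prod.fst h⟩
      map_add' := fun p q => rfl
      map_smul' := fun c p => rfl
      invFun := fun p => ⟨(Sum.elim p.1.1 0, p.1.2), by
        exact (lin_plusZ X (J' := J') z _).trans (Prod.ext p.2 rfl)⟩
      left_inv := fun p => by
        have h : lin (X.plusZ (J' := J') z) p.1.1 = (X.d p.1.2, 0) := p.2
        rw [lin_plusZ] at h
        apply Subtype.ext
        refine Prod.ext ?_ rfl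
        funext a
        rcases a with a | a
        · rfl
        · exact (congrFun (congrArg Prod.snd h) a).symm
      right_inv := fun p => rfl }
  mem i p := by
    have h : lin (X.plusZ (J' := J') z) p.1.1 = (X.d p.1.2, 0) := p.2
    rw [lin_plusZ] at h
    refine and_congr_left fun _ => ?_
    constructor
    · intro h' a
      rcases a with a | a
      · exact h' a
      · exact Or.inl (congrFun (congrArg Prod.snd h) a)
    · intro h' a
      exact h' (.inl a)
  comm t := rfl

/-- Adding superfluous generators adds a free module to the next cycles. -/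
noncomputable def splitIso (X : Aug T k) {J J' : Type} [Fintype J] [Fintype J']
    {w : J → ℕ} {w' : J' → ℕ} {z : J → X.W} {z' : J' → X.W}
    {a : J' → (J → MvPolynomial τ S)} {t : J' → T.X (k + 1)}
    (ha : ∀ j, a j ∈ freeF (S := S) (τ := τ) w (w' j)) (ht : ∀ j, t j ∈ T.F (k + 1) (w' j))
    (h : ∀ j, lin z (a j) + X.d (t j) = z' j) :
    Iso (X.nextRaw (Sum.elim w w') (Sum.elim z z')) ((X.nextRaw w z).plus w') :=
  have key : ∀ v : J' → MvPolynomial τ S, lin z' v = lin z (lin a v) + X.d (lin t v) := by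
    intro v
    rw [map_lin, map_lin, ← lin_add]
    simp only [h]
  have hmem : ∀ i (v : J' → MvPolynomial τ S), v ∈ freeF (S := S) (τ := τ) w' i →
      lin a v ∈ freeF (S := S) (τ := τ) w i ∧ lin t v ∈ T.F (k + 1) i := fun i v hv =>
    ⟨lin_mem (freeF_mono w) (fun _ _ _ _ hp hx => freeF_smul w hp hx) ha hv,
      lin_mem (T.mono (k + 1)) (T.smul_mem (k + 1)) ht hv⟩
  { e :=
    { toFun := fun p => (⟨((fun b => p.1.1 (.inl b)) + lin a (fun j => p.1.1 (.inr j)),
          p.1.2 - lin t (fun j => p.1.1 (.inr j))), by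
        have hp : lin (Sum.elim z z') p.1.1 = X.d p.1.2 := p.2
        rw [lin_elim, key] at hp
        change lin z (_ + _) = X.d (_ - _)
        rw [map_add, map_sub, ← hp]
        abel⟩, fun j => p.1.1 (.inr j))
      map_add' := fun p q => by
        refine Prod.ext (Subtype.ext (Prod.ext ?_ ?_)) rfl
        · change _ + lin a (_ + _) = _
          rw [map_add]
          exact add_add_add_comm _ _ _ _
        · change _ - lin t (_ + _) = _
          rw [map_add]
          exact add_sub_add_comm _ _ _ _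
      map_smul' := fun c p => by
        refine Prod.ext (Subtype.ext (Prod.ext ?_ ?_)) rfl
        · change _ + lin a (c • _) = _
          rw [map_smul]
          exact (smul_add _ _ _).symm
        · change _ - lin t (c • _) = _
          rw [map_smul]
          exact (smul_sub _ _ _).symm
      invFun := fun p => ⟨(Sum.elim (p.1.1.1 - lin a p.2) p.2, p.1.1.2 + lin t p.2), by
        have hp : lin z p.1.1.1 = X.d p.1.1.2 := p.1.2
        change lin (Sum.elim z z') _ = X.d (_ + _)
        rw [lin_elim, key]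
        simp only [Sum.elim_inl, Sum.elim_inr]
        rw [map_add, ← hp]
        change lin z (_ - _) + _ = _
        rw [map_sub]
        abel⟩
      left_inv := fun p => by
        apply Subtype.ext
        refine Prod.ext ?_ ?_
        · funext b
          rcases b with b | b
          · exact add_sub_cancel_right _ _
          · rfl
        · exact sub_add_cancel _ _
      right_inv := fun p => by
        refine Prod.ext (Subtype.ext (Prod.ext ?_ ?_)) rfl
        · exact sub_add_cancel _ _
        · exact add_sub_cancel_right _ _ }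
    mem := fun i p => by
      constructor
      · rintro ⟨⟨h1, h2⟩, h3⟩
        have h1' : (fun b => p.1.1 (.inl b)) + lin a (fun j => p.1.1 (.inr j)) ∈
          freeF (S := S) (τ := τ) w i := h1
        have h2' : p.1.2 - lin t (fun j => p.1.1 (.inr j)) ∈ T.F (k + 1) i := h2
        have h3' : (fun j => p.1.1 (.inr j)) ∈ freeF (S := S) (τ := τ) w' i := h3
        have h4 := hmem i _ h3'
        refine ⟨?_, ?_⟩
        · intro b
          rcases b with b | b
          · exact (Submodule.add_mem_iff_left _ h4.1).1 h1' b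
          · exact h3 b
        · exact (Submodule.sub_mem_iff_left _ h4.2).1 h2'
      · rintro ⟨h1, h2⟩
        have h3' : (fun j => p.1.1 (.inr j)) ∈ freeF (S := S) (τ := τ) w' i := fun j => h1 (.inr j)
        have h4 := hmem i _ h3'
        refine ⟨⟨?_, ?_⟩, h3'⟩
        · exact Submodule.add_mem _ (fun b => h1 (.inl b)) h4.1
        · exact Submodule.sub_mem _ h2 h4.2
    comm := fun s => by
      refine Prod.ext (Subtype.ext (Prod.ext ?_ ?_)) rfl
      · change _ + lin a 0 = _
        rw [map_zero]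
        exact add_zero _
      · change _ - lin t 0 = _
        rw [map_zero]
        exact sub_zero _ }

/-- Generators of `X.plus w`. -/
noncomputable def Gen.plus {X : Aug T k} (G : X.Gen) {J' : Type} [Fintype J'] [DecidableEq J']
    (w' : J' → ℕ) : (X.plus w').Gen where
  J := G.J ⊕ J'
  w := Sum.elim G.w w'
  z := X.plusZ G.z
  z_mem a := by
    rcases a with a | a
    · exact ⟨G.z_mem a, Submodule.zero_mem _⟩
    · exact ⟨Submodule.zero_mem _, freeF_single w' a⟩
  gen e y hy := by
    obtain ⟨v, hv, t, ht, h⟩ := G.gen e y.1 hy.1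
    refine ⟨Sum.elim v y.2, fun a => ?_, t, ht, ?_⟩
    · rcases a with a | a
      · exact hv a
      · exact hy.2 a
    · exact (congrArg (fun q : X.W × (J' → MvPolynomial τ S) =>
        q + ((X.d t, 0) : X.W × (J' → MvPolynomial τ S)))
        (lin_plusZ X (J' := J') G.z _)).trans (Prod.ext h (add_zero _))

/-- Generators of `X` from those of `X.plus w`. -/
noncomputable def Gen.ofPlus {X : Aug T k} {J' : Type} [Fintype J'] {w' : J' → ℕ}
    (G : (X.plus w').Gen) : X.Gen where
  J := G.J
  w := G.w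
  z a := (G.z a : X.W × (J' → MvPolynomial τ S)).1
  z_mem a := (G.z_mem a).1
  gen e y hy := by
    obtain ⟨v, hv, t, ht, h⟩ := G.gen e (y, 0) ⟨hy, Submodule.zero_mem _⟩
    refine ⟨v, hv, t, ht, ?_⟩
    have h' := congrArg (Prod.fst : X.W × (J' → MvPolynomial τ S) → X.W) h
    exact (congrArg (fun q : X.W => q + X.d t) (map_lin
      (LinearMap.fst (MvPolynomial τ S) X.W (J' → MvPolynomial τ S)) G.z v).symm).trans h'

/-- Stable equivalence. -/
inductive Stab {T : FCx S τ} {k : ℕ} : Aug T k → Aug T k → Prop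
  | iso {X Y : Aug T k} (φ : Iso X Y) : Stab X Y
  | plus (X : Aug T k) {J : Type} [Fintype J] [DecidableEq J] (w : J → ℕ) : Stab X (X.plus w)
  | symm {X Y : Aug T k} : Stab X Y → Stab Y X
  | trans {X Y Z : Aug T k} : Stab X Y → Stab Y Z → Stab X Z

/-- The identity. -/
noncomputable def Iso.refl (X : Aug T k) : Iso X X where
  e := LinearEquiv.refl _ _
  mem _ _ := Iff.rfl
  comm _ := rfl

lemma stab_split (X : Aug T k) (G H : X.Gen) :
    Stab (X.next G) (X.nextRaw (Sum.elim G.w H.w) (Sum.elim G.z H.z)) := by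
  classical
  choose a ha t ht h using fun j => G.gen (H.w j) (H.z j) (H.z_mem j)
  exact (Stab.plus (X.next G) H.w).trans (Stab.iso (X.splitIso ha ht h)).symm

/-- Schanuel's lemma: independence of the generators. -/
lemma stab_next_self (X : Aug T k) (G H : X.Gen) : Stab (X.next G) (X.next H) := by
  refine (stab_split X G H).trans (Stab.trans (Stab.iso ?_) (stab_split X H G).symm)
  refine nextIso (Iso.refl X) (Equiv.sumComm _ _) ?_ ?_
  · rintro (a | a) <;> rfl
  · rintro (a | a) <;> rfl

lemma stab_next {X Y : Aug T k} (h : Stab X Y) :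
    (X.FG ↔ Y.FG) ∧ ∀ (G : X.Gen) (H : Y.Gen), Stab (X.next G) (Y.next H) := by
  induction h with
  | iso φ =>
    refine ⟨⟨fun ⟨G⟩ => ⟨φ.gen G⟩, fun ⟨G⟩ => ⟨φ.symm.gen G⟩⟩, fun G H => ?_⟩
    refine Stab.trans (Stab.iso ?_) (stab_next_self _ (φ.gen G) H)
    exact nextIso φ (Equiv.refl _) (fun _ => rfl) (fun _ => rfl)
  | plus X w =>
    refine ⟨⟨fun ⟨G⟩ => ⟨G.plus w⟩, fun ⟨G⟩ => ⟨G.ofPlus⟩⟩, fun G H => ?_⟩
    refine Stab.trans (Stab.iso ?_).symm (stab_next_self _ (G.plus w) H)
    exact plusNextIso X G.w w G.z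
  | symm _ ih => exact ⟨ih.1.symm, fun G H => (ih.2 H G).symm⟩
  | trans _ _ ih ih' =>
    refine ⟨ih.1.trans ih'.1, fun G H => ?_⟩
    obtain ⟨K⟩ := ih'.1.2 ⟨H⟩
    exact (ih.2 G K).trans (ih'.2 K H)

lemma PCn.stab {N : ℕ} : ∀ {k : ℕ} {X Y : Aug T k}, Stab X Y → PCn N X → PCn N Y := by
  induction N with
  | zero => exact fun h hX => (stab_next h).1.1 hX
  | succ N ih =>
    rintro k X Y h ⟨G, hG⟩
    obtain ⟨H⟩ := (stab_next h).1.1 ⟨G⟩
    exact ⟨H, ih ((stab_next h).2 G H) hG⟩

lemma PCn.fg {N : ℕ} {X : Aug T k} (h : PCn N X) : X.FG := by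
  cases N with
  | zero => exact h
  | succ N => exact ⟨h.choose⟩

lemma PCn.next {N : ℕ} {X : Aug T k} (h : PCn (N + 1) X) (G : X.Gen) : PCn N (X.next G) := by
  obtain ⟨H, hH⟩ := h
  exact hH.stab (stab_next_self X H G)

end Aug

/-! ### Complexes with a resolution -/

namespace FreeCx.Hom

open Aug

variable {K : FreeCx S τ} {T : FCx S τ} (φ : FreeCx.Hom K T)

lemma isCyc_add {k : ℕ} {v w : K.J k → MvPolynomial τ S} (hv : K.IsCyc k v) (hw : K.IsCyc k w) :
    K.IsCyc k (v + w) := by
  cases k with
  | zero => trivial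
  | succ k => 
    change K.d k (v + w) = 0
    rw [map_add, show K.d k v = 0 from hv, show K.d k w = 0 from hw, add_zero]

lemma isCyc_zero {k : ℕ} : K.IsCyc k (0 : K.J k → MvPolynomial τ S) := by
  cases k with
  | zero => trivial
  | succ k => exact map_zero _

lemma isCyc_smul {k : ℕ} (c : MvPolynomial τ S) {v : K.J k → MvPolynomial τ S}
    (hv : K.IsCyc k v) : K.IsCyc k (c • v) := by
  cases k with
  | zero => trivial
  | succ k => 
    change K.d k (c • v) = 0
    rw [map_smul, show K.d k v = 0 from hv, smul_zero]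

lemma isCyc_d {k : ℕ} (v : K.J (k + 1) → MvPolynomial τ S) : K.IsCyc k (K.d k v) := by
  cases k with
  | zero => trivial
  | succ k => exact K.d_d k v

/-- The cycles of the cone in degree `k + 1`. -/
noncomputable def cycSub (k : ℕ) :
    Submodule (MvPolynomial τ S) ((K.J k → MvPolynomial τ S) × T.X (k + 1)) where
  carrier := {p | K.IsCyc k p.1 ∧ φ.f k p.1 = T.d k p.2}
  add_mem' {p q} hp hq := ⟨isCyc_add hp.1 hq.1, by
    change φ.f k (p.1 + q.1) = T.d k (p.2 + q.2)
    rw [map_add, map_add, hp.2, hq.2]⟩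
  zero_mem' := ⟨isCyc_zero, by
    change φ.f k 0 = T.d k 0
    rw [map_zero, map_zero]⟩
  smul_mem' c p hp := ⟨isCyc_smul c hp.1, by
    change φ.f k (c • p.1) = T.d k (c • p.2)
    rw [map_smul, map_smul, hp.2]⟩

/-- The cycles of the cone. -/
noncomputable def cyc : ∀ k, Aug T k
  | 0 => Aug.zero T
  | k + 1 =>
    { W := φ.cycSub k
      F := fun e => (Submodule.prod (freeF (S := S) (τ := τ) (K.w k) e) (T.F (k + 1) e)).comap
        ((φ.cycSub k).subtype.restrictScalars S)
      mono := fun _ _ h _ hx => ⟨freeF_mono _ h hx.1, T.mono (k + 1) h hx.2⟩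
      smul_mem := fun e m p _ hp hx => ⟨freeF_smul _ hp hx.1, T.smul_mem (k + 1) e m p _ hp hx.2⟩
      d := LinearMap.codRestrict _ (LinearMap.prod 0 (T.d (k + 1))) fun t => by
        refine ⟨isCyc_zero, ?_⟩
        change φ.f k 0 = T.d k (T.d (k + 1) t)
        rw [T.d_d, map_zero]
      d_d := fun x => Subtype.ext (Prod.ext rfl (T.d_d (k + 1) x))
      d_mem := fun e x hx => ⟨Submodule.zero_mem _, T.d_mem (k + 1) e x hx⟩ }

lemma mem_freeF_iff {k e : ℕ} {v : K.J k → MvPolynomial τ S} :
    v ∈ freeF (S := S) (τ := τ) (K.w k) e ↔ K.F k e v := Iff.rfl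

lemma lin_t (k : ℕ) (v : K.J k → MvPolynomial τ S) : lin (φ.t k) v = φ.f k v := rfl

lemma lin_D (k : ℕ) (v : K.J (k + 1) → MvPolynomial τ S) :
    lin (fun a => (fun b => K.D k a b : K.J k → MvPolynomial τ S)) v = K.d k v := by
  funext b
  rw [lin_apply, Finset.sum_apply, K.d_apply]
  rfl

lemma f_D (k : ℕ) (a : K.J (k + 1)) : φ.f k (fun b => K.D k a b) = T.d k (φ.t (k + 1) a) :=
  (φ.comm k a).symm

/-- The generators of the cycles of the cone. -/
noncomputable def cycZ : ∀ k, K.J k → (φ.cyc k).W
  | 0 => φ.t 0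
  | k + 1 => fun a => (⟨(fun b => K.D k a b, φ.t (k + 1) a), by
      refine ⟨?_, f_D φ k a⟩
      cases k with
      | zero => trivial
      | succ k => funext c; exact K.D_D k a c⟩ : φ.cycSub k)

lemma lin_cycZ (k : ℕ) (v : K.J (k + 1) → MvPolynomial τ S) :
    ((lin (φ.cycZ (k + 1)) v : φ.cycSub k)).1 = (K.d k v, φ.f (k + 1) v) := by
  have := map_lin (φ.cycSub k).subtype (φ.cycZ (k + 1)) v
  refine this.trans (Prod.ext ?_ ?_)
  · refine (map_lin (LinearMap.fst (MvPolynomial τ S) (K.J k → MvPolynomial τ S)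
      (T.X (k + 1))) _ _).trans ?_
    exact lin_D k v
  · exact (map_lin (LinearMap.snd (MvPolynomial τ S) (K.J k → MvPolynomial τ S)
      (T.X (k + 1))) _ _).trans rfl

lemma cycZ_mem (k : ℕ) (a : K.J k) : φ.cycZ k a ∈ (φ.cyc k).F (K.w k a) := by
  cases k with
  | zero => exact φ.t_mem 0 a
  | succ k =>
    refine ⟨fun b => ?_, φ.t_mem (k + 1) a⟩
    exact K.D_deg k a b

/-- The generators of the cycles of the cone. -/
noncomputable def cycGen (h : φ.QI) (k : ℕ) : (φ.cyc k).Gen where
  J := K.J k
  w := K.w k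
  z := φ.cycZ k
  z_mem := φ.cycZ_mem k
  gen := by
    cases k with
    | zero => exact h.1
    | succ k =>
      intro e y hy
      obtain ⟨v', hv', z, hz, h1, h2⟩ := h.2 k e y.1.1 y.1.2 hy.1 y.2.1 hy.2 y.2.2
      refine ⟨v', hv', z, hz, Subtype.ext ?_⟩
      refine (congrArg (fun q : (K.J k → MvPolynomial τ S) × T.X (k + 1) =>
        q + (0, T.d (k + 1) z)) (φ.lin_cycZ k v')).trans ?_
      exact Prod.ext ((add_zero _).trans h1) h2

/-- The next cycles of the cycles of the cone are the cycles of the cone. -/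
noncomputable def cycIso (h : φ.QI) (k : ℕ) : Iso ((φ.cyc k).next (φ.cycGen h k)) (φ.cyc (k + 1)) := 
  have key : ∀ p : (K.J k → MvPolynomial τ S) × T.X (k + 1),
      p ∈ (φ.cyc k).nextSub (φ.cycZ k) ↔ p ∈ φ.cycSub k := by
    intro p
    cases k with
    | zero => exact (and_iff_right trivial).symm
    | succ k =>
      constructor
      · intro hp
        have h' := congrArg Subtype.val (show _ = (φ.cyc (k + 1)).d p.2 from hp)
        have h'' := (φ.lin_cycZ k p.1).symm.trans h'
        exact ⟨congrArg Prod.fst h'', congrArg Prod.snd h''⟩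
      · intro hp
        refine Subtype.ext ?_
        refine (φ.lin_cycZ k p.1).trans (Prod.ext hp.1 hp.2)
  { e := LinearEquiv.ofEq _ _ (Submodule.ext key)
    mem := fun i x => Iff.rfl
    comm := fun t => rfl }

end FreeCx.Hom

/-- A complex with a resolution: all steps are finitely generated. -/
theorem FCx.IsPC.pcn {T : FCx S τ} (h : T.IsPC) (N : ℕ) : Aug.PCn N (Aug.zero T) := by
  obtain ⟨K, φ, hφ⟩ := h
  suffices H : ∀ N k, Aug.PCn N (φ.cyc k) from H N 0
  intro N
  induction N with
  | zero => exact fun k => ⟨φ.cycGen hφ k⟩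
  | succ N ih => exact fun k => ⟨φ.cycGen hφ k, (ih (k + 1)).stab (Aug.Stab.iso (φ.cycIso hφ k)).symm⟩

end Groth.Agent.Flat2B.GEx
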