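import Groth.Agent.Flat2B.GExDiag
import Mathlib.Algebra.Category.Ring.Basic
import Mathlib.CategoryTheory.Limits.Shapes.Pullback.IsPullback.Defs
import Mathlib.RingTheory.IsTensorProduct
import Mathlib.RingTheory.Noetherian.Basic

/-!
# S1270, route E: Cech complexes of diagrams, resolutions, finiteness property

The (ordered) Cech complex of a diagram `M` over `NE ι` is indexed homologically:
`M.HK k` = families `x s ∈ M s`, `card s + k = card ι`; it is zero for `k ≥ card ι`.
-/

universe u

open Finset MvPolynomial Groth.Agent.Ega3B.Cube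

namespace Groth.Agent.Flat2B.GEx

/-- `f : M → M'` is `φ`-semilinear and exhibits `M'` as `R' ⊗[R] M`. -/
def IsBCMap {R R' : Type u} [CommRing R] [CommRing R'] (φ : R →+* R') {M M' : Type u}
    [AddCommGroup M] [AddCommGroup M'] [Module R M] [Module R' M'] (f : M →+ M') : Prop :=
  ∃ hf : ∀ (a : R) m, f (a • m) = φ a • f m,
    letI := φ.toAlgebra
    letI : Module R M' := Module.compHom M' φ
    haveI : IsScalarTower R R' M' := ⟨fun a b c => by
      change (φ a * b) • c = φ a • b • c
      rw [mul_smul]⟩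
    IsBaseChange R' ({ toFun := f, map_add' := f.map_add, map_smul' := hf } : M →ₗ[R] M')

namespace RDiag

variable {Λ S : Type u} [CommRing Λ] [CommRing S]

/-- Composition of morphisms of diagrams of rings. -/
def Hom.comp {S' : Type u} [CommRing S'] {ψ : Λ →+* S} {χ : S →+* S'} {P : Type} [Preorder P]
    {C : RDiag Λ P} {D : RDiag S P} {D' : RDiag S' P} (i : Hom ψ C D) (j : Hom χ D D') :
    Hom (χ.comp ψ) C D' where
  f s := (j.f s).comp (i.f s)
  f_alg s a := by
    rw [RingHom.comp_apply, i.f_alg, j.f_alg]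
    rfl
  f_res h x := by
    rw [RingHom.comp_apply, i.f_res, j.f_res]
    rfl

/-- `D s = C s ⊗[Λ] S`. -/
def Hom.IsPO {ψ : Λ →+* S} {P : Type} [Preorder P] {C : RDiag Λ P} {D : RDiag S P}
    (i : Hom ψ C D) : Prop :=
  ∀ s, CategoryTheory.IsPushout (CommRingCat.ofHom ψ) (CommRingCat.ofHom (algebraMap Λ (C.C s)))
    (CommRingCat.ofHom (algebraMap S (D.C s))) (CommRingCat.ofHom (i.f s))

end RDiag

section NE

variable {ι : Type} [LinearOrder ι]

/-- `s ∪ {i}`. -/
abbrev ins (i : ι) (s : NE ι) : NE ι := ⟨insert i s.1, insert_nonempty _ _⟩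

/-- `{i}`. -/
abbrev sg (i : ι) : NE ι := ⟨{i}, singleton_nonempty _⟩

lemma le_ins (i : ι) (s : NE ι) : s ≤ ins i s := subset_insert _ _

lemma sg_le_ins (i : ι) (s : NE ι) : sg i ≤ ins i s := singleton_subset_iff.2 (mem_insert_self _ _)

lemma ins_le_ins (i : ι) {s t : NE ι} (h : s ≤ t) : ins i s ≤ ins i t := insert_subset_insert _ h

end NE

section Good

variable {Λ : Type u} [CommRing Λ] {ι : Type} [LinearOrder ι]

/-- The formal properties of the diagram `s ↦ Γ(Y, U_s)` for an affine open covering with affine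
intersections of a scheme: restrictions are flat and
`C t ⊗[C s] C (s ∪ {i}) = C (t ∪ {i})` for `s ≤ t`. -/
structure RDiag.Good (C : RDiag Λ (NE ι)) : Prop where
  flat : ∀ {s t : NE ι} (h : s ≤ t), (C.res h).toRingHom.Flat
  po : ∀ {s t : NE ι} (h : s ≤ t) (i : ι),
    CategoryTheory.IsPushout (CommRingCat.ofHom (C.res h).toRingHom)
      (CommRingCat.ofHom (C.res (le_ins i s)).toRingHom)
      (CommRingCat.ofHom (C.res (le_ins i t)).toRingHom)
      (CommRingCat.ofHom (C.res (ins_le_ins i h)).toRingHom)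

/-- The diagram `s ↦ C (s ∪ {i})`. -/
def RDiag.shift (C : RDiag Λ (NE ι)) (i : ι) : RDiag Λ (NE ι) where
  C s := C.C (ins i s)
  res h := C.res (ins_le_ins i h)
  res_self _ _ x := C.res_self _ _ x
  res_res _ _ x := C.res_res _ _ x

end Good

/-! ### Morphisms of diagrams of modules -/

section MHom

variable {S S' : Type u} [CommRing S] [CommRing S'] {P : Type} [Preorder P]

/-- Semilinear morphisms of diagrams of modules. -/
structure MDiag.Hom {ψ : S →+* S'} {D : RDiag S P} {D' : RDiag S' P} (j : RDiag.Hom ψ D D')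
    (M : MDiag D) (M' : MDiag D') where
  f : ∀ s, M.M s →+ M'.M s
  f_smul : ∀ s (c : D.C s) m, f s (c • m) = j.f s c • f s m
  f_res : ∀ {s t : P} (h : s ≤ t) x, f t (M.res h x) = M'.res h (f s x)

lemma MDiag.Hom.f_smulS {ψ : S →+* S'} {D : RDiag S P} {D' : RDiag S' P} {j : RDiag.Hom ψ D D'}
    {M : MDiag D} {M' : MDiag D'} (f : MDiag.Hom j M M') (s : P) (a : S) (m : M.M s) :
    f.f s (a • m) = ψ a • f.f s m := by
  rw [← algebraMap_smul (D.C s) a m, f.f_smul, j.f_alg, algebraMap_smul]

/-- Cartesian diagrams (`M t = D t ⊗[D s] M s`). -/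
def MDiag.IsCart {D : RDiag S P} (M : MDiag D) : Prop :=
  ∀ {s t : P} (h : s ≤ t), IsBCMap (D.res h).toRingHom (M.res h)

end MHom

/-! ### Cech complexes -/

section Cech

variable {S : Type u} [CommRing S] {ι : Type} [LinearOrder ι] [Fintype ι] {D : RDiag S (NE ι)}
  (M : MDiag D)

namespace MDiag

/-- Cech cochains, indexed homologically. -/
abbrev HK (k : ℕ) : Type u := ∀ s : {s : NE ι // s.1.card + k = Fintype.card ι}, M.M s.1

variable {M}

/-- The restriction to `s` of the `t`-component. -/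
def cev {k : ℕ} (x : M.HK k) (s : NE ι) (t : Finset ι) : M.M s :=
  if h : t.Nonempty ∧ t ⊆ s.1 ∧ t.card + k = Fintype.card ι then
    M.res (show (⟨t, h.1⟩ : NE ι) ≤ s from h.2.1) (x ⟨⟨t, h.1⟩, h.2.2⟩) else 0

variable (M)

/-- The Cech differential. -/
def cd (k : ℕ) : M.HK (k + 1) →ₗ[S] M.HK k where
  toFun x s := ∑ i ∈ s.1.1, sgn i s.1.1 • cev x s.1 (s.1.1.erase i)
  map_add' x y := by
    funext s
    rw [Pi.add_apply, ← Finset.sum_add_distrib]
    refine Finset.sum_congr rfl fun i _ => ?_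
    unfold cev
    split_ifs
    · rw [Pi.add_apply, map_add, smul_add]
    · simp
  map_smul' a x := by
    funext s
    rw [Pi.smul_apply, RingHom.id_apply, Finset.smul_sum]
    refine Finset.sum_congr rfl fun i _ => ?_
    unfold cev
    split_ifs
    · rw [Pi.smul_apply, M.res_smulS, smul_comm]
    · simp

/-- Cycles of the (homologically indexed) Cech complex: everything in degree `0`. -/
def IsCyc : ∀ k : ℕ, M.HK k → Prop
  | 0, _ => True
  | k + 1, x => M.cd k x = 0

/-- Finite generation of the cohomology of the Cech complex over `S`. -/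
def CechFG : Prop := ∀ k, ∃ N : Submodule S (M.HK k), N.FG ∧
  ∀ x, M.IsCyc k x → ∃ n ∈ N, ∃ y, x = n + M.cd k y

end MDiag

/-- The diagram `s ↦ M (s ∪ {i})`. -/
def MDiag.shift {S : Type u} [CommRing S] {ι : Type} [LinearOrder ι] {D : RDiag S (NE ι)}
    (M : MDiag D) (i : ι) : MDiag (D.shift i) where
  M s := M.M (ins i s)
  grp s := M.grp (ins i s)
  mod s := M.mod (ins i s)
  modS s := M.modS (ins i s)
  tower s := M.tower (ins i s)
  res h := M.res (ins_le_ins i h)
  res_smul _ c m := M.res_smul _ c m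
  res_self _ _ x := M.res_self _ _ x
  res_res _ _ x := M.res_res _ _ x

end Cech

/-- The finiteness property of a diagram of rings `C` over `Λ` (properness of the scheme): for
every Noetherian `Λ`-algebra `B` and every cartesian finite diagram of modules over `C ⊗ B`, the
cohomology of the Cech complex is finitely generated over `B`. -/
def RDiag.FIN {Λ : Type u} [CommRing Λ] {ι : Type} [LinearOrder ι] [Fintype ι]
    (C : RDiag Λ (NE ι)) : Prop :=
  ∀ (B : Type u) [CommRing B] [IsNoetherianRing B] (ψ : Λ →+* B) (D : RDiag B (NE ι))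
    (i : RDiag.Hom ψ C D) (_ : i.IsPO) (M : MDiag D) (_ : ∀ s, Module.Finite (D.C s) (M.M s))
    (_ : M.IsCart), M.CechFG

/-! ### Resolutions -/

section Resol

variable {Λ : Type u} [CommRing Λ] {τ ι : Type} [LinearOrder ι] {C : RDiag Λ (NE ι)}

/-- Evaluation `C s [y] → C (s ∪ {i})`, `y_t ↦ b t`. -/
noncomputable def evi (C : RDiag Λ (NE ι)) (i : ι) (b : τ → C.C (sg i)) (s : NE ι) :
    MvPolynomial τ (C.C s) →+* C.C (ins i s) :=
  MvPolynomial.eval₂Hom (C.res (le_ins i s)).toRingHom (fun t => C.res (sg_le_ins i s) (b t))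

namespace LData

variable (L : LData C τ)

/-- Weighted degree condition. -/
def DegP {j : ℕ} {s : NE ι} (e : ℕ) (v : L.G j s → MvPolynomial τ (C.C s)) : Prop :=
  ∀ a, v a = 0 ∨ (v a).totalDegree + L.w j a.1 ≤ e

/-- The differential of `L (s)`. -/
noncomputable def delP (j : ℕ) (s : NE ι) :
    (L.G (j + 1) s → MvPolynomial τ (C.C s)) →ₗ[MvPolynomial τ (C.C s)]
      (L.G j s → MvPolynomial τ (C.C s)) where
  toFun v b := by
    classical exact ∑ a : L.G (j + 1) s, v a * MvPolynomial.map (C.res a.2).toRingHom (L.δ j a.1 b.1)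
  map_add' v v' := by
    funext b
    simp only [Pi.add_apply, add_mul, Finset.sum_add_distrib]
  map_smul' p v := by
    funext b
    simp only [Pi.smul_apply, RingHom.id_apply, Finset.mul_sum, smul_eq_mul, mul_assoc]

/-- The augmentation `L_0 (s) → C (s ∪ {i})`. -/
noncomputable def augP (i : ι) (b : τ → C.C (sg i)) (ε : ∀ a : L.J 0, C.C (ins i (L.loc 0 a)))
    (s : NE ι) (v : L.G 0 s → MvPolynomial τ (C.C s)) : C.C (ins i s) := by
  classical exact ∑ a : L.G 0 s, evi C i b s (v a) * C.res (ins_le_ins i a.2) (ε a.1)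

/-- `L`, with the augmentation `e_a ↦ ε a`, is a filtered resolution of the diagram
`s ↦ C (s ∪ {i})`, filtered by the images of the polynomials of degree `≤ e`. -/
structure IsResol (i : ι) (b : τ → C.C (sg i)) (ε : ∀ a : L.J 0, C.C (ins i (L.loc 0 a))) :
    Prop where
  ε_mem : ∀ a, ∃ p : MvPolynomial τ (C.C (L.loc 0 a)), p.totalDegree ≤ L.w 0 a ∧
    evi C i b _ p = ε a
  aug_del : ∀ s v, L.augP i b ε s (L.delP 0 s v) = 0
  surj : ∀ s (p : MvPolynomial τ (C.C s)) (e : ℕ), p.totalDegree ≤ e →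
    ∃ v, L.DegP e v ∧ L.augP i b ε s v = evi C i b s p
  exact0 : ∀ s e v, L.DegP e v → L.augP i b ε s v = 0 → ∃ v', L.DegP e v' ∧ L.delP 0 s v' = v
  exact : ∀ j s e v, L.DegP e v → L.delP j s v = 0 → ∃ v', L.DegP e v' ∧ L.delP (j + 1) s v' = v

end LData

end Resol

end Groth.Agent.Flat2B.GEx
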