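import Groth.Prelude.Def_FlatCA
import Groth.Agent.Flat2B.ExtZero
import Groth.Agent.Flat2D.SpecFGLimit
import Groth.Agent.FlatA.CompactifNoeth
import Groth.Agent.FlatA.CompactifApprox
import Groth.Agent.FormalA.ExImm
import Groth.Agent.Ega1.SuppTensorMod
import Groth.Agent.S1244

/-!
# Grothendieck existence (Stacks 0CTK): reduction to the proper case
-/

set_option autoImplicit false
universe u

open CategoryTheory CategoryTheory.Limits AlgebraicGeometry TopologicalSpace Opposite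

namespace Groth.Agent.Flat2B.GExCompact

open FlatA.CompactifBasic FlatA.CompactifApprox Ega43.LimitDescend Flat2D.SpecFGLimit

/-- Over a locally Noetherian base finite type implies finite presentation. -/
theorem locallyOfFinitePresentation_of_isLocallyNoetherian {Z S : Scheme.{u}} (f : Z ⟶ S)
    [IsLocallyNoetherian S] [LocallyOfFiniteType f] : LocallyOfFinitePresentation f := by
  rw [HasRingHomProperty.iff_appLE (P := @LocallyOfFinitePresentation)]
  intro U V e
  have := IsLocallyNoetherian.component_noetherian U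
  have h := f.finiteType_appLE U.2 V.2 e
  algebraize [(f.appLE U V e).hom]
  exact RingHom.finitePresentation_algebraMap.mpr (Algebra.FinitePresentation.of_finiteType.mp ‹_›)

/-- A separated scheme of finite presentation over an affine scheme has a compactification of finite
presentation. -/
theorem exists_compactification (A : Type u) [CommRing A] {X : Scheme.{u}}
    (f : X ⟶ Spec (CommRingCat.of A)) [LocallyOfFinitePresentation f] [QuasiCompact f] [IsSeparated f] :
    ∃ (Y : Scheme.{u}) (i : X ⟶ Y) (p : Y ⟶ Spec (CommRingCat.of A)), IsOpenImmersion i ∧ IsProper p ∧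
      LocallyOfFinitePresentation p ∧ i ≫ p = f := by
  have i1 : ∀ i, CompactSpace ((specDiagram A).obj i) := fun i => inferInstance
  have i2 : ∀ i, QuasiSeparatedSpace ((specDiagram A).obj i) := fun i => inferInstance
  have i3 : LocallyOfFinitePresentation (Y := (specCone A).pt) f := ‹_›
  have i4 : QuasiCompact (Y := (specCone A).pt) f := ‹_›
  have i5 : QuasiSeparated (Y := (specCone A).pt) f := (inferInstance : QuasiSeparated f)
  obtain ⟨i, Xi, fi, g, h5, h6, h7, hpb⟩ := Groth.Agent.S0591.result (specDiagram A) (specCone A)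
    (isLimitSpecCone A) X f
  let D := specDiagram A
  let c := specCone A
  let hc := isLimitSpecCone A
  let E := Over.forget i ⋙ D
  let t : ∀ j : Over i, E.obj j ⟶ D.obj i := fun j ↦ D.map j.hom
  have ht : ∀ {i' j : Over i} (φ : i' ⟶ j), E.map φ ≫ t j = t i' :=
    fun φ ↦ overT_w D i φ
  have hp : ∀ j, (overCone c i).π.app j ≫ t j = c.π.app i := fun j ↦ c.w j.hom
  have hcompE (j : Over i) : CompactSpace (E.obj j) := i1 j.left
  have hqsE (j : Over i) : QuasiSeparatedSpace (E.obj j) := i2 j.left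
  have haffE {j k : Over i} (φ : j ⟶ k) : IsAffineHom (E.map φ) := inferInstanceAs (IsAffineHom (D.map _))
  obtain ⟨k, hk⟩ := descendsLim_isSeparated E (overCone c i) (isLimitOverCone c hc i) t ht fi
    (c.π.app i) hp g f hpb (inferInstanceAs (IsSeparated f))
  have hpb2 := isPullback_pbCone t ht fi (overCone c i) (c.π.app i) hp g f hpb k
  have hNoe : IsNoetherian (E.obj k) := inferInstanceAs (IsNoetherian ((specDiagram A).obj k.left))
  obtain ⟨Z, j₀, p₀, hj₀, -, hp₀, hjp⟩ := FlatA.CompactifNoeth.hasCompactification_of_isNoetherian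
    (pullback.snd fi (t k))
  have hfp₀ : LocallyOfFinitePresentation p₀ := locallyOfFinitePresentation_of_isLocallyNoetherian p₀
  let v : Spec (CommRingCat.of A) ⟶ E.obj k := (overCone c i).π.app k
  have hP : IsPullback (pullback.fst p₀ v) (pullback.snd p₀ v) p₀ v := IsPullback.of_hasPullback p₀ v
  let u : X ⟶ pullback fi (t k) := (pbCone t ht fi (overCone c i) (c.π.app i) hp g f hpb).π.app k
  have hpb3 : IsPullback u f (j₀ ≫ p₀) v := by rw [hjp]; exact hpb2
  let j' : X ⟶ pullback p₀ v := hP.lift (u ≫ j₀) f (by rw [Category.assoc]; exact hpb3.w)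
  have h1 : j' ≫ pullback.fst p₀ v = u ≫ j₀ := hP.lift_fst _ _ _
  have h2 : j' ≫ pullback.snd p₀ v = f := hP.lift_snd _ _ _
  have hsq : IsPullback u j' j₀ (pullback.fst p₀ v) :=
    IsPullback.of_bot (by rw [h2]; exact hpb3) h1.symm hP
  exact ⟨pullback p₀ v, j', pullback.snd p₀ v,
    MorphismProperty.of_isPullback (P := @IsOpenImmersion) hsq hj₀, inferInstance, inferInstance, h2⟩

/-- The statement of Stacks 0CTK for proper morphisms of finite presentation. -/
def ProperCase : Prop :=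
  ∀ {A : Type u} [CommRing A] (A' : ℕ → Type u) [∀ n, CommRing (A' n)]
    (φ : ∀ n, A' (n + 1) →+* A' n) (π : ∀ n, A →+* A' n) (_ : FlatCA.IsRingLimit A A' φ π)
    (_ : ∀ n, Function.Surjective (φ n)) (_ : ∀ n, ∀ x ∈ RingHom.ker (φ n), IsNilpotent x)
    {X : Scheme.{u}} (f : X ⟶ Spec (CommRingCat.of A)) [IsProper f] [LocallyOfFinitePresentation f]
    (Xn : ℕ → Scheme.{u}) (j : ∀ n, Xn n ⟶ X) (g : ∀ n, Xn n ⟶ Spec (CommRingCat.of (A' n)))
    (_ : ∀ n, IsPullback (j n) (g n) f (Spec.map (CommRingCat.ofHom (π n))))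
    (ι : ∀ n, Xn n ⟶ Xn (n + 1)) (_ : ∀ n, ι n ≫ j (n + 1) = j n)
    (_ : ∀ n, ι n ≫ g (n + 1) = g n ≫ Spec.map (CommRingCat.ofHom (φ n)))
    (F : ∀ n, (Xn n).Modules) (_ : ∀ n, CohB1.IsFP (F n)) (_ : ∀ n, FlatMod.IsFlatOver (g n) (F n))
    (_ : ∀ n, (Scheme.Modules.pullback (ι n)).obj (F (n + 1)) ≅ F n),
    ∃ (G : X.Modules), CohB1.IsFP G ∧ FlatMod.IsFlatOver f G ∧
      ∀ n, Nonempty ((Scheme.Modules.pullback (j n)).obj G ≅ F n)

/-- Supports: if a closed subset `B` of a proper scheme over `A` does not meet the fibre over `V(ker π₀)`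
it is empty. -/
theorem exists_mem_of_nonempty {A : Type u} [CommRing A] (A' : ℕ → Type u) [∀ n, CommRing (A' n)]
    (φ : ∀ n, A' (n + 1) →+* A' n) (π : ∀ n, A →+* A' n) (hlim : FlatCA.IsRingLimit A A' φ π)
    (hsurj : ∀ n, Function.Surjective (φ n)) (hnil : ∀ n, ∀ x ∈ RingHom.ker (φ n), IsNilpotent x)
    {Y Y₀ : Scheme.{u}} (p : Y ⟶ Spec (CommRingCat.of A)) [IsProper p] (j : Y₀ ⟶ Y)
    (g : Y₀ ⟶ Spec (CommRingCat.of (A' 0))) (hpb : IsPullback j g p (Spec.map (CommRingCat.ofHom (π 0))))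
    (B : Set Y) (hB : IsClosed B) (hne : B.Nonempty) : ∃ y₀ : Y₀, j y₀ ∈ B := by
  let _ : Y.Over (Spec (CommRingCat.of A)) := ⟨p⟩
  have hpr : IsProper (Y ↘ Spec (CommRingCat.of A)) := ‹IsProper p›
  have hJ : RingHom.ker (π 0) ≤ Ideal.jacobson ⊥ := by
    intro a ha
    rw [Ideal.mem_jacobson_bot]
    intro b
    refine S1244.isUnit_of_isUnit_pi_zero A' φ π hlim hsurj hnil _ ?_
    rw [map_add, map_mul, (RingHom.mem_ker).1 ha, zero_mul, zero_add, map_one]
    exact isUnit_one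
  obtain ⟨b, hb, hle⟩ := FormalA.ExImm.exists_mem_le_primeBelow (P := Y) (RingHom.ker (π 0)) hJ B hB hne
  have hsurj0 : Function.Surjective (π 0) := S1244.pi_surjective A' φ π hlim hsurj 0
  have h1 : p b ∈ Set.range (Spec.map (CommRingCat.ofHom (π 0))) := by
    change p b ∈ Set.range (PrimeSpectrum.comap (π 0))
    rw [range_comap_of_surjective _ _ hsurj0]
    exact hle
  obtain ⟨t, ht⟩ := h1
  obtain ⟨y, hy, -⟩ := Scheme.exists_preimage_of_isPullback hpb b t ht.symm
  exact ⟨y, hy ▸ hb⟩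

/-- **Reduction of 0CTK to the proper case.** -/
theorem of_properCase (H : ProperCase.{u}) {A : Type u} [CommRing A] (A' : ℕ → Type u) [∀ n, CommRing (A' n)]
    (φ : ∀ n, A' (n + 1) →+* A' n) (π : ∀ n, A →+* A' n) (hlim : FlatCA.IsRingLimit A A' φ π)
    (hsurj : ∀ n, Function.Surjective (φ n)) (hnil : ∀ n, ∀ x ∈ RingHom.ker (φ n), IsNilpotent x)
    {X : Scheme.{u}} (f : X ⟶ Spec (CommRingCat.of A)) [IsSeparated f] [LocallyOfFinitePresentation f] [QuasiCompact f]
    (Xn : ℕ → Scheme.{u}) (j : ∀ n, Xn n ⟶ X) (g : ∀ n, Xn n ⟶ Spec (CommRingCat.of (A' n)))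
    (hpb : ∀ n, IsPullback (j n) (g n) f (Spec.map (CommRingCat.ofHom (π n))))
    (ι : ∀ n, Xn n ⟶ Xn (n + 1)) (hιj : ∀ n, ι n ≫ j (n + 1) = j n)
    (hιg : ∀ n, ι n ≫ g (n + 1) = g n ≫ Spec.map (CommRingCat.ofHom (φ n)))
    (F : ∀ n, (Xn n).Modules) (hfp : ∀ n, CohB1.IsFP (F n)) (hfl : ∀ n, FlatMod.IsFlatOver (g n) (F n))
    (hpr : ∀ n, ClSub.IsProperOver (g n) (CohB1.support (F n)))
    (e : ∀ n, (Scheme.Modules.pullback (ι n)).obj (F (n + 1)) ≅ F n) :
    ∃ (G : X.Modules), CohB1.IsFP G ∧ FlatMod.IsFlatOver f G ∧ ClSub.IsProperOver f (CohB1.support G) ∧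
      ∀ n, Nonempty ((Scheme.Modules.pullback (j n)).obj G ≅ F n) := by
  obtain ⟨Y, i, p, hi, hp, hpfp, hip⟩ := exists_compactification A f
  -- the base changes of `Y`
  let Yn : ℕ → Scheme.{u} := fun n => pullback p (Spec.map (CommRingCat.ofHom (π n)))
  let jY : ∀ n, Yn n ⟶ Y := fun n => pullback.fst p (Spec.map (CommRingCat.ofHom (π n)))
  let gY : ∀ n, Yn n ⟶ Spec (CommRingCat.of (A' n)) := fun n =>
    pullback.snd p (Spec.map (CommRingCat.ofHom (π n)))
  have hpbY : ∀ n, IsPullback (jY n) (gY n) p (Spec.map (CommRingCat.ofHom (π n))) := fun n =>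
    IsPullback.of_hasPullback _ _
  have hφπ : ∀ n, Spec.map (CommRingCat.ofHom (φ n)) ≫ Spec.map (CommRingCat.ofHom (π (n + 1))) =
      Spec.map (CommRingCat.ofHom (π n)) := fun n => by
    rw [← Spec.map_comp, ← CommRingCat.ofHom_comp, hlim.1 n]
  let ιY : ∀ n, Yn n ⟶ Yn (n + 1) := fun n =>
    (hpbY (n + 1)).lift (jY n) (gY n ≫ Spec.map (CommRingCat.ofHom (φ n))) (by
      rw [Category.assoc, hφπ, (hpbY n).w])
  have hιjY : ∀ n, ιY n ≫ jY (n + 1) = jY n := fun n => (hpbY (n + 1)).lift_fst _ _ _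
  have hιgY : ∀ n, ιY n ≫ gY (n + 1) = gY n ≫ Spec.map (CommRingCat.ofHom (φ n)) := fun n =>
    (hpbY (n + 1)).lift_snd _ _ _
  -- the open immersions `X_n ⟶ Y_n`
  let inc : ∀ n, Xn n ⟶ Yn n := fun n => (hpbY n).lift (j n ≫ i) (g n) (by
    rw [Category.assoc, hip, (hpb n).w])
  have hinc1 : ∀ n, inc n ≫ jY n = j n ≫ i := fun n => (hpbY n).lift_fst _ _ _
  have hinc2 : ∀ n, inc n ≫ gY n = g n := fun n => (hpbY n).lift_snd _ _ _
  have sqi : ∀ n, IsPullback (j n) (inc n) i (jY n) := fun n =>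
    IsPullback.of_bot (by rw [hinc2, hip]; exact hpb n) (hinc1 n).symm (hpbY n)
  have hinc : ∀ n, IsOpenImmersion (inc n) := fun n =>
    MorphismProperty.of_isPullback (P := @IsOpenImmersion) (sqi n) hi
  have hιinc : ∀ n, ι n ≫ inc (n + 1) = inc n ≫ ιY n := fun n => by
    refine (hpbY (n + 1)).hom_ext ?_ ?_
    · rw [Category.assoc, hinc1, ← Category.assoc, hιj, Category.assoc, hιjY, hinc1]
    · rw [Category.assoc, hinc2, hιg, Category.assoc, hιgY, ← Category.assoc, hinc2]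
  have sqι : ∀ n, IsPullback (ι n) (inc n) (inc (n + 1)) (ιY n) := fun n =>
    IsPullback.of_right (by rw [hιj, hιjY]; exact sqi n) (hιinc n) (sqi (n + 1))
  have hCc : ∀ n, IsClosed (inc n '' CohB1.support (F n)) := fun n => by
    have h1 : LocallyOfFiniteType (g n) := by
      rw [← hinc2 n]; infer_instance
    exact (S0788.result (g n) (gY n) (inc n) (hinc2 n) _ (hpr n)).1
  let FY : ∀ n, (Yn n).Modules := fun n => (Scheme.Modules.pushforward (inc n)).obj (F n)
  have eY : ∀ n, Nonempty ((Scheme.Modules.pullback (ιY n)).obj (FY (n + 1)) ≅ FY n) := fun n => by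
    obtain ⟨e1⟩ := ExtZero.nonempty_pullback_iso (inc (n + 1)) _ (hCc (n + 1)) (ι n) (ιY n) (inc n) (sqι n)
      (F (n + 1)) le_rfl (hfp (n + 1))
    exact ⟨e1 ≪≫ (Scheme.Modules.pushforward (inc n)).mapIso (e n)⟩
  obtain ⟨GY, hGfp, hGfl, hGe⟩ := H A' φ π hlim hsurj hnil p Yn jY gY hpbY ιY hιjY hιgY FY
    (fun n => ExtZero.isFP_pushforward (inc n) _ (hCc n) (F n) le_rfl (hfp n))
    (fun n => ExtZero.isFlatOver_pushforward (inc n) _ (hCc n) (gY n) (F n) le_rfl (by
      rw [hinc2]; exact hfl n)) (fun n => (eY n).some)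
  have hGft : CohB1.IsFT GY := Models2.FPCoh.isFT_of_isFP hGfp
  have hGcl : IsClosed (CohB1.support GY) := FormalA.Support.isClosed_support GY hGft
  -- the support of the algebraization is contained in `X`
  have hGi : CohB1.support GY ⊆ Set.range i := by
    by_contra hc
    rw [Set.not_subset] at hc
    obtain ⟨b, hb, hbi⟩ := hc
    obtain ⟨y, hy⟩ := exists_mem_of_nonempty A' φ π hlim hsurj hnil p (jY 0) (gY 0) (hpbY 0)
      (CohB1.support GY ∩ (Set.range i)ᶜ) (hGcl.inter i.isOpenEmbedding.isOpen_range.isClosed_compl)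
      ⟨b, hb, hbi⟩
    obtain ⟨e0⟩ := hGe 0
    have h1 : y ∈ CohB1.support (FY 0) := by
      rw [← FormalA.Support.support_eq_of_iso e0, Ega1.SuppTensorMod.mem_support_pullback _ _ hGft]
      exact hy.1
    obtain ⟨x, -, rfl⟩ := FormalA.ExProj.support_pushforward_subset (inc 0) _ (hCc 0) (F 0) le_rfl h1
    refine hy.2 ⟨j 0 x, ?_⟩
    rw [← Scheme.Hom.comp_apply, ← Scheme.Hom.comp_apply, hinc1]
  have hsuppG : CohB1.support ((Scheme.Modules.pullback i).obj GY) = i ⁻¹' CohB1.support GY :=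
    Ega1.SuppTensorMod.isFT_pullback_support i GY hGft
  refine ⟨(Scheme.Modules.pullback i).obj GY, FormalA.PullbackQC.isFP_pullback i GY hGfp, ?_, ?_, fun n => ?_⟩
  · intro x
    refine Models2.FlatIso.isFlatOverAt_of_iso f
      ((Scheme.Modules.restrictFunctorIsoPullback i).app GY) x ?_
    have h2 := (Ega3B.FlatRestrict.isFlatOverAt_restrict_iff_comp p i GY x).2 (hGfl (i x))
    rw [hip] at h2
    exact h2
  · rw [hsuppG]
    refine FormalA.ExImm.isProperOver_of_immersion f p i hip _ (hGcl.preimage i.continuous) ?_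
    rw [Set.image_preimage_eq_inter_range, Set.inter_eq_left.2 hGi]
    exact hGcl
  · obtain ⟨e0⟩ := hGe n
    exact ⟨(Scheme.Modules.pullbackComp (j n) i).app GY ≪≫
      (Scheme.Modules.pullbackCongr (hinc1 n).symm).app GY ≪≫
      ((Scheme.Modules.pullbackComp (inc n) (jY n)).app GY).symm ≪≫
      (Scheme.Modules.pullback (inc n)).mapIso e0 ≪≫
      ((Scheme.Modules.restrictFunctorIsoPullback (inc n)).app (FY n)).symm ≪≫
      ExtZero.restrictPushIso (inc n) (F n)⟩

end Groth.Agent.Flat2B.GExCompact
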