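import Groth.Agent.Flat2B.GExAL5Defs
import Mathlib.RingTheory.Flat.Basic
import Mathlib.RingTheory.TensorProduct.Free
import Mathlib.LinearAlgebra.TensorProduct.RightExactness

/-!
# S1270 route E, AL5 (c): algebra

* `Contr.exists_of_exact`: an exact bounded below complex of finite free filtered
  `B[y]`-modules stays exact with coefficients in any module over any `B`-algebra.
* `ker_gen`: solutions of linear equations over a flat algebra.
-/

universe u

open MvPolynomial

namespace Groth.Agent.Flat2B.GEx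

open TensorProduct in
/-- Solutions over a flat `A`-algebra `B` of equations defined over `A` are generated by the
solutions over `A`. -/
theorem ker_gen {A B : Type*} [CommRing A] [CommRing B] [Algebra A B] [Module.Flat A B]
    {M Z M' Z' : Type*} [AddCommGroup M] [Module A M] [AddCommGroup Z] [Module A Z]
    [AddCommGroup M'] [Module B M'] [Module A M'] [IsScalarTower A B M']
    [AddCommGroup Z'] [Module B Z'] [Module A Z'] [IsScalarTower A B Z']
    (μ : M →ₗ[A] M') (ζ : Z →ₗ[A] Z') (hζ : Function.Injective (ζ.liftBaseChange B))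
    (f : M →ₗ[A] Z) (g : M' →ₗ[B] Z') (hfg : ∀ m, g (μ m) = ζ (f m)) (v : M')
    (hv : v ∈ Submodule.span B (Set.range μ)) (hgv : g v = 0) :
    v ∈ Submodule.span B (μ '' {m | f m = 0}) := by
  have h1 : v ∈ LinearMap.range (μ.liftBaseChange B) := by
    rw [LinearMap.range_liftBaseChange]
    exact hv
  obtain ⟨z, rfl⟩ := h1
  have h2 : ∀ z : B ⊗[A] M, ζ.liftBaseChange B (f.lTensor B z) = g (μ.liftBaseChange B z) := by
    intro z
    induction z using TensorProduct.induction_on with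
    | zero => simp
    | tmul b m => rw [LinearMap.lTensor_tmul, LinearMap.liftBaseChange_tmul,
        LinearMap.liftBaseChange_tmul, map_smul, hfg]
    | add x y hx hy => rw [map_add, map_add, map_add, map_add, hx, hy]
  have h3 : f.lTensor B z = 0 := hζ (by rw [h2, hgv, map_zero])
  have h4 : Function.Exact ((LinearMap.ker f).subtype.lTensor B) (f.lTensor B) :=
    Module.Flat.lTensor_exact B (LinearMap.exact_subtype_ker_map f)
  obtain ⟨z', rfl⟩ := (h4 z).1 h3
  clear h3 hgv hv
  induction z' using TensorProduct.induction_on with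
  | zero => simp
  | tmul b m =>
    rw [LinearMap.lTensor_tmul, LinearMap.liftBaseChange_tmul]
    exact Submodule.smul_mem _ _ (Submodule.subset_span ⟨_, m.2, rfl⟩)
  | add x y hx hy =>
    rw [map_add, map_add]
    exact add_mem hx hy

/-! ### Matrices of polynomials acting on vectors of elements of `N[y]` -/

namespace Contr

variable {τ : Type} {B : Type u} [CommRing B]

/-- Degree condition for a polynomial between generators of weights `w'` (target) and `w`
(source). -/
def PDeg (w w' : ℕ) (p : MvPolynomial τ B) : Prop := p = 0 ∨ p.totalDegree + w ≤ w'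

lemma PDeg.zero {w w' : ℕ} : PDeg w w' (0 : MvPolynomial τ B) := Or.inl rfl

lemma pdeg_iff {w w' : ℕ} {p : MvPolynomial τ B} :
    PDeg w w' p ↔ ∀ μ, coeff μ p ≠ 0 → μ.degree + w ≤ w' := by
  have hd : ∀ μ : τ →₀ ℕ, μ.degree = Multiset.card (Finsupp.toMultiset μ) := fun μ => by
    rw [Finsupp.card_toMultiset, Finsupp.degree_apply]; rfl
  constructor
  · rintro (rfl | h) μ hμ
    · exact absurd (coeff_zero μ) hμ
    · have h1 : μ.degree ≤ p.totalDegree := by
        rw [hd, MvPolynomial.totalDegree_eq]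
        exact Finset.le_sup (f := fun m => Multiset.card (Finsupp.toMultiset m))
          (mem_support_iff.2 hμ)
      omega
  · intro h
    by_cases hp : p = 0
    · exact Or.inl hp
    · right
      obtain ⟨ν, hν⟩ := ne_zero_iff.1 hp
      have h1 := h ν hν
      have h2 : p.totalDegree ≤ w' - w := by
        rw [MvPolynomial.totalDegree_eq]
        refine Finset.sup_le fun μ hμ => ?_
        have := h μ (mem_support_iff.1 hμ)
        rw [hd] at this
        omega
      omega

lemma PDeg.add {w w' : ℕ} {p q : MvPolynomial τ B} (hp : PDeg w w' p) (hq : PDeg w w' q) :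
    PDeg w w' (p + q) := by
  rw [pdeg_iff] at hp hq ⊢
  intro μ hμ
  rw [coeff_add] at hμ
  by_cases h : coeff μ p = 0
  · rw [h, zero_add] at hμ
    exact hq μ hμ
  · exact hp μ h

lemma PDeg.neg {w w' : ℕ} {p : MvPolynomial τ B} (hp : PDeg w w' p) : PDeg w w' (-p) := by
  rw [pdeg_iff] at hp ⊢
  intro μ hμ
  rw [coeff_neg] at hμ
  exact hp μ fun h => hμ (by rw [h, neg_zero])

lemma PDeg.sub {w w' : ℕ} {p q : MvPolynomial τ B} (hp : PDeg w w' p) (hq : PDeg w w' q) :
    PDeg w w' (p - q) := by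
  rw [sub_eq_add_neg]
  exact hp.add hq.neg

lemma PDeg.sum {w w' : ℕ} {I : Type*} {s : Finset I} {p : I → MvPolynomial τ B}
    (h : ∀ i ∈ s, PDeg w w' (p i)) : PDeg w w' (∑ i ∈ s, p i) := by
  classical
  induction s using Finset.induction_on with
  | empty => exact PDeg.zero
  | insert a s ha ih =>
    rw [Finset.sum_insert ha]
    exact (h a (Finset.mem_insert_self _ _)).add
      (ih fun i hi => h i (Finset.mem_insert_of_mem hi))

lemma PDeg.mul {w w' w'' : ℕ} {p q : MvPolynomial τ B} (hp : PDeg w w' p) (hq : PDeg w'' w q) :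
    PDeg w'' w' (p * q) := by
  rcases hp with rfl | hp
  · rw [zero_mul]; exact PDeg.zero
  rcases hq with rfl | hq
  · rw [mul_zero]; exact PDeg.zero
  right
  have := totalDegree_mul p q
  omega

lemma PDeg.one {w : ℕ} : PDeg w w (1 : MvPolynomial τ B) := by
  right
  rw [totalDegree_one, zero_add]

lemma PDeg.one_le {w w' : ℕ} (h : w ≤ w') : PDeg w w' (1 : MvPolynomial τ B) := by
  right
  rw [totalDegree_one, zero_add]
  exact h

lemma PDeg.map {w w' : ℕ} {p : MvPolynomial τ B} (hp : PDeg w w' p) {E : Type u} [CommRing E]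
    (χ : B →+* E) : PDeg w w' (MvPolynomial.map χ p) := by
  rw [pdeg_iff] at hp ⊢
  intro μ hμ
  rw [coeff_map] at hμ
  exact hp μ fun h => hμ (by rw [h, map_zero])

lemma deg_smul {E : Type u} [CommRing E] {N : Type u} [AddCommGroup N] [Module E N]
    {w w' e : ℕ} {p : MvPolynomial τ E} (hp : PDeg w w' p) {x : PM τ N} (hx : PM.Deg w' e x) :
    PM.Deg w e (p • x) := by
  rcases hp with rfl | hp
  · rw [zero_smul]
    intro μ hμ
    exact absurd (PM.coeff_zero μ) hμ
  · intro μ hμ
    have := hx.smul (m := p.totalDegree) le_rfl μ hμ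
    omega

lemma deg_sum {N : Type u} [AddCommGroup N] {w e : ℕ} {I : Type*} {s : Finset I}
    {x : I → PM τ N} (h : ∀ i ∈ s, PM.Deg w e (x i)) : PM.Deg w e (∑ i ∈ s, x i) := by
  intro μ hμ
  have h1 : PM.coeff μ (∑ i ∈ s, x i) = ∑ i ∈ s, PM.coeff μ (x i) :=
    map_sum (AddMonoidHom.mk' (PM.coeff (M := N) μ) (PM.coeff_add μ)) _ _
  rw [h1] at hμ
  obtain ⟨i, hi, h2⟩ := Finset.exists_ne_zero_of_sum_ne_zero hμ
  exact h i hi μ h2

variable {I : ℕ → Type} [∀ j, Fintype (I j)] (w : ∀ j, I j → ℕ)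
  (D : ∀ j, I (j + 1) → I j → MvPolynomial τ B)

open Classical in
/-- First homotopy. -/
lemma exists_zero
    (h0 : ∀ e (v : I 0 → MvPolynomial τ B), (∀ a, PDeg (w 0 a) e (v a)) →
      ∃ v' : I 1 → MvPolynomial τ B, (∀ a, PDeg (w 1 a) e (v' a)) ∧
        ∀ b, v b = ∑ a, v' a * D 0 a b) :
    ∃ H : I 0 → I 1 → MvPolynomial τ B, (∀ b a, PDeg (w 1 a) (w 0 b) (H b a)) ∧
      ∀ b c, (∑ a, H b a * D 0 a c) = if b = c then 1 else 0 := by
  have h1 : ∀ b : I 0, ∃ v' : I 1 → MvPolynomial τ B, (∀ a, PDeg (w 1 a) (w 0 b) (v' a)) ∧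
      ∀ c, (if b = c then (1 : MvPolynomial τ B) else 0) = ∑ a, v' a * D 0 a c := by
    intro b
    refine h0 (w 0 b) (fun c => if b = c then 1 else 0) fun c => ?_
    split_ifs with h
    · rw [h]; exact PDeg.one
    · exact PDeg.zero
  choose H hH using h1
  exact ⟨H, fun b a => (hH b).1 a, fun b c => ((hH b).2 c).symm⟩

open Classical in
/-- Next homotopy. -/
lemma exists_succ (hdeg : ∀ j a b, PDeg (w j b) (w (j + 1) a) (D j a b)) (j : ℕ)
    (hex : ∀ e (v : I (j + 1) → MvPolynomial τ B), (∀ a, PDeg (w (j + 1) a) e (v a)) →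
      (∀ b, ∑ a, v a * D j a b = 0) →
      ∃ v' : I (j + 2) → MvPolynomial τ B, (∀ a, PDeg (w (j + 2) a) e (v' a)) ∧
        ∀ b, v b = ∑ a, v' a * D (j + 1) a b)
    (H : I j → I (j + 1) → MvPolynomial τ B) (hH : ∀ b a, PDeg (w (j + 1) a) (w j b) (H b a))
    (hDHD : ∀ a c, ∑ b, D j a b * (∑ a', H b a' * D j a' c) = D j a c) :
    ∃ H' : I (j + 1) → I (j + 2) → MvPolynomial τ B,
      (∀ b a, PDeg (w (j + 2) a) (w (j + 1) b) (H' b a)) ∧
      ∀ b c, (∑ a, H' b a * D (j + 1) a c) = (if b = c then 1 else 0) - ∑ b', D j b b' * H b' c := by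
  have h1 : ∀ b : I (j + 1), ∃ v' : I (j + 2) → MvPolynomial τ B,
      (∀ a, PDeg (w (j + 2) a) (w (j + 1) b) (v' a)) ∧
      ∀ c, ((if b = c then (1 : MvPolynomial τ B) else 0) - ∑ b', D j b b' * H b' c) =
        ∑ a, v' a * D (j + 1) a c := by
    intro b
    refine hex (w (j + 1) b) (fun c => (if b = c then 1 else 0) - ∑ b', D j b b' * H b' c)
      (fun c => ?_) (fun c => ?_)
    · refine PDeg.sub ?_ (PDeg.sum fun b' _ => (hdeg j b b').mul (hH b' c))
      split_ifs with h
      · rw [h]; exact PDeg.one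
      · exact PDeg.zero
    · simp only [sub_mul, ite_mul, one_mul, zero_mul, Finset.sum_sub_distrib, Finset.sum_ite_eq,
        Finset.mem_univ, if_true, Finset.sum_mul, mul_assoc]
      rw [Finset.sum_comm, sub_eq_zero]
      simp only [← Finset.mul_sum]
      exact (hDHD b c).symm
  choose H' hH' using h1
  exact ⟨H', fun b a => (hH' b).1 a, fun b c => ((hH' b).2 c).symm⟩

/-- Existence of the homotopies `H` with `D H D = D`. -/
lemma exists_homotopy (hdeg : ∀ j a b, PDeg (w j b) (w (j + 1) a) (D j a b))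
    (hDD : ∀ j a c, ∑ b, D (j + 1) a b * D j b c = 0)
    (h0 : ∀ e (v : I 0 → MvPolynomial τ B), (∀ a, PDeg (w 0 a) e (v a)) →
      ∃ v' : I 1 → MvPolynomial τ B, (∀ a, PDeg (w 1 a) e (v' a)) ∧
        ∀ b, v b = ∑ a, v' a * D 0 a b)
    (hex : ∀ j e (v : I (j + 1) → MvPolynomial τ B), (∀ a, PDeg (w (j + 1) a) e (v a)) →
      (∀ b, ∑ a, v a * D j a b = 0) →
      ∃ v' : I (j + 2) → MvPolynomial τ B, (∀ a, PDeg (w (j + 2) a) e (v' a)) ∧
        ∀ b, v b = ∑ a, v' a * D (j + 1) a b) (j : ℕ) :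
    ∃ H : I j → I (j + 1) → MvPolynomial τ B, (∀ b a, PDeg (w (j + 1) a) (w j b) (H b a)) ∧
      ∀ a c, ∑ b, D j a b * (∑ a', H b a' * D j a' c) = D j a c := by
  classical
  induction j with
  | zero =>
    obtain ⟨H, hH, hH'⟩ := exists_zero w D h0
    refine ⟨H, hH, fun a c => ?_⟩
    simp only [hH', mul_ite, mul_one, mul_zero, Finset.sum_ite_eq', Finset.mem_univ, if_true]
  | succ j ih =>
    obtain ⟨H, hH, hDHD⟩ := ih
    obtain ⟨H', hH', h⟩ := exists_succ w D hdeg j (hex j) H hH hDHD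
    refine ⟨H', hH', fun a c => ?_⟩
    simp only [h, mul_sub, mul_ite, mul_one, mul_zero, Finset.sum_sub_distrib, Finset.sum_ite_eq',
      Finset.mem_univ, if_true, Finset.mul_sum, ← mul_assoc]
    rw [Finset.sum_comm]
    simp only [← Finset.sum_mul, hDD, zero_mul, Finset.sum_const_zero, sub_zero]

variable {E : Type u} [CommRing E] (χ : B →+* E) {N : Type u} [AddCommGroup N] [Module E N]

/-- Exactness in degree `0` with coefficients. -/
theorem exact_zero
    (h0 : ∀ e (v : I 0 → MvPolynomial τ B), (∀ a, PDeg (w 0 a) e (v a)) →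
      ∃ v' : I 1 → MvPolynomial τ B, (∀ a, PDeg (w 1 a) e (v' a)) ∧
        ∀ b, v b = ∑ a, v' a * D 0 a b)
    (e : ℕ) (x : I 0 → PM τ N) (hx : ∀ a, PM.Deg (w 0 a) e (x a)) :
    ∃ y : I 1 → PM τ N, (∀ a, PM.Deg (w 1 a) e (y a)) ∧
      ∀ b, x b = ∑ a, MvPolynomial.map χ (D 0 a b) • y a := by
  classical
  obtain ⟨H, hH, hH'⟩ := exists_zero w D h0
  refine ⟨fun a => ∑ b, MvPolynomial.map χ (H b a) • x b, fun a =>
    deg_sum fun b _ => deg_smul ((hH b a).map χ) (hx b), fun c => ?_⟩
  simp only [Finset.smul_sum, smul_smul]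
  rw [Finset.sum_comm]
  have : ∀ b, ∑ a, (MvPolynomial.map χ (D 0 a c) * MvPolynomial.map χ (H b a)) • x b =
      (if b = c then (1 : MvPolynomial τ E) else 0) • x b := by
    intro b
    rw [← Finset.sum_smul]
    congr 1
    have h1 := congrArg (MvPolynomial.map χ) (hH' b c)
    rw [map_sum] at h1
    rw [Finset.sum_congr rfl fun a _ => (by rw [mul_comm, ← map_mul] :
      MvPolynomial.map χ (D 0 a c) * MvPolynomial.map χ (H b a) =
        MvPolynomial.map χ (H b a * D 0 a c)), h1]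
    split_ifs
    · exact map_one _
    · exact map_zero _
  rw [Finset.sum_congr rfl fun b _ => this b]
  simp only [ite_smul, one_smul, zero_smul, Finset.sum_ite_eq', Finset.mem_univ, if_true]

/-- Exactness in positive degrees with coefficients. -/
theorem exact_succ (hdeg : ∀ j a b, PDeg (w j b) (w (j + 1) a) (D j a b))
    (hDD : ∀ j a c, ∑ b, D (j + 1) a b * D j b c = 0)
    (h0 : ∀ e (v : I 0 → MvPolynomial τ B), (∀ a, PDeg (w 0 a) e (v a)) →
      ∃ v' : I 1 → MvPolynomial τ B, (∀ a, PDeg (w 1 a) e (v' a)) ∧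
        ∀ b, v b = ∑ a, v' a * D 0 a b)
    (hex : ∀ j e (v : I (j + 1) → MvPolynomial τ B), (∀ a, PDeg (w (j + 1) a) e (v a)) →
      (∀ b, ∑ a, v a * D j a b = 0) →
      ∃ v' : I (j + 2) → MvPolynomial τ B, (∀ a, PDeg (w (j + 2) a) e (v' a)) ∧
        ∀ b, v b = ∑ a, v' a * D (j + 1) a b)
    (j e : ℕ) (x : I (j + 1) → PM τ N) (hx : ∀ a, PM.Deg (w (j + 1) a) e (x a))
    (hcyc : ∀ b, ∑ a, MvPolynomial.map χ (D j a b) • x a = 0) :
    ∃ y : I (j + 2) → PM τ N, (∀ a, PM.Deg (w (j + 2) a) e (y a)) ∧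
      ∀ b, x b = ∑ a, MvPolynomial.map χ (D (j + 1) a b) • y a := by
  classical
  obtain ⟨H, hH, hDHD⟩ := exists_homotopy w D hdeg hDD h0 hex j
  obtain ⟨H', hH', h⟩ := exists_succ w D hdeg j (hex j) H hH hDHD
  refine ⟨fun a => ∑ b, MvPolynomial.map χ (H' b a) • x b, fun a =>
    deg_sum fun b _ => deg_smul ((hH' b a).map χ) (hx b), fun c => ?_⟩
  simp only [Finset.smul_sum, smul_smul]
  rw [Finset.sum_comm]
  have : ∀ b, ∑ a, (MvPolynomial.map χ (D (j + 1) a c) * MvPolynomial.map χ (H' b a)) • x b =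
      (if b = c then (1 : MvPolynomial τ E) else 0) • x b -
        ∑ b', MvPolynomial.map χ (H b' c) • MvPolynomial.map χ (D j b b') • x b := by
    intro b
    rw [← Finset.sum_smul]
    have h1 := congrArg (MvPolynomial.map χ) (h b c)
    rw [map_sum] at h1
    rw [Finset.sum_congr rfl fun a _ => (by rw [mul_comm, ← map_mul] :
      MvPolynomial.map χ (D (j + 1) a c) * MvPolynomial.map χ (H' b a) =
        MvPolynomial.map χ (H' b a * D (j + 1) a c)), h1, map_sub, sub_smul, map_sum]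
    congr 1
    · congr 1
      split_ifs
      · exact map_one _
      · exact map_zero _
    · rw [Finset.sum_smul]
      refine Finset.sum_congr rfl fun b' _ => ?_
      rw [map_mul, mul_comm, mul_smul]
  rw [Finset.sum_congr rfl fun b _ => this b, Finset.sum_sub_distrib]
  simp only [ite_smul, one_smul, zero_smul, Finset.sum_ite_eq', Finset.mem_univ, if_true]
  rw [Finset.sum_comm]
  simp only [← Finset.smul_sum, hcyc, smul_zero, Finset.sum_const_zero, sub_zero]

end Contr

end Groth.Agent.Flat2B.GEx
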