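import Mathlib.RingTheory.Flat.Basic
import Mathlib.Algebra.MvPolynomial.Basic
import Mathlib.Algebra.MvPolynomial.Degrees
import Mathlib.RingTheory.Ideal.Maps
import Mathlib.RingTheory.TensorProduct.Basic
import Groth.Prelude.Def_FlatCA

/-!
# S1270 (Stacks 0CTK), route E: definitions for the algebraic part

`FCx S τ`: filtered chain complexes (`ℕ`-indexed homologically, degree `0` = top cohomological
degree) of `S[y_τ]`-modules with an increasing exhaustive filtration `F k e` (`e : ℕ`) by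
`S`-submodules such that polynomials of degree `≤ m` map `F k e` to `F k (e + m)`.

`FreeCx S τ`: complexes of finite free filtered modules, given by matrices.
-/

universe u

open MvPolynomial

namespace Groth.Agent.Flat2B.GEx

/-- Filtered chain complexes of `S[y_τ]`-modules. -/
structure FCx (S : Type u) [CommRing S] (τ : Type) where
  X : ℕ → Type u
  [grp : ∀ k, AddCommGroup (X k)]
  [modS : ∀ k, Module S (X k)]
  [mod : ∀ k, Module (MvPolynomial τ S) (X k)]
  [tower : ∀ k, IsScalarTower S (MvPolynomial τ S) (X k)]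
  d : ∀ k, X (k + 1) →ₗ[MvPolynomial τ S] X k
  d_d : ∀ k x, d k (d (k + 1) x) = 0
  F : ∀ k, ℕ → Submodule S (X k)
  mono : ∀ k, Monotone (F k)
  exh : ∀ k x, ∃ e, x ∈ F k e
  smul_mem : ∀ k e m (p : MvPolynomial τ S) x, p.totalDegree ≤ m → x ∈ F k e → p • x ∈ F k (e + m)
  d_mem : ∀ k e x, x ∈ F (k + 1) e → d k x ∈ F k e

attribute [instance] FCx.grp FCx.modS FCx.mod FCx.tower

/-- Complexes of finite free filtered `S[y_τ]`-modules: the module in degree `k` is
`J k → S[y_τ]`, the differential is `v ↦ (b ↦ ∑ a, v a * D k a b)`, the `e`-th step of the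
filtration consists of the `v` with `deg (v a) + w k a ≤ e`. -/
structure FreeCx (S : Type u) [CommRing S] (τ : Type) where
  J : ℕ → Type
  [fin : ∀ k, Fintype (J k)]
  w : ∀ k, J k → ℕ
  D : ∀ k, J (k + 1) → J k → MvPolynomial τ S
  D_deg : ∀ k a b, D k a b = 0 ∨ (D k a b).totalDegree + w k b ≤ w (k + 1) a
  D_D : ∀ k a c, ∑ b, D (k + 1) a b * D k b c = 0

attribute [instance] FreeCx.fin

namespace FreeCx

variable {S : Type u} [CommRing S] {τ : Type} (K : FreeCx S τ)

/-- The differential. -/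
noncomputable def d (k : ℕ) :
    (K.J (k + 1) → MvPolynomial τ S) →ₗ[MvPolynomial τ S] (K.J k → MvPolynomial τ S) where
  toFun v b := ∑ a, v a * K.D k a b
  map_add' v w := by
    funext b
    simp [add_mul, Finset.sum_add_distrib]
  map_smul' p v := by
    funext b
    simp [Finset.mul_sum, mul_assoc]

lemma d_apply (k : ℕ) (v : K.J (k + 1) → MvPolynomial τ S) (b : K.J k) :
    K.d k v b = ∑ a, v a * K.D k a b := rfl

lemma d_d (k : ℕ) (v : K.J (k + 2) → MvPolynomial τ S) : K.d k (K.d (k + 1) v) = 0 := by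
  funext c
  simp only [d_apply, Finset.sum_mul, Pi.zero_apply]
  rw [Finset.sum_comm]
  refine Finset.sum_eq_zero fun a _ => ?_
  simp only [mul_assoc]
  rw [← Finset.mul_sum, K.D_D, mul_zero]

/-- Cycles: everything in degree `0`. -/
def IsCyc : ∀ k : ℕ, (K.J k → MvPolynomial τ S) → Prop
  | 0, _ => True
  | k + 1, v => K.d k v = 0

/-- The filtration. -/
def F (k e : ℕ) (v : K.J k → MvPolynomial τ S) : Prop :=
  ∀ a, v a = 0 ∨ (v a).totalDegree + K.w k a ≤ e

/-- Base change. -/
noncomputable abbrev map {S' : Type u} [CommRing S'] (φ : S →+* S') : FreeCx S' τ where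
  J := K.J
  w := K.w
  D k a b := MvPolynomial.map φ (K.D k a b)
  D_deg k a b := by
    rcases K.D_deg k a b with h | h
    · left; rw [h, map_zero]
    · right
      refine le_trans (Nat.add_le_add_right ?_ _) h
      exact Finset.sup_mono (MvPolynomial.support_map_subset φ _)
  D_D k a c := by
    have := congrArg (MvPolynomial.map φ) (K.D_D k a c)
    simpa only [map_sum, map_mul, map_zero] using this

/-- The zero-th module and so on: chain maps `K ⟶ T`, given by the images of the basis vectors. -/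
structure Hom (K : FreeCx S τ) (T : FCx S τ) where
  t : ∀ k, K.J k → T.X k
  t_mem : ∀ k a, t k a ∈ T.F k (K.w k a)
  comm : ∀ k a, T.d k (t (k + 1) a) = ∑ b, K.D k a b • t k b

variable {K} {T : FCx S τ}

/-- The linear map of a chain map. -/
noncomputable def Hom.f (φ : Hom K T) (k : ℕ) :
    (K.J k → MvPolynomial τ S) →ₗ[MvPolynomial τ S] T.X k where
  toFun v := ∑ a, v a • φ.t k a
  map_add' v w := by simp [add_smul, Finset.sum_add_distrib]
  map_smul' p v := by simp [Finset.smul_sum, mul_smul]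

/-- `φ : K ⟶ T` is a quasi-isomorphism on every step of the filtration (elementwise exactness of
the cone). -/
def Hom.QI (φ : Hom K T) : Prop :=
  (∀ e, ∀ y ∈ T.F 0 e, ∃ v, K.F 0 e v ∧ ∃ z ∈ T.F 1 e, φ.f 0 v + T.d 0 z = y) ∧
  ∀ k e v y, K.F k e v → K.IsCyc k v → y ∈ T.F (k + 1) e → φ.f k v = T.d k y →
    ∃ v', K.F (k + 1) e v' ∧ ∃ z ∈ T.F (k + 2) e, K.d k v' = v ∧ φ.f (k + 1) v' + T.d (k + 1) z = y

end FreeCx

namespace FCx

variable {S : Type u} [CommRing S] {τ : Type} (T : FCx S τ)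

/-- Cycles: everything in degree `0`. -/
def IsCyc : ∀ k : ℕ, T.X k → Prop
  | 0, _ => True
  | k + 1, x => T.d k x = 0

/-- The homology in degree `k` is finitely generated as a filtered module (i.e. its Rees module
is finitely generated). -/
def HomFG (k : ℕ) : Prop :=
  ∃ (m : ℕ) (w : Fin m → ℕ) (z : Fin m → T.X k), (∀ i, z i ∈ T.F k (w i)) ∧ (∀ i, T.IsCyc k (z i)) ∧
    ∀ e, ∀ x ∈ T.F k e, T.IsCyc k x → ∃ p : Fin m → MvPolynomial τ S,
      (∀ i, p i = 0 ∨ (p i).totalDegree + w i ≤ e) ∧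
      ∃ y ∈ T.F (k + 1) e, x = ∑ i, p i • z i + T.d k y

/-- All steps of the filtration are flat. -/
def IsFlat : Prop := ∀ k e, Module.Flat S (T.F k e)

/-- Pseudo-coherence in the filtered sense. -/
def IsPC : Prop := ∃ (K : FreeCx S τ) (φ : FreeCx.Hom K T), φ.QI

/-- Maps of filtered complexes, semilinear along a ring map `φ : S → S'`. -/
structure Map {S' : Type u} [CommRing S'] (φ : S →+* S') (T : FCx S τ) (T' : FCx S' τ) where
  f : ∀ k, T.X k →+ T'.X k
  f_smul : ∀ k (p : MvPolynomial τ S) x, f k (p • x) = MvPolynomial.map φ p • f k x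
  f_d : ∀ k x, f k (T.d k x) = T'.d k (f (k + 1) x)
  f_mem : ∀ k e x, x ∈ T.F k e → f k x ∈ T'.F k e

/-- A surjective base change along a surjective ring map `φ`: on every step of the filtration the
map is surjective with kernel generated by `ker φ`. -/
structure Map.IsSurjBC {S' : Type u} [CommRing S'] {φ : S →+* S'} {T : FCx S τ} {T' : FCx S' τ}
    (r : Map φ T T') : Prop where
  surj : ∀ k e, ∀ y ∈ T'.F k e, ∃ x ∈ T.F k e, r.f k x = y
  ker : ∀ k e, ∀ x ∈ T.F k e, r.f k x = 0 → x ∈ RingHom.ker φ • T.F k e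

/-- A base change along any ring map `φ : S → S'`: `S' ⊗ F k e T → F k e T'` is bijective. -/
def Map.IsBC {S' : Type u} [CommRing S'] {φ : S →+* S'} {T : FCx S τ} {T' : FCx S' τ}
    (r : Map φ T T') : Prop :=
  ∀ k e, letI := φ.toAlgebra
    letI : Module S (T'.F k e) := Module.compHom _ φ
    haveI : IsScalarTower S S' (T'.F k e) := ⟨fun a b c => by
      change (φ a * b) • c = φ a • b • c
      rw [mul_smul]⟩
    ∃ g : T.F k e →ₗ[S] T'.F k e, (∀ x, (g x : T'.X k) = r.f k x) ∧ IsBaseChange S' g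

end FCx

/-- Towers: an inverse system of filtered complexes of flat modules over the inverse system of
rings `A' n`, each the base change of the next, with limit `L` (in each step of the filtration). -/
structure Tower {A : Type u} [CommRing A] (A' : ℕ → Type u) [∀ n, CommRing (A' n)]
    (φ : ∀ n, A' (n + 1) →+* A' n) (π : ∀ n, A →+* A' n) (τ : Type) where
  T : ∀ n, FCx (A' n) τ
  flat : ∀ n, (T n).IsFlat
  r : ∀ n, FCx.Map (φ n) (T (n + 1)) (T n)
  bc : ∀ n, (r n).IsSurjBC
  L : FCx A τ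
  ρ : ∀ n, FCx.Map (π n) L (T n)
  comp : ∀ n k x, (r n).f k ((ρ (n + 1)).f k x) = (ρ n).f k x
  lim_inj : ∀ k e, ∀ x ∈ L.F k e, (∀ n, (ρ n).f k x = 0) → x = 0
  lim_surj : ∀ k e (y : ∀ n, (T n).X k), (∀ n, y n ∈ (T n).F k e) →
    (∀ n, (r n).f k (y (n + 1)) = y n) → ∃ x ∈ L.F k e, ∀ n, (ρ n).f k x = y n

/-- The image of a chain map `K ⟶ L` at a finite level. -/
noncomputable def FreeCx.Hom.push {S S' : Type u} [CommRing S] [CommRing S'] {τ : Type}
    {K : FreeCx S τ} {L : FCx S τ} (f : FreeCx.Hom K L) {φ : S →+* S'} {T : FCx S' τ}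
    (ρ : FCx.Map φ L T) : FreeCx.Hom (K.map φ) T where
  t k a := ρ.f k (f.t k a)
  t_mem k a := ρ.f_mem k _ _ (f.t_mem k a)
  comm k a := by
    refine (ρ.f_d k (f.t (k + 1) a)).symm.trans ((congrArg (ρ.f k) (f.comm k a)).trans ?_)
    rw [map_sum]
    exact Finset.sum_congr rfl fun b _ => ρ.f_smul _ _ _

end Groth.Agent.Flat2B.GEx
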