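import Groth.Agent.Flat2B.GExTot
import Mathlib.RingTheory.Finiteness.Basic
import Mathlib.RingTheory.RingHom.Flat
import Mathlib.Data.Finsupp.Weight

/-!
# S1270, route E: filtered complexes of diagrams, polynomial modules, free diagrams
-/

universe u

open Finset MvPolynomial Groth.Agent.Ega3B.Cube

namespace Groth.Agent.Flat2B.GEx

/-- Filtered chain complexes of diagrams of `S[y_τ]`-modules over `NE ι`. -/
structure FCD (S : Type u) [CommRing S] (τ ι : Type) [LinearOrder ι] extends
    CD.{u} (MvPolynomial τ S) (NE ι) where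
  [modS : ∀ j s, Module S (E j s)]
  [tower : ∀ j s, IsScalarTower S (MvPolynomial τ S) (E j s)]
  F : ∀ j s, ℕ → Submodule S (E j s)
  mono : ∀ j s, Monotone (F j s)
  exh : ∀ j s x, ∃ e, x ∈ F j s e
  smul_mem : ∀ j s e m (p : MvPolynomial τ S) x, p.totalDegree ≤ m → x ∈ F j s e →
    p • x ∈ F j s (e + m)
  del_mem : ∀ j s e x, x ∈ F (j + 1) s e → del j s x ∈ F j s e
  res_mem : ∀ j s t (h : s ≤ t) e x, x ∈ F j s e → res j h x ∈ F j t e

attribute [instance] FCD.modS FCD.tower

section Tot

variable {S : Type u} [CommRing S] {τ ι : Type} [LinearOrder ι] [Fintype ι]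

instance (k : ℕ) : Finite (Idx ι k) := by
  have : Function.Injective (fun q : Idx ι k => ((q.1.1.1, (⟨q.1.2, by have := q.2; omega⟩ : Fin (k + 1))) :
      Finset ι × Fin (k + 1))) := by
    rintro ⟨⟨s, j⟩, hq⟩ ⟨⟨s', j'⟩, hq'⟩ h
    simp only [Prod.mk.injEq, Fin.mk.injEq] at h
    apply Subtype.ext
    apply Prod.ext
    · exact Subtype.ext h.1
    · exact h.2
  exact Finite.of_injective _ this

/-- The total complex of a filtered complex of diagrams. -/
noncomputable def FCD.tot (C : FCD S τ ι) : FCx S τ where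
  X k := C.toCD.X k
  d k := C.toCD.D k
  d_d k x := CD.D_D k x
  F k e := Submodule.pi Set.univ fun q => C.F q.1.2 q.1.1 e
  mono k e e' h x hx q hq := C.mono _ _ h (hx q hq)
  exh k x := by
    cases nonempty_fintype (Idx ι k)
    choose e he using fun q : Idx ι k => C.exh q.1.2 q.1.1 (x q)
    exact ⟨Finset.univ.sup e, fun q _ => C.mono _ _ (Finset.le_sup (mem_univ q)) (he q)⟩
  smul_mem k e m p x hp hx q hq := C.smul_mem _ _ _ _ _ _ hp (hx q hq)
  d_mem k e x hx q _ := by
    change (-1 : ℤ) ^ (q.1.1.1.card + 1) • C.del q.1.2 q.1.1 (x (CD.up q)) +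
      ∑ i ∈ q.1.1.1, sgn i q.1.1.1 • CD.ev x q.1.1 q.1.2 (q.1.1.1.erase i) ∈ C.F q.1.2 q.1.1 e
    refine Submodule.add_mem _ (zsmul_mem (C.del_mem _ _ _ _ (hx (CD.up q) trivial)) _)
      (Submodule.sum_mem _ fun i _ => zsmul_mem ?_ _)
    unfold CD.ev
    split_ifs with h
    · exact C.res_mem _ _ _ _ _ _ (hx ⟨(⟨_, h.1⟩, q.1.2), h.2.2⟩ trivial)
    · exact Submodule.zero_mem _

end Tot

/-! ### Polynomials with coefficients in a module -/

/-- `M[y_τ]`. -/
def PM (τ : Type) (M : Type u) [AddCommGroup M] : Type u := (τ →₀ ℕ) →₀ M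

namespace PM

variable {τ : Type} {M N : Type u} [AddCommGroup M] [AddCommGroup N]

noncomputable instance : AddCommGroup (PM τ M) := inferInstanceAs (AddCommGroup ((τ →₀ ℕ) →₀ M))

/-- The underlying finitely supported function. -/
def toFun' (x : PM τ M) : (τ →₀ ℕ) →₀ M := x

/-- The coefficient of `x` at `μ`. -/
def coeff (μ : τ →₀ ℕ) (x : PM τ M) : M := toFun' x μ

@[ext] lemma ext {x y : PM τ M} (h : ∀ μ, coeff μ x = coeff μ y) : x = y :=
  Finsupp.ext (f := toFun' x) (g := toFun' y) h

@[simp] lemma coeff_zero (μ : τ →₀ ℕ) : coeff μ (0 : PM τ M) = 0 := rfl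
@[simp] lemma coeff_add (μ : τ →₀ ℕ) (x y : PM τ M) : coeff μ (x + y) = coeff μ x + coeff μ y := rfl
@[simp] lemma coeff_neg (μ : τ →₀ ℕ) (x : PM τ M) : coeff μ (-x) = - coeff μ x := rfl
@[simp] lemma coeff_sub (μ : τ →₀ ℕ) (x y : PM τ M) : coeff μ (x - y) = coeff μ x - coeff μ y := rfl

/-- `m ↦ m y^μ`. -/
noncomputable def single (μ : τ →₀ ℕ) (m : M) : PM τ M := (Finsupp.single μ m : (τ →₀ ℕ) →₀ M)

open Classical in
lemma coeff_single (μ ν : τ →₀ ℕ) (m : M) : coeff ν (single μ m) = if μ = ν then m else 0 :=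
  Finsupp.single_apply

/-- Multiplication by `y^μ`. -/
noncomputable def sh (μ : τ →₀ ℕ) : PM τ M →+ PM τ M :=
  Finsupp.mapDomain.addMonoidHom (fun ν => μ + ν)

lemma coeff_sh_add (μ ν : τ →₀ ℕ) (x : PM τ M) : coeff (μ + ν) (sh μ x) = coeff ν x :=
  Finsupp.mapDomain_apply (add_right_injective μ) (toFun' x) ν

lemma coeff_sh_of_not (μ ν : τ →₀ ℕ) (x : PM τ M) (h : ¬ μ ≤ ν) : coeff ν (sh μ x) = 0 := by
  refine Finsupp.mapDomain_of_notMem_range (toFun' x) ν ?_
  rintro ⟨ν', rfl⟩
  exact h le_self_add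

section

variable {S : Type*} [CommRing S] [Module S M] [Module S N]

noncomputable instance : Module S (PM τ M) := inferInstanceAs (Module S ((τ →₀ ℕ) →₀ M))

@[simp] lemma coeff_smul (μ : τ →₀ ℕ) (a : S) (x : PM τ M) : coeff μ (a • x) = a • coeff μ x := rfl

variable (S M) in
/-- Multiplication by monomials. -/
noncomputable def shift : Multiplicative (τ →₀ ℕ) →* Module.End S (PM τ M) where
  toFun μ := Finsupp.lmapDomain M S (fun ν => Multiplicative.toAdd μ + ν)
  map_one' := by
    refine LinearMap.ext fun x => ?_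
    change Finsupp.mapDomain (fun ν : τ →₀ ℕ => (0 : τ →₀ ℕ) + ν) (toFun' x) = toFun' x
    simp only [zero_add]
    exact Finsupp.mapDomain_id
  map_mul' μ ν := by
    refine LinearMap.ext fun x => ?_
    change Finsupp.mapDomain (fun z : τ →₀ ℕ => Multiplicative.toAdd (μ * ν) + z) (toFun' x) =
      Finsupp.mapDomain (fun z => Multiplicative.toAdd μ + z)
        (Finsupp.mapDomain (fun z => Multiplicative.toAdd ν + z) (toFun' x))
    rw [← Finsupp.mapDomain_comp]
    congr 1
    funext z
    exact add_assoc _ _ _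

variable (S M) in
/-- The ring map `S[y] → End (M[y])`. -/
noncomputable def act : MvPolynomial τ S →ₐ[S] Module.End S (PM τ M) :=
  AddMonoidAlgebra.lift S (Module.End S (PM τ M)) (τ →₀ ℕ) (shift M S)

noncomputable instance modP : Module (MvPolynomial τ S) (PM τ M) :=
  Module.compHom (PM τ M) (act M S).toRingHom

lemma smul_def (p : MvPolynomial τ S) (x : PM τ M) : p • x = act M S p x := rfl

instance : IsScalarTower S (MvPolynomial τ S) (PM τ M) := ⟨fun a p x => by
  rw [smul_def, smul_def, map_smul]; rfl⟩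

lemma monomial_smul (μ : τ →₀ ℕ) (a : S) (x : PM τ M) : (monomial μ a) • x = a • sh μ x := by
  rw [smul_def]
  have h : act M S (monomial μ a) = a • shift M S (Multiplicative.ofAdd μ) :=
    AddMonoidAlgebra.lift_single _ _ _
  rw [h]
  rfl

lemma coeff_monomial_smul_add (μ ν : τ →₀ ℕ) (a : S) (x : PM τ M) :
    coeff (μ + ν) (monomial μ a • x) = a • coeff ν x := by
  rw [monomial_smul, coeff_smul, coeff_sh_add]

lemma coeff_monomial_smul_of_not (μ ν : τ →₀ ℕ) (a : S) (x : PM τ M) (h : ¬ μ ≤ ν) :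
    coeff ν (monomial μ a • x) = 0 := by
  rw [monomial_smul, coeff_smul, coeff_sh_of_not _ _ _ h, smul_zero]

end

/-- Functoriality. -/
noncomputable def map (f : M →+ N) : PM τ M →+ PM τ N := Finsupp.mapRange.addMonoidHom f

@[simp] lemma coeff_map (f : M →+ N) (μ : τ →₀ ℕ) (x : PM τ M) : coeff μ (map f x) = f (coeff μ x) :=
  Finsupp.mapRange_apply (f := f) (hf := f.map_zero) (g := toFun' x) (a := μ)

lemma map_sh (f : M →+ N) (μ : τ →₀ ℕ) (x : PM τ M) : map f (sh μ x) = sh μ (map f x) := by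
  ext ν
  by_cases h : μ ≤ ν
  · obtain ⟨ν, rfl⟩ := exists_add_of_le h
    rw [coeff_map, coeff_sh_add, coeff_sh_add, coeff_map]
  · rw [coeff_map, coeff_sh_of_not _ _ _ h, coeff_sh_of_not _ _ _ h, map_zero]

lemma map_smul' {S S' : Type*} [CommRing S] [CommRing S'] [Module S M] [Module S' N] (φ : S →+* S')
    (f : M →+ N) (hf : ∀ (a : S) m, f (a • m) = φ a • f m) (p : MvPolynomial τ S) (x : PM τ M) :
    map f (p • x) = MvPolynomial.map φ p • map f x := by
  induction p using MvPolynomial.induction_on' with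
  | monomial μ a =>
    rw [map_monomial, monomial_smul, monomial_smul, ← map_sh]
    ext ν
    simp only [coeff_map, coeff_smul, hf]
  | add p q hp hq => rw [add_smul, map_add, map_add, add_smul, hp, hq]

/-- Compatibility of the actions of polynomials over `S` and over an `S`-algebra `R`. -/
lemma map_algebraMap_smul {S R : Type*} [CommRing S] [CommRing R] [Algebra S R] [Module S M]
    [Module R M] [IsScalarTower S R M] (p : MvPolynomial τ S) (x : PM τ M) :
    MvPolynomial.map (algebraMap S R) p • x = p • x := by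
  induction p using MvPolynomial.induction_on' with
  | monomial μ a =>
    rw [map_monomial, monomial_smul, monomial_smul]
    ext ν
    simp only [coeff_smul, algebraMap_smul]
  | add p q hp hq => rw [add_smul, map_add, add_smul, hp, hq]

/-- Filtration by degree: `x` has degree `≤ e - w`. -/
def Deg (w e : ℕ) (x : PM τ M) : Prop := ∀ μ, coeff μ x ≠ 0 → μ.degree + w ≤ e

lemma Deg.smul {S : Type*} [CommRing S] [Module S M] {w e m : ℕ} {x : PM τ M} (hx : Deg w e x)
    {p : MvPolynomial τ S} (hp : p.totalDegree ≤ m) : Deg w (e + m) (p • x) := by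
  intro ν hν
  rw [p.as_sum, Finset.sum_smul] at hν
  have h1 : coeff ν (∑ μ ∈ p.support, (monomial μ (p.coeff μ)) • x) =
      ∑ μ ∈ p.support, coeff ν ((monomial μ (p.coeff μ)) • x) :=
    map_sum (AddMonoidHom.mk' (coeff (M := M) ν) (coeff_add ν)) _ _
  rw [h1] at hν
  obtain ⟨μ, hμ, h⟩ := exists_ne_zero_of_sum_ne_zero hν
  by_cases hle : μ ≤ ν
  · obtain ⟨ν, rfl⟩ := exists_add_of_le hle
    rw [coeff_monomial_smul_add] at h
    have h2 : coeff ν x ≠ 0 := fun h3 => h (by rw [h3, smul_zero])
    have h3 := hx ν h2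
    have h4 : μ.degree ≤ p.totalDegree := by
      rw [MvPolynomial.totalDegree_eq]
      refine le_trans (le_of_eq ?_) (Finset.le_sup (f := fun m => Multiset.card (Finsupp.toMultiset m)) hμ)
      rw [Finsupp.card_toMultiset, Finsupp.degree_apply]
      rfl
    rw [map_add]
    omega
  · exact absurd (coeff_monomial_smul_of_not _ _ _ _ hle) h

end PM

/-! ### Diagrams of rings and modules -/

/-- Diagrams of `Λ`-algebras. -/
structure RDiag (Λ : Type u) [CommRing Λ] (P : Type) [Preorder P] where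
  C : P → Type u
  [ring : ∀ s, CommRing (C s)]
  [alg : ∀ s, Algebra Λ (C s)]
  res : ∀ {s t : P}, s ≤ t → (C s →ₐ[Λ] C t)
  res_self : ∀ s (h : s ≤ s) x, res h x = x
  res_res : ∀ {s t u : P} (h : s ≤ t) (h' : t ≤ u) x, res h' (res h x) = res (h.trans h') x

attribute [instance] RDiag.ring RDiag.alg

/-- Morphisms of diagrams of rings over `ψ : Λ → S`. -/
structure RDiag.Hom {Λ S : Type u} [CommRing Λ] [CommRing S] (ψ : Λ →+* S) {P : Type} [Preorder P]
    (C : RDiag Λ P) (D : RDiag S P) where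
  f : ∀ s, C.C s →+* D.C s
  f_alg : ∀ s a, f s (algebraMap Λ (C.C s) a) = algebraMap S (D.C s) (ψ a)
  f_res : ∀ {s t : P} (h : s ≤ t) x, f t (C.res h x) = D.res h (f s x)

/-- Diagrams of modules over a diagram of rings `D`. -/
structure MDiag {S : Type u} [CommRing S] {P : Type} [Preorder P] (D : RDiag S P) where
  M : P → Type u
  [grp : ∀ s, AddCommGroup (M s)]
  [mod : ∀ s, Module (D.C s) (M s)]
  [modS : ∀ s, Module S (M s)]
  [tower : ∀ s, IsScalarTower S (D.C s) (M s)]
  res : ∀ {s t : P}, s ≤ t → (M s →+ M t)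
  res_smul : ∀ {s t : P} (h : s ≤ t) (c : D.C s) m, res h (c • m) = D.res h c • res h m
  res_self : ∀ s (h : s ≤ s) x, res h x = x
  res_res : ∀ {s t u : P} (h : s ≤ t) (h' : t ≤ u) x, res h' (res h x) = res (h.trans h') x

attribute [instance] MDiag.grp MDiag.mod MDiag.modS MDiag.tower

lemma MDiag.res_smulS {S : Type u} [CommRing S] {P : Type} [Preorder P] {D : RDiag S P}
    (M : MDiag D) {s t : P} (h : s ≤ t) (a : S) (m : M.M s) : M.res h (a • m) = a • M.res h m := by
  rw [← algebraMap_smul (D.C s) a m, M.res_smul, AlgHom.commutes, algebraMap_smul]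

/-- Complexes of finite free filtered diagrams `⊕ D(≥ s)[y](-w)` over a diagram of rings `D`:
generators `J j` with location `loc` and weight `w`, differential `e_a ↦ ∑ b, δ a b • e_b`. -/
structure LData {S : Type u} [CommRing S] {P : Type} [Preorder P] (D : RDiag S P) (τ : Type) where
  J : ℕ → Type
  [fin : ∀ j, Fintype (J j)]
  loc : ∀ j, J j → P
  w : ∀ j, J j → ℕ
  δ : ∀ j (a : J (j + 1)), J j → MvPolynomial τ (D.C (loc (j + 1) a))
  δ_loc : ∀ j a b, δ j a b ≠ 0 → loc j b ≤ loc (j + 1) a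
  δ_deg : ∀ j a b, δ j a b = 0 ∨ (δ j a b).totalDegree + w j b ≤ w (j + 1) a
  δ_δ : ∀ j (a : J (j + 2)) (c : J j) (g : ∀ b : J (j + 1), MvPolynomial τ (D.C (loc (j + 2) a))),
    (∀ b (h : loc (j + 1) b ≤ loc (j + 2) a), g b = MvPolynomial.map (D.res h).toRingHom (δ j b c)) →
    ∑ b, δ (j + 1) a b * g b = 0

attribute [instance] LData.fin

namespace LData

variable {Λ S : Type u} [CommRing Λ] [CommRing S] {τ : Type}

/-- Base change of free diagrams. -/
noncomputable def map {P : Type} [Preorder P] {C : RDiag Λ P} {D : RDiag S P} (L : LData C τ)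
    {ψ : Λ →+* S} (i : RDiag.Hom ψ C D) : LData D τ where
  J := L.J
  loc := L.loc
  w := L.w
  δ j a b := MvPolynomial.map (i.f _) (L.δ j a b)
  δ_loc j a b h := L.δ_loc j a b fun h' => h (by rw [h', map_zero])
  δ_deg j a b := by
    rcases L.δ_deg j a b with h | h
    · left; rw [h, map_zero]
    · right
      exact le_trans (Nat.add_le_add_right (Finset.sup_mono (MvPolynomial.support_map_subset _ _)) _) h
  δ_δ j a c g hg := by
    classical
    let g₀ : ∀ b : L.J (j + 1), MvPolynomial τ (C.C (L.loc (j + 2) a)) := fun b =>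
      if h : L.loc (j + 1) b ≤ L.loc (j + 2) a then
        MvPolynomial.map (C.res h).toRingHom (L.δ j b c) else 0
    have h0 := congrArg (MvPolynomial.map (i.f (L.loc (j + 2) a))) (L.δ_δ j a c g₀ (fun b h => by
      simp only [g₀, dif_pos h]))
    rw [map_sum, map_zero] at h0
    refine Eq.trans (Finset.sum_congr rfl fun b _ => ?_) h0
    rw [map_mul]
    by_cases h : L.loc (j + 1) b ≤ L.loc (j + 2) a
    · congr 1
      rw [hg b h]
      simp only [g₀, dif_pos h]
      rw [MvPolynomial.map_map, MvPolynomial.map_map]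
      congr 2
      ext x
      exact (i.f_res h x).symm
    · have : L.δ (j + 1) a b = 0 := by
        by_contra h'
        exact h (L.δ_loc _ _ _ h')
      rw [this, map_zero, zero_mul, zero_mul]

variable {ι : Type} [LinearOrder ι] {D : RDiag S (NE ι)} (L : LData D τ) (M : MDiag D)

/-- The generators of `L_j (s)`. -/
abbrev G (j : ℕ) (s : NE ι) : Type := {b : L.J j // L.loc j b ≤ s}

/-- The differential of `L ⊗ M` at `s`. -/
noncomputable def del (j : ℕ) (s : NE ι) :
    (L.G (j + 1) s → PM τ (M.M s)) →ₗ[MvPolynomial τ S] (L.G j s → PM τ (M.M s)) where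
  toFun v b := by
    classical exact ∑ a : L.G (j + 1) s,
      MvPolynomial.map (D.res a.2).toRingHom (L.δ j a.1 b.1) • v a
  map_add' v v' := by
    funext b
    simp only [Pi.add_apply, smul_add, Finset.sum_add_distrib]
  map_smul' p v := by
    funext b
    simp only [Pi.smul_apply, RingHom.id_apply, Finset.smul_sum]
    refine Finset.sum_congr rfl fun a _ => ?_
    rw [← PM.map_algebraMap_smul (R := D.C s) p, ← PM.map_algebraMap_smul (R := D.C s) p, smul_smul,
      smul_smul, mul_comm]

open Classical in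
lemma del_apply (j : ℕ) (s : NE ι) (v : L.G (j + 1) s → PM τ (M.M s)) (b : L.G j s) :
    L.del M j s v b = ∑ a : L.G (j + 1) s,
      MvPolynomial.map (D.res a.2).toRingHom (L.δ j a.1 b.1) • v a := by
  unfold del
  change (∑ a : L.G (j + 1) s, _) = _
  congr!

lemma del_del (j : ℕ) (s : NE ι) (v : L.G (j + 2) s → PM τ (M.M s)) :
    L.del M j s (L.del M (j + 1) s v) = 0 := by
  classical
  funext c
  rw [del_apply, Pi.zero_apply]
  simp only [del_apply, Finset.smul_sum, smul_smul]
  rw [Finset.sum_comm]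
  refine Finset.sum_eq_zero fun a _ => ?_
  rw [← Finset.sum_smul]
  have : (∑ b : L.G (j + 1) s, MvPolynomial.map (D.res b.2).toRingHom (L.δ j b.1 c.1) *
      MvPolynomial.map (D.res a.2).toRingHom (L.δ (j + 1) a.1 b.1)) = 0 := by
    let g : ∀ b : L.J (j + 1), MvPolynomial τ (D.C (L.loc (j + 2) a.1)) := fun b =>
      if h : L.loc (j + 1) b ≤ L.loc (j + 2) a.1 then
        MvPolynomial.map (D.res h).toRingHom (L.δ j b c.1) else 0
    have h0 := congrArg (MvPolynomial.map (D.res a.2).toRingHom) (L.δ_δ j a.1 c.1 g (fun b h => by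
      simp only [g, dif_pos h]))
    rw [map_sum, map_zero] at h0
    rw [← h0]
    let h : L.J (j + 1) → MvPolynomial τ (D.C s) := fun b =>
      if hb : L.loc (j + 1) b ≤ s then MvPolynomial.map (D.res hb).toRingHom (L.δ j b c.1) *
        MvPolynomial.map (D.res a.2).toRingHom (L.δ (j + 1) a.1 b) else 0
    have e1 : ∀ b, MvPolynomial.map (D.res a.2).toRingHom (L.δ (j + 1) a.1 b * g b) = h b := by
      intro b
      by_cases hba : L.loc (j + 1) b ≤ L.loc (j + 2) a.1
      · simp only [g, h, dif_pos hba, dif_pos (hba.trans a.2)]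
        rw [map_mul, MvPolynomial.map_map, mul_comm]
        congr 3
        ext x
        exact D.res_res hba a.2 x
      · have h0 : L.δ (j + 1) a.1 b = 0 := by
          by_contra h'
          exact hba (L.δ_loc _ _ _ h')
        simp only [h, h0, map_zero, mul_zero, zero_mul, dite_eq_ite, ite_self]
    rw [Finset.sum_congr rfl fun b _ => e1 b]
    rw [← Finset.sum_subset (Finset.filter_subset (fun b => L.loc (j + 1) b ≤ s) Finset.univ)
      (fun b _ hb => by
        have hb' : ¬ L.loc (j + 1) b ≤ s := fun h' => hb (by simp [h'])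
        simp only [dif_neg hb'])]
    rw [Finset.sum_subtype (p := fun b => L.loc (j + 1) b ≤ s) _ (fun b => by simp)]
    exact Finset.sum_congr rfl fun b _ => by simp only [dif_pos b.2]
  rw [this, zero_smul]

/-- Restriction for `L ⊗ M`. -/
noncomputable def res (j : ℕ) {s t : NE ι} (hst : s ≤ t) :
    (L.G j s → PM τ (M.M s)) →ₗ[MvPolynomial τ S] (L.G j t → PM τ (M.M t)) where
  toFun v b := by
    classical exact if h : L.loc j b.1 ≤ s then PM.map (M.res hst) (v ⟨b.1, h⟩) else 0
  map_add' v v' := by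
    classical
    funext b
    by_cases h : L.loc j b.1 ≤ s
    · simp only [Pi.add_apply, dif_pos h, map_add]
    · simp only [Pi.add_apply, dif_neg h, add_zero]
  map_smul' p v := by
    classical
    funext b
    by_cases h : L.loc j b.1 ≤ s
    · simp only [Pi.smul_apply, RingHom.id_apply, dif_pos h]
      rw [PM.map_smul' (RingHom.id S) (M.res hst) (fun a m => M.res_smulS hst a m), MvPolynomial.map_id]
    · simp only [Pi.smul_apply, RingHom.id_apply, dif_neg h, smul_zero]

lemma res_of (j : ℕ) {s t : NE ι} (hst : s ≤ t) (v : L.G j s → PM τ (M.M s)) (b : L.G j t)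
    (h : L.loc j b.1 ≤ s) : L.res M j hst v b = PM.map (M.res hst) (v ⟨b.1, h⟩) := dif_pos h

lemma res_of_not (j : ℕ) {s t : NE ι} (hst : s ≤ t) (v : L.G j s → PM τ (M.M s)) (b : L.G j t)
    (h : ¬ L.loc j b.1 ≤ s) : L.res M j hst v b = 0 := dif_neg h

lemma res_self (j : ℕ) (s : NE ι) (h : s ≤ s) (v : L.G j s → PM τ (M.M s)) :
    L.res M j h v = v := by
  funext b
  rw [res_of _ _ _ _ _ _ b.2]
  ext μ
  rw [PM.coeff_map, M.res_self]

lemma res_res (j : ℕ) {s t t' : NE ι} (h : s ≤ t) (h' : t ≤ t') (v : L.G j s → PM τ (M.M s)) :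
    L.res M j h' (L.res M j h v) = L.res M j (h.trans h') v := by
  funext b
  by_cases hb : L.loc j b.1 ≤ s
  · rw [res_of _ _ _ _ _ _ (hb.trans h), res_of _ _ _ _ _ ⟨b.1, hb.trans h⟩ hb,
      res_of _ _ _ _ _ _ hb]
    ext μ
    rw [PM.coeff_map, PM.coeff_map, PM.coeff_map, M.res_res]
  · rw [res_of_not _ _ _ (h.trans h') _ _ hb]
    by_cases hb' : L.loc j b.1 ≤ t
    · rw [res_of _ _ _ _ _ _ hb', res_of_not _ _ _ _ _ ⟨b.1, hb'⟩ hb, map_zero]
    · rw [res_of_not _ _ _ _ _ _ hb']

lemma del_res (j : ℕ) {s t : NE ι} (h : s ≤ t) (v : L.G (j + 1) s → PM τ (M.M s)) :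
    L.res M j h (L.del M j s v) = L.del M j t (L.res M (j + 1) h v) := by
  classical
  funext b
  rw [del_apply]
  have key : ∀ a : L.G (j + 1) t, (L.loc (j + 1) a.1 ≤ s → False) ∨ L.loc (j + 1) a.1 ≤ s := by tauto
  by_cases hb : L.loc j b.1 ≤ s
  · rw [res_of _ _ _ _ _ _ hb, del_apply, map_sum]
    let f : L.J (j + 1) → PM τ (M.M t) := fun a => if ha : L.loc (j + 1) a ≤ s then
      MvPolynomial.map (D.res (ha.trans h)).toRingHom (L.δ j a b.1) •
        PM.map (M.res h) (v ⟨a, ha⟩) else 0
    have e1 : ∀ a : L.G (j + 1) s, PM.map (M.res h)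
        (MvPolynomial.map (D.res a.2).toRingHom (L.δ j a.1 b.1) • v a) = f a.1 := by
      intro a
      simp only [f, dif_pos a.2]
      rw [PM.map_smul' (D.res h).toRingHom (M.res h) (fun c m => M.res_smul h c m),
        MvPolynomial.map_map]
      congr 3
      ext x
      exact D.res_res a.2 h x
    have e2 : ∀ a : L.G (j + 1) t, MvPolynomial.map (D.res a.2).toRingHom (L.δ j a.1 b.1) •
        L.res M (j + 1) h v a = f a.1 := by
      intro a
      by_cases ha : L.loc (j + 1) a.1 ≤ s
      · rw [res_of _ _ _ _ _ _ ha]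
        simp only [f, dif_pos ha]
      · rw [res_of_not _ _ _ _ _ _ ha, smul_zero]
        simp only [f, dif_neg ha]
    rw [Finset.sum_congr rfl fun a _ => e1 a, Finset.sum_congr rfl fun a _ => e2 a]
    rw [← Finset.sum_subtype (Finset.univ.filter fun a => L.loc (j + 1) a ≤ s) (fun b => by simp) f,
      ← Finset.sum_subtype (Finset.univ.filter fun a => L.loc (j + 1) a ≤ t) (fun b => by simp) f]
    refine Finset.sum_subset (fun a ha => ?_) (fun a _ ha => ?_)
    · simp only [Finset.mem_filter, Finset.mem_univ, true_and] at ha ⊢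
      exact ha.trans h
    · simp only [Finset.mem_filter, Finset.mem_univ, true_and] at ha
      simp only [f, dif_neg ha]
  · rw [res_of_not _ _ _ _ _ _ hb]
    symm
    refine Finset.sum_eq_zero fun a _ => ?_
    by_cases ha : L.loc (j + 1) a.1 ≤ s
    · have h0 : L.δ j a.1 b.1 = 0 := by
        by_contra h'
        exact hb ((L.δ_loc _ _ _ h').trans ha)
      rw [h0, map_zero, zero_smul]
    · rw [res_of_not _ _ _ _ _ _ ha, smul_zero]

/-- `L ⊗ M` as a filtered complex of diagrams. -/
noncomputable def tensor : FCD S τ ι where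
  E j s := L.G j s → PM τ (M.M s)
  del j s := L.del M j s
  del_del j s x := L.del_del M j s x
  res j s t h := L.res M j h
  res_self j s h x := L.res_self M j s h x
  res_res j s t u h h' x := L.res_res M j h h' x
  del_res j s t h x := L.del_res M j h x
  F j s e :=
    { carrier := {v | ∀ b, PM.Deg (L.w j b.1) e (v b)}
      add_mem' := by
        intro v v' hv hv' b μ h
        by_cases h1 : PM.coeff μ (v b) = 0
        · exact hv' b μ fun h2 => h (by rw [Pi.add_apply, PM.coeff_add, h1, h2, add_zero])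
        · exact hv b μ h1
      zero_mem' := fun b μ h => absurd rfl h
      smul_mem' := by
        intro a v hv b μ h
        exact hv b μ fun h1 => h (by rw [Pi.smul_apply, PM.coeff_smul, h1, smul_zero]) }
  mono j s e e' h v hv b μ hμ := (hv b μ hμ).trans h
  exh j s v := by
    classical
    refine ⟨Finset.univ.sup fun b : L.G j s => (PM.toFun' (v b)).support.sup fun μ =>
      μ.degree + L.w j b.1, fun b μ h => ?_⟩
    refine le_trans ?_ (Finset.le_sup (Finset.mem_univ b))
    exact Finset.le_sup (f := fun μ => μ.degree + L.w j b.1) (Finsupp.mem_support_iff.2 h)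
  smul_mem j s e m p v hp hv b := (hv b).smul hp
  del_mem j s e v hv b := by
    classical
    rw [del_apply]
    intro μ hμ
    have h1 : PM.coeff μ (∑ a : L.G (j + 1) s,
        MvPolynomial.map (D.res a.2).toRingHom (L.δ j a.1 b.1) • v a) =
        ∑ a : L.G (j + 1) s, PM.coeff μ
          (MvPolynomial.map (D.res a.2).toRingHom (L.δ j a.1 b.1) • v a) :=
      map_sum (AddMonoidHom.mk' (PM.coeff (M := M.M s) μ) (PM.coeff_add μ)) _ _
    rw [h1] at hμ
    obtain ⟨a, -, ha⟩ := exists_ne_zero_of_sum_ne_zero hμ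
    rcases L.δ_deg j a.1 b.1 with h | h
    · rw [h, map_zero, zero_smul] at ha
      exact absurd rfl ha
    · have h2 : PM.Deg (L.w (j + 1) a.1) (e + (L.δ j a.1 b.1).totalDegree)
          (MvPolynomial.map (D.res a.2).toRingHom (L.δ j a.1 b.1) • v a) :=
        (hv a).smul (Finset.sup_mono (MvPolynomial.support_map_subset _ _))
      have := h2 μ ha
      omega
  res_mem j s t h e v hv b μ hμ := by
    by_cases hb : L.loc j b.1 ≤ s
    · rw [res_of _ _ _ _ _ _ hb, PM.coeff_map] at hμ
      exact hv ⟨b.1, hb⟩ μ fun h' => hμ (by rw [h', map_zero])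
    · rw [res_of_not _ _ _ _ _ _ hb] at hμ
      exact absurd rfl hμ

end LData

end Groth.Agent.Flat2B.GEx
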