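import Groth.Agent.Flat2B.GExEndAlg
import Groth.Agent.Flat2B.FlatCrit
import Groth.Agent.S1244
import Groth.Agent.PerfC.FPSections

/-!
# S1270 (Stacks 0CTK): the end game (E1)
-/

set_option autoImplicit false
universe u

open CategoryTheory CategoryTheory.Limits AlgebraicGeometry MvPolynomial TensorProduct

namespace Groth.Agent.Flat2B.GEx

open GExGlob

/-- `ker (π 0)` lies in the Jacobson radical. -/
theorem ker_le_jacobson {A : Type u} [CommRing A] (A' : ℕ → Type u) [∀ n, CommRing (A' n)]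
    (φ : ∀ n, A' (n + 1) →+* A' n) (π : ∀ n, A →+* A' n) (hlim : FlatCA.IsRingLimit A A' φ π)
    (hsurj : ∀ n, Function.Surjective (φ n)) (hnil : ∀ n, ∀ x ∈ RingHom.ker (φ n), IsNilpotent x) :
    RingHom.ker (π 0) ≤ Ideal.jacobson ⊥ := by
  intro a ha
  rw [Ideal.mem_jacobson_bot]
  intro b
  refine S1244.isUnit_of_isUnit_pi_zero A' φ π hlim hsurj hnil _ ?_
  rw [map_add, map_mul, (RingHom.mem_ker).1 ha, zero_mul, zero_add, map_one]
  exact isUnit_one

section

variable {A : Type u} [CommRing A] {A' : ℕ → Type u} [∀ n, CommRing (A' n)] {π : ∀ n, A →+* A' n}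
    {X : Scheme.{u}} {f : X ⟶ Spec (CommRingCat.of A)} {Xn : ℕ → Scheme.{u}} {j : ∀ n, Xn n ⟶ X}
    {F : ∀ n, (Xn n).Modules} {t : ℕ} {H : ℕ → X.Modules}
    {c : ∀ n, H t ⟶ (Scheme.Modules.pushforward (j n)).obj (F n)} {U : X.Opens}

theorem EndData.homDesc (D : EndData π f j F t H c U) (k : ℕ) (hk : k ≤ t) : HomDesc D.K D.ψ k (D.a k) where
  add := D.a_add k hk
  smul := D.a_smul k hk
  surj := D.a_surj k hk
  ker := D.a_ker k hk

theorem EndData.exactLT (D : EndData π f j F t H c U) (r : ℕ) (hr : r ≤ t)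
    (h : ∀ k < r, Subsingleton Γ(H k, U)) : ExactLT D.K r := by
  intro k hk x hx
  have := h k hk
  exact (D.a_ker k (by omega) x ((D.K.mem_cyc_iff k x).1 hx)).1 (Subsingleton.elim _ _)

/-- the sections of `H k`, `k < t`, are divisible by `ker (π 0)`. -/
theorem EndData.top_le (D : EndData π f j F t H c U) (hπ : Function.Surjective (π 0)) (k : ℕ) (hk : k < t)
    (h : ∀ i < k, Subsingleton Γ(H i, U)) :
    (⊤ : Submodule Γ(X, U) Γ(H k, U)) ≤ (RingHom.ker (π 0)).map (aMap f U) • ⊤ := by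
  intro s _
  obtain ⟨v, hv, rfl⟩ := D.a_surj k hk.le s
  obtain ⟨w, hw⟩ := D.exact k (Or.inl hk) (D.K.mapVec (π 0) v) (D.K.map_isCyc (π 0) hv)
  have := (D.homDesc k hk.le).mem_smul_top (D.exactLT k hk.le h) (π 0) hπ v hv w hw
  rwa [show D.ψ.comp C = aMap f U from RingHom.ext D.ψ_C] at this

theorem EndData.ker_c (D : EndData π f j F t H c U) (h : ∀ i < t, Subsingleton Γ(H i, U)) (n : ℕ)
    (hπ : Function.Surjective (π n)) (s : Γ(H t, U)) (hs : (c n).app U s = 0) :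
    s ∈ ((RingHom.ker (π n)).map (aMap f U) • ⊤ : Submodule Γ(X, U) Γ(H t, U)) := by
  obtain ⟨v, hv, rfl⟩ := D.a_surj t le_rfl s
  obtain ⟨w, hw⟩ := D.c_ker n v hv hs
  have := (D.homDesc t le_rfl).mem_smul_top (D.exactLT t le_rfl h) (π n) hπ v hv w hw
  rwa [show D.ψ.comp C = aMap f U from RingHom.ext D.ψ_C] at this

theorem EndData.finitePresentation (D : EndData π f j F t H c U) (r : ℕ) (hr : r ≤ t)
    (h : ∀ k < r, Subsingleton Γ(H k, U)) : Module.FinitePresentation Γ(X, U) Γ(H r, U) := by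
  have := D.finτ
  exact (D.homDesc r hr).finitePresentation D.ψ_surj (D.exactLT r hr h)

end

theorem exists_primeIdealOf_eq {X : Scheme.{u}} {V : X.Opens} (hV : IsAffineOpen V) (p : PrimeSpectrum Γ(X, V)) :
    ∃ (x : X) (hx : x ∈ V), hV.primeIdealOf ⟨x, hx⟩ = p := by
  have h : hV.fromSpec p ∈ V := by
    have : hV.fromSpec p ∈ Set.range hV.fromSpec := ⟨p, rfl⟩
    rwa [hV.range_fromSpec] at this
  refine ⟨hV.fromSpec p, h, ?_⟩
  apply hV.fromSpec.isOpenEmbedding.injective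
  exact hV.fromSpec_primeIdealOf ⟨hV.fromSpec p, h⟩

/-- Sections of a flat quasi-coherent module over an affine open are flat. -/
theorem flat_sections {A : Type u} [CommRing A] {X : Scheme.{u}} (f : X ⟶ Spec (CommRingCat.of A))
    (G : X.Modules) (hG : Coh.IsQCoh G) (hfl : FlatMod.IsFlatOver f G) {U : X.Opens} (hU : IsAffineOpen U) :
    letI := aModule f G U
    Module.Flat A Γ(G, U) := by
  let i1 : Algebra A Γ(X, U) := aAlgebra f U
  let i2 : Module A Γ(G, U) := aModule f G U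
  have i3 : IsScalarTower A Γ(X, U) Γ(G, U) := isScalarTower_a f G U
  refine (Flat2C.FlatSec.flat_iff_flatAt (R := A) (S := Γ(X, U))).2 (fun q hq => ?_)
  obtain ⟨x, hx, h⟩ := exists_primeIdealOf_eq hU ⟨q, hq⟩
  have h1 := (isFlatOverAt_iff f G hG hU x hx).1 (hfl x)
  exact FlatSecAt.congr (q := ⟨q, hq⟩) h h1

theorem flat_tensor_of {A A₀ M N : Type u} [CommRing A] [CommRing A₀] [Algebra A A₀] [AddCommGroup M] [Module A M]
    [AddCommGroup N] [Module A₀ N] [Module.Flat A₀ N] (hs : Function.Surjective (algebraMap A A₀)) (c : M →+ N)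
    (hc : ∀ (a : A) m, c (a • m) = algebraMap A A₀ a • c m) (hcs : Function.Surjective c)
    (hck : ∀ m, c m = 0 → m ∈ (RingHom.ker (algebraMap A A₀) • ⊤ : Submodule A M)) :
    Module.Flat A₀ (A₀ ⊗[A] M) := by
  let i1 : Module A N := Module.compHom N (algebraMap A A₀)
  have i2 : IsScalarTower A A₀ N := IsScalarTower.of_algebraMap_smul (fun _ _ => rfl)
  let cl : M →ₗ[A] N := { c with map_smul' := hc }
  let Φ : A₀ ⊗[A] M →ₗ[A₀] N := TensorProduct.AlgebraTensorModule.lift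
    ((LinearMap.lsmul A₀ (M →ₗ[A] N)).flip cl)
  have hΦ : ∀ s m, Φ (s ⊗ₜ m) = s • c m := fun s m => rfl
  have hgen : ∀ (x : A₀ ⊗[A] M), ∃ v : M, x = 1 ⊗ₜ v := by
    intro x
    induction x using TensorProduct.induction_on with
    | zero => exact ⟨0, (tmul_zero _ _).symm⟩
    | tmul s v =>
      obtain ⟨b, rfl⟩ := hs s
      exact ⟨b • v, by rw [Algebra.algebraMap_eq_smul_one, smul_tmul]⟩
    | add x y hx hy =>
      obtain ⟨v, rfl⟩ := hx
      obtain ⟨w, rfl⟩ := hy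
      exact ⟨v + w, (tmul_add _ _ _).symm⟩
  have hinj : Function.Injective Φ := by
    rw [injective_iff_map_eq_zero]
    intro x hx
    obtain ⟨m, rfl⟩ := hgen x
    rw [hΦ, one_smul] at hx
    refine Submodule.smul_induction_on (p := fun m => (1 : A₀) ⊗ₜ[A] m = 0) (hck m hx) (fun r hr n _ => ?_) (fun x y hx hy => by rw [tmul_add, hx, hy, add_zero])
    rw [← smul_tmul, Algebra.smul_def, (RingHom.mem_ker).1 hr, zero_mul, zero_tmul]
  have hsurj : Function.Surjective Φ := by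
    intro n
    obtain ⟨m, rfl⟩ := hcs n
    exact ⟨1 ⊗ₜ m, by rw [hΦ, one_smul]⟩
  exact Module.Flat.of_linearEquiv (LinearEquiv.ofBijective Φ ⟨hinj, hsurj⟩)

/-- E1, the end game. -/
theorem endgame {A : Type u} [CommRing A] (A' : ℕ → Type u) [∀ n, CommRing (A' n)]
    (φ : ∀ n, A' (n + 1) →+* A' n) (π : ∀ n, A →+* A' n) (hlim : FlatCA.IsRingLimit A A' φ π)
    (hsurj : ∀ n, Function.Surjective (φ n)) (hnil : ∀ n, ∀ x ∈ RingHom.ker (φ n), IsNilpotent x)
    {X : Scheme.{u}} (f : X ⟶ Spec (CommRingCat.of A)) [IsProper f] [LocallyOfFinitePresentation f]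
    (Xn : ℕ → Scheme.{u}) (j : ∀ n, Xn n ⟶ X) (g : ∀ n, Xn n ⟶ Spec (CommRingCat.of (A' n)))
    (hpb : ∀ n, IsPullback (j n) (g n) f (Spec.map (CommRingCat.ofHom (π n))))
    (F : ∀ n, (Xn n).Modules) (hfp : ∀ n, CohB1.IsFP (F n)) (hfl : ∀ n, FlatMod.IsFlatOver (g n) (F n))
    (t : ℕ) (H : ℕ → X.Modules) (hH : ∀ k ≤ t, Coh.IsQCoh (H k))
    (c : ∀ n, H t ⟶ (Scheme.Modules.pushforward (j n)).obj (F n))
    {κ : Type u} (U : κ → X.Opens) (hU : ∀ i, IsAffineOpen (U i)) (hcov : ⨆ i, U i = ⊤)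
    (D : ∀ i, EndData π f j F t H c (U i)) :
    CohB1.IsFP (H t) ∧ FlatMod.IsFlatOver f (H t) ∧
      ∀ n, Nonempty ((Scheme.Modules.pullback (j n)).obj (H t) ≅ F n) := by
  have hI := ker_le_jacobson A' φ π hlim hsurj hnil
  have hπ : ∀ n, Function.Surjective (π n) := fun n => S1244.pi_surjective A' φ π hlim hsurj n
  have hcov' : ∀ x : X, ∃ i, x ∈ U i := by
    intro x
    have : x ∈ (⨆ i, U i : X.Opens) := by rw [hcov]; trivial
    exact TopologicalSpace.Opens.mem_iSup.1 this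
  have hzero : ∀ k, k < t → IsZero (H k) := by
    intro k
    induction k using Nat.strong_induction_on with
    | _ k ih =>
      intro hk
      have hsub : ∀ i, ∀ l < k, Subsingleton Γ(H l, U i) := fun i l hl =>
        subsingleton_sections_of_isZero (ih l hl (by omega)) _
      refine isZero_of_le_smul f (RingHom.ker (π 0)) hI (H k) (hH k hk.le) (fun x => ?_)
      obtain ⟨i, hx⟩ := hcov' x
      have := (D i).finitePresentation k hk.le (hsub i)
      exact ⟨U i, hU i, hx, inferInstance, (D i).top_le (hπ 0) k hk (hsub i)⟩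
  have hsub : ∀ i, ∀ l < t, Subsingleton Γ(H l, U i) := fun i l hl =>
    subsingleton_sections_of_isZero (hzero l hl) _
  have hFP : CohB1.IsFP (H t) := by
    refine isFP_of_sections (H t) (hH t le_rfl) (fun x => ?_)
    obtain ⟨i, hx⟩ := hcov' x
    exact ⟨U i, hU i, hx, (D i).finitePresentation t le_rfl (hsub i)⟩
  have hF : ∀ n, Coh.IsQCoh (F n) := fun n => PerfC.FPSections.isQCoh_of_isFP (hfp n)
  refine ⟨hFP, ?_, fun n => ?_⟩
  · refine isFlatOver_of_flatSecAt f (RingHom.ker (π 0)) hI (H t) (hH t le_rfl) hFP (fun x => ?_)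
    obtain ⟨i, hx⟩ := hcov' x
    refine ⟨U i, hU i, hx, fun q _ hq => ?_⟩
    let i1 : Algebra A (A' 0) := (π 0).toAlgebra
    let i2 : Algebra A Γ(X, U i) := aAlgebra f (U i)
    let i3 : Module A Γ(H t, U i) := aModule f (H t) (U i)
    have i4 : IsScalarTower A Γ(X, U i) Γ(H t, U i) := isScalarTower_a f (H t) (U i)
    have hj : IsClosedImmersion (j 0) := isClosedImmersion_of_isPullback (hpb 0) (hπ 0)
    have hV : IsAffineOpen (j 0 ⁻¹ᵁ U i) := (hU i).preimage (j 0)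
    let i5 : Module (A' 0) Γ(F 0, j 0 ⁻¹ᵁ U i) := aModule (g 0) (F 0) (j 0 ⁻¹ᵁ U i)
    have i6 : Module.Flat (A' 0) Γ(F 0, j 0 ⁻¹ᵁ U i) := flat_sections (g 0) (F 0) (hF 0) (hfl 0) hV
    have hfl2 : Module.Flat (A' 0) (A' 0 ⊗[A] Γ(H t, U i)) := by
      refine flat_tensor_of (N := Γ(F 0, j 0 ⁻¹ᵁ U i)) (hπ 0) ((c 0).app (U i)).hom ?_ ((D i).c_surj 0) ?_
      · intro a m
        have h1 := (c 0).app_smul (U := U i) (aMap f (U i) a) m
        refine h1.trans ?_
        let y : Γ(F 0, j 0 ⁻¹ᵁ U i) := (c 0).app (U i) m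
        change (((j 0).app (U i)).hom (aMap f (U i) a)) • y = _
        rw [app_aMap (hpb 0)]
        rfl
      · intro m hm
        have h1 := (D i).ker_c (hsub i) 0 (hπ 0) m hm
        have h2 := Ideal.smul_restrictScalars (R := A) (S := Γ(X, U i)) (RingHom.ker (π 0))
          (⊤ : Submodule Γ(X, U i) Γ(H t, U i))
        rw [Submodule.restrictScalars_top] at h2
        have h3 : m ∈ (RingHom.ker (π 0) • ⊤ : Submodule A Γ(H t, U i)) := by
          rw [← h2]
          exact h1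
        exact h3
    have := (D i).finτ
    exact ((D i).homDesc t le_rfl).flatAt (D i).ψ_surj ((D i).exactLT t le_rfl (hsub i)) (A₀ := A' 0) (hπ 0)
      ((D i).exact (t + 1) (Or.inr rfl)) (D i).ψ_C hfl2 q hq
  · refine nonempty_iso_of_sections (hpb n) (hπ n) (hH t le_rfl) (hF n) (c n) (fun x => ?_)
    obtain ⟨i, hx⟩ := hcov' x
    exact ⟨U i, hU i, hx, (D i).c_surj n, fun s hs => (D i).ker_c (hsub i) n (hπ n) s hs⟩

end Groth.Agent.Flat2B.GEx
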