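import Groth.Agent.Flat2B.GExEnd

/-!
# S1270 (Stacks 0CTK): variant of the end game

`EndData'` is `EndData` with the surjectivity of `Γ(H t, U) → Γ(F n, U_n)` replaced by the condition that every
section of `F n` is the class of a cycle of `K` modulo `ker (π n)`; `endgame'` is the end game for it.
-/

set_option autoImplicit false
universe u

open CategoryTheory CategoryTheory.Limits AlgebraicGeometry MvPolynomial TensorProduct

namespace Groth.Agent.Flat2B.GEx

open GExGlob GExAlg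

/-- Lifting cycles. -/
theorem MatCx.exists_lift {A : Type u} [CommRing A] {τ : Type} (K : MatCx A τ) {r : ℕ} (hex : ExactLT K r)
    {S' : Type u} [CommRing S'] (φ : A →+* S') (hφ : Function.Surjective φ) (v : (K.map φ).P r)
    (hv : (K.map φ).IsCyc r v) : ∃ w : K.P r, K.IsCyc r w ∧ K.mapVec φ w = v := by
  obtain ⟨w, rfl⟩ := K.mapVec_surjective φ hφ v
  cases r with
  | zero => exact ⟨w, trivial, rfl⟩
  | succ k =>
    have h0 : K.mapVec φ (K.d k w) = 0 := by
      have : (K.map φ).d k (K.mapVec φ w) = 0 := hv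
      rwa [K.map_d_mapVec] at this
    obtain ⟨e, he⟩ := exists_retraction (P := K.P) (fun k x => K.d_d k x) k (fun j hj => hex j (by omega))
    obtain ⟨s, hs⟩ := exists_section (P := K.P) (fun k x => K.d_d k x) k hex
    let z : cyc K.P K.d k := ⟨K.d k w, (K.mem_cyc_iff k _).2 (K.d_isCyc k w)⟩
    have hds : K.d k (s z) = K.d k w := congrArg Subtype.val (hs z)
    refine ⟨w - s z, ?_, ?_⟩
    · change K.d k (w - s z) = 0
      rw [map_sub, hds, sub_self]
    · rw [K.mapVec_sub]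
      have h1 : K.mapVec φ (s z) = 0 := by
        apply K.mapVec_eq_zero_of_mem
        have h2 := K.mem_smul_top_of_mapVec_eq_zero φ h0
        have h3 := Submodule.mem_map_of_mem (f := s ∘ₗ e) h2
        rw [Submodule.map_smul''] at h3
        have h4 : (s ∘ₗ e) (K.d k w) = s z := congrArg s (he z)
        rw [h4] at h3
        exact Submodule.smul_mono le_rfl le_top h3
      rw [h1, sub_zero]

/-- The input of the end game on an open `U`, second form. -/
structure EndData' {A : Type u} [CommRing A] {A' : ℕ → Type u} [∀ n, CommRing (A' n)] (π : ∀ n, A →+* A' n)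
    {X : Scheme.{u}} (f : X ⟶ Spec (CommRingCat.of A)) {Xn : ℕ → Scheme.{u}} (j : ∀ n, Xn n ⟶ X)
    (F : ∀ n, (Xn n).Modules) (t : ℕ) (H : ℕ → X.Modules)
    (c : ∀ n, H t ⟶ (Scheme.Modules.pushforward (j n)).obj (F n)) (U : X.Opens) where
  τ : Type
  [finτ : Finite τ]
  ψ : MvPolynomial τ A →+* Γ(X, U)
  ψ_surj : Function.Surjective ψ
  ψ_C : ∀ a, ψ (C a) = GExGlob.aMap f U a
  K : MatCx A τ
  /-- the homology classes of the cycles in degree `k`, as sections of `H k`; only the values on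
  cycles matter -/
  a : ∀ k, (K.J k → MvPolynomial τ A) → Γ(H k, U)
  a_add : ∀ k ≤ t, ∀ v w, K.IsCyc k v → K.IsCyc k w → a k (v + w) = a k v + a k w
  a_smul : ∀ k ≤ t, ∀ (p : MvPolynomial τ A) v, K.IsCyc k v → a k (p • v) = ψ p • a k v
  a_surj : ∀ k ≤ t, ∀ s, ∃ v, K.IsCyc k v ∧ a k v = s
  a_ker : ∀ k ≤ t, ∀ v, K.IsCyc k v → (a k v = 0 ↔ ∃ w, K.d k w = v)
  /-- exactness modulo `ker (π 0)` in degrees `k < t` and `k = t + 1` -/
  exact : ∀ k, k < t ∨ k = t + 1 → ∀ v, (K.map (π 0)).IsCyc k v → ∃ w, (K.map (π 0)).d k w = v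
  /-- every section of `F n` is the class of a cycle modulo `ker (π n)` -/
  c_surj' : ∀ n (s : Γ((Scheme.Modules.pushforward (j n)).obj (F n), U)), ∃ v', (K.map (π n)).IsCyc t v' ∧
    ∀ v, K.IsCyc t v → K.mapVec (π n) v = v' → (c n).app U (a t v) = s
  /-- a cycle whose class dies in `Γ(F n, U_n)` is a boundary modulo `ker (π n)` -/
  c_ker : ∀ n v, K.IsCyc t v → (c n).app U (a t v) = 0 →
    ∃ w, (K.map (π n)).d t w = K.mapVec (π n) v

section

variable {A : Type u} [CommRing A] {A' : ℕ → Type u} [∀ n, CommRing (A' n)] {π : ∀ n, A →+* A' n}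
    {X : Scheme.{u}} {f : X ⟶ Spec (CommRingCat.of A)} {Xn : ℕ → Scheme.{u}} {j : ∀ n, Xn n ⟶ X}
    {F : ∀ n, (Xn n).Modules} {t : ℕ} {H : ℕ → X.Modules}
    {c : ∀ n, H t ⟶ (Scheme.Modules.pushforward (j n)).obj (F n)} {U : X.Opens}

theorem EndData'.homDesc (D : EndData' π f j F t H c U) (k : ℕ) (hk : k ≤ t) : HomDesc D.K D.ψ k (D.a k) where
  add := D.a_add k hk
  smul := D.a_smul k hk
  surj := D.a_surj k hk
  ker := D.a_ker k hk

theorem EndData'.exactLT (D : EndData' π f j F t H c U) (r : ℕ) (hr : r ≤ t)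
    (h : ∀ k < r, Subsingleton Γ(H k, U)) : ExactLT D.K r := by
  intro k hk x hx
  have := h k hk
  exact (D.a_ker k (by omega) x ((D.K.mem_cyc_iff k x).1 hx)).1 (Subsingleton.elim _ _)

theorem EndData'.top_le (D : EndData' π f j F t H c U) (hπ : Function.Surjective (π 0)) (k : ℕ) (hk : k < t)
    (h : ∀ i < k, Subsingleton Γ(H i, U)) :
    (⊤ : Submodule Γ(X, U) Γ(H k, U)) ≤ (RingHom.ker (π 0)).map (aMap f U) • ⊤ := by
  intro s _
  obtain ⟨v, hv, rfl⟩ := D.a_surj k hk.le s
  obtain ⟨w, hw⟩ := D.exact k (Or.inl hk) (D.K.mapVec (π 0) v) (D.K.map_isCyc (π 0) hv)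
  have := (D.homDesc k hk.le).mem_smul_top (D.exactLT k hk.le h) (π 0) hπ v hv w hw
  rwa [show D.ψ.comp C = aMap f U from RingHom.ext D.ψ_C] at this

theorem EndData'.finitePresentation (D : EndData' π f j F t H c U) (r : ℕ) (hr : r ≤ t)
    (h : ∀ k < r, Subsingleton Γ(H k, U)) : Module.FinitePresentation Γ(X, U) Γ(H r, U) := by
  have := D.finτ
  exact (D.homDesc r hr).finitePresentation D.ψ_surj (D.exactLT r hr h)

theorem EndData'.c_surj (D : EndData' π f j F t H c U) (h : ∀ i < t, Subsingleton Γ(H i, U)) (n : ℕ)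
    (hπ : Function.Surjective (π n)) : Function.Surjective ((c n).app U) := by
  intro s
  obtain ⟨v', hv', h'⟩ := D.c_surj' n s
  obtain ⟨v, hv, hvv⟩ := D.K.exists_lift (D.exactLT t le_rfl h) (π n) hπ v' hv'
  exact ⟨D.a t v, h' v hv hvv⟩

/-- Once the higher cohomology sheaves vanish, we get the data of the first form. -/
def EndData'.toEndData (D : EndData' π f j F t H c U) (h : ∀ n, Function.Surjective ((c n).app U)) :
    EndData π f j F t H c U where
  τ := D.τ
  finτ := D.finτ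
  ψ := D.ψ
  ψ_surj := D.ψ_surj
  ψ_C := D.ψ_C
  K := D.K
  a := D.a
  a_add := D.a_add
  a_smul := D.a_smul
  a_surj := D.a_surj
  a_ker := D.a_ker
  exact := D.exact
  c_surj := h
  c_ker := D.c_ker

end

/-- E1, the end game, second form. -/
theorem endgame' {A : Type u} [CommRing A] (A' : ℕ → Type u) [∀ n, CommRing (A' n)]
    (φ : ∀ n, A' (n + 1) →+* A' n) (π : ∀ n, A →+* A' n) (hlim : FlatCA.IsRingLimit A A' φ π)
    (hsurj : ∀ n, Function.Surjective (φ n)) (hnil : ∀ n, ∀ x ∈ RingHom.ker (φ n), IsNilpotent x)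
    {X : Scheme.{u}} (f : X ⟶ Spec (CommRingCat.of A)) [IsProper f] [LocallyOfFinitePresentation f]
    (Xn : ℕ → Scheme.{u}) (j : ∀ n, Xn n ⟶ X) (g : ∀ n, Xn n ⟶ Spec (CommRingCat.of (A' n)))
    (hpb : ∀ n, IsPullback (j n) (g n) f (Spec.map (CommRingCat.ofHom (π n))))
    (F : ∀ n, (Xn n).Modules) (hfp : ∀ n, CohB1.IsFP (F n)) (hfl : ∀ n, FlatMod.IsFlatOver (g n) (F n))
    (t : ℕ) (H : ℕ → X.Modules) (hH : ∀ k ≤ t, Coh.IsQCoh (H k))
    (c : ∀ n, H t ⟶ (Scheme.Modules.pushforward (j n)).obj (F n))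
    {κ : Type u} (U : κ → X.Opens) (hU : ∀ i, IsAffineOpen (U i)) (hcov : ⨆ i, U i = ⊤)
    (D : ∀ i, EndData' π f j F t H c (U i)) :
    CohB1.IsFP (H t) ∧ FlatMod.IsFlatOver f (H t) ∧
      ∀ n, Nonempty ((Scheme.Modules.pullback (j n)).obj (H t) ≅ F n) := by
  have hI := ker_le_jacobson A' φ π hlim hsurj hnil
  have hπ : ∀ n, Function.Surjective (π n) := fun n => S1244.pi_surjective A' φ π hlim hsurj n
  have hcov' : ∀ x : X, ∃ i, x ∈ U i := by
    intro x
    have : x ∈ (⨆ i, U i : X.Opens) := by rw [hcov]; trivial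
    exact TopologicalSpace.Opens.mem_iSup.1 this
  have hzero : ∀ k, k < t → IsZero (H k) := by
    intro k
    induction k using Nat.strong_induction_on with
    | _ k ih =>
      intro hk
      have hsub : ∀ i, ∀ l < k, Subsingleton Γ(H l, U i) := fun i l hl =>
        subsingleton_sections_of_isZero (ih l hl (by omega)) _
      refine isZero_of_le_smul f (RingHom.ker (π 0)) hI (H k) (hH k hk.le) (fun x => ?_)
      obtain ⟨i, hx⟩ := hcov' x
      have := (D i).finitePresentation k hk.le (hsub i)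
      exact ⟨U i, hU i, hx, inferInstance, (D i).top_le (hπ 0) k hk (hsub i)⟩
  have hsub : ∀ i, ∀ l < t, Subsingleton Γ(H l, U i) := fun i l hl =>
    subsingleton_sections_of_isZero (hzero l hl) _
  exact endgame A' φ π hlim hsurj hnil f Xn j g hpb F hfp hfl t H hH c U hU hcov
    (fun i => (D i).toEndData (fun n => (D i).c_surj (hsub i) n (hπ n)))

end Groth.Agent.Flat2B.GEx
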