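import Groth.Agent.Flat2B.GExEndDefs
import Groth.Agent.Flat2B.GExAlg
import Groth.Agent.CalgB.NagataFP2
import Groth.Agent.CalgB.MatModel

/-!
# S1270 (Stacks 0CTK): the end game, algebra on one affine open
-/

set_option autoImplicit false
universe u

open MvPolynomial TensorProduct

namespace Groth.Agent.Flat2B.GEx

open GExAlg

namespace MatCx

variable {S : Type u} [CommRing S] {τ : Type} (K : MatCx S τ)

/-- The modules of a matrix complex. -/
abbrev P (k : ℕ) : Type u := K.J k → MvPolynomial τ S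

lemma mem_cyc_iff (k : ℕ) (v : K.P k) : v ∈ cyc K.P K.d k ↔ K.IsCyc k v := by
  cases k with
  | zero => exact Iff.rfl
  | succ k => exact Iff.rfl

lemma d_isCyc (k : ℕ) (v : K.P (k + 1)) : K.IsCyc k (K.d k v) := by
  cases k with
  | zero => trivial
  | succ k => exact K.d_d k v

lemma isCyc_add {k : ℕ} {v w : K.P k} (hv : K.IsCyc k v) (hw : K.IsCyc k w) : K.IsCyc k (v + w) := by
  rw [← mem_cyc_iff] at *
  exact add_mem hv hw

lemma isCyc_smul {k : ℕ} {v : K.P k} (p : MvPolynomial τ S) (hv : K.IsCyc k v) : K.IsCyc k (p • v) := by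
  rw [← mem_cyc_iff] at *
  exact Submodule.smul_mem _ _ hv

variable {S' : Type u} [CommRing S'] (φ : S →+* S')

lemma mapVec_add {k : ℕ} (v w : K.P k) : K.mapVec φ (v + w) = K.mapVec φ v + K.mapVec φ w := by
  funext a
  simp [mapVec]

lemma mapVec_sub {k : ℕ} (v w : K.P k) : K.mapVec φ (v - w) = K.mapVec φ v - K.mapVec φ w := by
  funext a
  simp [mapVec]

lemma map_d_mapVec (k : ℕ) (v : K.P (k + 1)) :
    (K.map φ).d k (K.mapVec φ v) = K.mapVec φ (K.d k v) := by
  funext b
  simp [mapVec, d_apply]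

lemma map_isCyc {k : ℕ} {v : K.P k} (hv : K.IsCyc k v) : (K.map φ).IsCyc k (K.mapVec φ v) := by
  cases k with
  | zero => trivial
  | succ k =>
    have h : K.d k v = 0 := hv
    change (K.map φ).d k (K.mapVec φ v) = 0
    rw [map_d_mapVec, h]
    funext b
    simp [mapVec]

lemma mapVec_surjective (hφ : Function.Surjective φ) {k : ℕ} (w : (K.map φ).P k) : ∃ v : K.P k, K.mapVec φ v = w := by
  have := MvPolynomial.map_surjective φ hφ (σ := τ)
  choose s hs using this
  exact ⟨fun a => s (w a), funext fun a => hs _⟩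

lemma mem_smul_top_of_mapVec_eq_zero {k : ℕ} {v : K.P k} (h : K.mapVec φ v = 0) :
    v ∈ ((RingHom.ker φ).map (C : S →+* MvPolynomial τ S) • ⊤ : Submodule (MvPolynomial τ S) (K.P k)) := by
  classical
  have h1 : ∀ a, v a ∈ (RingHom.ker φ).map (C : S →+* MvPolynomial τ S) := by
    intro a
    rw [← MvPolynomial.ker_map]
    exact congrFun h a
  have h2 : v = ∑ a, v a • (Pi.single a 1 : K.P k) := by
    funext b
    simp [Finset.sum_apply, Pi.single_apply]
  rw [h2]
  exact Submodule.sum_mem _ fun a _ => Submodule.smul_mem_smul (h1 a) trivial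

lemma mapVec_eq_zero_of_mem {k : ℕ} {v : K.P k}
    (h : v ∈ ((RingHom.ker φ).map (C : S →+* MvPolynomial τ S) • ⊤ : Submodule (MvPolynomial τ S) (K.P k))) : K.mapVec φ v = 0 := by
  have h1 : ∀ v ∈ ((RingHom.ker φ).map (C : S →+* MvPolynomial τ S) • ⊤ : Submodule (MvPolynomial τ S) (K.P k)),
      ∀ a, v a ∈ (RingHom.ker φ).map (C : S →+* MvPolynomial τ S) := by
    intro v hv a
    refine Submodule.smul_induction_on hv ?_ ?_
    · intro r hr n _
      exact Ideal.mul_mem_right _ _ hr
    · intro x y hx hy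
      exact Ideal.add_mem _ hx hy
  funext a
  have := h1 v h a
  rw [← MvPolynomial.ker_map] at this
  exact this

end MatCx

section OneOpen

variable {A : Type u} [CommRing A] {τ : Type} (K : MatCx A τ) {B : Type u} [CommRing B]
  (ψ : MvPolynomial τ A →+* B) {M : Type u} [AddCommGroup M] [Module B M] (r : ℕ) (a : K.P r → M)

/-- The elementwise description of the homology in degree `r`. -/
structure HomDesc : Prop where
  add : ∀ v w, K.IsCyc r v → K.IsCyc r w → a (v + w) = a v + a w
  smul : ∀ (p : MvPolynomial τ A) v, K.IsCyc r v → a (p • v) = ψ p • a v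
  surj : ∀ s, ∃ v, K.IsCyc r v ∧ a v = s
  ker : ∀ v, K.IsCyc r v → (a v = 0 ↔ ∃ w, K.d r w = v)

/-- Exactness in the degrees `< r`. -/
def ExactLT : Prop := ∀ k < r, ∀ x ∈ cyc K.P K.d k, ∃ y, K.d k y = x

variable {K ψ r a}

/-- The linear map given by the classes of cycles. -/
def HomDesc.σ (h : HomDesc K ψ r a) :
    letI : Module (MvPolynomial τ A) M := Module.compHom M ψ
    cyc K.P K.d r →ₗ[MvPolynomial τ A] M :=
  letI : Module (MvPolynomial τ A) M := Module.compHom M ψ
  { toFun := fun v => a v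
    map_add' := fun v w => h.add v w ((K.mem_cyc_iff r v).1 v.2) ((K.mem_cyc_iff r w).1 w.2)
    map_smul' := fun p v => h.smul p v ((K.mem_cyc_iff r v).1 v.2) }

lemma HomDesc.σ_surjective (h : HomDesc K ψ r a) : Function.Surjective h.σ := by
  intro s
  obtain ⟨v, hv, rfl⟩ := h.surj s
  exact ⟨⟨v, (K.mem_cyc_iff r v).2 hv⟩, rfl⟩

lemma HomDesc.σ_ker (h : HomDesc K ψ r a) (z : cyc K.P K.d r) : h.σ z = 0 ↔ ∃ y, K.d r y = z :=
  h.ker z ((K.mem_cyc_iff r z).1 z.2)

theorem HomDesc.finitePresentation [Finite τ] (h : HomDesc K ψ r a) (hψ : Function.Surjective ψ)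
    (hex : ExactLT K r) : Module.FinitePresentation B M := by
  let i1 : Module (MvPolynomial τ A) M := Module.compHom M ψ
  let i2 : Algebra (MvPolynomial τ A) B := ψ.toAlgebra
  have i3 : IsScalarTower (MvPolynomial τ A) B M := ⟨fun x y z => mul_smul (ψ x) y z⟩
  have := finitePresentation_of (P := K.P) (fun k x => K.d_d k x) hex h.σ h.σ_surjective h.σ_ker
  exact CalgB.NagataFP.finitePresentation_of_surjective_algebraMap (P := MvPolynomial τ A) hψ

/-- Classes of cycles which are boundaries modulo `ker φ`. -/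
theorem HomDesc.mem_smul_top (h : HomDesc K ψ r a) (hex : ExactLT K r)
    {S' : Type u} [CommRing S'] (φ : A →+* S') (hφ : Function.Surjective φ) (v : K.P r) (hv : K.IsCyc r v)
    (w : (K.map φ).P (r + 1)) (hw : (K.map φ).d r w = K.mapVec φ v) :
    a v ∈ ((RingHom.ker φ).map (ψ.comp C) • ⊤ : Submodule B M) := by
  obtain ⟨w, rfl⟩ := K.mapVec_surjective φ hφ w
  rw [K.map_d_mapVec] at hw
  let z : K.P r := v - K.d r w
  have hz : K.mapVec φ z = 0 := by rw [K.mapVec_sub, hw, sub_self]
  have hzc : K.IsCyc r z := by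
    rw [← K.mem_cyc_iff] at *
    exact sub_mem hv ((K.mem_cyc_iff r _).2 (K.d_isCyc r w))
  have hav : a v = a z := by
    have h1 : v = z + K.d r w := by simp [z]
    rw [h1, h.add _ _ hzc (K.d_isCyc r w), (h.ker _ (K.d_isCyc r w)).2 ⟨w, rfl⟩, add_zero]
  have hmem := K.mem_smul_top_of_mapVec_eq_zero φ hz
  obtain ⟨e, he⟩ := exists_retraction (P := K.P) (fun k x => K.d_d k x) r hex
  let i1 : Module (MvPolynomial τ A) M := Module.compHom M ψ
  have h2 : h.σ (e z) ∈ ((RingHom.ker φ).map (C : A →+* MvPolynomial τ A) • ⊤ : Submodule (MvPolynomial τ A) M) := by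
    have h3 := Submodule.mem_map_of_mem (f := h.σ ∘ₗ e) hmem
    rw [Submodule.map_smul''] at h3
    exact Submodule.smul_mono le_rfl le_top h3
  have h4 : h.σ (e z) = a z := by
    have h5 := he ⟨z, (K.mem_cyc_iff r z).2 hzc⟩
    rw [show (e z) = ⟨z, (K.mem_cyc_iff r z).2 hzc⟩ from h5]
    rfl
  rw [hav, ← h4]
  rw [← Ideal.map_map]
  refine Submodule.smul_induction_on h2 (fun p hp m _ => ?_) (fun x y hx hy => add_mem hx hy)
  change ψ p • m ∈ _
  exact Submodule.smul_mem_smul (Ideal.mem_map_of_mem _ hp) trivial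

/-- Exactness of the base change, tensor product form, from exactness of the matrix complex. -/
theorem exists_bd_eq (K : MatCx A τ) {A₀ : Type u} [CommRing A₀] [Algebra A A₀]
    (hs : Function.Surjective (algebraMap A A₀)) (k : ℕ)
    (h : ∀ v, (K.map (algebraMap A A₀)).IsCyc (k + 1) v → ∃ w, (K.map (algebraMap A A₀)).d (k + 1) w = v)
    (x : A₀ ⊗[A] K.P (k + 1)) (hx : bd A K.d A₀ k x = 0) : ∃ y, bd A K.d A₀ (k + 1) y = x := by
  have hgen : ∀ (m : ℕ) (x : A₀ ⊗[A] K.P m), ∃ v : K.P m, x = 1 ⊗ₜ v := by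
    intro m x
    induction x using TensorProduct.induction_on with
    | zero => exact ⟨0, (tmul_zero _ _).symm⟩
    | tmul s v =>
      obtain ⟨b, rfl⟩ := hs s
      exact ⟨b • v, by rw [Algebra.algebraMap_eq_smul_one, smul_tmul]⟩
    | add x y hx hy =>
      obtain ⟨v, rfl⟩ := hx
      obtain ⟨w, rfl⟩ := hy
      exact ⟨v + w, (tmul_add _ _ _).symm⟩
  have hker : ∀ (m : ℕ) (v : K.P m), (1 : A₀) ⊗ₜ[A] v = 0 ↔ K.mapVec (algebraMap A A₀) v = 0 := by
    intro m v
    constructor
    · intro h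
      funext b
      let g : A₀ ⊗[A] K.P m →ₗ[A] MvPolynomial τ A₀ :=
        TensorProduct.lift (LinearMap.mk₂ A
          (fun s v => C s * MvPolynomial.map (algebraMap A A₀) (v b))
          (fun s s' v => by rw [map_add, add_mul])
          (fun c s v => by
            rw [Algebra.smul_def, map_mul, mul_assoc, Algebra.smul_def, IsScalarTower.algebraMap_apply A A₀ (MvPolynomial τ A₀)]
            rfl)
          (fun s v w => by rw [Pi.add_apply, map_add, mul_add])
          (fun c s v => by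
            rw [Pi.smul_apply, MvPolynomial.smul_eq_C_mul, map_mul, MvPolynomial.map_C, Algebra.smul_def,
              IsScalarTower.algebraMap_apply A A₀ (MvPolynomial τ A₀), MvPolynomial.algebraMap_eq]
            ring))
      have h1 := congrArg g h
      rw [map_zero] at h1
      change (C (1 : A₀) : MvPolynomial τ A₀) * MvPolynomial.map (algebraMap A A₀) (v b) = 0 at h1
      rwa [map_one, one_mul] at h1
    · intro h
      have h1 := K.mem_smul_top_of_mapVec_eq_zero (algebraMap A A₀) h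
      let g : K.P m →ₗ[A] A₀ ⊗[A] K.P m := TensorProduct.mk A A₀ (K.P m) 1
      have h2 : ∀ z ∈ ((RingHom.ker (algebraMap A A₀)).map (C : A →+* MvPolynomial τ A) • ⊤ : 
          Submodule (MvPolynomial τ A) (K.P m)), g z = 0 := by
        intro z hz
        have h3 : z ∈ (RingHom.ker (algebraMap A A₀) • ⊤ : Submodule A (K.P m)) := by
          have h4 := Ideal.smul_restrictScalars (R := A) (S := MvPolynomial τ A) (RingHom.ker (algebraMap A A₀)) 
            (⊤ : Submodule (MvPolynomial τ A) (K.P m))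
          rw [Submodule.restrictScalars_top] at h4
          rw [← h4]
          exact hz
        refine Submodule.smul_induction_on h3 (fun r hr n _ => ?_) (fun x y hx hy => by rw [map_add, hx, hy, add_zero])
        change (1 : A₀) ⊗ₜ[A] (r • n) = 0
        rw [← smul_tmul, Algebra.smul_def, (RingHom.mem_ker).1 hr, zero_mul, zero_tmul]
      exact h2 v h1
  obtain ⟨v, rfl⟩ := hgen _ x
  have h1 : K.mapVec (algebraMap A A₀) (K.d k v) = 0 := (hker k _).1 hx
  obtain ⟨w, hw⟩ := h (K.mapVec (algebraMap A A₀) v) (by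
    change (K.map (algebraMap A A₀)).d k (K.mapVec (algebraMap A A₀) v) = 0
    rw [K.map_d_mapVec, h1])
  obtain ⟨w, rfl⟩ := K.mapVec_surjective (algebraMap A A₀) hs w
  rw [K.map_d_mapVec] at hw
  refine ⟨1 ⊗ₜ w, ?_⟩
  change (1 : A₀) ⊗ₜ[A] (K.d (k + 1) w) = 1 ⊗ₜ v
  rw [← sub_eq_zero, ← tmul_sub, hker, K.mapVec_sub, hw, sub_self]

/-- Flatness of the homology in degree `r` near `Spec A₀`. -/
theorem HomDesc.flatAt [Finite τ] (h : HomDesc K ψ r a) (hψ : Function.Surjective ψ)
    (hex : ExactLT K r) {A₀ : Type u} [CommRing A₀] [Algebra A A₀]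
    (hs : Function.Surjective (algebraMap A A₀))
    (hex₀ : ∀ v, (K.map (algebraMap A A₀)).IsCyc (r + 1) v → ∃ w, (K.map (algebraMap A A₀)).d (r + 1) w = v)
    [Algebra A B] (hψC : ∀ x, ψ (C x) = algebraMap A B x) [Module A M] [IsScalarTower A B M]
    (hflat : Module.Flat A₀ (A₀ ⊗[A] M)) (q : Ideal B) [q.IsPrime]
    (hq : RingHom.ker (algebraMap A A₀) ≤ q.comap (algebraMap A B)) : FlatCA.FlatAt A q M := by
  let i1 : Module (MvPolynomial τ A) M := Module.compHom M ψ
  have i2 : IsScalarTower A (MvPolynomial τ A) M := IsScalarTower.of_algebraMap_smul (fun x m => by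
    change ψ (C x) • m = x • m
    rw [hψC, algebraMap_smul])
  let p : Ideal A := q.comap (algebraMap A B)
  have hp : (p.map (algebraMap A A₀)).IsPrime := Ideal.map_isPrime_of_surjective hs hq
  have hpc : (q.comap ψ).comap (algebraMap A (MvPolynomial τ A)) = (p.map (algebraMap A A₀)).comap (algebraMap A A₀) := by
    rw [Ideal.comap_map_of_surjective' _ hs, sup_eq_left.2 hq, Ideal.comap_comap]
    congr 1
    exact RingHom.ext hψC
  have key := flatAt_of A₀ (P := K.P) (fun k x => K.d_d k x) hex h.σ h.σ_surjective h.σ_ker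
    (fun x hx => exists_bd_eq K hs r hex₀ x hx) hflat (q.comap ψ) (p.map (algebraMap A A₀)) hpc
  exact (CalgB.MatModel.flatAt_model_iff ψ hψ (LinearEquiv.refl A M) (fun _ _ => rfl) q (q.comap ψ) rfl).2 key

end OneOpen

end Groth.Agent.Flat2B.GEx
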