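import Groth.Agent.Flat2G.FlatLocus
import Groth.Agent.Flat2C.FlatSec
import Groth.Agent.Flat2C.Thick
import Groth.Agent.CohqA.PullbackQCoh
import Groth.Agent.CohqA.FinSec
import Groth.Agent.CohqB.LocalQC
import Groth.Agent.Desc.FPSections

/-!
# Globalization lemmas over a proper scheme near the zero locus of a small ideal
-/

set_option autoImplicit false
universe u

open CategoryTheory CategoryTheory.Limits AlgebraicGeometry Opposite TopologicalSpace

namespace Groth.Agent.Flat2B.GExGlob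

variable {A : Type u} [CommRing A] {X : Scheme.{u}} (f : X ⟶ Spec (CommRingCat.of A))

/-- The structure map `A → Γ(X, U)` of a scheme over `Spec A`. -/
noncomputable def aMap (U : X.Opens) : A →+* Γ(X, U) :=
  (f.appLE ⊤ U le_top).hom.comp (Scheme.ΓSpecIso (CommRingCat.of A)).inv.hom

/-- (a) A closed subset of an `A`-scheme which is universally closed over `A` and which does not meet
the preimage of `V(I)`, `I` in the Jacobson radical, is empty. -/
theorem eq_empty_of_isClosed [UniversallyClosed f] (I : Ideal A) (hI : I ≤ Ideal.jacobson ⊥)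
    (Z : Set X) (hZ : IsClosed Z) (h : ∀ x ∈ Z, f x ∉ PrimeSpectrum.zeroLocus (I : Set A)) :
    Z = ∅ := by
  by_contra hne
  obtain ⟨x, hx⟩ := Set.nonempty_iff_ne_empty.2 hne
  have hcl : IsClosed (f '' Z) := f.isClosedMap _ hZ
  obtain ⟨m, hm, hle⟩ := Ideal.exists_le_maximal (f x : PrimeSpectrum A).asIdeal
    (PrimeSpectrum.isPrime _).ne_top
  have h1 : (⟨m, hm.isPrime⟩ : PrimeSpectrum A) ∈ f '' Z := by
    refine (PrimeSpectrum.le_iff_specializes (f x : PrimeSpectrum A) ⟨m, hm.isPrime⟩).1 hle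
      |>.mem_closed hcl ⟨x, hx, rfl⟩
  obtain ⟨y, hy, hym⟩ := h1
  refine h y hy ?_
  rw [hym]
  intro a ha
  exact Ideal.mem_sInf.1 (hI ha) ⟨bot_le, hm⟩

variable {f} in
/-- The image in `Spec A` of a point `x` of an affine open `U` is the contraction of the prime of
`Γ(X, U)` corresponding to `x`. -/
theorem comap_primeIdealOf {U : X.Opens} (hU : IsAffineOpen U) (x : X) (hx : x ∈ U) :
    (hU.primeIdealOf ⟨x, hx⟩).asIdeal.comap (aMap f U) = (f x : PrimeSpectrum A).asIdeal := by
  ext a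
  rw [Ideal.mem_comap]
  have h1 := Fdesc.QCohStalk.mem_basicOpen_iff hU x hx (aMap f U a)
  have h2 : X.basicOpen (aMap f U a) =
      U ⊓ f ⁻¹ᵁ (Spec (CommRingCat.of A)).basicOpen ((Scheme.ΓSpecIso (CommRingCat.of A)).inv.hom a) := by
    rw [Scheme.preimage_basicOpen]
    exact X.basicOpen_res (f.app ⊤ ((Scheme.ΓSpecIso (CommRingCat.of A)).inv.hom a))
      (homOfLE (le_top : U ≤ f ⁻¹ᵁ ⊤)).op
  have h4 : (Spec (CommRingCat.of A)).basicOpen ((Scheme.ΓSpecIso (CommRingCat.of A)).inv.hom a) =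
      PrimeSpectrum.basicOpen a := by
    rw [basicOpen_eq_of_affine']
    congr 1
    exact Iso.inv_hom_id_apply (Scheme.ΓSpecIso (CommRingCat.of A)) a
  have h3 : x ∈ X.basicOpen (aMap f U a) ↔ a ∉ (f x : PrimeSpectrum A).asIdeal := by
    rw [h2, h4]
    constructor
    · rintro ⟨-, h⟩
      exact h
    · intro h
      exact ⟨hx, h⟩
  tauto

/-- A point whose image lies in `V(I)` has its prime containing the extension of `I`. -/
theorem map_le_primeIdealOf {U : X.Opens} (hU : IsAffineOpen U) (x : X) (hx : x ∈ U) (I : Ideal A)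
    (h : f x ∈ PrimeSpectrum.zeroLocus (I : Set A)) :
    I.map (aMap f U) ≤ (hU.primeIdealOf ⟨x, hx⟩).asIdeal := by
  rw [Ideal.map_le_iff_le_comap, comap_primeIdealOf hU x hx]
  exact h

/-- A closed subset of `X` is empty as soon as every point of it has an affine neighbourhood `U` and a
function `r ∈ 1 + I Γ(X, U)` whose non-vanishing locus does not meet the closed set. -/
theorem eq_empty_of_exists [UniversallyClosed f] (I : Ideal A) (hI : I ≤ Ideal.jacobson ⊥)
    (Z : Set X) (hZ : IsClosed Z)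
    (h : ∀ x ∈ Z, ∃ (U : X.Opens) (_ : IsAffineOpen U) (_ : x ∈ U) (r : Γ(X, U)),
      r - 1 ∈ I.map (aMap f U) ∧ ∀ y ∈ X.basicOpen r, y ∉ Z) : Z = ∅ := by
  refine eq_empty_of_isClosed f I hI Z hZ fun x hx hxI => ?_
  obtain ⟨U, hU, hxU, r, hr, hrZ⟩ := h x hx
  refine hrZ x ?_ hx
  rw [Fdesc.QCohStalk.mem_basicOpen_iff hU x hxU]
  intro hmem
  have h1 := map_le_primeIdealOf f hU x hxU I hxI hr
  refine (hU.primeIdealOf ⟨x, hxU⟩).isPrime.ne_top ((Ideal.eq_top_iff_one _).2 ?_)
  have := Ideal.sub_mem _ hmem h1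
  rwa [sub_sub_cancel] at this

/-- (b) Nakayama over a proper scheme: a quasi-coherent module with finite sections over an affine
cover `U`, and `I Γ(G, U) = Γ(G, U)`, `I` in the Jacobson radical of `A`, vanishes. -/
theorem isZero_of_le_smul [UniversallyClosed f] (I : Ideal A) (hI : I ≤ Ideal.jacobson ⊥)
    (G : X.Modules) (hG : Coh.IsQCoh G)
    (h : ∀ x : X, ∃ (U : X.Opens) (_ : IsAffineOpen U), x ∈ U ∧ Module.Finite Γ(X, U) Γ(G, U) ∧
      (⊤ : Submodule Γ(X, U) Γ(G, U)) ≤ I.map (aMap f U) • ⊤) : IsZero G := by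
  classical
  have key : ∀ x : X, ∃ (U : X.Opens) (_ : IsAffineOpen U) (_ : x ∈ U) (r : Γ(X, U)),
      r - 1 ∈ I.map (aMap f U) ∧ ∀ m : Γ(G, U), r • m = 0 := by
    intro x
    obtain ⟨U, hU, hx, hfin, hle⟩ := h x
    obtain ⟨r, hr, hr0⟩ := Submodule.exists_sub_one_mem_and_smul_eq_zero_of_fg_of_le_smul
      (I.map (aMap f U)) ⊤ hfin.fg_top hle
    exact ⟨U, hU, hx, r, hr, fun m => hr0 m trivial⟩
  choose U hU hx r hr hr0 using key
  have hstalk : ∀ x y : X, y ∈ X.basicOpen (r x) → Subsingleton (G.presheaf.stalk y) := by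
    intro x y hy
    have hyU : y ∈ U x := X.basicOpen_le (r x) hy
    let _ : Module Γ(X, U x) (G.presheaf.stalk y) := Fdesc.QCohStalk.stalkModule G y hyU
    have hloc := Fdesc.QCohStalk.isLocalizedModule_germ G (hU x) hG y hyU
    have hry := (Fdesc.QCohStalk.mem_basicOpen_iff (hU x) y hyU (r x)).1 hy
    refine subsingleton_of_forall_eq 0 fun t => ?_
    obtain ⟨⟨m, s⟩, hms⟩ := hloc.surj t
    have h1 : (s : Γ(X, U x)) • t = Fdesc.QCohStalk.germₗ G y hyU m := hms
    have h2 : (((⟨r x, hry⟩ : ((hU x).primeIdealOf ⟨y, hyU⟩).asIdeal.primeCompl) * s :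
        ((hU x).primeIdealOf ⟨y, hyU⟩).asIdeal.primeCompl) : Γ(X, U x)) • t = 0 := by
      change (r x * (s : Γ(X, U x))) • t = 0
      rw [mul_smul, h1, ← map_smul, hr0 x m, map_zero]
    have h3 := hloc.map_units
      ((⟨r x, hry⟩ : ((hU x).primeIdealOf ⟨y, hyU⟩).asIdeal.primeCompl) * s)
    rw [Module.End.isUnit_iff] at h3
    apply h3.injective
    rw [Module.algebraMap_end_apply, Module.algebraMap_end_apply, h2, smul_zero]
  have hZ : (⋃ x : X, (X.basicOpen (r x) : Set X))ᶜ = ∅ := by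
    refine eq_empty_of_exists f I hI _ ?_ ?_
    · exact (isOpen_iUnion fun x => (X.basicOpen (r x)).2).isClosed_compl
    · intro x _
      refine ⟨U x, hU x, hx x, r x, hr x, fun y hy => ?_⟩
      exact fun hcon => hcon (Set.mem_iUnion.2 ⟨x, hy⟩)
  refine CohqB.LocalQC.isZero_of_stalks fun y => ?_
  have hy : y ∈ ⋃ x : X, (X.basicOpen (r x) : Set X) := by
    by_contra hcon
    have : y ∈ (⋃ x : X, (X.basicOpen (r x) : Set X))ᶜ := hcon
    rw [hZ] at this
    exact this
  obtain ⟨x, hxy⟩ := Set.mem_iUnion.1 hy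
  exact hstalk x y hxy

/-- The sections of a zero module vanish. -/
theorem subsingleton_sections_of_isZero {G : X.Modules} (h : IsZero G) (U : X.Opens) :
    Subsingleton Γ(G, U) := by
  have h0 : (𝟙 G : G ⟶ G) = 0 := (IsZero.iff_id_eq_zero G).1 h
  refine subsingleton_of_forall_eq 0 fun s => ?_
  have h1 : (𝟙 G : G ⟶ G).app U s = (0 : G ⟶ G).app U s := by rw [h0]
  simpa using h1

/-- The `A`-module structure on the sections of a module over an `A`-scheme. -/
noncomputable abbrev aModule (G : X.Modules) (U : X.Opens) : Module A Γ(G, U) :=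
  Module.compHom _ (aMap f U)

/-- The `A`-algebra structure on the functions on an open of an `A`-scheme. -/
noncomputable abbrev aAlgebra (U : X.Opens) : Algebra A Γ(X, U) := (aMap f U).toAlgebra

theorem isScalarTower_a (G : X.Modules) (U : X.Opens) :
    letI := aAlgebra f U
    letI := aModule f G U
    IsScalarTower A Γ(X, U) Γ(G, U) :=
  letI := aAlgebra f U
  letI := aModule f G U
  IsScalarTower.of_algebraMap_smul fun _ _ => rfl

/-- Flatness over `A` at a prime of `Γ(X, U)`. -/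
def FlatSecAt (G : X.Modules) (U : X.Opens) (q : Ideal Γ(X, U)) [q.IsPrime] : Prop :=
  letI := aAlgebra f U
  letI := aModule f G U
  haveI := isScalarTower_a f G U
  FlatCA.FlatAt A q Γ(G, U)

theorem isFlatOverAt_iff (G : X.Modules) (hG : Coh.IsQCoh G) {U : X.Opens} (hU : IsAffineOpen U)
    (x : X) (hx : x ∈ U) :
    FlatMod.IsFlatOverAt f G x ↔ FlatSecAt f G U (hU.primeIdealOf ⟨x, hx⟩).asIdeal := by
  have hV : IsAffineOpen (⊤ : (Spec (CommRingCat.of A)).Opens) := isAffineOpen_top _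
  rw [Flat2C.FlatSec.isFlatOverAt_iff_flatAt f G hU hV (le_top) hG x hx]
  let i1 : Algebra Γ(Spec (CommRingCat.of A), ⊤) Γ(X, U) :=
    Flat2C.FlatSec.algebraOver f (V := ⊤) (U := U) le_top
  let i2 : Module Γ(Spec (CommRingCat.of A), ⊤) Γ(G, U) :=
    Flat2C.FlatSec.moduleOver f G (V := ⊤) (U := U) le_top
  have i3 : IsScalarTower Γ(Spec (CommRingCat.of A), ⊤) Γ(X, U) Γ(G, U) :=
    Flat2C.FlatSec.isScalarTower_over f G le_top
  let j0 : Algebra A Γ(Spec (CommRingCat.of A), ⊤) :=
    (Scheme.ΓSpecIso (CommRingCat.of A)).inv.hom.toAlgebra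
  let j1 : Algebra A Γ(X, U) := aAlgebra f U
  let j2 : Module A Γ(G, U) := aModule f G U
  have j3 : IsScalarTower A Γ(X, U) Γ(G, U) := isScalarTower_a f G U
  have hbij : Function.Bijective (algebraMap A Γ(Spec (CommRingCat.of A), ⊤)) :=
    (ConcreteCategory.bijective_of_isIso (Scheme.ΓSpecIso (CommRingCat.of A)).inv)
  have hloc : IsLocalization (⊥ : Submonoid A) Γ(Spec (CommRingCat.of A), ⊤) :=
    IsLocalization.of_le_isUnit_of_bijective (by
      rintro _ ⟨y, hy, rfl⟩
      rw [(Submonoid.mem_bot.1 hy : y = 1), map_one]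
      exact isUnit_one) hbij
  let L := LocalizedModule (hU.primeIdealOf ⟨x, hx⟩).asIdeal.primeCompl Γ(G, U)
  have k1 : IsScalarTower A Γ(Spec (CommRingCat.of A), ⊤) L := by
    refine IsScalarTower.of_algebraMap_smul fun a m => ?_
    induction m using LocalizedModule.induction_on with
    | _ m s =>
      rw [LocalizedModule.smul'_mk, LocalizedModule.smul'_mk]
      rfl
  exact Module.flat_iff_of_isLocalization Γ(Spec (CommRingCat.of A), ⊤) (⊥ : Submonoid A) L

variable {f} in
/-- Flatness at a prime only depends on the prime. -/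
theorem FlatSecAt.congr {G : X.Modules} {U : X.Opens} {p q : PrimeSpectrum Γ(X, U)} (hpq : p = q)
    (h : FlatSecAt f G U p.asIdeal) : FlatSecAt f G U q.asIdeal := by
  subst hpq
  exact h

/-- (c) Flatness over a proper scheme: a finitely presented module `G` on a proper finitely presented
`A`-scheme whose sections over an affine cover are `A`-flat at all primes over `V(I)`, `I` in the
Jacobson radical, is `A`-flat. -/
theorem isFlatOver_of_flatSecAt [UniversallyClosed f] [LocallyOfFinitePresentation f] (I : Ideal A)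
    (hI : I ≤ Ideal.jacobson ⊥) (G : X.Modules) (hG : Coh.IsQCoh G) (hfp : CohB1.IsFP G)
    (h : ∀ x : X, ∃ (U : X.Opens) (_ : IsAffineOpen U), x ∈ U ∧ ∀ (q : Ideal Γ(X, U)) [q.IsPrime],
      I ≤ q.comap (aMap f U) → FlatSecAt f G U q) : FlatMod.IsFlatOver f G := by
  have hopen := Flat2G.FlatLocus.isOpen_flatLocus f G hG hfp
  have hZ : {x | FlatMod.IsFlatOverAt f G x}ᶜ = ∅ := by
    refine eq_empty_of_isClosed f I hI _ hopen.isClosed_compl fun x hx hxI => hx ?_
    obtain ⟨U, hU, hxU, hfl⟩ := h x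
    exact (isFlatOverAt_iff f G hG hU x hxU).2 (hfl _
      (Ideal.map_le_iff_le_comap.1 (map_le_primeIdealOf f hU x hxU I hxI)))
  intro x
  by_contra hcon
  have : x ∈ {x | FlatMod.IsFlatOverAt f G x}ᶜ := hcon
  rw [hZ] at this
  exact this

/-- (d) A quasi-coherent module with finitely presented sections over an affine cover is finitely
presented. -/
theorem isFP_of_sections (G : X.Modules) (hG : Coh.IsQCoh G)
    (h : ∀ x : X, ∃ U : X.Opens, IsAffineOpen U ∧ x ∈ U ∧
      Module.FinitePresentation Γ(X, U) Γ(G, U)) : CohB1.IsFP G :=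
  CohqA.FinSec.isFP_of_finitePresentation hG h

/-- A surjective semilinear map along a surjective ring map with kernel contained in the multiples by
the kernel of the ring map is a base change. -/
theorem isBC_of_surjective {B C : Type u} [CommRing B] [CommRing C] (φ : B →+* C)
    (hφ : Function.Surjective φ) {M N : Type u} [AddCommGroup M] [Module B M] [AddCommGroup N]
    [Module C N] (ψ : M →+ N) (hψ : Function.Surjective ψ) (hsmul : ∀ (r : B) (x : M), ψ (r • x) = φ r • ψ x)
    (hker : ∀ x, ψ x = 0 → x ∈ RingHom.ker φ • (⊤ : Submodule B M)) :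
    CohqA.BaseChangeMod.IsBC φ ψ := by
  refine ⟨hsmul, fun Q _ _ g hg => ?_⟩
  have hg0 : ∀ x, ψ x = 0 → g x = 0 := by
    intro x hx
    refine Submodule.smul_induction_on (hker x hx) (fun r hr n _ => ?_) (fun a b ha hb => ?_)
    · rw [hg, (RingHom.mem_ker).1 hr, zero_smul]
    · rw [map_add, ha, hb, add_zero]
  have hgc : ∀ x y, ψ x = ψ y → g x = g y := by
    intro x y hxy
    have := hg0 (x - y) (by rw [map_sub, hxy, sub_self])
    rwa [map_sub, sub_eq_zero] at this
  let t : N → M := Function.surjInv hψ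
  have ht : ∀ n, ψ (t n) = n := Function.surjInv_eq hψ
  let g' : N →ₗ[C] Q :=
    { toFun := fun n => g (t n)
      map_add' := fun a b => by
        rw [← map_add]
        exact hgc _ _ (by rw [map_add, ht, ht, ht])
      map_smul' := fun c n => by
        obtain ⟨r, rfl⟩ := hφ c
        rw [RingHom.id_apply, ← hg]
        exact hgc _ _ (by rw [hsmul, ht, ht]) }
  refine ⟨g', fun x => hgc _ _ (ht _), fun g'' hg'' => ?_⟩
  ext n
  obtain ⟨x, rfl⟩ := hψ n
  rw [hg'' x]
  exact (hgc _ _ (ht _)).symm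

open Scheme.Modules in
/-- Recognition of the pull-back along a closed immersion on sections over an affine cover. -/
theorem isUniv_of_closedImmersion {Y : Scheme.{u}} (j : Y ⟶ X) [IsClosedImmersion j]
    {G : X.Modules} {F : Y.Modules} (hG : Coh.IsQCoh G) (hF : Coh.IsQCoh F)
    (c : G ⟶ (Scheme.Modules.pushforward j).obj F)
    (h : ∀ x : X, ∃ (U : X.Opens) (_ : IsAffineOpen U), x ∈ U ∧ Function.Surjective (c.app U).hom ∧
      ∀ s : Γ(G, U), (c.app U).hom s = 0 →
        s ∈ RingHom.ker (j.app U).hom • (⊤ : Submodule Γ(X, U) Γ(G, U))) :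
    CohqA.PullbackUniv.IsUniv j c := by
  have i1 : G.IsQuasicoherent := hG
  have i2 : F.IsQuasicoherent := hF
  refine CohqA.PullbackQCoh.isUniv_of_isBC_cover j c fun y => ?_
  obtain ⟨U, hU, hx, hsurj, hker⟩ := h (j y)
  have hV : IsAffineOpen (j ⁻¹ᵁ U) := hU.preimage j
  refine ⟨U, j ⁻¹ᵁ U, hU, hV, le_rfl, hx, ?_⟩
  have e1 : (j.appLE U (j ⁻¹ᵁ U) le_rfl) = j.app U := Scheme.Hom.appLE_eq_app _
  have e2 : ∀ s, (CohqA.PullbackAffine.secMap j c U (j ⁻¹ᵁ U) le_rfl).hom s = (c.app U).hom s := by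
    intro s
    have h2 : F.presheaf.map (homOfLE (le_refl (j ⁻¹ᵁ U))).op = 𝟙 _ := F.presheaf.map_id _
    change F.presheaf.map (homOfLE (le_refl (j ⁻¹ᵁ U))).op (c.app U s) = _
    rw [h2]
    rfl
  refine isBC_of_surjective _ ?_ _ ?_ ?_ ?_
  · rw [e1]
    exact j.app_surjective U hU
  · intro n
    obtain ⟨s, hs⟩ := hsurj n
    exact ⟨s, (e2 s).trans hs⟩
  · exact CohqA.PullbackAffine.secMap_smul j c U (j ⁻¹ᵁ U) le_rfl
  · intro s hs
    rw [e1]
    exact hker s ((e2 s).symm.trans hs)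

section BaseChange

variable {f} {A₀ : Type u} [CommRing A₀] {π : A →+* A₀} {X₀ : Scheme.{u}} {j : X₀ ⟶ X}
  {g : X₀ ⟶ Spec (CommRingCat.of A₀)}
  (hpb : IsPullback j g f (Spec.map (CommRingCat.ofHom π)))

include hpb in
theorem isClosedImmersion_of_isPullback (hπ : Function.Surjective π) : IsClosedImmersion j := by
  have h1 : IsClosedImmersion (Spec.map (CommRingCat.ofHom π)) :=
    IsClosedImmersion.spec_of_surjective _ hπ
  exact MorphismProperty.of_isPullback hpb.flip h1

omit [CommRing A₀] in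
theorem appLE_aMap (h : X₀ ⟶ X) (U : X.Opens) (W : X₀.Opens) (e : W ≤ h ⁻¹ᵁ U) (a : A) :
    (h.appLE U W e).hom (aMap f U a) = aMap (h ≫ f) W a := by
  have h1 := Scheme.Hom.appLE_comp_appLE h f ⊤ U W le_top e
  have h2 := congr($(h1).hom ((Scheme.ΓSpecIso (CommRingCat.of A)).inv.hom a))
  exact h2

omit [CommRing A₀] in
theorem app_aMap_comp (h : X₀ ⟶ X) (U : X.Opens) (a : A) :
    (h.app U).hom (aMap f U a) = aMap (h ≫ f) (h ⁻¹ᵁ U) a := by
  rw [Scheme.Hom.app_eq_appLE]
  exact appLE_aMap h U _ le_rfl a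

omit f in
theorem aMap_comp_specMap (g : X₀ ⟶ Spec (CommRingCat.of A₀)) (π : A →+* A₀) (W : X₀.Opens) (a : A) :
    aMap (g ≫ Spec.map (CommRingCat.ofHom π)) W a = aMap g W (π a) := by
  have h1 := Scheme.Hom.appLE_comp_appLE g (Spec.map (CommRingCat.ofHom π)) ⊤ ⊤ W le_top le_top
  have h3 := congr($(Scheme.ΓSpecIso_inv_naturality (CommRingCat.ofHom π)).hom a)
  have h2 := congr($(h1).hom ((Scheme.ΓSpecIso (CommRingCat.of A)).inv.hom a))
  refine h2.symm.trans ?_
  change (g.appLE ⊤ W le_top).hom _ = (g.appLE ⊤ W le_top).hom _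
  congr 1
  have h4 : (Spec.map (CommRingCat.ofHom π)).appLE ⊤ ⊤ le_top =
      (Spec.map (CommRingCat.ofHom π)).appTop := Scheme.Hom.appLE_eq_app _
  change ((Spec.map (CommRingCat.ofHom π)).appLE ⊤ ⊤ le_top).hom _ = _
  rw [h4]
  exact h3.symm

include hpb in
theorem app_aMap (U : X.Opens) (a : A) :
    (j.app U).hom (aMap f U a) = aMap g (j ⁻¹ᵁ U) (π a) := by
  rw [app_aMap_comp, hpb.w, aMap_comp_specMap]

include hpb in
/-- The kernel of restriction to the closed subscheme `X₀`, over an affine open. -/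
theorem ker_app (hπ : Function.Surjective π) {U : X.Opens} (hU : IsAffineOpen U) :
    RingHom.ker (j.app U).hom = (RingHom.ker π).map (aMap f U) := by
  have h1 : IsClosedImmersion (Spec.map (CommRingCat.ofHom π)) :=
    IsClosedImmersion.spec_of_surjective _ hπ
  rw [(Flat2C.Thick.surjective_app_and_ker_app hpb (isAffineOpen_top _) hU le_top).2]
  rw [aMap, ← Ideal.map_map]
  congr 1
  have h3 := Scheme.ΓSpecIso_inv_naturality (CommRingCat.ofHom π)
  have h4 : ((Spec.map (CommRingCat.ofHom π)).app ⊤) =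
    (Scheme.ΓSpecIso (CommRingCat.of A)).hom ≫ CommRingCat.ofHom π ≫
      (Scheme.ΓSpecIso (CommRingCat.of A₀)).inv := by
    rw [h3, Iso.hom_inv_id_assoc]
  have b1 := ConcreteCategory.bijective_of_isIso (Scheme.ΓSpecIso (CommRingCat.of A₀)).inv
  apply le_antisymm
  · intro x hx
    obtain ⟨a, rfl⟩ := (ConcreteCategory.bijective_of_isIso (Scheme.ΓSpecIso (CommRingCat.of A)).inv).2 x
    refine Ideal.mem_map_of_mem _ ?_
    rw [RingHom.mem_ker] at hx ⊢
    apply b1.1
    have h5 := congr($(h3).hom a)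
    rw [map_zero]
    exact h5.trans hx
  · rw [Ideal.map_le_iff_le_comap]
    intro a ha
    rw [Ideal.mem_comap, RingHom.mem_ker]
    have h5 := congr($(h3).hom a)
    refine h5.symm.trans ?_
    change (Scheme.ΓSpecIso (CommRingCat.of A₀)).inv.hom (π a) = 0
    rw [(RingHom.mem_ker).1 ha, map_zero]

include hpb in
/-- (e) Recognition of the reduction of a quasi-coherent module modulo `ker π` on sections over an
affine cover: universal form. -/
theorem isUniv_of_sections (hπ : Function.Surjective π) {G : X.Modules} {F : X₀.Modules}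
    (hG : Coh.IsQCoh G) (hF : Coh.IsQCoh F) (c : G ⟶ (Scheme.Modules.pushforward j).obj F)
    (h : ∀ x : X, ∃ (U : X.Opens) (_ : IsAffineOpen U), x ∈ U ∧ Function.Surjective (c.app U).hom ∧
      ∀ s : Γ(G, U), (c.app U).hom s = 0 →
        s ∈ (RingHom.ker π).map (aMap f U) • (⊤ : Submodule Γ(X, U) Γ(G, U))) :
    CohqA.PullbackUniv.IsUniv j c := by
  have := isClosedImmersion_of_isPullback hpb hπ
  refine isUniv_of_closedImmersion j hG hF c fun x => ?_
  obtain ⟨U, hU, hx, h1, h2⟩ := h x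
  refine ⟨U, hU, hx, h1, fun s hs => ?_⟩
  rw [ker_app hpb hπ hU]
  exact h2 s hs

include hpb in
/-- (e) Recognition of the reduction of a quasi-coherent module modulo `ker π` on sections over an
affine cover: the adjoint of `c` is an isomorphism. -/
theorem isIso_of_sections (hπ : Function.Surjective π) {G : X.Modules} {F : X₀.Modules}
    (hG : Coh.IsQCoh G) (hF : Coh.IsQCoh F) (c : G ⟶ (Scheme.Modules.pushforward j).obj F)
    (h : ∀ x : X, ∃ (U : X.Opens) (_ : IsAffineOpen U), x ∈ U ∧ Function.Surjective (c.app U).hom ∧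
      ∀ s : Γ(G, U), (c.app U).hom s = 0 →
        s ∈ (RingHom.ker π).map (aMap f U) • (⊤ : Submodule Γ(X, U) Γ(G, U))) :
    IsIso (((Scheme.Modules.pullbackPushforwardAdjunction j).homEquiv G F).symm c) :=
  (CohqA.PullbackUniv.isUniv_iff_isIso j c).1 (isUniv_of_sections hpb hπ hG hF c h)

include hpb in
/-- (e) Recognition of the reduction of a quasi-coherent module modulo `ker π`. -/
theorem nonempty_iso_of_sections (hπ : Function.Surjective π) {G : X.Modules} {F : X₀.Modules}
    (hG : Coh.IsQCoh G) (hF : Coh.IsQCoh F) (c : G ⟶ (Scheme.Modules.pushforward j).obj F)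
    (h : ∀ x : X, ∃ (U : X.Opens) (_ : IsAffineOpen U), x ∈ U ∧ Function.Surjective (c.app U).hom ∧
      ∀ s : Γ(G, U), (c.app U).hom s = 0 →
        s ∈ (RingHom.ker π).map (aMap f U) • (⊤ : Submodule Γ(X, U) Γ(G, U))) :
    Nonempty ((Scheme.Modules.pullback j).obj G ≅ F) := by
  have := isIso_of_sections hpb hπ hG hF c h
  exact ⟨asIso (((Scheme.Modules.pullbackPushforwardAdjunction j).homEquiv G F).symm c)⟩

end BaseChange

end Groth.Agent.Flat2B.GExGlob
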