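import Groth.Agent.Flat2B.GExDefs
import Groth.Agent.Flat2B.GExGlob

/-!
# S1270 (Stacks 0CTK): input of the end game (E1)

`GEx.EndData` : what routes D and E have to provide on each member `U` of an affine open covering: a presentation
`ψ : A[y_τ] → Γ(X, U)` and a complex `K` of finite free `A[y_τ]`-modules (homological indexing, degree `k` = cohomological
degree `t - k`) with `H_k(K) = Γ(G (t - k), U)` for `k ≤ t`, exact modulo `ker (π 0)` in degrees `k < t` and `k = t + 1`,
and with `H_t(K mod ker (π n)) = Γ(F n, U_n)` (stated elementwise).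
-/

set_option autoImplicit false
universe u

open CategoryTheory AlgebraicGeometry MvPolynomial

namespace Groth.Agent.Flat2B.GEx

/-- Complexes of finite free `S[y_τ]`-modules: the module in degree `k` is `J k → S[y_τ]`, the
differential is `v ↦ (b ↦ ∑ a, v a * D k a b)`. -/
structure MatCx (S : Type u) [CommRing S] (τ : Type) where
  J : ℕ → Type
  [fin : ∀ k, Fintype (J k)]
  D : ∀ k, J (k + 1) → J k → MvPolynomial τ S
  D_D : ∀ k a c, ∑ b, D (k + 1) a b * D k b c = 0

attribute [instance] MatCx.fin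

namespace MatCx

variable {S : Type u} [CommRing S] {τ : Type} (K : MatCx S τ)

/-- The differential. -/
noncomputable def d (k : ℕ) :
    (K.J (k + 1) → MvPolynomial τ S) →ₗ[MvPolynomial τ S] (K.J k → MvPolynomial τ S) where
  toFun v b := ∑ a, v a * K.D k a b
  map_add' v w := by
    funext b
    simp [add_mul, Finset.sum_add_distrib]
  map_smul' p v := by
    funext b
    simp [Finset.mul_sum, mul_assoc]

lemma d_apply (k : ℕ) (v : K.J (k + 1) → MvPolynomial τ S) (b : K.J k) :
    K.d k v b = ∑ a, v a * K.D k a b := rfl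

lemma d_d (k : ℕ) (v : K.J (k + 2) → MvPolynomial τ S) : K.d k (K.d (k + 1) v) = 0 := by
  funext c
  simp only [d_apply, Finset.sum_mul, Pi.zero_apply]
  rw [Finset.sum_comm]
  refine Finset.sum_eq_zero fun a _ => ?_
  simp only [mul_assoc]
  rw [← Finset.mul_sum, K.D_D, mul_zero]

/-- Cycles: everything in degree `0`. -/
def IsCyc : ∀ k : ℕ, (K.J k → MvPolynomial τ S) → Prop
  | 0, _ => True
  | k + 1, v => K.d k v = 0

/-- Base change. -/
noncomputable abbrev map {S' : Type u} [CommRing S'] (φ : S →+* S') : MatCx S' τ where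
  J := K.J
  D k a b := MvPolynomial.map φ (K.D k a b)
  D_D k a c := by
    have := congrArg (MvPolynomial.map φ) (K.D_D k a c)
    simpa only [map_sum, map_mul, map_zero] using this

/-- Base change of vectors. -/
noncomputable def mapVec {S' : Type u} [CommRing S'] (φ : S →+* S') {k : ℕ} (v : K.J k → MvPolynomial τ S) :
    K.J k → MvPolynomial τ S' := fun a => MvPolynomial.map φ (v a)

end MatCx

/-- Forget the weights. -/
@[simps] noncomputable def FreeCx.toMatCx {S : Type u} [CommRing S] {τ : Type} (K : FreeCx S τ) : MatCx S τ where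
  J := K.J
  D := K.D
  D_D := K.D_D

/-- The input of the end game on an open `U`. -/
structure EndData {A : Type u} [CommRing A] {A' : ℕ → Type u} [∀ n, CommRing (A' n)] (π : ∀ n, A →+* A' n)
    {X : Scheme.{u}} (f : X ⟶ Spec (CommRingCat.of A)) {Xn : ℕ → Scheme.{u}} (j : ∀ n, Xn n ⟶ X)
    (F : ∀ n, (Xn n).Modules) (t : ℕ) (H : ℕ → X.Modules)
    (c : ∀ n, H t ⟶ (Scheme.Modules.pushforward (j n)).obj (F n)) (U : X.Opens) where
  τ : Type
  [finτ : Finite τ]
  ψ : MvPolynomial τ A →+* Γ(X, U)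
  ψ_surj : Function.Surjective ψ
  ψ_C : ∀ a, ψ (C a) = GExGlob.aMap f U a
  K : MatCx A τ
  /-- the homology classes of the cycles in degree `k`, as sections of `H k`; only the values on
  cycles matter -/
  a : ∀ k, (K.J k → MvPolynomial τ A) → Γ(H k, U)
  a_add : ∀ k ≤ t, ∀ v w, K.IsCyc k v → K.IsCyc k w → a k (v + w) = a k v + a k w
  a_smul : ∀ k ≤ t, ∀ (p : MvPolynomial τ A) v, K.IsCyc k v → a k (p • v) = ψ p • a k v
  a_surj : ∀ k ≤ t, ∀ s, ∃ v, K.IsCyc k v ∧ a k v = s
  a_ker : ∀ k ≤ t, ∀ v, K.IsCyc k v → (a k v = 0 ↔ ∃ w, K.d k w = v)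
  /-- exactness modulo `ker (π 0)` in degrees `k < t` and `k = t + 1` -/
  exact : ∀ k, k < t ∨ k = t + 1 → ∀ v, (K.map (π 0)).IsCyc k v → ∃ w, (K.map (π 0)).d k w = v
  /-- `Γ(H t, U) → Γ(F n, U_n)` is surjective -/
  c_surj : ∀ n, Function.Surjective ((c n).app U)
  /-- a cycle whose class dies in `Γ(F n, U_n)` is a boundary modulo `ker (π n)` -/
  c_ker : ∀ n v, K.IsCyc t v → (c n).app U (a t v) = 0 →
    ∃ w, (K.map (π n)).d t w = K.mapVec (π n) v

end Groth.Agent.Flat2B.GEx
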