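import Groth.Agent.Flat2B.GExEndDefs
import Groth.Prelude.Def_FlatCA
import Mathlib.AlgebraicGeometry.Morphisms.Proper
import Mathlib.AlgebraicGeometry.Morphisms.FinitePresentation

/-!
# S1270 (Stacks 0CTK): the end game (E1), statement
-/

set_option autoImplicit false
universe u

open CategoryTheory CategoryTheory.Limits AlgebraicGeometry

namespace Groth.Agent.Flat2B.GEx.Stub

/-- E1, the end game. -/
theorem endgame {A : Type u} [CommRing A] (A' : ℕ → Type u) [∀ n, CommRing (A' n)]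
    (φ : ∀ n, A' (n + 1) →+* A' n) (π : ∀ n, A →+* A' n) (hlim : FlatCA.IsRingLimit A A' φ π)
    (hsurj : ∀ n, Function.Surjective (φ n)) (hnil : ∀ n, ∀ x ∈ RingHom.ker (φ n), IsNilpotent x)
    {X : Scheme.{u}} (f : X ⟶ Spec (CommRingCat.of A)) [IsProper f] [LocallyOfFinitePresentation f]
    (Xn : ℕ → Scheme.{u}) (j : ∀ n, Xn n ⟶ X) (g : ∀ n, Xn n ⟶ Spec (CommRingCat.of (A' n)))
    (hpb : ∀ n, IsPullback (j n) (g n) f (Spec.map (CommRingCat.ofHom (π n))))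
    (F : ∀ n, (Xn n).Modules) (hfp : ∀ n, CohB1.IsFP (F n)) (hfl : ∀ n, FlatMod.IsFlatOver (g n) (F n))
    (t : ℕ) (H : ℕ → X.Modules) (hH : ∀ k ≤ t, Coh.IsQCoh (H k))
    (c : ∀ n, H t ⟶ (Scheme.Modules.pushforward (j n)).obj (F n))
    {κ : Type u} (U : κ → X.Opens) (hU : ∀ i, IsAffineOpen (U i)) (hcov : ⨆ i, U i = ⊤)
    (D : ∀ i, EndData π f j F t H c (U i)) :
    CohB1.IsFP (H t) ∧ FlatMod.IsFlatOver f (H t) ∧
      ∀ n, Nonempty ((Scheme.Modules.pullback (j n)).obj (H t) ≅ F n) := by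
  sorry

end Groth.Agent.Flat2B.GEx.Stub
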