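import Groth.Agent.Flat2B.GExAL5Defs

/-!
# S1270 route E, AL5 (a): the fibres `L (s) ⊗ N` as filtered complexes
-/

set_option autoImplicit false
universe u

open Finset MvPolynomial

namespace Groth.Agent.Flat2B.GEx

/-- Vectors of polynomials with coefficients in `N` of bounded degree. -/
def degSub (S : Type u) [CommRing S] {τ G : Type} (N : Type u) [AddCommGroup N] [Module S N]
    (w : G → ℕ) (e : ℕ) : Submodule S (G → PM τ N) where
  carrier := {v | ∀ b, PM.Deg (w b) e (v b)}
  add_mem' := by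
    intro v v' hv hv' b μ h
    by_cases h1 : PM.coeff μ (v b) = 0
    · exact hv' b μ fun h2 => h (by rw [Pi.add_apply, PM.coeff_add, h1, h2, add_zero])
    · exact hv b μ h1
  zero_mem' := fun b μ h => absurd rfl h
  smul_mem' := by
    intro a v hv b μ h
    exact hv b μ fun h1 => h (by rw [Pi.smul_apply, PM.coeff_smul, h1, smul_zero])

lemma mem_degSub {S : Type u} [CommRing S] {τ G : Type} {N : Type u} [AddCommGroup N] [Module S N]
    {w : G → ℕ} {e : ℕ} {v : G → PM τ N} :
    v ∈ degSub S N w e ↔ ∀ b, PM.Deg (w b) e (v b) := Iff.rfl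

lemma PM.Deg.map {τ : Type} {N N' : Type u} [AddCommGroup N] [AddCommGroup N'] (f : N →+ N')
    {w e : ℕ} {x : PM τ N} (hx : PM.Deg w e x) : PM.Deg w e (PM.map f x) := fun μ hμ =>
  hx μ fun h => hμ (by rw [PM.coeff_map, h, map_zero])

/-- Functoriality of `degSub`. -/
noncomputable def degMap {S S' : Type u} [CommRing S] [CommRing S'] {τ G : Type} {N N' : Type u}
    [AddCommGroup N] [Module S N] [AddCommGroup N'] [Module S' N'] (f : N →+ N')
    (w : G → ℕ) (e : ℕ) : degSub (τ := τ) S N w e →+ degSub (τ := τ) S' N' w e where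
  toFun v := ⟨fun b => PM.map f (v.1 b), fun b => (v.2 b).map f⟩
  map_zero' := Subtype.ext (funext fun _ => map_zero _)
  map_add' _ _ := Subtype.ext (funext fun _ => map_add _ _ _)

namespace LData

variable {Λ : Type u} [CommRing Λ] {τ ι : Type} [LinearOrder ι] {C : RDiag Λ (NE ι)}
  (L : LData C τ)

lemma delX_delX (t : NE ι) {E : Type u} [CommRing E] (χ : C.C t →+* E) (N : Type u)
    [AddCommGroup N] [Module E N] (j : ℕ) (v : L.G (j + 2) t → PM τ N) :
    L.delX t χ N j (L.delX t χ N (j + 1) v) = 0 := by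
  classical
  funext c
  rw [delX_apply, Pi.zero_apply]
  simp only [delX_apply, Finset.smul_sum, smul_smul]
  rw [Finset.sum_comm]
  refine Finset.sum_eq_zero fun a _ => ?_
  rw [← Finset.sum_smul]
  have : (∑ b : L.G (j + 1) t, MvPolynomial.map (χ.comp (C.res b.2).toRingHom) (L.δ j b.1 c.1) *
      MvPolynomial.map (χ.comp (C.res a.2).toRingHom) (L.δ (j + 1) a.1 b.1)) = 0 := by
    let g : ∀ b : L.J (j + 1), MvPolynomial τ (C.C (L.loc (j + 2) a.1)) := fun b =>
      if h : L.loc (j + 1) b ≤ L.loc (j + 2) a.1 then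
        MvPolynomial.map (C.res h).toRingHom (L.δ j b c.1) else 0
    have h0 := congrArg (MvPolynomial.map (χ.comp (C.res a.2).toRingHom))
      (L.δ_δ j a.1 c.1 g (fun b h => by simp only [g, dif_pos h]))
    rw [map_sum, map_zero] at h0
    rw [← h0]
    let h : L.J (j + 1) → MvPolynomial τ E := fun b =>
      if hb : L.loc (j + 1) b ≤ t then
        MvPolynomial.map (χ.comp (C.res hb).toRingHom) (L.δ j b c.1) *
        MvPolynomial.map (χ.comp (C.res a.2).toRingHom) (L.δ (j + 1) a.1 b) else 0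
    have e1 : ∀ b, MvPolynomial.map (χ.comp (C.res a.2).toRingHom) (L.δ (j + 1) a.1 b * g b) =
        h b := by
      intro b
      by_cases hba : L.loc (j + 1) b ≤ L.loc (j + 2) a.1
      · simp only [g, h, dif_pos hba, dif_pos (hba.trans a.2)]
        rw [map_mul, MvPolynomial.map_map, mul_comm]
        congr 3
        refine RingHom.ext fun x => ?_
        exact congrArg χ (C.res_res hba a.2 x)
      · have h0 : L.δ (j + 1) a.1 b = 0 := by
          by_contra h'
          exact hba (L.δ_loc _ _ _ h')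
        simp only [h, h0, map_zero, mul_zero, zero_mul, dite_eq_ite, ite_self]
    rw [Finset.sum_congr rfl fun b _ => e1 b]
    rw [← Finset.sum_subset (Finset.filter_subset (fun b => L.loc (j + 1) b ≤ t) Finset.univ)
      (fun b _ hb => by
        have hb' : ¬ L.loc (j + 1) b ≤ t := fun h' => hb (by simp [h'])
        simp only [dif_neg hb'])]
    rw [Finset.sum_subtype (p := fun b => L.loc (j + 1) b ≤ t) _ (fun b => by simp)]
    exact Finset.sum_congr rfl fun b _ => by simp only [dif_pos b.2]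
  rw [this, zero_smul]

/-- `L (s) ⊗ N` as a filtered complex over `E`. -/
noncomputable def fib (s : NE ι) {E : Type u} [CommRing E] (χ : C.C s →+* E) (N : Type u)
    [AddCommGroup N] [Module E N] : FCx E τ where
  X j := L.G j s → PM τ N
  d j := L.delX s χ N j
  d_d j v := L.delX_delX s χ N j v
  F j e := degSub E N (fun b : L.G j s => L.w j b.1) e
  mono j e e' h v hv b μ hμ := (hv b μ hμ).trans h
  exh j v := by
    classical
    refine ⟨Finset.univ.sup fun b : L.G j s => (PM.toFun' (v b)).support.sup fun μ =>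
      μ.degree + L.w j b.1, fun b μ h => ?_⟩
    refine le_trans ?_ (Finset.le_sup (Finset.mem_univ b))
    exact Finset.le_sup (f := fun μ => μ.degree + L.w j b.1) (Finsupp.mem_support_iff.2 h)
  smul_mem j e m p v hp hv b := (hv b).smul hp
  d_mem j e v hv b := by
    classical
    rw [delX_apply]
    intro μ hμ
    have h1 : PM.coeff μ (∑ a : L.G (j + 1) s,
        MvPolynomial.map (χ.comp (C.res a.2).toRingHom) (L.δ j a.1 b.1) • v a) =
        ∑ a : L.G (j + 1) s, PM.coeff μ
          (MvPolynomial.map (χ.comp (C.res a.2).toRingHom) (L.δ j a.1 b.1) • v a) :=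
      map_sum (AddMonoidHom.mk' (PM.coeff (M := N) μ) (PM.coeff_add μ)) _ _
    rw [h1] at hμ
    obtain ⟨a, -, ha⟩ := exists_ne_zero_of_sum_ne_zero hμ
    rcases L.δ_deg j a.1 b.1 with h | h
    · rw [h, map_zero, zero_smul] at ha
      exact absurd rfl ha
    · have h2 : PM.Deg (L.w (j + 1) a.1) (e + (L.δ j a.1 b.1).totalDegree)
          (MvPolynomial.map (χ.comp (C.res a.2).toRingHom) (L.δ j a.1 b.1) • v a) :=
        (hv a).smul (Finset.sup_mono (MvPolynomial.support_map_subset _ _))
      have := h2 μ ha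
      dsimp only
      omega

/-- Functoriality of the fibres. -/
noncomputable def fibF {s t : NE ι} {N N' : Type u} [AddCommGroup N] [AddCommGroup N'] (f : N →+ N')
    (j : ℕ) : (L.G j s → PM τ N) →+ (L.G j t → PM τ N') where
  toFun v b := by
    classical exact if h : L.loc j b.1 ≤ s then PM.map f (v ⟨b.1, h⟩) else 0
  map_zero' := by
    classical
    funext b
    by_cases h : L.loc j b.1 ≤ s
    · simp only [dif_pos h]
      exact map_zero _
    · simp only [dif_neg h]
      rfl
  map_add' v v' := by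
    classical
    funext b
    by_cases h : L.loc j b.1 ≤ s
    · simp only [Pi.add_apply, dif_pos h, map_add]
    · simp only [Pi.add_apply, dif_neg h, add_zero]

section

variable {s t : NE ι} {N N' : Type u} [AddCommGroup N] [AddCommGroup N'] (f : N →+ N') (j : ℕ)

lemma fibF_of (v : L.G j s → PM τ N) (b : L.G j t) (h : L.loc j b.1 ≤ s) :
    L.fibF f j v b = PM.map f (v ⟨b.1, h⟩) := dif_pos h

lemma fibF_of_not (v : L.G j s → PM τ N) (b : L.G j t) (h : ¬ L.loc j b.1 ≤ s) :
    L.fibF f j v b = 0 := dif_neg h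

lemma fibF_smul {E E' : Type u} [CommRing E] [CommRing E'] [Module E N] [Module E' N']
    (φ : E →+* E') (hf : ∀ (a : E) n, f (a • n) = φ a • f n) (p : MvPolynomial τ E)
    (v : L.G j s → PM τ N) :
    L.fibF (t := t) f j (p • v) = MvPolynomial.map φ p • L.fibF f j v := by
  funext b
  by_cases h : L.loc j b.1 ≤ s
  · rw [fibF_of _ _ _ _ _ h, Pi.smul_apply, Pi.smul_apply, fibF_of _ _ _ _ _ h]
    exact PM.map_smul' φ f hf p _
  · rw [fibF_of_not _ _ _ _ _ h, Pi.smul_apply, fibF_of_not _ _ _ _ _ h, smul_zero]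

lemma fibF_del (hst : s ≤ t) {E E' : Type u} [CommRing E] [CommRing E'] [Module E N]
    [Module E' N'] (χ : C.C s →+* E) (χ' : C.C t →+* E') (φ : E →+* E')
    (hχ : ∀ x, χ' (C.res hst x) = φ (χ x)) (hf : ∀ (a : E) n, f (a • n) = φ a • f n)
    (v : L.G (j + 1) s → PM τ N) :
    L.fibF (t := t) f j (L.delX s χ N j v) = L.delX t χ' N' j (L.fibF f (j + 1) v) := by
  classical
  funext b
  rw [delX_apply]
  by_cases hb : L.loc j b.1 ≤ s
  · rw [fibF_of _ _ _ _ _ hb, delX_apply, map_sum]
    let g : L.J (j + 1) → PM τ N' := fun a => if ha : L.loc (j + 1) a ≤ s then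
      MvPolynomial.map (χ'.comp (C.res (ha.trans hst)).toRingHom) (L.δ j a b.1) •
        PM.map f (v ⟨a, ha⟩) else 0
    have e1 : ∀ a : L.G (j + 1) s, PM.map f
        (MvPolynomial.map (χ.comp (C.res a.2).toRingHom) (L.δ j a.1 b.1) • v a) = g a.1 := by
      intro a
      simp only [g, dif_pos a.2]
      rw [PM.map_smul' φ f hf, MvPolynomial.map_map]
      congr 3
      refine RingHom.ext fun x => ?_
      change φ (χ (C.res a.2 x)) = χ' (C.res (a.2.trans hst) x)
      rw [← hχ, C.res_res]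
    have e2 : ∀ a : L.G (j + 1) t, MvPolynomial.map (χ'.comp (C.res a.2).toRingHom) (L.δ j a.1 b.1) •
        L.fibF f (j + 1) v a = g a.1 := by
      intro a
      by_cases ha : L.loc (j + 1) a.1 ≤ s
      · rw [fibF_of _ _ _ _ _ ha]
        simp only [g, dif_pos ha]
      · rw [fibF_of_not _ _ _ _ _ ha, smul_zero]
        simp only [g, dif_neg ha]
    rw [Finset.sum_congr rfl fun a _ => e1 a, Finset.sum_congr rfl fun a _ => e2 a]
    rw [← Finset.sum_subtype (Finset.univ.filter fun a => L.loc (j + 1) a ≤ s) (fun b => by simp) g,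
      ← Finset.sum_subtype (Finset.univ.filter fun a => L.loc (j + 1) a ≤ t) (fun b => by simp) g]
    refine Finset.sum_subset (fun a ha => ?_) (fun a _ ha => ?_)
    · simp only [Finset.mem_filter, Finset.mem_univ, true_and] at ha ⊢
      exact ha.trans hst
    · simp only [Finset.mem_filter, Finset.mem_univ, true_and] at ha
      simp only [g, dif_neg ha]
  · rw [fibF_of_not _ _ _ _ _ hb]
    symm
    refine Finset.sum_eq_zero fun a _ => ?_
    by_cases ha : L.loc (j + 1) a.1 ≤ s
    · have h0 : L.δ j a.1 b.1 = 0 := by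
        by_contra h'
        exact hb ((L.δ_loc _ _ _ h').trans ha)
      rw [h0, map_zero, zero_smul]
    · rw [fibF_of_not _ _ _ _ _ ha, smul_zero]

lemma fibF_mem {e : ℕ} {v : L.G j s → PM τ N} (hv : ∀ b : L.G j s, PM.Deg (L.w j b.1) e (v b))
    (b : L.G j t) : PM.Deg (L.w j b.1) e (L.fibF f j v b) := by
  by_cases hb : L.loc j b.1 ≤ s
  · rw [fibF_of _ _ _ _ _ hb]
    exact (hv ⟨b.1, hb⟩).map f
  · rw [fibF_of_not _ _ _ _ _ hb]
    exact fun μ hμ => absurd rfl hμ

lemma fibF_fibF {r : NE ι} (hrs : r ≤ s) {N₀ : Type u} [AddCommGroup N₀] (g : N₀ →+ N)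
    (v : L.G j r → PM τ N₀) :
    L.fibF (s := s) (t := t) f j (L.fibF g j v) = L.fibF (f.comp g) j v := by
  funext b
  by_cases hb : L.loc j b.1 ≤ r
  · rw [fibF_of _ _ _ _ _ (hb.trans hrs), fibF_of _ _ _ _ ⟨b.1, hb.trans hrs⟩ hb,
      fibF_of _ _ _ _ _ hb]
    ext μ
    rw [PM.coeff_map, PM.coeff_map, PM.coeff_map, AddMonoidHom.comp_apply]
  · rw [fibF_of_not _ _ _ _ _ hb]
    by_cases hb' : L.loc j b.1 ≤ s
    · rw [fibF_of _ _ _ _ _ hb', fibF_of_not _ _ _ _ ⟨b.1, hb'⟩ hb, map_zero]
    · rw [fibF_of_not _ _ _ _ _ hb']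

lemma fibF_id (f : N →+ N) (hf : ∀ n, f n = n) (v : L.G j s → PM τ N) : L.fibF f j v = v := by
  funext b
  rw [fibF_of _ _ _ _ _ b.2]
  ext μ
  rw [PM.coeff_map, hf]

end

/-- Functoriality of the fibres. -/
noncomputable def fibMap {s t : NE ι} (hst : s ≤ t) {E E' : Type u} [CommRing E] [CommRing E']
    (χ : C.C s →+* E) (χ' : C.C t →+* E') (φ : E →+* E')
    (hχ : ∀ x, χ' (C.res hst x) = φ (χ x)) {N N' : Type u} [AddCommGroup N]
    [Module E N] [AddCommGroup N'] [Module E' N'] (f : N →+ N')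
    (hf : ∀ (a : E) n, f (a • n) = φ a • f n) :
    FCx.Map φ (L.fib s χ N) (L.fib t χ' N') where
  f j := L.fibF f j
  f_smul j p v := L.fibF_smul f j φ hf p v
  f_d j v := L.fibF_del f j hst χ χ' φ hχ hf v
  f_mem j _ _ hv b := L.fibF_mem f j hv b

end LData

end Groth.Agent.Flat2B.GEx
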