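import Groth.Agent.Flat2B.GExSC4Defs

/-!
# S1270, route E, scheme side SC4: the alternating complex (algebra)

* `cd_cd` : the Cech differential squares to zero;
* `isCyc_top_iff` : cycles in the top homological degree `card ι - 1` (cohomological degree 0).
-/

set_option autoImplicit false
universe u

open Finset Groth.Agent.Ega3B.Cube

namespace Groth.Agent.Flat2B.GExSC4

open GEx GEx.MDiag

variable {S : Type u} [CommRing S] {ι : Type} [LinearOrder ι] [Fintype ι] {D : RDiag S (NE ι)}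
  {M : MDiag D}

lemma cd_eq {k : ℕ} (x : M.HK (k + 1)) (s : {s : NE ι // s.1.card + k = Fintype.card ι}) :
    M.cd k x s = ∑ i ∈ s.1.1, sgn i s.1.1 • cev x s.1 (s.1.1.erase i) := rfl

lemma cev_pos {k : ℕ} (x : M.HK k) (s : NE ι) (t : {s : NE ι // s.1.card + k = Fintype.card ι})
    (h : t.1 ≤ s) : cev x s t.1.1 = M.res h (x t) := by
  rw [cev, dif_pos ⟨t.1.2, h, t.2⟩]

lemma cev_neg {k : ℕ} (x : M.HK k) (s : NE ι) {t : Finset ι}
    (h : ¬ (t.Nonempty ∧ t ⊆ s.1 ∧ t.card + k = Fintype.card ι)) : cev x s t = 0 := by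
  rw [cev, dif_neg h]

lemma cev_res {k : ℕ} (x : M.HK k) {s s' : NE ι} (h : s ≤ s') (t : Finset ι) (ht : t ⊆ s.1) :
    M.res h (cev x s t) = cev x s' t := by
  by_cases h1 : t.Nonempty ∧ t.card + k = Fintype.card ι
  · rw [cev, dif_pos ⟨h1.1, ht, h1.2⟩, cev, dif_pos ⟨h1.1, ht.trans h, h1.2⟩, M.res_res]
  · rw [cev_neg x s (fun h2 => h1 ⟨h2.1, h2.2.2⟩), cev_neg x s' (fun h2 => h1 ⟨h2.1, h2.2.2⟩), map_zero]

lemma cev_cd {k : ℕ} (x : M.HK (k + 1)) (s : NE ι) (t : {s : NE ι // s.1.card + k = Fintype.card ι})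
    (h : t.1 ≤ s) : cev (M.cd k x) s t.1.1 = ∑ i ∈ t.1.1, sgn i t.1.1 • cev x s (t.1.1.erase i) := by
  rw [cev_pos _ _ _ h, cd_eq, map_sum]
  refine sum_congr rfl fun i _ => ?_
  rw [map_zsmul, cev_res x h _ (erase_subset _ _)]

theorem cd_cd (k : ℕ) (x : M.HK (k + 2)) : M.cd k (M.cd (k + 1) x) = 0 := by
  funext s
  rw [cd_eq, Pi.zero_apply]
  have e2 : ∀ i ∈ s.1.1, sgn i s.1.1 • cev (M.cd (k + 1) x) s.1 (s.1.1.erase i) =
      ∑ i' ∈ s.1.1.erase i, (sgn i s.1.1 * sgn i' (s.1.1.erase i)) •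
        cev x s.1 ((s.1.1.erase i).erase i') := by
    intro i hi
    have hc : (s.1.1.erase i).card + 1 = s.1.1.card := card_erase_add_one hi
    by_cases hne : (s.1.1.erase i).Nonempty
    · have h1 := cev_cd x s.1 ⟨⟨s.1.1.erase i, hne⟩, by have := s.2; dsimp only; omega⟩
        (show s.1.1.erase i ⊆ s.1.1 from erase_subset _ _)
      dsimp only at h1
      rw [h1, smul_sum]
      exact sum_congr rfl fun i' _ => smul_smul _ _ _
    · rw [cev_neg _ _ (fun h => hne h.1), smul_zero, not_nonempty_iff_eq_empty.1 hne, sum_empty]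
  rw [sum_congr rfl e2, sum_sigma']
  refine sum_involution (fun x _ => ⟨x.2, x.1⟩) ?_ ?_ ?_ ?_
  · rintro ⟨i, i'⟩ hx
    simp only [mem_sigma, mem_erase] at hx
    obtain ⟨hi, hne, hi'⟩ := hx
    have := sgn_erase_key hi hi' (Ne.symm hne)
    simp only
    rw [this, erase_right_comm (a := i') (b := i), neg_smul, neg_add_cancel]
  · rintro ⟨i, i'⟩ hx _ h
    simp only [mem_sigma, mem_erase] at hx
    obtain ⟨hi, hne, hi'⟩ := hx
    simp only [Sigma.mk.injEq, heq_eq_eq] at h
    exact hne h.1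
  · rintro ⟨i, i'⟩ hx
    simp only [mem_sigma, mem_erase] at hx ⊢
    exact ⟨hx.2.2, Ne.symm hx.2.1, hx.1⟩
  · rintro ⟨i, i'⟩ hx
    rfl

lemma cyc_cd (k : ℕ) (x : M.HK (k + 1)) : M.IsCyc k (M.cd k x) := by
  cases k with
  | zero => trivial
  | succ k => exact cd_cd k x

lemma isCyc_add {k : ℕ} {x y : M.HK k} (hx : M.IsCyc k x) (hy : M.IsCyc k y) : M.IsCyc k (x + y) := by
  cases k with
  | zero => trivial
  | succ k =>
    change M.cd k (x + y) = 0
    rw [map_add, (show M.cd k x = 0 from hx), (show M.cd k y = 0 from hy), add_zero]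

/-- The `i`-component in the top degree. -/
def tc {k : ℕ} (hk : k + 1 = Fintype.card ι) (x : M.HK k) (i : ι) : M.M (sg i) :=
  x ⟨sg i, by rw [card_singleton, add_comm, hk]⟩

lemma cev_tc {k : ℕ} (hk : k + 1 = Fintype.card ι) (x : M.HK k) (s : NE ι) (i : ι) (hi : sg i ≤ s) :
    cev x s {i} = M.res hi (tc hk x i) := by
  exact cev_pos x s ⟨sg i, by rw [card_singleton, add_comm, hk]⟩ hi

omit [Fintype ι] in
lemma sgn_pair_left {i j : ι} (h : i < j) : sgn i ({i, j} : Finset ι) = 1 := by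
  have : ({i, j} : Finset ι).filter (· < i) = ∅ := by
    ext a
    simp only [mem_filter, mem_insert, mem_singleton, notMem_empty, iff_false]
    rintro ⟨rfl | rfl, h'⟩
    · exact lt_irrefl _ h'
    · exact lt_asymm h h'
  rw [sgn, this, card_empty, pow_zero]

omit [Fintype ι] in
lemma sgn_pair_right {i j : ι} (h : i < j) : sgn j ({i, j} : Finset ι) = -1 := by
  have : ({i, j} : Finset ι).filter (· < j) = {i} := by
    ext a
    simp only [mem_filter, mem_insert, mem_singleton]
    constructor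
    · rintro ⟨rfl | rfl, h'⟩
      · rfl
      · exact absurd h' (lt_irrefl _)
    · rintro rfl
      exact ⟨Or.inl rfl, h⟩
  rw [sgn, this, card_singleton, pow_one]

lemma cd_pair {k : ℕ} (hk : k + 2 = Fintype.card ι) (x : M.HK (k + 1)) {i j : ι} (h : i < j)
    (s : {s : NE ι // s.1.card + k = Fintype.card ι}) (hs : s.1.1 = {i, j}) (hi : sg i ≤ s.1)
    (hj : sg j ≤ s.1) : M.cd k x s = M.res hj (tc hk x j) - M.res hi (tc hk x i) := by
  rw [cd_eq, ← cev_tc hk x s.1 i, ← cev_tc hk x s.1 j, hs, sum_pair h.ne, sgn_pair_left h,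
    sgn_pair_right h]
  have e1 : ({i, j} : Finset ι).erase i = {j} := by
    rw [erase_insert (by simpa using h.ne)]
  have e2 : ({i, j} : Finset ι).erase j = {i} := by
    rw [pair_comm, erase_insert (by simpa using h.ne')]
  rw [e1, e2, one_smul, neg_smul, one_smul, sub_eq_add_neg]

/-- Cycles in the top degree are the compatible families. -/
theorem isCyc_top_iff {k : ℕ} (hk : k + 1 = Fintype.card ι) (x : M.HK k) :
    M.IsCyc k x ↔ ∀ i j, M.res (sg_le_ins i (sg j)) (tc hk x i) = M.res (le_ins i (sg j)) (tc hk x j) := by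
  cases k with
  | zero =>
    refine ⟨fun _ i j => ?_, fun _ => trivial⟩
    have : Subsingleton ι := Fintype.card_le_one_iff_subsingleton.1 hk.ge
    obtain rfl := Subsingleton.elim i j
    rfl
  | succ k =>
    have hres : ∀ (s s' : NE ι) (h : s = s') (i j : ι) (hi : sg i ≤ s) (hj : sg j ≤ s) (hi' : sg i ≤ s')
        (hj' : sg j ≤ s'), M.res hi (tc hk x i) = M.res hj (tc hk x j) →
        M.res hi' (tc hk x i) = M.res hj' (tc hk x j) := by
      rintro s _ rfl i j hi hj hi' hj' h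
      exact h
    constructor
    · intro hx
      have key : ∀ i j, i < j → ∀ (s : NE ι) (_ : s.1 = {i, j}) (hi : sg i ≤ s) (hj : sg j ≤ s),
          M.res hi (tc hk x i) = M.res hj (tc hk x j) := by
        intro i j hij s hs hi hj
        have h1 : M.cd k x = 0 := hx
        have h2 := cd_pair hk x hij ⟨s, by rw [hs, card_pair hij.ne]; omega⟩ hs hi hj
        rw [h1, Pi.zero_apply] at h2
        exact (sub_eq_zero.1 h2.symm).symm
      intro i j
      rcases lt_trichotomy i j with h | h | h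
      · exact key i j h _ rfl _ _
      · subst h
        rfl
      · exact (key j i h _ (pair_comm i j) _ _).symm
    · intro h
      change M.cd k x = 0
      funext s
      have hs : s.1.1.card = 2 := by have := s.2; omega
      obtain ⟨i, j, hij, hs'⟩ := card_eq_two.1 hs
      rw [Pi.zero_apply]
      rcases lt_or_gt_of_ne hij with h' | h'
      · have hi : sg i ≤ s.1 := show ({i} : Finset ι) ⊆ s.1.1 by rw [hs']; simp
        have hj : sg j ≤ s.1 := show ({j} : Finset ι) ⊆ s.1.1 by rw [hs']; simp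
        rw [cd_pair hk x h' s hs' hi hj, sub_eq_zero]
        exact (hres (ins i (sg j)) s.1 (Subtype.ext hs'.symm) i j _ _ hi hj (h i j)).symm
      · have hs'' : s.1.1 = {j, i} := by rw [hs', pair_comm]
        have hi : sg i ≤ s.1 := show ({i} : Finset ι) ⊆ s.1.1 by rw [hs']; simp
        have hj : sg j ≤ s.1 := show ({j} : Finset ι) ⊆ s.1.1 by rw [hs']; simp
        rw [cd_pair hk x h' s hs'' hj hi, sub_eq_zero]
        exact (hres (ins j (sg i)) s.1 (Subtype.ext hs''.symm) j i _ _ hj hi (h j i)).symm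

end Groth.Agent.Flat2B.GExSC4
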