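import Groth.Agent.Flat2B.GExSC4Defs

/-!
# S1270, route E: the output of SC4 used in the final assembly

For a diagram of modules `M` on a family `W` of affine opens: the cohomology sheaves `H k`
(homological indexing) of the Cech complex of quasi-coherent sheaves attached to `M`, their sections
on `W (sg i)` in terms of the Cech complex of the base change `N` of `M` to `W (ins i s)`, and
morphisms out of the top one.
-/

set_option autoImplicit false
universe u

open CategoryTheory AlgebraicGeometry TopologicalSpace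

namespace Groth.Agent.Flat2B.GExSC4

open GEx GExSC1 LoccohB.GlueHom

/-- The output of SC4. -/
structure CohOut {S : Type u} [CommRing S] {X : Scheme.{u}} {f : X ⟶ Spec (CommRingCat.of S)}
    {ι : Type} [LinearOrder ι] [Fintype ι] {W : NE ι → X.Opens} {hW : ∀ s t : NE ι, s ≤ t → W t ≤ W s}
    (M : MDiag (ringD f W hW)) where
  H : ℕ → X.Modules
  qc : ∀ k, Coh.IsQCoh (H k)
  /-- homology classes of Cech cycles; only the values on cycles matter -/
  a : ∀ (i : ι) (N : MDiag ((ringD f W hW).shift i)) (κ : ∀ s, M.M s →+ N.M s) (_ : IsBCD κ) (k : ℕ),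
    N.HK k → Γ(H k, W (sg i))
  a_add : ∀ (i : ι) (N : MDiag ((ringD f W hW).shift i)) (κ : ∀ s, M.M s →+ N.M s) (hκ : IsBCD κ)
    (k : ℕ) (x y : N.HK k), N.IsCyc k x → N.IsCyc k y →
    a i N κ hκ k (x + y) = a i N κ hκ k x + a i N κ hκ k y
  a_smul : ∀ (i : ι) (N : MDiag ((ringD f W hW).shift i)) (κ : ∀ s, M.M s →+ N.M s) (hκ : IsBCD κ)
    (k : ℕ) (c : (ringD f W hW).C (sg i)) (x y : N.HK k), N.IsCyc k x →
    (∀ s : {s : NE ι // s.1.card + k = Fintype.card ι},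
      y s = (show ((ringD f W hW).shift i).C s.1 from (ringD f W hW).res (sg_le_ins i s.1) c) • x s) →
    a i N κ hκ k y = (show Γ(X, W (sg i)) from c) • a i N κ hκ k x
  a_surj : ∀ (i : ι) (N : MDiag ((ringD f W hW).shift i)) (κ : ∀ s, M.M s →+ N.M s) (hκ : IsBCD κ)
    (k : ℕ) (s : Γ(H k, W (sg i))), ∃ x : N.HK k, N.IsCyc k x ∧ a i N κ hκ k x = s
  a_ker : ∀ (i : ι) (N : MDiag ((ringD f W hW).shift i)) (κ : ∀ s, M.M s →+ N.M s) (hκ : IsBCD κ)
    (k : ℕ) (x : N.HK k), N.IsCyc k x → (a i N κ hκ k x = 0 ↔ ∃ y, N.cd k y = x)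
  /-- morphisms out of the top homology sheaf -/
  c : ∀ (t : ℕ) (_ : t + 1 = Fintype.card ι) (𝓕 : X.Modules) (m : ∀ s, M.M s →+ Γ(𝓕, W s)),
    (∀ (s : NE ι) (c : (ringD f W hW).C s) (x : M.M s), m s (c • x) = (show Γ(X, W s) from c) • m s x) →
    (∀ {s s' : NE ι} (h : s ≤ s') (x : M.M s), res 𝓕 (hW s s' h) (m s x) = m s' (M.res h x)) →
    ∃ c : H t ⟶ 𝓕, ∀ (i : ι) (N : MDiag ((ringD f W hW).shift i)) (κ : ∀ s, M.M s →+ N.M s)
      (hκ : IsBCD κ) (γ : ∀ s : NE ι, N.M s →+ Γ(𝓕, W (ins i s))),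
      (∀ (s : NE ι) (c : ((ringD f W hW).shift i).C s) (x : N.M s),
        γ s (c • x) = (show Γ(X, W (ins i s)) from c) • γ s x) →
      (∀ (s : NE ι) (x : M.M s), γ s (κ s x) = res 𝓕 (hW _ _ (le_ins i s)) (m s x)) →
      ∀ (x : N.HK t), N.IsCyc t x → ∀ (i' : ι) (h' : (sg i').1.card + t = Fintype.card ι),
        res 𝓕 (hW _ _ (sg_le_ins i (sg i'))) (c.app (W (sg i)) (a i N κ hκ t x)) =
          γ (sg i') (x ⟨sg i', h'⟩)

end Groth.Agent.Flat2B.GExSC4
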