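import Groth.Agent.Flat2B.GExAsm
import Groth.Agent.Flat2B.GExSC4Out
import Groth.Agent.Flat2B.GExEnd2
import Groth.Agent.Flat2B.GExSC4C

/-!
# S1270, route E: the input of the end game from the algebraic part and the cohomology sheaves
-/

set_option autoImplicit false
universe u

open CategoryTheory CategoryTheory.Limits AlgebraicGeometry Opposite TopologicalSpace MvPolynomial

namespace Groth.Agent.Flat2B.GExFin

open GEx GExGlob GExSC1 GExSC4 LoccohB.GlueHom

section MatCx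

variable {S S' : Type u} [CommRing S] [CommRing S'] {τ : Type} (K : FreeCx S τ)

theorem toMatCx_isCyc (k : ℕ) (v : K.J k → MvPolynomial τ S) : K.toMatCx.IsCyc k v ↔ K.IsCyc k v := by
  cases k <;> rfl

theorem toMatCx_map_isCyc (χ : S →+* S') (k : ℕ) (v : K.J k → MvPolynomial τ S') :
    (K.toMatCx.map χ).IsCyc k v ↔ (K.map χ).IsCyc k v := by
  cases k <;> rfl

end MatCx

section Smul

variable {X X' : Scheme.{u}} (j : X' ⟶ X) (F : X'.Modules)

/-- The module structure on the sections of a direct image. -/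
theorem pushforward_smul (V : X.Opens) (c : Γ(X, V)) (y : Γ(F, j ⁻¹ᵁ V)) :
    (c • (show Γ((Scheme.Modules.pushforward j).obj F, V) from y) :
      Γ((Scheme.Modules.pushforward j).obj F, V)) = ((j.appLE V (j ⁻¹ᵁ V) le_rfl).hom c • y : Γ(F, j ⁻¹ᵁ V)) := by
  rw [Scheme.Hom.appLE_eq_app]
  rfl

end Smul

section C

variable {S S' : Type u} [CommRing S] [CommRing S'] {ψ : S →+* S'} {X X' : Scheme.{u}}
  {f : X ⟶ Spec (CommRingCat.of S)} {g : X' ⟶ Spec (CommRingCat.of S')} {j : X' ⟶ X}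
  {ι : Type} [LinearOrder ι] [Fintype ι] {W : NE ι → X.Opens} {hW : ∀ s t : NE ι, s ≤ t → W t ≤ W s}
  {hW' : ∀ s t : NE ι, s ≤ t → (fun s => j ⁻¹ᵁ W s) t ≤ (fun s => j ⁻¹ᵁ W s) s}
  {hh : j ≫ f = g ≫ Spec.map (CommRingCat.ofHom ψ)}
  {MA : MDiag (ringD f W hW)} {F : X'.Modules}

/-- The morphisms out of the top homology sheaf, in the form needed for the end game. -/
theorem exists_c (T : CohOut MA) (t : ℕ) (ht : t + 1 = Fintype.card ι)
    (ρ : MDiag.Hom (ringHom (hW := hW) (W' := fun s => j ⁻¹ᵁ W s) (hW' := hW') j hh (fun _ => le_rfl))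
      MA (modD g (fun s => j ⁻¹ᵁ W s) hW' F)) :
    ∃ c : T.H t ⟶ (Scheme.Modules.pushforward j).obj F,
      ∀ (i : ι) (NA : MDiag ((ringD f W hW).shift i)) (κ : ∀ s, MA.M s →+ NA.M s) (hκ : IsBCD κ)
        (θ : ∀ s, NA.M s →+ (modD g (fun s => j ⁻¹ᵁ W s) hW' F).M (ins i s)),
        (∀ s (c : (ringD f W hW).C (ins i s)) x, θ s (c • x) =
          (ringHom (hW := hW) (W' := fun s => j ⁻¹ᵁ W s) (hW' := hW') j hh (fun _ => le_rfl)).f (ins i s) c •
            θ s x) →
        (∀ s m, θ s (κ s m) = (modD g (fun s => j ⁻¹ᵁ W s) hW' F).res (le_ins i s) (ρ.f s m)) →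
        ∀ (x : NA.HK t), NA.IsCyc t x → ∀ (i' : ι) (h' : (sg i').1.card + t = Fintype.card ι),
        (res ((Scheme.Modules.pushforward j).obj F) (hW _ _ (sg_le_ins i (sg i')))
          (c.app (W (sg i)) (T.a i NA κ hκ t x)) :
            Γ((Scheme.Modules.pushforward j).obj F, W (ins i (sg i')))) = θ (sg i') (x ⟨sg i', h'⟩) := by
  obtain ⟨c, hc⟩ := T.c t ht ((Scheme.Modules.pushforward j).obj F) (fun s => ρ.f s)
    (fun s c x => (ρ.f_smul s c x).trans (pushforward_smul j F (W s) c (ρ.f s x)).symm)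
    (fun h x => (ρ.f_res h x).symm)
  refine ⟨c, fun i NA κ hκ θ hθ hθκ x hx i' h' => ?_⟩
  exact hc i NA κ hκ θ
    (fun s c x => (hθ s c x).trans (pushforward_smul j F (W (ins i s)) c (θ s x)).symm)
    (fun s m => hθκ s m) x hx i' h'

end C

section Main

variable {A : Type u} [CommRing A] {A' : ℕ → Type u} [∀ n, CommRing (A' n)] {π : ∀ n, A →+* A' n}
  {X : Scheme.{u}} {f : X ⟶ Spec (CommRingCat.of A)}
  {ι : Type} [LinearOrder ι] [Fintype ι] {W : NE ι → X.Opens} {hW : ∀ s t : NE ι, s ≤ t → W t ≤ W s}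
  {MA : MDiag (ringD f W hW)}
  {Xn : ℕ → Scheme.{u}} {j : ∀ n, Xn n ⟶ X} {F : ∀ n, (Xn n).Modules}

omit [Fintype ι] in
lemma eq_sg {s : NE ι} (h : s.1.card = 1) : ∃ i, s = sg i := by
  obtain ⟨i, hi⟩ := Finset.card_eq_one.1 h
  exact ⟨i, Subtype.ext hi⟩

lemma res_injective (G : X.Modules) {V V' : X.Opens} (h : V' ≤ V) (h' : V ≤ V') :
    Function.Injective (res G h) := by
  intro x y hxy
  have := congrArg (res G h') hxy
  rwa [res_res, res_res, res_self, res_self] at this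

/-- F1: the input of the end game on `W (sg i)`. -/
theorem nonempty_endData (T : CohOut MA) (t : ℕ) (ht : t + 1 = Fintype.card ι)
    (c : ∀ n, T.H t ⟶ (Scheme.Modules.pushforward (j n)).obj (F n))
    {i : ι} {NA : MDiag ((ringD f W hW).shift i)} {κ : ∀ s, MA.M s →+ NA.M s} (hκ : IsBCD κ)
    (θ : ∀ n s, NA.M s →+ Γ((Scheme.Modules.pushforward (j n)).obj (F n), W (ins i s)))
    (hc : ∀ n (x : NA.HK t), NA.IsCyc t x → ∀ (i' : ι) (h' : (sg i').1.card + t = Fintype.card ι),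
      res ((Scheme.Modules.pushforward (j n)).obj (F n)) (hW _ _ (sg_le_ins i (sg i')))
        ((c n).app (W (sg i)) (T.a i NA κ hκ t x)) = θ n (sg i') (x ⟨sg i', h'⟩))
    {Λ : Type u} [CommRing Λ] {l : Λ →+* A} {C : RDiag Λ (NE ι)} (iA : RDiag.Hom l C (ringD f W hW))
    {τ : Type} [Finite τ] (b : τ → C.C (sg i)) (hψ : Function.Surjective (psi iA b))
    (K : FreeCx A τ) (a : ∀ k, (K.J k → MvPolynomial τ A) →+ NA.HK k)
    (h1 : ∀ k p v s, a k (p • v) s = (ringD f W hW).res (sg_le_ins i s.1) (psi iA b p) • a k v s)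
    (h2 : ∀ k v, a k (K.d k v) = NA.cd k (a (k + 1) v))
    (h3 : ∀ n : NA.HK 0, ∃ v n', a 0 v + NA.cd 0 n' = n)
    (h4 : ∀ k v n, K.IsCyc k v → a k v = NA.cd k n →
      ∃ v' n', K.d k v' = v ∧ a (k + 1) v' + NA.cd (k + 1) n' = n)
    (h5 : ∀ n k, k + 1 ≠ Fintype.card ι → ∀ v, (K.map (π n)).IsCyc k v →
      ∃ w, (K.map (π n)).d k w = v)
    (h6 : ∀ n (m : Γ((Scheme.Modules.pushforward (j n)).obj (F n), W (sg i))),
      ∃ v', (K.map (π n)).IsCyc t v' ∧ ∀ v, K.IsCyc t v → FreeCx.mapVec (π n) v = v' →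
        ∀ s, θ n s.1 (a t v s) =
          res ((Scheme.Modules.pushforward (j n)).obj (F n)) (hW _ _ (sg_le_ins i s.1)) m)
    (h7 : ∀ n v, K.IsCyc t v → (∀ s, θ n s.1 (a t v s) = 0) →
      ∃ w, (K.map (π n)).d t w = FreeCx.mapVec (π n) v) :
    Nonempty (EndData' π f j F t T.H c (W (sg i))) := by
  have hcyc : ∀ k v, K.IsCyc k v → NA.IsCyc k (a k v) := by
    intro k v hv
    cases k with
    | zero => trivial
    | succ k =>
      change NA.cd k (a (k + 1) v) = 0
      rw [← h2, show K.d k v = 0 from hv, map_zero]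
  have hcd : ∀ k (n : NA.HK (k + 1)), T.a i NA κ hκ k (NA.cd k n) = 0 := fun k n =>
    (T.a_ker i NA κ hκ k _ (cyc_cd k n)).2 ⟨n, rfl⟩
  -- surjectivity on classes
  have hsurj : ∀ k (x : NA.HK k), NA.IsCyc k x → ∃ v n', K.IsCyc k v ∧ a k v + NA.cd k n' = x := by
    intro k x hx
    cases k with
    | zero =>
      obtain ⟨v, n', h⟩ := h3 x
      exact ⟨v, n', trivial, h⟩
    | succ k =>
      obtain ⟨v, n', hv, h⟩ := h4 k 0 x (by
        cases k with
        | zero => trivial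
        | succ k => exact map_zero _) (by
          rw [map_zero]
          exact hx.symm)
      exact ⟨v, n', hv, h⟩
  have hcard : (sg i).1.card + t = Fintype.card ι := by
    rw [← ht, Finset.card_singleton]
    omega
  refine ⟨{
    τ := τ
    ψ := psi iA b
    ψ_surj := hψ
    ψ_C := fun r => ?_
    K := K.toMatCx
    a := fun k v => T.a i NA κ hκ k (a k v)
    a_add := fun k _ v w hv hw => ?_
    a_smul := fun k _ p v hv => ?_
    a_surj := fun k _ s => ?_
    a_ker := fun k _ v hv => ?_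
    exact := fun k hk v hv => ?_
    c_surj' := fun n m => ?_
    c_ker := fun n v hv h0 => ?_ }⟩
  · exact eval₂_C _ _ r
  · replace hv := (toMatCx_isCyc K k v).1 hv
    replace hw := (toMatCx_isCyc K k w).1 hw
    exact (congrArg (T.a i NA κ hκ k) (map_add (a k) v w)).trans
      (T.a_add i NA κ hκ k _ _ (hcyc k v hv) (hcyc k w hw))
  · replace hv := (toMatCx_isCyc K k v).1 hv
    exact T.a_smul i NA κ hκ k (psi iA b p) (a k v) (a k (p • v)) (hcyc k v hv) (fun s => h1 k p v s)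
  · obtain ⟨x, hx, hxs⟩ := T.a_surj i NA κ hκ k s
    obtain ⟨v, n', hv, h⟩ := hsurj k x hx
    refine ⟨v, (toMatCx_isCyc K k v).2 hv, ?_⟩
    rw [← hxs, ← h, T.a_add i NA κ hκ k _ _ (hcyc k v hv) (cyc_cd k n'), hcd, add_zero]
  · replace hv := (toMatCx_isCyc K k v).1 hv
    rw [T.a_ker i NA κ hκ k _ (hcyc k v hv)]
    constructor
    · rintro ⟨y, hy⟩
      obtain ⟨v', n', hv', -⟩ := h4 k v y hv hy.symm
      exact ⟨v', hv'⟩
    · rintro ⟨w, hw⟩
      exact ⟨a (k + 1) w, (h2 k w).symm.trans (congrArg (a k) hw)⟩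
  · exact h5 0 k (by omega) v ((toMatCx_map_isCyc K (π 0) k v).1 hv)
  · obtain ⟨v', hv', h⟩ := h6 n m
    refine ⟨v', (toMatCx_map_isCyc K (π n) t v').2 hv', fun v hv hvv => ?_⟩
    replace hv := (toMatCx_isCyc K t v).1 hv
    have e1 := hc n (a t v) (hcyc t v hv) i hcard
    have e2 := h v hv hvv ⟨sg i, hcard⟩
    exact res_injective _ _ (hW _ _ (Finset.insert_subset (Finset.mem_singleton_self i) (Finset.Subset.refl _)))
      (e1.trans e2)
  · replace hv := (toMatCx_isCyc K t v).1 hv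
    refine h7 n v hv fun s => ?_
    obtain ⟨s, hs⟩ := s
    obtain ⟨i', rfl⟩ : ∃ i', s = sg i' := eq_sg (by
      have : s.1.card + t = Fintype.card ι := hs
      omega)
    have e1 := hc n (a t v) (hcyc t v hv) i' hs
    rw [h0, map_zero] at e1
    exact e1.symm

end Main

end Groth.Agent.Flat2B.GExFin
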