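import Groth.Agent.Flat2B.GExAL6

/-!
# S1270, route E: limits of diagrams of modules, base change `M ↦ (s ↦ D (s ∪ {i}) ⊗ M s)`
-/

universe u

open TensorProduct

namespace Groth.Agent.Flat2B.GEx

/-- The universal property of `IsBCMap`. -/
theorem IsBCMap.exists_lift {R R' : Type u} [CommRing R] [CommRing R'] {φ : R →+* R'} {M M' : Type u}
    [AddCommGroup M] [AddCommGroup M'] [Module R M] [Module R' M'] {f : M →+ M'}
    (hf : IsBCMap φ f) {R'' : Type u} [CommRing R''] (h : R' →+* R'') {Q : Type u} [AddCommGroup Q]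
    [Module R'' Q] (g : M →+ Q) (hg : ∀ (a : R) m, g (a • m) = h (φ a) • g m) :
    ∃ θ : M' →+ Q, (∀ (c : R') x, θ (c • x) = h c • θ x) ∧ ∀ m, θ (f m) = g m := by
  obtain ⟨h1, h2⟩ := hf
  letI := φ.toAlgebra
  letI : Module R M' := Module.compHom M' φ
  haveI : IsScalarTower R R' M' := ⟨fun a b c => by
      change (φ a * b) • c = φ a • b • c
      rw [mul_smul]⟩
  letI : Module R' Q := Module.compHom Q h
  letI : Module R Q := Module.compHom Q (h.comp φ)
  haveI : IsScalarTower R R' Q := ⟨fun a b c => by
      change h (φ a * b) • c = h (φ a) • h b • c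
      rw [map_mul, mul_smul]⟩
  let g' : M →ₗ[R] Q := { toFun := g, map_add' := g.map_add, map_smul' := hg }
  refine ⟨(h2.lift g').toAddMonoidHom, fun c x => (h2.lift g').map_smul c x, fun m => ?_⟩
  exact h2.lift_eq g' m

/-- Uniqueness in the universal property of `IsBCMap`. -/
theorem IsBCMap.hom_ext {R R' : Type u} [CommRing R] [CommRing R'] {φ : R →+* R'} {M M' : Type u}
    [AddCommGroup M] [AddCommGroup M'] [Module R M] [Module R' M'] {f : M →+ M'}
    (hf : IsBCMap φ f) {R'' : Type u} [CommRing R''] (h : R' →+* R'') {Q : Type u} [AddCommGroup Q]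
    [Module R'' Q] {θ θ' : M' →+ Q} (hθ : ∀ (c : R') x, θ (c • x) = h c • θ x)
    (hθ' : ∀ (c : R') x, θ' (c • x) = h c • θ' x) (H : ∀ m, θ (f m) = θ' (f m)) : θ = θ' := by
  obtain ⟨h1, h2⟩ := hf
  letI := φ.toAlgebra
  letI : Module R M' := Module.compHom M' φ
  haveI : IsScalarTower R R' M' := ⟨fun a b c => by
      change (φ a * b) • c = φ a • b • c
      rw [mul_smul]⟩
  letI : Module R' Q := Module.compHom Q h
  let t : M' →ₗ[R'] Q := { toFun := θ, map_add' := θ.map_add, map_smul' := hθ }
  let t' : M' →ₗ[R'] Q := { toFun := θ', map_add' := θ'.map_add, map_smul' := hθ' }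
  have : t = t' := by
    refine LinearMap.ext fun x => ?_
    refine IsBaseChange.inductionOn h2 x (fun x => t x = t' x) (by simp) (fun m => H m)
      (fun c x hx => by rw [map_smul, map_smul, hx]) (fun x y hx hy => by rw [map_add, map_add, hx, hy])
  ext x
  exact LinearMap.congr_fun this x

theorem isBCMap_of_equiv {R R' : Type u} [CommRing R] [CommRing R'] (φ : R →+* R') {M : Type u}
    [AddCommGroup M] [Module R M] {M' : Type u} [AddCommGroup M'] [Module R' M']
    (e : letI := φ.toAlgebra; R' ⊗[R] M ≃ₗ[R'] M') (f : M →+ M')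
    (hf : letI := φ.toAlgebra; ∀ m, f m = e (1 ⊗ₜ m)) :
    IsBCMap φ f := by
  letI := φ.toAlgebra
  have h1 : ∀ (a : R) (m : M), f (a • m) = φ a • f m := by
    intro a m
    rw [hf, hf, TensorProduct.tmul_smul, ← algebraMap_smul R' a ((1 : R') ⊗ₜ[R] m), map_smul]
    rfl
  refine ⟨h1, ?_⟩
  letI : Module R M' := Module.compHom M' φ
  haveI : IsScalarTower R R' M' := ⟨fun a b c => by
      change (φ a * b) • c = φ a • b • c
      rw [mul_smul]⟩
  exact IsBaseChange.of_equiv (f := ({ toFun := f, map_add' := f.map_add, map_smul' := h1 } :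
    M →ₗ[R] M')) e (fun x => (hf x).symm)

/-- Existence of base changes. -/
theorem exists_isBCMap {R R' : Type u} [CommRing R] [CommRing R'] (φ : R →+* R') (M : Type u)
    [AddCommGroup M] [Module R M] : ∃ (M' : Type u) (_ : AddCommGroup M') (_ : Module R' M')
      (f : M →+ M'), IsBCMap φ f := by
  letI := φ.toAlgebra
  exact ⟨R' ⊗[R] M, inferInstance, inferInstance, (TensorProduct.mk R R' M 1).toAddMonoidHom,
    isBCMap_of_equiv φ (LinearEquiv.refl R' _) _ fun _ => rfl⟩

/-- The diagram `s ↦ D (s ∪ {i}) ⊗[D s] M s`. -/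
theorem exists_bcShift {S : Type u} [CommRing S] {ι : Type} [LinearOrder ι] {D : RDiag S (NE ι)}
    (M : MDiag D) (i : ι) : ∃ (N : MDiag (D.shift i)) (κ : ∀ s, M.M s →+ N.M s),
      (∀ s, IsBCMap (D.res (le_ins i s)).toRingHom (κ s)) ∧
      ∀ {s t : NE ι} (h : s ≤ t) m, κ t (M.res h m) = N.res h (κ s m) := by
  choose N g1 g2 κ hκ using fun s => exists_isBCMap (D.res (le_ins i s)).toRingHom (M.M s)
  have hex : ∀ {s t : NE ι} (h : s ≤ t), ∃ θ : N s →+ N t,
      (∀ (c : D.C (ins i s)) x, θ (c • x) = D.res (ins_le_ins i h) c • θ x) ∧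
      ∀ m, θ (κ s m) = κ t (M.res h m) := by
    intro s t h
    refine (hκ s).exists_lift (D.res (ins_le_ins i h)).toRingHom ((κ t).comp (M.res h)) ?_
    intro a m
    change κ t (M.res h (a • m)) = _
    rw [M.res_smul, (hκ t).1]
    change _ = D.res _ (D.res _ a) • κ t (M.res h m)
    rw [D.res_res]
    change D.res _ (D.res _ a) • _ = _
    rw [D.res_res]
  choose θ hθ1 hθ2 using @hex
  letI : ∀ s, Module ((D.shift i).C s) (N s) := g2
  letI : ∀ s, Module S (N s) := fun s => Module.compHom (N s) (algebraMap S (D.C (ins i s)))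
  refine ⟨{ M := N
            grp := g1
            mod := g2
            modS := fun s => Module.compHom (N s) (algebraMap S (D.C (ins i s)))
            tower := fun s => ⟨fun a b c => by
              rw [Algebra.smul_def, mul_smul]
              rfl⟩
            res := fun h => θ h
            res_smul := fun h c m => hθ1 h c m
            res_self := ?_
            res_res := ?_ }, κ, hκ, fun h m => (hθ2 h m).symm⟩
  · intro s h x
    have : θ h = AddMonoidHom.id (N s) := by
      refine (hκ s).hom_ext (D.res (ins_le_ins i h)).toRingHom (hθ1 h) ?_ ?_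
      · intro c x
        change c • x = D.res _ c • x
        rw [D.res_self]
      · intro m
        rw [hθ2, M.res_self]
        rfl
    rw [this]
    rfl
  · intro s t t' h h' x
    have : (θ h').comp (θ h) = θ (h.trans h') := by
      refine (hκ s).hom_ext (D.res (ins_le_ins i (h.trans h'))).toRingHom ?_ (hθ1 _) ?_
      · intro c x
        rw [AddMonoidHom.comp_apply, hθ1, hθ1]
        change D.res _ (D.res _ c) • _ = _
        rw [D.res_res]
        rfl
      · intro m
        rw [AddMonoidHom.comp_apply, hθ2, hθ2, hθ2, M.res_res]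
    exact DFunLike.congr_fun this x

/-- The map `N s → M' (s ∪ {i})` induced by `g : M → M'`. -/
theorem exists_theta {S S' : Type u} [CommRing S] [CommRing S'] {ι : Type} [LinearOrder ι]
    {χ : S →+* S'} {D : RDiag S (NE ι)} {D' : RDiag S' (NE ι)} {j : RDiag.Hom χ D D'} {M : MDiag D}
    {M' : MDiag D'} (g : MDiag.Hom j M M') {i : ι} {N : MDiag (D.shift i)} {κ : ∀ s, M.M s →+ N.M s}
    (hκ : ∀ s, IsBCMap (D.res (le_ins i s)).toRingHom (κ s)) (s : NE ι) :
    ∃ θ : N.M s →+ M'.M (ins i s),
      (∀ (c : (D.shift i).C s) x, θ (c • x) = j.f (ins i s) c • θ x) ∧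
      ∀ m, θ (κ s m) = M'.res (le_ins i s) (g.f s m) := by
  refine (hκ s).exists_lift (j.f (ins i s)) ((M'.res (le_ins i s)).comp (g.f s)) fun a m => ?_
  change M'.res _ (g.f s (a • m)) = j.f _ (D.res _ a) • M'.res _ (g.f s m)
  rw [g.f_smul, M'.res_smul, j.f_res]

/-! ### Limits -/

section Lim

variable {A : Type u} [CommRing A] {A' : ℕ → Type u} [∀ n, CommRing (A' n)]
  {φ : ∀ n, A' (n + 1) →+* A' n} {π : ∀ n, A →+* A' n} {P : Type} [Preorder P]
  {DA : RDiag A P} {Dn : ∀ n, RDiag (A' n) P}
  {jn : ∀ n, RDiag.Hom (φ n) (Dn (n + 1)) (Dn n)} {jA : ∀ n, RDiag.Hom (π n) DA (Dn n)}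

/-- Limits of towers of diagrams of modules exist. -/
theorem exists_limDiag (hj : ∀ n s x, (jn n).f s ((jA (n + 1)).f s x) = (jA n).f s x)
    (M : ∀ n, MDiag (Dn n)) (r : ∀ n, MDiag.Hom (jn n) (M (n + 1)) (M n)) :
    ∃ (MA : MDiag DA) (ρ : ∀ n, MDiag.Hom (jA n) MA (M n)),
      (∀ n s x, (r n).f s ((ρ (n + 1)).f s x) = (ρ n).f s x) ∧
      (∀ s (x : MA.M s), (∀ n, (ρ n).f s x = 0) → x = 0) ∧
      ∀ s (y : ∀ n, (M n).M s), (∀ n, (r n).f s (y (n + 1)) = y n) →
        ∃ x : MA.M s, ∀ n, (ρ n).f s x = y n := by
  let G : ∀ s, AddSubgroup (∀ n, (M n).M s) := fun s =>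
    { carrier := {y | ∀ n, (r n).f s (y (n + 1)) = y n}
      add_mem' := fun hx hy n => by rw [Pi.add_apply, Pi.add_apply, map_add, hx, hy]
      zero_mem' := fun n => by rw [Pi.zero_apply, Pi.zero_apply, map_zero]
      neg_mem' := fun hx n => by rw [Pi.neg_apply, Pi.neg_apply, map_neg, hx] }
  let m : ∀ s, Module (DA.C s) (G s) := fun s =>
    { smul := fun c y => ⟨fun n => (jA n).f s c • y.1 n, fun n => by
        change (r n).f s ((jA (n + 1)).f s c • y.1 (n + 1)) = _
        rw [(r n).f_smul, hj, y.2 n]⟩
      one_smul := fun y => by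
        apply Subtype.ext; funext n
        change (jA n).f s 1 • y.1 n = _
        rw [map_one, one_smul]
      mul_smul := fun c c' y => by
        apply Subtype.ext; funext n
        change (jA n).f s (c * c') • y.1 n = (jA n).f s c • (jA n).f s c' • y.1 n
        rw [map_mul, mul_smul]
      smul_zero := fun c => by
        apply Subtype.ext; funext n
        exact smul_zero _
      smul_add := fun c y y' => by
        apply Subtype.ext; funext n
        exact smul_add _ _ _
      add_smul := fun c c' y => by
        apply Subtype.ext; funext n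
        change (jA n).f s (c + c') • y.1 n = (jA n).f s c • y.1 n + (jA n).f s c' • y.1 n
        rw [map_add, add_smul]
      zero_smul := fun y => by
        apply Subtype.ext; funext n
        change (jA n).f s 0 • y.1 n = 0
        rw [map_zero, zero_smul] }
  let res : ∀ {s t : P}, s ≤ t → (G s →+ G t) := fun {s t} h =>
    { toFun := fun y => ⟨fun n => (M n).res h (y.1 n), fun n => by
        rw [(r n).f_res, y.2 n]⟩
      map_zero' := by
        apply Subtype.ext; funext n
        exact map_zero _
      map_add' := fun y y' => by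
        apply Subtype.ext; funext n
        exact map_add _ _ _ }
  refine ⟨{ M := fun s => G s
            mod := m
            modS := fun s => letI := m s; Module.compHom (G s) (algebraMap A (DA.C s))
            tower := fun s => by
              letI := m s
              letI : Module A (G s) := Module.compHom (G s) (algebraMap A (DA.C s))
              exact ⟨fun a b c => by
                rw [Algebra.smul_def, mul_smul]
                rfl⟩
            res := res
            res_smul := fun {s t} h c y => by
              apply Subtype.ext; funext n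
              change (M n).res h ((jA n).f s c • y.1 n) = (jA n).f t (DA.res h c) • (M n).res h (y.1 n)
              rw [(M n).res_smul, (jA n).f_res]
            res_self := fun s h y => by
              apply Subtype.ext; funext n
              exact (M n).res_self _ _ _
            res_res := fun h h' y => by
              apply Subtype.ext; funext n
              exact (M n).res_res _ _ _ },
    fun n => { f := fun s => (Pi.evalAddMonoidHom (fun n => (M n).M s) n).comp (G s).subtype
               f_smul := fun s c y => rfl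
               f_res := fun h y => rfl }, fun n s x => x.2 n, fun s x hx => ?_, fun s y hy => ?_⟩
  · apply Subtype.ext; funext n
    exact hx n
  · exact ⟨⟨y, hy⟩, fun n => rfl⟩

end Lim

end Groth.Agent.Flat2B.GEx
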