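import Groth.Agent.Flat2B.GExHasModel
import Groth.Agent.Flat2B.GExLim

/-!
# S1270, route E: inputs of `exists_local` for a tower of sheaves
-/

set_option autoImplicit false
universe u

open CategoryTheory CategoryTheory.Limits AlgebraicGeometry Opposite TopologicalSpace

namespace Groth.Agent.Flat2B.GExSC1

open GEx GExGlob CohqA.PullbackAffine CohqA.PullbackUniv CohqA.BaseChangeMod

section Comp

variable {S₁ S₂ S₃ : Type u} [CommRing S₁] [CommRing S₂] [CommRing S₃] {X₁ X₂ X₃ : Scheme.{u}}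
  {f₁ : X₁ ⟶ Spec (CommRingCat.of S₁)} {f₂ : X₂ ⟶ Spec (CommRingCat.of S₂)}
  {f₃ : X₃ ⟶ Spec (CommRingCat.of S₃)} {ψ₁ : S₁ →+* S₂} {ψ₂ : S₂ →+* S₃} {ψ₃ : S₁ →+* S₃}
  {P : Type} [Preorder P] {W₁ : P → X₁.Opens} {hW₁ : ∀ s t : P, s ≤ t → W₁ t ≤ W₁ s}
  {W₂ : P → X₂.Opens} {hW₂ : ∀ s t : P, s ≤ t → W₂ t ≤ W₂ s}
  {W₃ : P → X₃.Opens} {hW₃ : ∀ s t : P, s ≤ t → W₃ t ≤ W₃ s}

/-- Compatibility of the morphisms of diagrams of rings with composition. -/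
theorem ringHom_comp (h₁ : X₂ ⟶ X₁) (h₂ : X₃ ⟶ X₂) (h₃ : X₃ ⟶ X₁) (hc : h₂ ≫ h₁ = h₃)
    (hh₁ : h₁ ≫ f₁ = f₂ ≫ Spec.map (CommRingCat.ofHom ψ₁))
    (hh₂ : h₂ ≫ f₂ = f₃ ≫ Spec.map (CommRingCat.ofHom ψ₂))
    (hh₃ : h₃ ≫ f₁ = f₃ ≫ Spec.map (CommRingCat.ofHom ψ₃))
    (e₁ : ∀ s, W₂ s ≤ h₁ ⁻¹ᵁ W₁ s) (e₂ : ∀ s, W₃ s ≤ h₂ ⁻¹ᵁ W₂ s) (e₃ : ∀ s, W₃ s ≤ h₃ ⁻¹ᵁ W₁ s)
    (s : P) (x : (ringD f₁ W₁ hW₁).C s) :
    (ringHom (hW := hW₂) (hW' := hW₃) h₂ hh₂ e₂).f s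
      ((ringHom (hW := hW₁) (hW' := hW₂) h₁ hh₁ e₁).f s x) =
      (ringHom (hW := hW₁) (hW' := hW₃) h₃ hh₃ e₃).f s x := by
  subst hc
  exact congr($(Scheme.Hom.appLE_comp_appLE h₂ h₁ (W₁ s) (W₂ s) (W₃ s) (e₁ s) (e₂ s)).hom x)

end Comp

section Tower

variable {A : Type u} [CommRing A] {A' : ℕ → Type u} [∀ n, CommRing (A' n)]
  {φ : ∀ n, A' (n + 1) →+* A' n} {π : ∀ n, A →+* A' n}
  {X : Scheme.{u}} {f : X ⟶ Spec (CommRingCat.of A)}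
  {Xn : ℕ → Scheme.{u}} {j : ∀ n, Xn n ⟶ X} {g : ∀ n, Xn n ⟶ Spec (CommRingCat.of (A' n))}

/-- `X_n = X_{n+1} ×_{A_{n+1}} A_n`. -/
theorem isPullback_ι (hlim : FlatCA.IsRingLimit A A' φ π)
    (hpb : ∀ n, IsPullback (j n) (g n) f (Spec.map (CommRingCat.ofHom (π n))))
    {ι : ∀ n, Xn n ⟶ Xn (n + 1)} (hιj : ∀ n, ι n ≫ j (n + 1) = j n)
    (hιg : ∀ n, ι n ≫ g (n + 1) = g n ≫ Spec.map (CommRingCat.ofHom (φ n))) (n : ℕ) :
    IsPullback (ι n) (g n) (g (n + 1)) (Spec.map (CommRingCat.ofHom (φ n))) := by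
  have h1 : Spec.map (CommRingCat.ofHom (φ n)) ≫ Spec.map (CommRingCat.ofHom (π (n + 1))) =
      Spec.map (CommRingCat.ofHom (π n)) := by
    rw [← Spec.map_comp, ← CommRingCat.ofHom_comp, hlim.1 n]
  refine IsPullback.of_right ?_ (hιg n) (hpb (n + 1))
  rw [hιj, h1]
  exact hpb n

/-- The map `F (n + 1) ⟶ (ι n)_* F n`. -/
noncomputable def trF (ι : ∀ n, Xn n ⟶ Xn (n + 1)) (F : ∀ n, (Xn n).Modules)
    (e : ∀ n, (Scheme.Modules.pullback (ι n)).obj (F (n + 1)) ≅ F n) (n : ℕ) :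
    F (n + 1) ⟶ (Scheme.Modules.pushforward (ι n)).obj (F n) :=
  (Scheme.Modules.pullbackPushforwardAdjunction (ι n)).unit.app (F (n + 1)) ≫
    (Scheme.Modules.pushforward (ι n)).map (e n).hom

theorem isUniv_trF (ι : ∀ n, Xn n ⟶ Xn (n + 1)) (F : ∀ n, (Xn n).Modules)
    (e : ∀ n, (Scheme.Modules.pullback (ι n)).obj (F (n + 1)) ≅ F n) (n : ℕ) :
    IsUniv (ι n) (trF ι F e n) := (isUniv_unit (ι n) (F (n + 1))).comp_iso (e n)

section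

variable {P : Type} [Preorder P] {V : P → X.Opens} (hV : ∀ s t : P, s ≤ t → V t ≤ V s)

/-- The family of opens on `X_n`. -/
abbrev Vn (j : ∀ n, Xn n ⟶ X) (V : P → X.Opens) (n : ℕ) (s : P) : (Xn n).Opens := (j n) ⁻¹ᵁ V s

include hV in
theorem anti_Vn (j : ∀ n, Xn n ⟶ X) (n : ℕ) (s t : P) (h : s ≤ t) : Vn j V n t ≤ Vn j V n s :=
  Scheme.Hom.preimage_mono (j n) (hV s t h)

omit [Preorder P] in
theorem Vn_eq {ι : ∀ n, Xn n ⟶ Xn (n + 1)} (hιj : ∀ n, ι n ≫ j (n + 1) = j n) (n : ℕ) (s : P) :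
    Vn j V n s = (ι n) ⁻¹ᵁ Vn j V (n + 1) s := by
  change (j n) ⁻¹ᵁ V s = _
  rw [← hιj n]
  rfl

/-- `Dn` -/
noncomputable abbrev DnX (g : ∀ n, Xn n ⟶ Spec (CommRingCat.of (A' n))) (j : ∀ n, Xn n ⟶ X) (n : ℕ) :
    RDiag (A' n) P := ringD (g n) (Vn j V n) (anti_Vn hV j n)

/-- `M n` -/
noncomputable abbrev MnX (g : ∀ n, Xn n ⟶ Spec (CommRingCat.of (A' n))) (j : ∀ n, Xn n ⟶ X)
    (F : ∀ n, (Xn n).Modules) (n : ℕ) : MDiag (DnX (V := V) hV g j n) :=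
  modD (g n) (Vn j V n) (anti_Vn hV j n) (F n)

/-- `jn n` -/
noncomputable abbrev jnX {ι : ∀ n, Xn n ⟶ Xn (n + 1)} (hιj : ∀ n, ι n ≫ j (n + 1) = j n)
    (hιg : ∀ n, ι n ≫ g (n + 1) = g n ≫ Spec.map (CommRingCat.ofHom (φ n))) (n : ℕ) :
    RDiag.Hom (φ n) (DnX (V := V) hV g j (n + 1)) (DnX (V := V) hV g j n) :=
  ringHom (ι n) (hιg n) (fun s => (Vn_eq hιj n s).le)

/-- `jA n` -/
noncomputable abbrev jAX (hpb : ∀ n, IsPullback (j n) (g n) f (Spec.map (CommRingCat.ofHom (π n))))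
    (n : ℕ) : RDiag.Hom (π n) (ringD f V hV) (DnX (V := V) hV g j n) :=
  ringHom (j n) (hpb n).w (fun _ => le_rfl)

/-- `r n` -/
noncomputable abbrev rnX {ι : ∀ n, Xn n ⟶ Xn (n + 1)} (hιj : ∀ n, ι n ≫ j (n + 1) = j n)
    (hιg : ∀ n, ι n ≫ g (n + 1) = g n ≫ Spec.map (CommRingCat.ofHom (φ n)))
    (F : ∀ n, (Xn n).Modules) (e : ∀ n, (Scheme.Modules.pullback (ι n)).obj (F (n + 1)) ≅ F n) (n : ℕ) :
    MDiag.Hom (jnX (V := V) hV (φ := φ) hιj hιg n) (MnX (V := V) hV g j F (n + 1))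
      (MnX (V := V) hV g j F n) :=
  modHom (ι n) (hιg n) (fun s => (Vn_eq hιj n s).le) (trF ι F e n)

/-- `jn n ∘ jA (n + 1) = jA n` -/
theorem jnX_jAX (hpb : ∀ n, IsPullback (j n) (g n) f (Spec.map (CommRingCat.ofHom (π n))))
    {ι : ∀ n, Xn n ⟶ Xn (n + 1)} (hιj : ∀ n, ι n ≫ j (n + 1) = j n)
    (hιg : ∀ n, ι n ≫ g (n + 1) = g n ≫ Spec.map (CommRingCat.ofHom (φ n))) (n : ℕ) (s : P)
    (x : (ringD f V hV).C s) :
    (jnX (V := V) hV (φ := φ) hιj hιg n).f s ((jAX (V := V) hV hpb (n + 1)).f s x) =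
      (jAX (V := V) hV hpb n).f s x :=
  ringHom_comp (j (n + 1)) (ι n) (j n) (hιj n) _ _ _ _ _ _ s x

theorem rnX_isBCMap (hlim : FlatCA.IsRingLimit A A' φ π)
    (hpb : ∀ n, IsPullback (j n) (g n) f (Spec.map (CommRingCat.ofHom (π n))))
    (hVa : ∀ s, IsAffineOpen (V s))
    {ι : ∀ n, Xn n ⟶ Xn (n + 1)} (hιj : ∀ n, ι n ≫ j (n + 1) = j n)
    (hιg : ∀ n, ι n ≫ g (n + 1) = g n ≫ Spec.map (CommRingCat.ofHom (φ n)))
    (F : ∀ n, (Xn n).Modules) (hF : ∀ n, Coh.IsQCoh (F n))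
    (e : ∀ n, (Scheme.Modules.pullback (ι n)).obj (F (n + 1)) ≅ F n) (n : ℕ) (s : P) :
    IsBCMap (M := (MnX (V := V) hV g j F (n + 1)).M s) (M' := (MnX (V := V) hV g j F n).M s) (φ n)
      ((rnX (V := V) hV (φ := φ) hιj hιg F e n).f s) := by
  have ha : ∀ n s, IsAffineOpen (Vn j V n s) := fun n s => by
    have := isAffineHom_of_isPullback (hpb n)
    exact (hVa s).preimage (j n)
  exact modHom_isBCMap_base (isPullback_ι hlim hpb hιj hιg n) (fun s => Vn_eq hιj n s) (hF (n + 1))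
    (trF ι F e n) (isUniv_trF ι F e n) (ha (n + 1)) (ha n) s

theorem rnX_surjective (hlim : FlatCA.IsRingLimit A A' φ π) (hφ : ∀ n, Function.Surjective (φ n))
    (hpb : ∀ n, IsPullback (j n) (g n) f (Spec.map (CommRingCat.ofHom (π n))))
    (hVa : ∀ s, IsAffineOpen (V s))
    {ι : ∀ n, Xn n ⟶ Xn (n + 1)} (hιj : ∀ n, ι n ≫ j (n + 1) = j n)
    (hιg : ∀ n, ι n ≫ g (n + 1) = g n ≫ Spec.map (CommRingCat.ofHom (φ n)))
    (F : ∀ n, (Xn n).Modules) (hF : ∀ n, Coh.IsQCoh (F n))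
    (e : ∀ n, (Scheme.Modules.pullback (ι n)).obj (F (n + 1)) ≅ F n) (n : ℕ) (s : P) :
    Function.Surjective ((rnX (V := V) hV (φ := φ) hιj hιg F e n).f s) :=
  IsBCMap.surjective (hφ n) (rnX_isBCMap hV hlim hpb hVa hιj hιg F hF e n s)

theorem rnX_ker (hlim : FlatCA.IsRingLimit A A' φ π) (hφ : ∀ n, Function.Surjective (φ n))
    (hpb : ∀ n, IsPullback (j n) (g n) f (Spec.map (CommRingCat.ofHom (π n))))
    (hVa : ∀ s, IsAffineOpen (V s))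
    {ι : ∀ n, Xn n ⟶ Xn (n + 1)} (hιj : ∀ n, ι n ≫ j (n + 1) = j n)
    (hιg : ∀ n, ι n ≫ g (n + 1) = g n ≫ Spec.map (CommRingCat.ofHom (φ n)))
    (F : ∀ n, (Xn n).Modules) (hF : ∀ n, Coh.IsQCoh (F n))
    (e : ∀ n, (Scheme.Modules.pullback (ι n)).obj (F (n + 1)) ≅ F n) (n : ℕ) (s : P)
    (x : (MnX (V := V) hV g j F (n + 1)).M s)
    (hx : (rnX (V := V) hV (φ := φ) hιj hιg F e n).f s x = 0) :
    x ∈ RingHom.ker (φ n) • (⊤ : Submodule (A' (n + 1)) ((MnX (V := V) hV g j F (n + 1)).M s)) :=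
  IsBCMap.mem_ker_smul (hφ n) (rnX_isBCMap hV hlim hpb hVa hιj hιg F hF e n s) x hx

end

/-! ### Over the model `Y` -/

section Model

variable {Λ : Type u} [CommRing Λ] {Y : Scheme.{u}} {p : Y ⟶ Spec (CommRingCat.of Λ)} {l : Λ →+* A}
  {q : X ⟶ Y}

theorem isPullback_jq (hX : IsPullback q f p (Spec.map (CommRingCat.ofHom l)))
    (hpb : ∀ n, IsPullback (j n) (g n) f (Spec.map (CommRingCat.ofHom (π n)))) (n : ℕ) :
    IsPullback (j n ≫ q) (g n) p (Spec.map (CommRingCat.ofHom ((π n).comp l))) := by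
  rw [CommRingCat.ofHom_comp, Spec.map_comp]
  exact (hpb n).paste_horiz hX

variable {P : Type} [Preorder P] {W : P → Y.Opens} (hW : ∀ s t : P, s ≤ t → W t ≤ W s)

/-- The family of opens on `X`. -/
abbrev Vq (q : X ⟶ Y) (W : P → Y.Opens) (s : P) : X.Opens := q ⁻¹ᵁ W s

include hW in
theorem anti_Vq (q : X ⟶ Y) (s t : P) (h : s ≤ t) : Vq q W t ≤ Vq q W s :=
  Scheme.Hom.preimage_mono q (hW s t h)

/-- `iA` -/
noncomputable abbrev iAX (hX : IsPullback q f p (Spec.map (CommRingCat.ofHom l))) :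
    RDiag.Hom l (ringD p W hW) (ringD f (Vq q W) (anti_Vq hW q)) :=
  ringHom q hX.w (fun _ => le_rfl)

/-- `iN n` -/
noncomputable abbrev iNX (hX : IsPullback q f p (Spec.map (CommRingCat.ofHom l)))
    (hpb : ∀ n, IsPullback (j n) (g n) f (Spec.map (CommRingCat.ofHom (π n)))) (n : ℕ) :
    RDiag.Hom ((π n).comp l) (ringD p W hW) (DnX (V := Vq q W) (anti_Vq hW q) g j n) :=
  ringHom (j n ≫ q) (isPullback_jq hX hpb n).w (fun _ => le_rfl)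

/-- `hjA` -/
theorem jAX_iAX (hX : IsPullback q f p (Spec.map (CommRingCat.ofHom l)))
    (hpb : ∀ n, IsPullback (j n) (g n) f (Spec.map (CommRingCat.ofHom (π n)))) (n : ℕ) (s : P)
    (x : (ringD p W hW).C s) :
    (jAX (V := Vq q W) (anti_Vq hW q) hpb n).f s ((iAX hW hX).f s x) = (iNX hW hX hpb n).f s x :=
  ringHom_comp q (j n) (j n ≫ q) rfl _ _ _ _ _ _ s x

/-- `hjn` -/
theorem jnX_iNX (hX : IsPullback q f p (Spec.map (CommRingCat.ofHom l)))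
    (hpb : ∀ n, IsPullback (j n) (g n) f (Spec.map (CommRingCat.ofHom (π n))))
    {ι : ∀ n, Xn n ⟶ Xn (n + 1)} (hιj : ∀ n, ι n ≫ j (n + 1) = j n)
    (hιg : ∀ n, ι n ≫ g (n + 1) = g n ≫ Spec.map (CommRingCat.ofHom (φ n))) (n : ℕ) (s : P)
    (x : (ringD p W hW).C s) :
    (jnX (V := Vq q W) (anti_Vq hW q) (φ := φ) hιj hιg n).f s ((iNX hW hX hpb (n + 1)).f s x) =
      (iNX hW hX hpb n).f s x :=
  ringHom_comp (j (n + 1) ≫ q) (ι n) (j n ≫ q) (by rw [← Category.assoc, hιj]) _ _ _ _ _ _ s x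

/-- `iA.IsPO` -/
theorem iAX_isPO (hWa : ∀ s, IsAffineOpen (W s))
    (hX : IsPullback q f p (Spec.map (CommRingCat.ofHom l))) : (iAX hW hX).IsPO :=
  isPO hX hWa (fun _ => rfl)

/-- `(iN n).IsPO` -/
theorem iNX_isPO (hWa : ∀ s, IsAffineOpen (W s))
    (hX : IsPullback q f p (Spec.map (CommRingCat.ofHom l)))
    (hpb : ∀ n, IsPullback (j n) (g n) f (Spec.map (CommRingCat.ofHom (π n)))) (n : ℕ) :
    (iNX hW hX hpb n).IsPO :=
  isPO (isPullback_jq hX hpb n) hWa (fun _ => rfl)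

end Model

section Model2

variable {Λ : Type u} [CommRing Λ] [IsNoetherianRing Λ] {Y : Scheme.{u}}
  {p : Y ⟶ Spec (CommRingCat.of Λ)} [LocallyOfFiniteType p] [QuasiCompact p] [QuasiSeparated p]
  {l : Λ →+* A} {q : X ⟶ Y} {κι : Type} [LinearOrder κι] {W : NE κι → Y.Opens} (hW : IsCov W)

include hW in
/-- `hmodel` -/
theorem hasModelX (hX : IsPullback q f p (Spec.map (CommRingCat.ofHom l)))
    (hpb : ∀ n, IsPullback (j n) (g n) f (Spec.map (CommRingCat.ofHom (π n))))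
    (F : ∀ n, (Xn n).Modules) (hF : ∀ n, CohB1.IsFP (F n)) (hfl : ∀ n, FlatMod.IsFlatOver (g n) (F n))
    (n : ℕ) : HasModel (iNX hW.anti hX hpb n) (MnX (V := Vq q W) (anti_Vq hW.anti q) g j F n) :=
  hasModel p hW ((π n).comp l) (g n) (j n ≫ q) (isPullback_jq hX hpb n)
    (anti_Vn (anti_Vq hW.anti q) j n) (fun _ => rfl) (F n) (hF n) (hfl n)

end Model2

end Tower

end Groth.Agent.Flat2B.GExSC1
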