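import Groth.Agent.Flat2B.GExCompact

/-!
# Grothendieck existence (Stacks 0CTK): reduction to the proper case over a Noetherian model
-/

set_option autoImplicit false
universe u

open CategoryTheory CategoryTheory.Limits AlgebraicGeometry TopologicalSpace Opposite

namespace Groth.Agent.Flat2B.GExModel

open FlatA.CompactifBasic FlatA.CompactifApprox Ega43.LimitDescend Flat2D.SpecFGLimit GExCompact

/-- A separated scheme of finite presentation over `A` has a compactification which is the base change of a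
proper scheme over a Noetherian ring. -/
theorem exists_compactification_model (A : Type u) [CommRing A] {X : Scheme.{u}}
    (f : X ⟶ Spec (CommRingCat.of A)) [LocallyOfFinitePresentation f] [QuasiCompact f] [IsSeparated f] :
    ∃ (Λ : Type u) (_ : CommRing Λ) (_ : IsNoetherianRing Λ) (l : Λ →+* A) (Z Y : Scheme.{u})
      (p₀ : Z ⟶ Spec (CommRingCat.of Λ)) (_ : IsProper p₀) (q : Y ⟶ Z) (p : Y ⟶ Spec (CommRingCat.of A))
      (i : X ⟶ Y), IsOpenImmersion i ∧ IsPullback q p p₀ (Spec.map (CommRingCat.ofHom l)) ∧ i ≫ p = f := by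
  have i1 : ∀ i, CompactSpace ((specDiagram A).obj i) := fun i => inferInstance
  have i2 : ∀ i, QuasiSeparatedSpace ((specDiagram A).obj i) := fun i => inferInstance
  have i3 : LocallyOfFinitePresentation (Y := (specCone A).pt) f := ‹_›
  have i4 : QuasiCompact (Y := (specCone A).pt) f := ‹_›
  have i5 : QuasiSeparated (Y := (specCone A).pt) f := (inferInstance : QuasiSeparated f)
  obtain ⟨i, Xi, fi, g, h5, h6, h7, hpb⟩ := Groth.Agent.S0591.result (specDiagram A) (specCone A)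
    (isLimitSpecCone A) X f
  let D := specDiagram A
  let c := specCone A
  let hc := isLimitSpecCone A
  let E := Over.forget i ⋙ D
  let t : ∀ j : Over i, E.obj j ⟶ D.obj i := fun j ↦ D.map j.hom
  have ht : ∀ {i' j : Over i} (φ : i' ⟶ j), E.map φ ≫ t j = t i' :=
    fun φ ↦ overT_w D i φ
  have hp : ∀ j, (overCone c i).π.app j ≫ t j = c.π.app i := fun j ↦ c.w j.hom
  have hcompE (j : Over i) : CompactSpace (E.obj j) := i1 j.left
  have hqsE (j : Over i) : QuasiSeparatedSpace (E.obj j) := i2 j.left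
  have haffE {j k : Over i} (φ : j ⟶ k) : IsAffineHom (E.map φ) := inferInstanceAs (IsAffineHom (D.map _))
  obtain ⟨k, hk⟩ := descendsLim_isSeparated E (overCone c i) (isLimitOverCone c hc i) t ht fi
    (c.π.app i) hp g f hpb (inferInstanceAs (IsSeparated f))
  have hpb2 := isPullback_pbCone t ht fi (overCone c i) (c.π.app i) hp g f hpb k
  have hNoe : IsNoetherian (E.obj k) := inferInstanceAs (IsNoetherian ((specDiagram A).obj k.left))
  obtain ⟨Z, j₀, p₀, hj₀, -, hp₀, hjp⟩ := FlatA.CompactifNoeth.hasCompactification_of_isNoetherian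
    (pullback.snd fi (t k))
  let Λ := k.left.unop.1
  let v : Spec (CommRingCat.of A) ⟶ Spec (CommRingCat.of Λ) := Spec.map (CommRingCat.ofHom Λ.val.toRingHom)
  let p₁ : Z ⟶ Spec (CommRingCat.of Λ) := p₀
  have hP : IsPullback (pullback.fst p₁ v) (pullback.snd p₁ v) p₁ v := IsPullback.of_hasPullback p₁ v
  let u : X ⟶ pullback fi (t k) := (pbCone t ht fi (overCone c i) (c.π.app i) hp g f hpb).π.app k
  have hpb3 : IsPullback u f (j₀ ≫ p₁) v := by
    change IsPullback u f (j₀ ≫ p₀) _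
    rw [hjp]; exact hpb2
  let j' : X ⟶ pullback p₁ v := hP.lift (u ≫ j₀) f (by rw [Category.assoc]; exact hpb3.w)
  have h1 : j' ≫ pullback.fst p₁ v = u ≫ j₀ := hP.lift_fst _ _ _
  have h2 : j' ≫ pullback.snd p₁ v = f := hP.lift_snd _ _ _
  have hsq : IsPullback u j' j₀ (pullback.fst p₁ v) :=
    IsPullback.of_bot (by rw [h2]; exact hpb3) h1.symm hP
  exact ⟨Λ, inferInstance, inferInstanceAs (IsNoetherianRing k.left.unop.1), Λ.val.toRingHom, Z,
    pullback p₁ v, p₁, hp₀, pullback.fst p₁ v, pullback.snd p₁ v, j',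
    MorphismProperty.of_isPullback (P := @IsOpenImmersion) hsq hj₀, hP, h2⟩

/-- The conclusion of 0CTK for systems on the base changes of a fixed `f : X ⟶ Spec A` (no support
conditions). -/
def ProperCaseFor {A : Type u} [CommRing A] (A' : ℕ → Type u) [∀ n, CommRing (A' n)]
    (φ : ∀ n, A' (n + 1) →+* A' n) (π : ∀ n, A →+* A' n) {X : Scheme.{u}}
    (f : X ⟶ Spec (CommRingCat.of A)) : Prop :=
  ∀ (Xn : ℕ → Scheme.{u}) (j : ∀ n, Xn n ⟶ X) (g : ∀ n, Xn n ⟶ Spec (CommRingCat.of (A' n)))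
    (_ : ∀ n, IsPullback (j n) (g n) f (Spec.map (CommRingCat.ofHom (π n))))
    (ι : ∀ n, Xn n ⟶ Xn (n + 1)) (_ : ∀ n, ι n ≫ j (n + 1) = j n)
    (_ : ∀ n, ι n ≫ g (n + 1) = g n ≫ Spec.map (CommRingCat.ofHom (φ n)))
    (F : ∀ n, (Xn n).Modules) (_ : ∀ n, CohB1.IsFP (F n)) (_ : ∀ n, FlatMod.IsFlatOver (g n) (F n))
    (_ : ∀ n, (Scheme.Modules.pullback (ι n)).obj (F (n + 1)) ≅ F n),
    ∃ (G : X.Modules), CohB1.IsFP G ∧ FlatMod.IsFlatOver f G ∧
      ∀ n, Nonempty ((Scheme.Modules.pullback (j n)).obj G ≅ F n)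

/-- 0CTK for base changes of proper schemes over Noetherian rings. -/
def ProperCaseModel : Prop :=
  ∀ {Λ : Type u} [CommRing Λ] [IsNoetherianRing Λ] {Y : Scheme.{u}} (p : Y ⟶ Spec (CommRingCat.of Λ))
    [IsProper p] {A : Type u} [CommRing A] (l : Λ →+* A) (A' : ℕ → Type u) [∀ n, CommRing (A' n)]
    (φ : ∀ n, A' (n + 1) →+* A' n) (π : ∀ n, A →+* A' n) (_ : FlatCA.IsRingLimit A A' φ π)
    (_ : ∀ n, Function.Surjective (φ n)) (_ : ∀ n, ∀ x ∈ RingHom.ker (φ n), IsNilpotent x)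
    {X : Scheme.{u}} (f : X ⟶ Spec (CommRingCat.of A)) (q : X ⟶ Y)
    (_ : IsPullback q f p (Spec.map (CommRingCat.ofHom l)))
    (Xn : ℕ → Scheme.{u}) (j : ∀ n, Xn n ⟶ X) (g : ∀ n, Xn n ⟶ Spec (CommRingCat.of (A' n)))
    (_ : ∀ n, IsPullback (j n) (g n) f (Spec.map (CommRingCat.ofHom (π n))))
    (ι : ∀ n, Xn n ⟶ Xn (n + 1)) (_ : ∀ n, ι n ≫ j (n + 1) = j n)
    (_ : ∀ n, ι n ≫ g (n + 1) = g n ≫ Spec.map (CommRingCat.ofHom (φ n)))
    (F : ∀ n, (Xn n).Modules) (_ : ∀ n, CohB1.IsFP (F n)) (_ : ∀ n, FlatMod.IsFlatOver (g n) (F n))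
    (_ : ∀ n, (Scheme.Modules.pullback (ι n)).obj (F (n + 1)) ≅ F n),
    ∃ (G : X.Modules), CohB1.IsFP G ∧ FlatMod.IsFlatOver f G ∧
      ∀ n, Nonempty ((Scheme.Modules.pullback (j n)).obj G ≅ F n)

/-- **Reduction of 0CTK to a compactification `p : Y ⟶ Spec A` of `f`.** -/
theorem of_compactification {A : Type u} [CommRing A] (A' : ℕ → Type u) [∀ n, CommRing (A' n)]
    (φ : ∀ n, A' (n + 1) →+* A' n) (π : ∀ n, A →+* A' n) (hlim : FlatCA.IsRingLimit A A' φ π)
    (hsurj : ∀ n, Function.Surjective (φ n)) (hnil : ∀ n, ∀ x ∈ RingHom.ker (φ n), IsNilpotent x)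
    {Y : Scheme.{u}} (p : Y ⟶ Spec (CommRingCat.of A)) [IsProper p] (H : ProperCaseFor A' φ π p)
    {X : Scheme.{u}} (f : X ⟶ Spec (CommRingCat.of A)) (i : X ⟶ Y) [hi : IsOpenImmersion i] (hip : i ≫ p = f)
    (Xn : ℕ → Scheme.{u}) (j : ∀ n, Xn n ⟶ X) (g : ∀ n, Xn n ⟶ Spec (CommRingCat.of (A' n)))
    (hpb : ∀ n, IsPullback (j n) (g n) f (Spec.map (CommRingCat.ofHom (π n))))
    (ι : ∀ n, Xn n ⟶ Xn (n + 1)) (hιj : ∀ n, ι n ≫ j (n + 1) = j n)
    (hιg : ∀ n, ι n ≫ g (n + 1) = g n ≫ Spec.map (CommRingCat.ofHom (φ n)))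
    (F : ∀ n, (Xn n).Modules) (hfp : ∀ n, CohB1.IsFP (F n)) (hfl : ∀ n, FlatMod.IsFlatOver (g n) (F n))
    (hpr : ∀ n, ClSub.IsProperOver (g n) (CohB1.support (F n)))
    (e : ∀ n, (Scheme.Modules.pullback (ι n)).obj (F (n + 1)) ≅ F n) :
    ∃ (G : X.Modules), CohB1.IsFP G ∧ FlatMod.IsFlatOver f G ∧ ClSub.IsProperOver f (CohB1.support G) ∧
      ∀ n, Nonempty ((Scheme.Modules.pullback (j n)).obj G ≅ F n) := by
  -- the base changes of `Y`
  let Yn : ℕ → Scheme.{u} := fun n => pullback p (Spec.map (CommRingCat.ofHom (π n)))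
  let jY : ∀ n, Yn n ⟶ Y := fun n => pullback.fst p (Spec.map (CommRingCat.ofHom (π n)))
  let gY : ∀ n, Yn n ⟶ Spec (CommRingCat.of (A' n)) := fun n =>
    pullback.snd p (Spec.map (CommRingCat.ofHom (π n)))
  have hpbY : ∀ n, IsPullback (jY n) (gY n) p (Spec.map (CommRingCat.ofHom (π n))) := fun n =>
    IsPullback.of_hasPullback _ _
  have hφπ : ∀ n, Spec.map (CommRingCat.ofHom (φ n)) ≫ Spec.map (CommRingCat.ofHom (π (n + 1))) =
      Spec.map (CommRingCat.ofHom (π n)) := fun n => by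
    rw [← Spec.map_comp, ← CommRingCat.ofHom_comp, hlim.1 n]
  let ιY : ∀ n, Yn n ⟶ Yn (n + 1) := fun n =>
    (hpbY (n + 1)).lift (jY n) (gY n ≫ Spec.map (CommRingCat.ofHom (φ n))) (by
      rw [Category.assoc, hφπ, (hpbY n).w])
  have hιjY : ∀ n, ιY n ≫ jY (n + 1) = jY n := fun n => (hpbY (n + 1)).lift_fst _ _ _
  have hιgY : ∀ n, ιY n ≫ gY (n + 1) = gY n ≫ Spec.map (CommRingCat.ofHom (φ n)) := fun n =>
    (hpbY (n + 1)).lift_snd _ _ _
  -- the open immersions `X_n ⟶ Y_n`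
  let inc : ∀ n, Xn n ⟶ Yn n := fun n => (hpbY n).lift (j n ≫ i) (g n) (by
    rw [Category.assoc, hip, (hpb n).w])
  have hinc1 : ∀ n, inc n ≫ jY n = j n ≫ i := fun n => (hpbY n).lift_fst _ _ _
  have hinc2 : ∀ n, inc n ≫ gY n = g n := fun n => (hpbY n).lift_snd _ _ _
  have sqi : ∀ n, IsPullback (j n) (inc n) i (jY n) := fun n =>
    IsPullback.of_bot (by rw [hinc2, hip]; exact hpb n) (hinc1 n).symm (hpbY n)
  have hinc : ∀ n, IsOpenImmersion (inc n) := fun n =>
    MorphismProperty.of_isPullback (P := @IsOpenImmersion) (sqi n) hi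
  have hιinc : ∀ n, ι n ≫ inc (n + 1) = inc n ≫ ιY n := fun n => by
    refine (hpbY (n + 1)).hom_ext ?_ ?_
    · rw [Category.assoc, hinc1, ← Category.assoc, hιj, Category.assoc, hιjY, hinc1]
    · rw [Category.assoc, hinc2, hιg, Category.assoc, hιgY, ← Category.assoc, hinc2]
  have sqι : ∀ n, IsPullback (ι n) (inc n) (inc (n + 1)) (ιY n) := fun n =>
    IsPullback.of_right (by rw [hιj, hιjY]; exact sqi n) (hιinc n) (sqi (n + 1))
  have hCc : ∀ n, IsClosed (inc n '' CohB1.support (F n)) := fun n => by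
    have h1 : LocallyOfFiniteType (g n) := by
      rw [← hinc2 n]; infer_instance
    exact (S0788.result (g n) (gY n) (inc n) (hinc2 n) _ (hpr n)).1
  let FY : ∀ n, (Yn n).Modules := fun n => (Scheme.Modules.pushforward (inc n)).obj (F n)
  have eY : ∀ n, Nonempty ((Scheme.Modules.pullback (ιY n)).obj (FY (n + 1)) ≅ FY n) := fun n => by
    obtain ⟨e1⟩ := ExtZero.nonempty_pullback_iso (inc (n + 1)) _ (hCc (n + 1)) (ι n) (ιY n) (inc n) (sqι n)
      (F (n + 1)) le_rfl (hfp (n + 1))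
    exact ⟨e1 ≪≫ (Scheme.Modules.pushforward (inc n)).mapIso (e n)⟩
  obtain ⟨GY, hGfp, hGfl, hGe⟩ := H Yn jY gY hpbY ιY hιjY hιgY FY
    (fun n => ExtZero.isFP_pushforward (inc n) _ (hCc n) (F n) le_rfl (hfp n))
    (fun n => ExtZero.isFlatOver_pushforward (inc n) _ (hCc n) (gY n) (F n) le_rfl (by
      rw [hinc2]; exact hfl n)) (fun n => (eY n).some)
  have hGft : CohB1.IsFT GY := Models2.FPCoh.isFT_of_isFP hGfp
  have hGcl : IsClosed (CohB1.support GY) := FormalA.Support.isClosed_support GY hGft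
  -- the support of the algebraization is contained in `X`
  have hGi : CohB1.support GY ⊆ Set.range i := by
    by_contra hc
    rw [Set.not_subset] at hc
    obtain ⟨b, hb, hbi⟩ := hc
    obtain ⟨y, hy⟩ := exists_mem_of_nonempty A' φ π hlim hsurj hnil p (jY 0) (gY 0) (hpbY 0)
      (CohB1.support GY ∩ (Set.range i)ᶜ) (hGcl.inter i.isOpenEmbedding.isOpen_range.isClosed_compl)
      ⟨b, hb, hbi⟩
    obtain ⟨e0⟩ := hGe 0
    have h1 : y ∈ CohB1.support (FY 0) := by
      rw [← FormalA.Support.support_eq_of_iso e0, Ega1.SuppTensorMod.mem_support_pullback _ _ hGft]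
      exact hy.1
    obtain ⟨x, -, rfl⟩ := FormalA.ExProj.support_pushforward_subset (inc 0) _ (hCc 0) (F 0) le_rfl h1
    refine hy.2 ⟨j 0 x, ?_⟩
    rw [← Scheme.Hom.comp_apply, ← Scheme.Hom.comp_apply, hinc1]
  have hsuppG : CohB1.support ((Scheme.Modules.pullback i).obj GY) = i ⁻¹' CohB1.support GY :=
    Ega1.SuppTensorMod.isFT_pullback_support i GY hGft
  refine ⟨(Scheme.Modules.pullback i).obj GY, FormalA.PullbackQC.isFP_pullback i GY hGfp, ?_, ?_, fun n => ?_⟩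
  · intro x
    refine Models2.FlatIso.isFlatOverAt_of_iso f
      ((Scheme.Modules.restrictFunctorIsoPullback i).app GY) x ?_
    have h2 := (Ega3B.FlatRestrict.isFlatOverAt_restrict_iff_comp p i GY x).2 (hGfl (i x))
    rw [hip] at h2
    exact h2
  · rw [hsuppG]
    refine FormalA.ExImm.isProperOver_of_immersion f p i hip _ (hGcl.preimage i.continuous) ?_
    rw [Set.image_preimage_eq_inter_range, Set.inter_eq_left.2 hGi]
    exact hGcl
  · obtain ⟨e0⟩ := hGe n
    exact ⟨(Scheme.Modules.pullbackComp (j n) i).app GY ≪≫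
      (Scheme.Modules.pullbackCongr (hinc1 n).symm).app GY ≪≫
      ((Scheme.Modules.pullbackComp (inc n) (jY n)).app GY).symm ≪≫
      (Scheme.Modules.pullback (inc n)).mapIso e0 ≪≫
      ((Scheme.Modules.restrictFunctorIsoPullback (inc n)).app (FY n)).symm ≪≫
      ExtZero.restrictPushIso (inc n) (F n)⟩

/-- **Reduction of 0CTK to base changes of proper schemes over Noetherian rings.** -/
theorem of_properCaseModel (H : ProperCaseModel.{u}) {A : Type u} [CommRing A] (A' : ℕ → Type u) [∀ n, CommRing (A' n)]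
    (φ : ∀ n, A' (n + 1) →+* A' n) (π : ∀ n, A →+* A' n) (hlim : FlatCA.IsRingLimit A A' φ π)
    (hsurj : ∀ n, Function.Surjective (φ n)) (hnil : ∀ n, ∀ x ∈ RingHom.ker (φ n), IsNilpotent x)
    {X : Scheme.{u}} (f : X ⟶ Spec (CommRingCat.of A)) [IsSeparated f] [LocallyOfFinitePresentation f] [QuasiCompact f]
    (Xn : ℕ → Scheme.{u}) (j : ∀ n, Xn n ⟶ X) (g : ∀ n, Xn n ⟶ Spec (CommRingCat.of (A' n)))
    (hpb : ∀ n, IsPullback (j n) (g n) f (Spec.map (CommRingCat.ofHom (π n))))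
    (ι : ∀ n, Xn n ⟶ Xn (n + 1)) (hιj : ∀ n, ι n ≫ j (n + 1) = j n)
    (hιg : ∀ n, ι n ≫ g (n + 1) = g n ≫ Spec.map (CommRingCat.ofHom (φ n)))
    (F : ∀ n, (Xn n).Modules) (hfp : ∀ n, CohB1.IsFP (F n)) (hfl : ∀ n, FlatMod.IsFlatOver (g n) (F n))
    (hpr : ∀ n, ClSub.IsProperOver (g n) (CohB1.support (F n)))
    (e : ∀ n, (Scheme.Modules.pullback (ι n)).obj (F (n + 1)) ≅ F n) :
    ∃ (G : X.Modules), CohB1.IsFP G ∧ FlatMod.IsFlatOver f G ∧ ClSub.IsProperOver f (CohB1.support G) ∧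
      ∀ n, Nonempty ((Scheme.Modules.pullback (j n)).obj G ≅ F n) := by
  obtain ⟨Λ, _, _, l, Z, Y, p₀, _, q, p, i, hi, hsq, hip⟩ := exists_compactification_model A f
  have hp : IsProper p := MorphismProperty.of_isPullback (P := @IsProper) hsq ‹IsProper p₀›
  exact of_compactification A' φ π hlim hsurj hnil p
    (fun Xn j g hpb ι hιj hιg F hfp hfl e => H p₀ l A' φ π hlim hsurj hnil p q hsq Xn j g hpb ι hιj hιg F hfp hfl e)
    f i hip Xn j g hpb ι hιj hιg F hfp hfl hpr e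

end Groth.Agent.Flat2B.GExModel
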