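import Groth.Agent.Flat2B.GExSC1b
import Mathlib.AlgebraicGeometry.Morphisms.ClosedImmersion
import Mathlib.AlgebraicGeometry.Morphisms.FiniteType
import Mathlib.RingTheory.FiniteType

/-!
# S1270, route E, scheme side SC1: generators
-/

set_option autoImplicit false
universe u

open CategoryTheory CategoryTheory.Limits AlgebraicGeometry Opposite TopologicalSpace

namespace Groth.Agent.Flat2B.GExSC1

open GEx GExGlob

section Sep

variable {X T : Scheme.{u}} (f : X ⟶ T) [IsAffine T] [IsSeparated f]

include f in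
/-- On a separated scheme over an affine scheme, the functions on the intersection of two affine opens are
generated by the functions on the two opens. -/
theorem eq_top_of_mem {U V W : X.Opens} (hU : IsAffineOpen U) (hV : IsAffineOpen V) (hWU : W ≤ U)
    (hWV : W ≤ V) (hW : W = U ⊓ V) (R₀ : Subring Γ(X, W))
    (h1 : ∀ x : Γ(X, U), X.presheaf.map (homOfLE hWU).op x ∈ R₀)
    (h2 : ∀ x : Γ(X, V), X.presheaf.map (homOfLE hWV).op x ∈ R₀) : R₀ = ⊤ := by
  have : IsAffine U.toScheme := hU
  have : IsAffine V.toScheme := hV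
  let m := pullback.mapDesc U.ι V.ι f
  have hm : IsClosedImmersion m := inferInstance
  have H : IsPullback (X.homOfLE hWU) (X.homOfLE hWV) U.ι V.ι := by
    subst hW
    exact isPullback_opens_inf U V
  let g : W.toScheme ⟶ pullback (U.ι ≫ f) (V.ι ≫ f) := H.isoPullback.hom ≫ m
  have hg : IsClosedImmersion g := inferInstance
  have hm1 : m ≫ pullback.fst _ _ = pullback.fst _ _ :=
    (pullback.lift_fst _ _ _).trans (Category.comp_id _)
  have hm2 : m ≫ pullback.snd _ _ = pullback.snd _ _ :=
    (pullback.lift_snd _ _ _).trans (Category.comp_id _)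
  have hg1 : g ≫ pullback.fst _ _ = X.homOfLE hWU := by
    rw [Category.assoc, hm1]
    exact H.isoPullback_hom_fst
  have hg2 : g ≫ pullback.snd _ _ = X.homOfLE hWV := by
    rw [Category.assoc, hm2]
    exact H.isoPullback_hom_snd
  have hsurj : Function.Surjective g.appTop := (IsClosedImmersion.isAffine_surjective_of_isAffine g).2
  have hpo := isPushout_appTop_of_isPullback (IsPullback.of_hasPullback (U.ι ≫ f) (V.ι ≫ f))
  have e1 : (X.homOfLE hWU).appTop ≫ W.topIso.hom = U.topIso.hom ≫ X.presheaf.map (homOfLE hWU).op := by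
    rw [Scheme.homOfLE_appTop]
    have h5 : U.topIso.hom ≫ X.presheaf.map (homOfLE hWU).op =
        X.presheaf.map ((eqToIso U.ι_image_top.symm).op.hom ≫ (homOfLE hWU).op) :=
      (X.presheaf.map_comp _ _).symm
    rw [h5]
    exact (X.presheaf.map_comp _ _).symm
  have e2 : (X.homOfLE hWV).appTop ≫ W.topIso.hom = V.topIso.hom ≫ X.presheaf.map (homOfLE hWV).op := by
    rw [Scheme.homOfLE_appTop]
    have h5 : V.topIso.hom ≫ X.presheaf.map (homOfLE hWV).op =
        X.presheaf.map ((eqToIso V.ι_image_top.symm).op.hom ≫ (homOfLE hWV).op) :=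
      (X.presheaf.map_comp _ _).symm
    rw [h5]
    exact (X.presheaf.map_comp _ _).symm
  let u1 : Γ(U.toScheme, ⊤) ⟶ CommRingCat.of R₀ := CommRingCat.ofHom
    ((U.topIso.hom ≫ X.presheaf.map (homOfLE hWU).op).hom.codRestrict R₀ fun x => h1 _)
  let u2 : Γ(V.toScheme, ⊤) ⟶ CommRingCat.of R₀ := CommRingCat.ofHom
    ((V.topIso.hom ≫ X.presheaf.map (homOfLE hWV).op).hom.codRestrict R₀ fun x => h2 _)
  let i : CommRingCat.of R₀ ⟶ Γ(X, W) := CommRingCat.ofHom R₀.subtype
  have hu1 : u1 ≫ i = (X.homOfLE hWU).appTop ≫ W.topIso.hom := by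
    rw [e1]
    rfl
  have hu2 : u2 ≫ i = (X.homOfLE hWV).appTop ≫ W.topIso.hom := by
    rw [e2]
    rfl
  have hi : Mono i := by
    refine ConcreteCategory.mono_of_injective _ ?_
    exact Subtype.val_injective
  have hcomm : (U.ι ≫ f).appTop ≫ u1 = (V.ι ≫ f).appTop ≫ u2 := by
    rw [← cancel_mono i, Category.assoc, Category.assoc, hu1, hu2, ← Category.assoc, ← Category.assoc,
      ← Scheme.Hom.comp_appTop, ← Scheme.Hom.comp_appTop]
    congr 2
    simp
  let d : Γ(pullback (U.ι ≫ f) (V.ι ≫ f), ⊤) ⟶ CommRingCat.of R₀ := hpo.desc u1 u2 hcomm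
  have hd : d ≫ i = g.appTop ≫ W.topIso.hom := by
    apply hpo.hom_ext
    · rw [← Category.assoc, hpo.inl_desc, hu1, ← Category.assoc, ← Scheme.Hom.comp_appTop, hg1]
    · rw [← Category.assoc, hpo.inr_desc, hu2, ← Category.assoc, ← Scheme.Hom.comp_appTop, hg2]
  rw [eq_top_iff]
  rintro x -
  obtain ⟨y, rfl⟩ := (ConcreteCategory.bijective_of_isIso W.topIso.hom).2 x
  obtain ⟨z, rfl⟩ := hsurj y
  have := congr($(hd).hom z)
  exact this ▸ (d z).2

end Sep

section FT

variable {S : Type u} [CommRing S] {X : Scheme.{u}} (f : X ⟶ Spec (CommRingCat.of S))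

theorem finiteType_aMap [LocallyOfFiniteType f] {U : X.Opens} (hU : IsAffineOpen U) :
    (aMap f U).FiniteType := by
  refine RingHom.FiniteType.comp (f.finiteType_appLE (isAffineOpen_top _) hU le_top) ?_
  exact RingHom.FiniteType.of_surjective _
    (ConcreteCategory.bijective_of_isIso (Scheme.ΓSpecIso (CommRingCat.of S)).inv).2

variable {P : Type} [Preorder P] {W : P → X.Opens} (hW : ∀ s t : P, s ≤ t → W t ≤ W s)

theorem finiteType_algebraMap [LocallyOfFiniteType f] (ha : ∀ s, IsAffineOpen (W s)) (s : P) :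
    (algebraMap S ((ringD f W hW).C s)).FiniteType := finiteType_aMap f (ha s)

theorem isNoetherianRing [LocallyOfFiniteType f] [IsNoetherianRing S] (ha : ∀ s, IsAffineOpen (W s))
    (s : P) : IsNoetherianRing ((ringD f W hW).C s) := by
  have h : Algebra.FiniteType S ((ringD f W hW).C s) := finiteType_algebraMap f hW ha s
  exact Algebra.FiniteType.isNoetherianRing S _

theorem exists_gens [LocallyOfFiniteType f] (ha : ∀ s, IsAffineOpen (W s)) (s : P) :
    ∃ (n : ℕ) (b : Fin n → (ringD f W hW).C s),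
      Function.Surjective (MvPolynomial.aeval b : MvPolynomial (Fin n) S →ₐ[S] (ringD f W hW).C s) := by
  have h : Algebra.FiniteType S ((ringD f W hW).C s) := finiteType_algebraMap f hW ha s
  obtain ⟨n, g, hg⟩ := Algebra.FiniteType.iff_quotient_mvPolynomial''.1 h
  refine ⟨n, fun k => g (MvPolynomial.X k), ?_⟩
  have : MvPolynomial.aeval (fun k => g (MvPolynomial.X k)) = g := by
    ext k
    simp
  rw [this]
  exact hg

end FT

section Evi

variable {S : Type u} [CommRing S] {X : Scheme.{u}} (f : X ⟶ Spec (CommRingCat.of S)) [IsSeparated f]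
  {ι : Type} [LinearOrder ι] {W : NE ι → X.Opens}

theorem evi_surjective (hW : IsCov W) {τ : Type} (i : ι) (b : τ → (ringD f W hW.anti).C (sg i))
    (hb : Function.Surjective
      (MvPolynomial.aeval b : MvPolynomial τ S →ₐ[S] (ringD f W hW.anti).C (sg i))) (s : NE ι) :
    Function.Surjective (evi (ringD f W hW.anti) i b s) := by
  have h := eq_top_of_mem f (hW.aff s) (hW.aff (sg i)) (hW.anti _ _ (le_ins i s))
    (hW.anti _ _ (sg_le_ins i s)) (hW.sg i s) (evi (ringD f W hW.anti) i b s).range ?_ ?_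
  · exact RingHom.range_eq_top.1 h
  · intro x
    exact ⟨MvPolynomial.C x, MvPolynomial.eval₂Hom_C _ _ _⟩
  · intro x
    obtain ⟨p, hp⟩ := hb x
    refine ⟨MvPolynomial.map (algebraMap S ((ringD f W hW.anti).C s)) p, ?_⟩
    have h1 : (evi (ringD f W hW.anti) i b s).comp
        (MvPolynomial.map (algebraMap S ((ringD f W hW.anti).C s))) =
        (((ringD f W hW.anti).res (sg_le_ins i s)).toRingHom).comp
          (MvPolynomial.aeval b : MvPolynomial τ S →ₐ[S] (ringD f W hW.anti).C (sg i)).toRingHom := by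
      apply MvPolynomial.ringHom_ext
      · intro a
        simp only [RingHom.comp_apply, MvPolynomial.map_C]
        refine (MvPolynomial.eval₂Hom_C _ _ _).trans ?_
        refine (((ringD f W hW.anti).res (le_ins i s)).commutes a).trans ?_
        refine (((ringD f W hW.anti).res (sg_le_ins i s)).commutes a).symm.trans ?_
        exact congrArg ((ringD f W hW.anti).res (sg_le_ins i s)) (MvPolynomial.aeval_C b a).symm
      · intro t
        simp only [RingHom.comp_apply, MvPolynomial.map_X]
        refine (MvPolynomial.eval₂Hom_X' _ _ _).trans ?_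
        exact congrArg ((ringD f W hW.anti).res (sg_le_ins i s)) (MvPolynomial.aeval_X b t).symm
    refine (RingHom.congr_fun h1 p).trans ?_
    exact congrArg ((ringD f W hW.anti).res (sg_le_ins i s)) hp

end Evi

section BC

/-- Generators of the base change. -/
theorem surjective_of_isPO {Λ S : Type u} [CommRing Λ] [CommRing S] {ψ : Λ →+* S} {P : Type} [Preorder P]
    {C : RDiag Λ P} {D : RDiag S P} {i : RDiag.Hom ψ C D} (hi : i.IsPO) {τ : Type} (s : P)
    (b : τ → C.C s)
    (hb : Function.Surjective (MvPolynomial.aeval b : MvPolynomial τ Λ →ₐ[Λ] C.C s)) :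
    Function.Surjective (MvPolynomial.aeval (fun t => i.f s (b t)) : MvPolynomial τ S →ₐ[S] D.C s) := by
  have hpo := hi s
  let R₀ : Subring (D.C s) := (MvPolynomial.aeval (fun t => i.f s (b t)) :
    MvPolynomial τ S →ₐ[S] D.C s).toRingHom.range
  have h1 : ∀ x : S, algebraMap S (D.C s) x ∈ R₀ := fun x =>
    ⟨MvPolynomial.C x, MvPolynomial.aeval_C _ _⟩
  have h2 : ∀ x : C.C s, i.f s x ∈ R₀ := by
    intro x
    obtain ⟨p, rfl⟩ := hb x
    refine ⟨MvPolynomial.map ψ p, ?_⟩
    have h3 : ((MvPolynomial.aeval (fun t => i.f s (b t)) :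
        MvPolynomial τ S →ₐ[S] D.C s).toRingHom).comp (MvPolynomial.map ψ) =
        (i.f s).comp (MvPolynomial.aeval b : MvPolynomial τ Λ →ₐ[Λ] C.C s).toRingHom := by
      apply MvPolynomial.ringHom_ext
      · intro a
        simp only [RingHom.comp_apply, MvPolynomial.map_C]
        refine (MvPolynomial.aeval_C _ _).trans ?_
        refine (i.f_alg s a).symm.trans ?_
        congr 1
        exact (MvPolynomial.aeval_C _ _).symm
      · intro t
        simp only [RingHom.comp_apply, MvPolynomial.map_X]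
        refine (MvPolynomial.aeval_X _ _).trans ?_
        congr 1
        exact (MvPolynomial.aeval_X _ _).symm
    exact RingHom.congr_fun h3 p
  let u1 : CommRingCat.of S ⟶ CommRingCat.of R₀ := CommRingCat.ofHom
    ((algebraMap S (D.C s)).codRestrict R₀ h1)
  let u2 : CommRingCat.of (C.C s) ⟶ CommRingCat.of R₀ := CommRingCat.ofHom ((i.f s).codRestrict R₀ h2)
  let k : CommRingCat.of R₀ ⟶ CommRingCat.of (D.C s) := CommRingCat.ofHom R₀.subtype
  have hk : Mono k := ConcreteCategory.mono_of_injective _ Subtype.val_injective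
  have hcomm : CommRingCat.ofHom ψ ≫ u1 = CommRingCat.ofHom (algebraMap Λ (C.C s)) ≫ u2 := by
    rw [← cancel_mono k]
    exact hpo.w
  have hd : hpo.desc u1 u2 hcomm ≫ k = 𝟙 _ := by
    apply hpo.hom_ext
    · rw [← Category.assoc, hpo.inl_desc, Category.comp_id]
      rfl
    · rw [← Category.assoc, hpo.inr_desc, Category.comp_id]
      rfl
  intro x
  have h5 := congr($(hd).hom x)
  obtain ⟨p, hp⟩ := (hpo.desc u1 u2 hcomm x).2
  exact ⟨p, hp.trans h5⟩

end BC

end Groth.Agent.Flat2B.GExSC1
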