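import Groth.Agent.Flat2B.GExSC4Defs
import Groth.Agent.CohqA.AffPush
import Groth.Agent.PerfC.TildeHom

/-!
# S1270, route E, scheme side SC4: existence of `ShD`, generation and lifting
-/

set_option autoImplicit false
universe u

open CategoryTheory AlgebraicGeometry TopologicalSpace Opposite

namespace Groth.Agent.Flat2B.GExSC4

open GEx GExSC1 LoccohB.GlueHom Scheme.Modules

section Gen

variable {X : Scheme.{u}} {E G : X.Modules} {U : X.Opens}

theorem gen_of_qcoh (hE : Coh.IsQCoh E) (hU : IsAffineOpen U) {V : X.Opens} (hV : V ≤ U)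
    (x : Γ(E, V)) (p : X) (hp : p ∈ V) :
    ∃ (D : X.Opens) (hD : D ≤ V) (_ : p ∈ D) (hDU : D ≤ U) (c : Γ(X, D)) (m : Γ(E, U)),
      res E hD x = c • res E hDU m := by
  obtain ⟨g, hg, hpg⟩ := hU.exists_basicOpen_le ⟨p, hp⟩ (hV hp)
  obtain ⟨n, m, hm⟩ := Fdesc.QCohStalk.exists_map_eq_pow_smul E hU hE g (res E hg x)
  have hu : IsUnit ((X.presheaf.map (homOfLE (X.basicOpen_le g)).op g : Γ(X, X.basicOpen g)) ^ n) :=
    (X.toRingedSpace.isUnit_res_basicOpen g).pow n
  obtain ⟨w, hw⟩ := hu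
  refine ⟨X.basicOpen g, hg, hpg, X.basicOpen_le g, ((w⁻¹ : (Γ(X, X.basicOpen g))ˣ) : Γ(X, X.basicOpen g)), m, ?_⟩
  have h1 : res E (X.basicOpen_le g) m = (w : Γ(X, X.basicOpen g)) • res E hg x := by
    rw [hw]
    exact hm
  rw [h1, ← mul_smul, Units.inv_mul, one_smul]

/-- Sections which agree locally agree. -/
theorem eq_of_local (M : X.Modules) {V : X.Opens} {s t : Γ(M, V)}
    (H : ∀ x ∈ V, ∃ (D : X.Opens) (h : D ≤ V), x ∈ D ∧ res M h s = res M h t) : s = t := by
  choose D hD hx h using H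
  exact TopCat.Sheaf.eq_of_locally_eq' ⟨_, M.isSheaf⟩ (fun x : V => D x.1 x.2) V
    (fun x => homOfLE (hD x.1 x.2)) (fun x hxU => Opens.mem_iSup.mpr ⟨⟨x, hxU⟩, hx x hxU⟩) s t
    (fun x => h x.1 x.2)

theorem LHom_ext (hE : Coh.IsQCoh E) (hU : IsAffineOpen U) (φ ψ : LHom E G U)
    (h : ∀ m, φ.app U le_rfl m = ψ.app U le_rfl m) (V : X.Opens) (hV : V ≤ U) (x : Γ(E, V)) :
    φ.app V hV x = ψ.app V hV x := by
  refine eq_of_local G fun p hp => ?_
  obtain ⟨D, hD, hpD, hDU, c, m, hm⟩ := gen_of_qcoh hE hU hV x p hp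
  refine ⟨D, hD, hpD, ?_⟩
  rw [← φ.nat _ _ hD hV, ← ψ.nat _ _ hD hV, hm, _root_.map_smul, _root_.map_smul, φ.nat _ _ hDU le_rfl,
    ψ.nat _ _ hDU le_rfl, h]

/-- A morphism between restrictions is linear over functions on the image. -/
theorem restrict_app_smul {Y : Scheme.{u}} (p : Y ⟶ X) [IsOpenImmersion p]
    (ψ : E.restrict p ⟶ G.restrict p) (V : Y.Opens) (r : Γ(X, p ''ᵁ V)) (x : Γ(E, p ''ᵁ V)) :
    (show Γ(G, p ''ᵁ V) from ψ.app V (show Γ(E.restrict p, V) from r • x)) =
      r • (show Γ(G, p ''ᵁ V) from ψ.app V x) := by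
  have h1 : (E.restrictAppIso p V).inv (r • x) =
      (p.appIso V).hom r • (E.restrictAppIso p V).inv x := smul_restrictAppIso_inv_apply p E V r x
  have h2 := Hom.app_smul ψ ((p.appIso V).hom r) ((E.restrictAppIso p V).inv x)
  have h3 : (G.restrictAppIso p V).inv (r • (show Γ(G, p ''ᵁ V) from ψ.app V x)) =
      (p.appIso V).hom r • (G.restrictAppIso p V).inv (show Γ(G, p ''ᵁ V) from ψ.app V x) :=
    smul_restrictAppIso_inv_apply p G V r _
  exact (congrArg (ψ.app V) h1).trans (h2.trans h3.symm)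

theorem exists_LHom (hE : Coh.IsQCoh E) (hU : IsAffineOpen U) (u : Γ(E, U) →ₗ[Γ(X, U)] Γ(G, U)) :
    ∃ φ : LHom E G U, ∀ x, φ.app U le_rfl x = u x := by
  let p := hU.fromSpec
  have hq : (E.restrict p).IsQuasicoherent := Fdesc.QCohStalk.restrict_isQCoh E hE p
  have htop : p ''ᵁ ⊤ ≤ U := Fdesc.QCohStalk.fromSpec_image_le hU ⊤
  have htop' : U ≤ p ''ᵁ ⊤ := (Fdesc.QCohStalk.fromSpec_image_top hU).ge
  let h : Γ(E.restrict p, ⊤) →ₗ[Γ(X, U)] Γ(G.restrict p, ⊤) :=
    { toFun := fun x => res G htop (u (res E htop' x))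
      map_add' := fun x y => by
        have h1 : res E htop' (x + y) = res E htop' x + res E htop' y := map_add _ _ _
        rw [h1, map_add, map_add]
        rfl
      map_smul' := fun r x => by
        have h1 : (r • x : Γ(E.restrict p, ⊤)) = (show Γ(E, p ''ᵁ ⊤) from
            X.presheaf.map (homOfLE htop).op r • (show Γ(E, p ''ᵁ ⊤) from x)) :=
          Fdesc.QCohStalk.smul_restrictAppIso E hU ⊤ r x
        rw [RingHom.id_apply]
        refine (congrArg (fun z => res G htop (u (res E htop' z))) h1).trans ?_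
        have h2 : res E htop' (X.presheaf.map (homOfLE htop).op r • (show Γ(E, p ''ᵁ ⊤) from x)) =
            r • res E htop' x := by
          rw [res_smul]
          change resO htop' (resO htop r) • _ = _
          rw [resO_resO, resO_self]
        rw [h2, _root_.map_smul, res_smul]
        exact (Fdesc.QCohStalk.smul_restrictAppIso G hU ⊤ r (res G htop (u (res E htop' x)))).symm }
  obtain ⟨ψ, hψ, -⟩ := CohqA.PullbackAffine.existsUnique_hom_Spec (E.restrict p) (G.restrict p) h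
  have hle : ∀ V : X.Opens, V ≤ U → V ≤ p ''ᵁ (p ⁻¹ᵁ V) := by
    intro V hV
    rw [Scheme.Hom.image_preimage_eq_opensRange_inf, hU.opensRange_fromSpec]
    exact le_inf hV le_rfl
  have hle' : ∀ V : X.Opens, p ''ᵁ (p ⁻¹ᵁ V) ≤ V := fun V => p.image_preimage_le V
  let app : ∀ V : X.Opens, V ≤ U → Γ(E, V) → Γ(G, V) := fun V hV x =>
    res G (hle V hV) (show Γ(G, p ''ᵁ (p ⁻¹ᵁ V)) from ψ.app (p ⁻¹ᵁ V)
      (show Γ(E.restrict p, p ⁻¹ᵁ V) from res E (hle' V) x))
  let φ : LHom E G U :=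
    { app := fun V hV =>
        { toFun := app V hV
          map_add' := fun x y => by
            have h1 : res E (hle' V) (x + y) = res E (hle' V) x + res E (hle' V) y := map_add _ _ _
            have h2 := (ψ.app (p ⁻¹ᵁ V)).hom.map_add
              (show Γ(E.restrict p, p ⁻¹ᵁ V) from res E (hle' V) x)
              (show Γ(E.restrict p, p ⁻¹ᵁ V) from res E (hle' V) y)
            have h3 := (congrArg (fun z => (show Γ(G, p ''ᵁ (p ⁻¹ᵁ V)) from ψ.app (p ⁻¹ᵁ V)
              (show Γ(E.restrict p, p ⁻¹ᵁ V) from z))) h1).trans h2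
            exact (congrArg (res G (hle V hV)) h3).trans (map_add _ _ _)
          map_smul' := fun r x => by
            have h1 : res E (hle' V) (r • x) = resO (hle' V) r • res E (hle' V) x := res_smul _ _ _ _
            have h3 := (congrArg (fun z => (show Γ(G, p ''ᵁ (p ⁻¹ᵁ V)) from ψ.app (p ⁻¹ᵁ V)
              (show Γ(E.restrict p, p ⁻¹ᵁ V) from z))) h1).trans
                (restrict_app_smul p ψ (p ⁻¹ᵁ V) (resO (hle' V) r) (res E (hle' V) x))
            refine (congrArg (res G (hle V hV)) h3).trans ?_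
            rw [res_smul, resO_resO, resO_self]
            rfl }
      nat := fun V V' hVV' hV x => by
        have h1 : (p ''ᵁ (p ⁻¹ᵁ V')) ≤ (p ''ᵁ (p ⁻¹ᵁ V)) := p.image_mono (p.preimage_mono hVV')
        have h2 := app_res ψ (p.preimage_mono hVV') (show Γ(E.restrict p, p ⁻¹ᵁ V) from res E (hle' V) x)
        have h3 : res E (hle' V') (res E hVV' x) = res E h1 (res E (hle' V) x) := by
          rw [res_res, res_res]
        have h4 := (congrArg (fun z => (show Γ(G, p ''ᵁ (p ⁻¹ᵁ V')) from ψ.app (p ⁻¹ᵁ V')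
              (show Γ(E.restrict p, p ⁻¹ᵁ V') from z))) h3).trans h2
        refine (congrArg (res G (hle V' (hVV'.trans hV))) h4).trans ?_
        refine (res_res G h1 (hle V' (hVV'.trans hV)) (show Γ(G, p ''ᵁ (p ⁻¹ᵁ V)) from ψ.app (p ⁻¹ᵁ V)
          (show Γ(E.restrict p, p ⁻¹ᵁ V) from res E (hle' V) x))).trans ?_
        exact (res_res G (hle V hV) hVV' (show Γ(G, p ''ᵁ (p ⁻¹ᵁ V)) from ψ.app (p ⁻¹ᵁ V)
          (show Γ(E.restrict p, p ⁻¹ᵁ V) from res E (hle' V) x))).symm }
  refine ⟨φ, fun x => ?_⟩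
  change res G (hle U le_rfl) (show Γ(G, p ''ᵁ (p ⁻¹ᵁ U)) from ψ.app (p ⁻¹ᵁ U)
      (show Γ(E.restrict p, p ⁻¹ᵁ U) from res E (hle' U) x)) = u x
  have hU' : p ⁻¹ᵁ U ≤ ⊤ := le_top
  have h5 : res E (hle' U) x = res E (p.image_mono hU') (res E htop x) := by rw [res_res]
  have h6 := app_res ψ hU' (show Γ(E.restrict p, ⊤) from res E htop x)
  have h7 := (congrArg (fun z => (show Γ(G, p ''ᵁ (p ⁻¹ᵁ U)) from ψ.app (p ⁻¹ᵁ U)
              (show Γ(E.restrict p, p ⁻¹ᵁ U) from z))) h5).trans h6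
  refine (congrArg (res G (hle U le_rfl)) h7).trans ?_
  have h8 : (show Γ(G, p ''ᵁ ⊤) from ψ.app ⊤ (show Γ(E.restrict p, ⊤) from res E htop x)) =
      res G htop (u x) := by
    refine (hψ (show Γ(E.restrict p, ⊤) from res E htop x)).trans ?_
    change res G htop (u (res E htop' (res E htop x))) = _
    rw [res_res, res_self]
  refine (congrArg (fun z => res G (hle U le_rfl) (res G (p.image_mono hU') z)) h8).trans ?_
  rw [res_res, res_res, res_self]

/-- Restrictions along equal opens are bijective. -/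
theorem bijective_res_of_ge (G : X.Modules) {V V' : X.Opens} (h : V' ≤ V) (h' : V ≤ V') :
    Function.Bijective (res G h) := by
  refine Function.bijective_iff_has_inverse.2 ⟨res G h', fun x => ?_, fun x => ?_⟩ <;>
    rw [res_res, res_self]

/-- If restriction from `V` to `V ⊓ U` is always bijective, so is restriction from `V` to anything
containing `V ⊓ U`. -/
theorem bijective_res_of_le (hG : ∀ V : X.Opens, Function.Bijective (res G (inf_le_left : V ⊓ U ≤ V)))
    {V V' : X.Opens} (h : V' ≤ V) (h' : V ⊓ U ≤ V') : Function.Bijective (res G h) := by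
  have h1 : V ⊓ U ≤ V' ⊓ U := le_inf h' inf_le_right
  have h2 : V' ⊓ U ≤ V ⊓ U := inf_le_inf_right _ h
  have e1 : ∀ x, res G h2 (res G (inf_le_left : V ⊓ U ≤ V) x) =
      res G (inf_le_left : V' ⊓ U ≤ V') (res G h x) := by
    intro x
    rw [res_res, res_res]
  have h3 : Function.Bijective fun x => res G (inf_le_left : V' ⊓ U ≤ V') (res G h x) := by
    rw [← funext e1]
    exact (bijective_res_of_ge G h2 h1).comp (hG V)
  exact (Function.Bijective.of_comp_iff' (hG V') _).1 h3

theorem hom_ext_of_le (hG : ∀ V : X.Opens, Function.Bijective (res G (inf_le_left : V ⊓ U ≤ V)))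
    (φ ψ : E ⟶ G) (h : ∀ V : X.Opens, V ≤ U → ∀ x : Γ(E, V), φ.app V x = ψ.app V x) : φ = ψ := by
  apply Scheme.Modules.hom_ext
  intro V
  ext x
  apply (hG V).1
  rw [← app_res, ← app_res]
  exact h _ inf_le_right _

/-- Morphisms to `U`-local sheaves are determined by their restrictions to `U`. -/
theorem exists_hom_of_LHom
    (hG : ∀ V : X.Opens, Function.Bijective (res G (inf_le_left : V ⊓ U ≤ V))) (φ : LHom E G U) :
    ∃ ψ : E ⟶ G, ∀ (V : X.Opens) (hV : V ≤ U) (x : Γ(E, V)), ψ.app V x = φ.app V hV x := by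
  choose t ht using fun (V : X.Opens) (x : Γ(E, V)) =>
    (hG V).2 (φ.app (V ⊓ U) inf_le_right (res E inf_le_left x))
  have uniq : ∀ (V : X.Opens) (x : Γ(E, V)) (y : Γ(G, V)),
      res G (inf_le_left : V ⊓ U ≤ V) y = φ.app (V ⊓ U) inf_le_right (res E inf_le_left x) → t V x = y :=
    fun V x y h => (hG V).1 ((ht V x).trans h.symm)
  let ψ : ∀ V : X.Opens, Γ(E, V) →ₗ[Γ(X, V)] Γ(G, V) := fun V =>
    { toFun := t V
      map_add' := fun a b => uniq _ _ _ (by rw [map_add, map_add, map_add, ht, ht])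
      map_smul' := fun r a => uniq _ _ _ (by
        rw [RingHom.id_apply, res_smul, res_smul, ht, _root_.map_smul]) }
  refine ⟨homMk E G ψ ?_, ?_⟩
  · intro V V' h x
    refine uniq V' _ _ ?_
    have h1 : V' ⊓ U ≤ V ⊓ U := inf_le_inf_right _ h
    change res G _ (res G h (t V x)) = _
    rw [res_res, ← res_res G (inf_le_left : V ⊓ U ≤ V) h1, ht, ← φ.nat _ _ h1 inf_le_right,
      res_res, res_res]
  · intro V hV x
    rw [homMk_app]
    refine uniq V x _ ?_
    rw [← φ.nat _ _ inf_le_left hV]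

end Gen

section Ex

variable {X : Scheme.{u}} {U : X.Opens} (hU : IsAffineOpen U)

/-- The direct image of the sheaf of a module on an affine open. -/
theorem exists_modE (hp : IsAffineHom hU.fromSpec) (M : Type u) [AddCommGroup M] [Module Γ(X, U) M] :
    ∃ (E : X.Modules) (_ : Coh.IsQCoh E) (e : M ≃+ Γ(E, U)), (∀ (r : Γ(X, U)) m, e (r • m) = r • e m) ∧
      ∀ V : X.Opens, Function.Bijective (res E (inf_le_left : V ⊓ U ≤ V)) := by
  let p := hU.fromSpec
  let T : (Spec Γ(X, U)).Modules := tilde (R := Γ(X, U)) (ModuleCat.of Γ(X, U) M)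
  have hT : Coh.IsQCoh T := inferInstanceAs (tilde (R := Γ(X, U)) (ModuleCat.of Γ(X, U) M)).IsQuasicoherent
  have hE : Coh.IsQCoh ((Scheme.Modules.pushforward p).obj T) := CohqA.AffPush.isQCoh_push p T hT
  have key : ∀ V : (Spec Γ(X, U)).Opens, V = ⊤ →
      Function.Bijective (PerfC.TildeHom.toOpenL (R := Γ(X, U)) M V) := by
    rintro _ rfl
    exact ConcreteCategory.bijective_of_isIso (tilde.isoTop (ModuleCat.of Γ(X, U) M)).hom
  let e : M ≃+ Γ(T, p ⁻¹ᵁ U) := AddEquiv.ofBijective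
    (PerfC.TildeHom.toOpenL (R := Γ(X, U)) M (p ⁻¹ᵁ U)).toAddMonoidHom (key _ hU.fromSpec_preimage_self)
  refine ⟨(Scheme.Modules.pushforward p).obj T, hE, e, fun r m => ?_, fun V => ?_⟩
  · have h1 : e (r • m) = r • (show Γ(T, p ⁻¹ᵁ U) from e m) :=
      (PerfC.TildeHom.toOpenL (R := Γ(X, U)) M (p ⁻¹ᵁ U)).map_smul r m
    refine h1.trans ?_
    have h2 : (p.app U).hom r • (show Γ(T, p ⁻¹ᵁ U) from e m) = r • (show Γ(T, p ⁻¹ᵁ U) from e m) := by
      rw [smul_Spec_def]
      congr 1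
      have h3 := congr($(hU.fromSpec_app_self).hom r)
      exact h3
    exact h2.symm
  · have h1 : p ⁻¹ᵁ V ≤ p ⁻¹ᵁ (V ⊓ U) := by
      rw [Scheme.Hom.preimage_inf, hU.fromSpec_preimage_self, inf_top_eq]
    exact bijective_res_of_ge T (p.preimage_mono inf_le_left) h1

end Ex

section Sh

variable {S : Type u} [CommRing S] {X : Scheme.{u}} {f : X ⟶ Spec (CommRingCat.of S)}
  {ι : Type} [LinearOrder ι] {W : NE ι → X.Opens} {hW : ∀ s t : NE ι, s ≤ t → W t ≤ W s}
  {M : MDiag (ringD f W hW)}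

theorem ShD.gen (hC : IsCov W) (Q : ShD M) : Q.Gen where
  gen s V hV x p hp := by
    obtain ⟨D, hD, hpD, hDU, c, m, hm⟩ := gen_of_qcoh (Q.qc s) (hC.aff s) hV x p hp
    refine ⟨D, hD, hpD, hDU, c, (Q.e s).symm m, ?_⟩
    rw [(Q.e s).apply_symm_apply]
    exact hm
  ext s G φ ψ h V hV x := by
    refine LHom_ext (Q.qc s) (hC.aff s) φ ψ (fun m => ?_) V hV x
    obtain ⟨m, rfl⟩ := (Q.e s).surjective m
    exact h m
  lift s G u hu := by
    obtain ⟨φ, hφ⟩ := exists_LHom (E := Q.E s) (G := G) (Q.qc s) (hC.aff s)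
      { toFun := fun x => u ((Q.e s).symm x)
        map_add' := fun x y => by rw [map_add, map_add]
        map_smul' := fun r x => by
          have h1 : (Q.e s).symm (r • x) = (show (ringD f W hW).C s from r) • (Q.e s).symm x := by
            rw [AddEquiv.symm_apply_eq, Q.e_smul, (Q.e s).apply_symm_apply]
          rw [h1, hu]
          rfl }
    refine ⟨φ, fun m => ?_⟩
    rw [hφ]
    exact congrArg u ((Q.e s).symm_apply_apply m)

theorem isAffineHom_fromSpec (hC : IsCov W) (hcov : ⨆ i, W (sg i) = ⊤) (s : NE ι) :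
    IsAffineHom (hC.aff s).fromSpec := by
  refine isAffineHom_of_forall_exists_isAffineOpen _ fun x => ?_
  have hx : x ∈ ⨆ i, W (sg i) := by rw [hcov]; trivial
  obtain ⟨i, hi⟩ := Opens.mem_iSup.1 hx
  refine ⟨W (sg i), hi, hC.aff _, ?_⟩
  have h1 : (hC.aff s).fromSpec ⁻¹ᵁ W (sg i) = (hC.aff s).fromSpec ⁻¹ᵁ W (ins i s) := by
    rw [hC.sg i s, Scheme.Hom.preimage_inf, (hC.aff s).fromSpec_preimage_self, top_inf_eq]
  rw [h1]
  refine (hC.aff (ins i s)).preimage_of_isOpenImmersion _ ?_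
  rw [(hC.aff s).opensRange_fromSpec]
  exact hC.anti _ _ (le_ins i s)

theorem exists_shD (hC : IsCov W) (hcov : ⨆ i, W (sg i) = ⊤) (M : MDiag (ringD f W hW)) :
    Nonempty (ShD M) := by
  have key : ∀ s : NE ι, ∃ (E : X.Modules) (_ : Coh.IsQCoh E) (e : M.M s ≃+ Γ(E, W s)),
      (∀ (c : (ringD f W hW).C s) (m : M.M s), e (c • m) = (show Γ(X, W s) from c) • e m) ∧
      ∀ V : X.Opens, Function.Bijective (res E (inf_le_left : V ⊓ W s ≤ V)) := by
    intro s
    let i1 : Module Γ(X, W s) (M.M s) := M.mod s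
    exact exists_modE (hC.aff s) (isAffineHom_fromSpec hC hcov s) (M.M s)
  choose E qc e e_smul bij using key
  -- maps
  have hr : ∀ s t : NE ι, s ≤ t → ∃ r : E s ⟶ E t, ∀ (h : s ≤ t) (m : M.M s),
      res (E t) (hW s t h) (r.app (W s) (e s m)) = e t (M.res h m) := by
    intro s t h
    have hb : Function.Bijective (res (E t) (hW s t h)) :=
      bijective_res_of_le (bij t) _ inf_le_right
    let b := AddEquiv.ofBijective _ hb
    have hbb : ∀ x, res (E t) (hW s t h) (b.symm x) = x := fun x => b.apply_symm_apply x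
    obtain ⟨φ, hφ⟩ := exists_LHom (E := E s) (G := E t) (qc s) (hC.aff s)
      { toFun := fun x => b.symm (e t (M.res h ((e s).symm x)))
        map_add' := fun x y => by simp only [map_add]
        map_smul' := fun r x => by
          have h1 : (e s).symm (r • x) = (show (ringD f W hW).C s from r) • (e s).symm x := by
            rw [AddEquiv.symm_apply_eq, e_smul, (e s).apply_symm_apply]
          rw [h1, M.res_smul, e_smul, RingHom.id_apply]
          apply hb.1
          rw [hbb, res_smul, hbb]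
          rfl }
    obtain ⟨ψ, hψ⟩ := exists_hom_of_LHom (U := W s) (E := E s) (G := E t) (fun V => by
      refine bijective_res_of_le (bij t) _ ?_
      exact inf_le_inf_left _ (hW s t h)) φ
    refine ⟨ψ, fun h m => ?_⟩
    rw [hψ _ le_rfl, hφ]
    refine (hbb _).trans ?_
    rw [(e s).symm_apply_apply]
  choose r hr' using hr
  have hext : ∀ (s t : NE ι) (h : s ≤ t) (φ ψ : E s ⟶ E t), (∀ m : M.M s,
      res (E t) (hW s t h) (φ.app (W s) (e s m)) = res (E t) (hW s t h) (ψ.app (W s) (e s m))) → φ = ψ := by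
    intro s t h φ ψ H
    refine hom_ext_of_le (U := W s) (fun V => by
      refine bijective_res_of_le (bij t) _ ?_
      exact inf_le_inf_left _ (hW s t h)) φ ψ ?_
    have hb : Function.Bijective (res (E t) (hW s t h)) :=
      bijective_res_of_le (bij t) _ inf_le_right
    let toL : (E s ⟶ E t) → LHom (E s) (E t) (W s) := fun χ =>
      { app := fun V _ => { (χ.app V).hom with map_smul' := fun a x => Hom.app_smul χ a x }
        nat := fun V V' hVV' hV x => app_res χ hVV' x }
    intro V hV x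
    refine LHom_ext (qc s) (hC.aff s) (toL φ) (toL ψ) (fun m => ?_) V hV x
    obtain ⟨m, rfl⟩ := (e s).surjective m
    exact hb.1 (H m)
  refine ⟨{
    E := E
    qc := qc
    e := e
    e_smul := e_smul
    bij := bij
    r := fun {s t} h => r s t h
    r_e := fun {s t} h m => hr' s t h h m
    r_self := fun s h => ?_
    r_r := fun {s t t'} h h' => ?_ }⟩
  · refine hext s s h _ _ fun m => ?_
    rw [hr' s s h h, M.res_self, Hom.id_app]
    exact (res_self _ _ _).symm
  · refine hext s t' (h.trans h') _ _ fun m => ?_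
    rw [hr' s t' (h.trans h') (h.trans h'), Hom.comp_app, ← M.res_res h h', ← hr' t t' h' h', ← hr' s t h h,
      app_res, res_res]
    rfl

end Sh

end Groth.Agent.Flat2B.GExSC4
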