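import Groth.Agent.Flat2B.GExSC4Defs
import Groth.Agent.PerfA.QCohExt
import Groth.Agent.FormalB.QcSect
import Groth.Agent.CohqB.QC4

/-!
# S1270, route E, scheme side SC4 (B): homology of maps of quasi-coherent sheaves on sections

`HomD u v` : for `u : A ⟶ B`, `v : B ⟶ C` with `u ≫ v = 0`, a quasi-coherent sheaf `H` with classes
`cl U : Γ(B, U) → Γ(H, U)` (only the values on cycles matter), onto on affines with kernel the boundaries.
-/

set_option autoImplicit false
universe u

open CategoryTheory CategoryTheory.Limits AlgebraicGeometry TopologicalSpace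

namespace Groth.Agent.Flat2B.GExSC4

open LoccohB.GlueHom

variable {X : Scheme.{u}}

/-- The homology sheaf of `A ⟶ B ⟶ C` with its description on sections. -/
structure HomD {A B C : X.Modules} (u : A ⟶ B) (v : B ⟶ C) where
  H : X.Modules
  qc : Coh.IsQCoh H
  cl : ∀ U : X.Opens, Γ(B, U) → Γ(H, U)
  cl_add : ∀ (U : X.Opens) (y y' : Γ(B, U)), v.app U y = 0 → v.app U y' = 0 →
    cl U (y + y') = cl U y + cl U y'
  cl_smul : ∀ (U : X.Opens) (r : Γ(X, U)) (y : Γ(B, U)), v.app U y = 0 → cl U (r • y) = r • cl U y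
  cl_res : ∀ {U V : X.Opens} (h : V ≤ U) (y : Γ(B, U)), v.app U y = 0 →
    res H h (cl U y) = cl V (res B h y)
  cl_surj : ∀ U : X.Opens, IsAffineOpen U → ∀ h : Γ(H, U), ∃ y : Γ(B, U), v.app U y = 0 ∧ cl U y = h
  cl_ker : ∀ U : X.Opens, IsAffineOpen U → ∀ y : Γ(B, U), v.app U y = 0 →
    (cl U y = 0 ↔ ∃ x : Γ(A, U), u.app U x = y)
  inc : u = 0 → {i : H ⟶ B // i ≫ v = 0 ∧ (∀ V : X.Opens, Function.Injective (i.app V)) ∧
    ∀ (V : X.Opens) (y : Γ(B, V)), v.app V y = 0 → i.app V (cl V y) = y}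

/-- Sections of the kernel. -/
theorem exists_kernel_sec {B C : X.Modules} (v : B ⟶ C) (U : X.Opens) (y : Γ(B, U)) (hy : v.app U y = 0) :
    ∃ t : Γ(kernel v, U), (kernel.ι v).app U t = y := by
  let S : ShortComplex X.Modules := ShortComplex.mk (kernel.ι v) v (kernel.condition v)
  have hS : S.Exact := ShortComplex.exact_of_f_is_kernel S (kernelIsKernel v)
  have : Mono S.f := inferInstanceAs (Mono (kernel.ι v))
  exact CohqB.QC4.exists_of_exact hS U y hy

theorem kernel_sec_inj {B C : X.Modules} (v : B ⟶ C) (U : X.Opens) :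
    Function.Injective ((kernel.ι v).app U) :=
  CohqB.QC4.app_injective_of_mono (kernel.ι v) U

/-- Sections of the cokernel: kernel of the projection on affine opens. -/
theorem cokernel_sec_ker {A K : X.Modules} (a : A ⟶ K) (hA : Coh.IsQCoh A) (hK : Coh.IsQCoh K) {U : X.Opens}
    (hU : IsAffineOpen U) (t : Γ(K, U)) (ht : (cokernel.π a).app U t = 0) : ∃ x : Γ(A, U), a.app U x = t := by
  have h1 := FormalB.QcSect.mem_closure_of_app_eq_zero (ι := PUnit.{1}) (fun _ => A) K (fun _ => a) (cokernel.π a)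
    (fun T s hs => ⟨cokernel.desc a s (hs ⟨⟩), cokernel.π_desc _ _ _⟩) hU t ht
  refine AddSubgroup.closure_induction (p := fun t _ => ∃ x : Γ(A, U), a.app U x = t) ?_ ?_ ?_ ?_ h1
  · rintro _ ⟨-, m, rfl⟩
    exact ⟨m, rfl⟩
  · exact ⟨0, map_zero _⟩
  · rintro _ _ _ _ ⟨x, rfl⟩ ⟨y, rfl⟩
    exact ⟨x + y, map_add _ _ _⟩
  · rintro _ _ ⟨x, rfl⟩
    exact ⟨-x, map_neg _ _⟩

open Classical in
theorem exists_homD {A B C : X.Modules} (u : A ⟶ B) (v : B ⟶ C) (hA : Coh.IsQCoh A) (hB : Coh.IsQCoh B)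
    (hC : Coh.IsQCoh C) (w : u ≫ v = 0) : Nonempty (HomD u v) := by
  have hK : Coh.IsQCoh (kernel v) := PerfA.QCohSerre.isQCoh_kernel v hB hC
  let a : A ⟶ kernel v := kernel.lift v u w
  have haι : a ≫ kernel.ι v = u := kernel.lift_ι _ _ _
  have hH : Coh.IsQCoh (cokernel a) := PerfA.QCohSerre.isQCoh_cokernel a hA hK
  have haapp : ∀ (U : X.Opens) (x : Γ(A, U)), (kernel.ι v).app U (a.app U x) = u.app U x := by
    intro U x
    rw [← haι]
    rfl
  choose lf hlf using fun (U : X.Opens) (y : Γ(B, U)) (hy : v.app U y = 0) => exists_kernel_sec v U y hy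
  let cl : ∀ U : X.Opens, Γ(B, U) → Γ(cokernel a, U) := fun U y =>
    if hy : v.app U y = 0 then (cokernel.π a).app U (lf U y hy) else 0
  have hcl : ∀ (U : X.Opens) (y : Γ(B, U)) (hy : v.app U y = 0) (t : Γ(kernel v, U)),
      (kernel.ι v).app U t = y → cl U y = (cokernel.π a).app U t := by
    intro U y hy t ht
    have h1 : lf U y hy = t := kernel_sec_inj v U ((hlf U y hy).trans ht.symm)
    simp only [cl, dif_pos hy, h1]
  refine ⟨⟨cokernel a, hH, cl, ?_, ?_, ?_, ?_, ?_, ?_⟩⟩
  · intro U y y' hy hy'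
    have h2 : v.app U (y + y') = 0 := by rw [map_add, hy, hy', add_zero]
    rw [hcl U (y + y') h2 (lf U y hy + lf U y' hy') (by rw [map_add, hlf, hlf]), hcl U y hy _ (hlf U y hy),
      hcl U y' hy' _ (hlf U y' hy'), map_add]
  · intro U r y hy
    have h2 : v.app U (r • y) = 0 := by
      rw [Scheme.Modules.Hom.app_smul, hy, smul_zero]
    rw [hcl U (r • y) h2 (r • lf U y hy) (by rw [Scheme.Modules.Hom.app_smul, hlf]), hcl U y hy _ (hlf U y hy),
      Scheme.Modules.Hom.app_smul]
  · intro U V h y hy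
    have h2 : v.app V (res B h y) = 0 := by rw [app_res, hy, map_zero]
    rw [hcl V (res B h y) h2 (res (kernel v) h (lf U y hy)) (by rw [app_res, hlf]), hcl U y hy _ (hlf U y hy),
      app_res]
  · intro U hU h
    haveI : (kernel v).IsQuasicoherent := hK
    haveI : (cokernel a).IsQuasicoherent := hH
    obtain ⟨t, rfl⟩ := FormalB.QcSect.surjective_app_of_epi (cokernel.π a) hU h
    have h2 : v.app U ((kernel.ι v).app U t) = 0 := by
      have := congrArg (fun z => (Scheme.Modules.Hom.app z U) t) (kernel.condition v)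
      exact this
    exact ⟨(kernel.ι v).app U t, h2, hcl U _ h2 t rfl⟩
  · intro U hU y hy
    rw [hcl U y hy _ (hlf U y hy)]
    constructor
    · intro h
      obtain ⟨x, hx⟩ := cokernel_sec_ker a hA hK hU _ h
      exact ⟨x, by rw [← haapp, hx, hlf]⟩
    · rintro ⟨x, rfl⟩
      have h3 : lf U (u.app U x) hy = a.app U x := kernel_sec_inj v U ((hlf U _ hy).trans (haapp U x).symm)
      rw [h3]
      have := congrArg (fun z => (Scheme.Modules.Hom.app z U) x) (cokernel.condition a)
      exact this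
  · intro hu
    have ha : a = 0 := by
      rw [← cancel_mono (kernel.ι v), haι, hu, zero_comp]
    have hiso : IsIso (cokernel.π a) := by
      rw [ha]
      infer_instance
    refine ⟨inv (cokernel.π a) ≫ kernel.ι v, ?_, ?_, ?_⟩
    · rw [Category.assoc, kernel.condition, comp_zero]
    · intro V
      exact CohqB.QC4.app_injective_of_mono _ V
    · intro V y hy
      rw [hcl V y hy _ (hlf V y hy)]
      have h4 : cokernel.π a ≫ inv (cokernel.π a) ≫ kernel.ι v = kernel.ι v := by
        rw [IsIso.hom_inv_id_assoc]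
      have h5 : (inv (cokernel.π a) ≫ kernel.ι v).app V ((cokernel.π a).app V (lf V y hy)) =
          (kernel.ι v).app V (lf V y hy) := by
        conv_rhs => rw [← h4]
        rfl
      rw [h5, hlf]

end Groth.Agent.Flat2B.GExSC4
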