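import Groth.Agent.Flat2B.GExSC4C
import Groth.Agent.CohqA.HBiprod

/-!
# S1270, route E, scheme side SC4: the alternating complex of sheaves
-/

set_option autoImplicit false
universe u

open CategoryTheory CategoryTheory.Limits AlgebraicGeometry TopologicalSpace Opposite
open Groth.Agent.Ega3B.Cube

namespace Groth.Agent.Flat2B.GExSC4

open GEx GEx.MDiag GExSC1 GExGlob LoccohB.GlueHom

attribute [local instance] Abelian.hasFiniteBiproducts

section Biprod

variable {X : Scheme.{u}}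

/-- Evaluation of morphisms at a section. -/
noncomputable def evAt {E G : X.Modules} (V : X.Opens) (x : Γ(E, V)) : (E ⟶ G) →+ Γ(G, V) where
  toFun φ := φ.app V x
  map_zero' := rfl
  map_add' _ _ := rfl

lemma evAt_apply {E G : X.Modules} (V : X.Opens) (x : Γ(E, V)) (φ : E ⟶ G) : evAt V x φ = φ.app V x := rfl

variable {J : Type} [Finite J] (E : J → X.Modules)

/-- The section of a direct sum with given components. -/
noncomputable def bmk (V : X.Opens) (y : ∀ j, Γ(E j, V)) : Γ(⨁ E, V) :=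
  have := Fintype.ofFinite J
  ∑ j, (biproduct.ι E j).app V (y j)

lemma π_bmk (V : X.Opens) (y : ∀ j, Γ(E j, V)) (j : J) : (biproduct.π E j).app V (bmk E V y) = y j := by
  classical
  let i0 := Fintype.ofFinite J
  have h0 : (biproduct.π E j).app V (bmk E V y) =
      ∑ k, (biproduct.π E j).app V ((biproduct.ι E k).app V (y k)) :=
    map_sum ((biproduct.π E j).app V).hom _ _
  rw [h0, Finset.sum_eq_single j]
  · have h1 : ((biproduct.ι E j) ≫ (biproduct.π E j)).app V (y j) = (𝟙 (E j) : E j ⟶ E j).app V (y j) := by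
      rw [biproduct.ι_π_self]
    exact h1
  · intro k _ hk
    have h1 : ((biproduct.ι E k) ≫ (biproduct.π E j)).app V (y k) = (0 : E k ⟶ E j).app V (y k) := by
      rw [biproduct.ι_π_ne _ hk]
    exact h1
  · intro h
    exact absurd (Finset.mem_univ j) h

lemma bi_ext {V : X.Opens} {x x' : Γ(⨁ E, V)}
    (h : ∀ j, (biproduct.π E j).app V x = (biproduct.π E j).app V x') : x = x' := by
  let i0 := Fintype.ofFinite J
  have h1 : ∀ x : Γ(⨁ E, V), x = ∑ j, (biproduct.ι E j).app V ((biproduct.π E j).app V x) := by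
    intro x
    have h2 : evAt V x (𝟙 (⨁ E)) = ∑ j, evAt V x (biproduct.π E j ≫ biproduct.ι E j) := by
      rw [← biproduct.total, map_sum]
    exact h2
  rw [h1 x, h1 x']
  exact Finset.sum_congr rfl fun j _ => congrArg _ (h j)

end Biprod

section Cx

variable {S : Type u} [CommRing S] {X : Scheme.{u}} {f : X ⟶ Spec (CommRingCat.of S)}
  {ι : Type} [LinearOrder ι] [Fintype ι] {W : NE ι → X.Opens} {hW : ∀ s t : NE ι, s ≤ t → W t ≤ W s}
  {M : MDiag (ringD f W hW)} (Q : ShD M)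

variable (ι) in
/-- Indices of the alternating complex, homological indexing. -/
abbrev Ix (k : ℕ) : Type := {s : NE ι // s.1.card + k = Fintype.card ι}

/-- The terms of the alternating complex. -/
noncomputable abbrev Ck (k : ℕ) : X.Modules := ⨁ fun s : Ix ι k => Q.E s.1

open Classical in
/-- The `t`-component, mapped to `E s`. -/
noncomputable def evH (k : ℕ) (s : NE ι) (t : Finset ι) : Ck Q k ⟶ Q.E s :=
  if h : t.Nonempty ∧ t ⊆ s.1 ∧ t.card + k = Fintype.card ι then
    biproduct.π (fun s : Ix ι k => Q.E s.1) ⟨⟨t, h.1⟩, h.2.2⟩ ≫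
      Q.r (show (⟨t, h.1⟩ : NE ι) ≤ s from h.2.1)
  else 0

/-- The differential. -/
noncomputable def dk (k : ℕ) : Ck Q (k + 1) ⟶ Ck Q k :=
  biproduct.lift fun s => ∑ i ∈ s.1.1, sgn i s.1.1 • evH Q (k + 1) s.1 (s.1.1.erase i)

/-- The diagram of the sections of the `E s` over a fixed open `V`. -/
noncomputable def secD (V : X.Opens) : MDiag (ringD f (fun _ : NE ι => V) (fun _ _ _ => le_rfl)) where
  M s := Γ(Q.E s, V)
  mod s := inferInstanceAs (Module Γ(X, V) Γ(Q.E s, V))
  modS s := aModule f (Q.E s) V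
  tower s := by exact isScalarTower_a f (Q.E s) V
  res {s t} h := ((Q.r h).app V).hom
  res_smul {s t} h c m := by
    have h1 : (ringD f (fun _ : NE ι => V) (fun _ _ _ => le_rfl)).res h c = c := resO_self le_rfl c
    rw [h1]
    exact Scheme.Modules.Hom.app_smul (Q.r h) c m
  res_self s h x := by
    have h1 : (Q.r h).app V x = (𝟙 (Q.E s) : Q.E s ⟶ Q.E s).app V x := by rw [Q.r_self]
    exact h1
  res_res {s t t'} h h' x := by
    have h1 : (Q.r h ≫ Q.r h').app V x = (Q.r (h.trans h')).app V x := by rw [Q.r_r]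
    exact h1

/-- The components of a section of the alternating complex. -/
noncomputable def cmp {k : ℕ} {V : X.Opens} (x : Γ(Ck Q k, V)) : (secD Q V).HK k := fun s =>
  (biproduct.π (fun s : Ix ι k => Q.E s.1) s).app V x

lemma evH_app {k : ℕ} {V : X.Opens} (x : Γ(Ck Q k, V)) (s : NE ι) (t : Finset ι) :
    (evH Q k s t).app V x = cev (cmp Q x) s t := by
  by_cases h : t.Nonempty ∧ t ⊆ s.1 ∧ t.card + k = Fintype.card ι
  · rw [evH, dif_pos h, cev, dif_pos h]
    rfl
  · rw [evH, dif_neg h, cev, dif_neg h]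
    rfl

theorem cmp_dk {k : ℕ} {V : X.Opens} (x : Γ(Ck Q (k + 1), V)) :
    cmp Q ((dk Q k).app V x) = (secD Q V).cd k (cmp Q x) := by
  funext s
  rw [cd_eq]
  have h1 : (dk Q k ≫ biproduct.π (fun s : Ix ι k => Q.E s.1) s) =
      ∑ i ∈ s.1.1, sgn i s.1.1 • evH Q (k + 1) s.1 (s.1.1.erase i) := biproduct.lift_π _ _
  have h2 : evAt V x (dk Q k ≫ biproduct.π (fun s : Ix ι k => Q.E s.1) s) =
      ∑ i ∈ s.1.1, sgn i s.1.1 • evAt V x (evH Q (k + 1) s.1 (s.1.1.erase i)) := by
    rw [h1, map_sum]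
    exact Finset.sum_congr rfl fun i _ => map_zsmul _ _ _
  refine Eq.trans h2 (Finset.sum_congr rfl fun i _ => ?_)
  rw [evAt_apply, evH_app]
  rfl

/-- The section with given components. -/
noncomputable def mk {k : ℕ} {V : X.Opens} (y : (secD Q V).HK k) : Γ(Ck Q k, V) :=
  bmk (fun s : Ix ι k => Q.E s.1) V y

@[simp] lemma cmp_mk {k : ℕ} {V : X.Opens} (y : (secD Q V).HK k) : cmp Q (mk Q y) = y := by
  funext s
  exact π_bmk (fun s : Ix ι k => Q.E s.1) V y s

lemma cmp_injective {k : ℕ} {V : X.Opens} : Function.Injective (cmp Q (k := k) (V := V)) := fun x y h =>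
  bi_ext (fun s : Ix ι k => Q.E s.1) fun j => congrFun h j

lemma mk_cmp {k : ℕ} {V : X.Opens} (x : Γ(Ck Q k, V)) : mk Q (cmp Q x) = x :=
  cmp_injective Q (cmp_mk Q _)

lemma cmp_add {k : ℕ} {V : X.Opens} (x y : Γ(Ck Q k, V)) : cmp Q (x + y) = cmp Q x + cmp Q y := by
  funext s
  exact map_add ((biproduct.π (fun s : Ix ι k => Q.E s.1) s).app V).hom x y

lemma cmp_zero {k : ℕ} {V : X.Opens} : cmp Q (0 : Γ(Ck Q k, V)) = 0 := by
  funext s
  exact map_zero ((biproduct.π (fun s : Ix ι k => Q.E s.1) s).app V).hom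

lemma cmp_smul {k : ℕ} {V : X.Opens} (c : Γ(X, V)) (x : Γ(Ck Q k, V)) (s : Ix ι k) :
    cmp Q (c • x) s = (c • (show Γ(Q.E s.1, V) from cmp Q x s) : Γ(Q.E s.1, V)) :=
  Scheme.Modules.Hom.app_smul (biproduct.π (fun s : Ix ι k => Q.E s.1) s) c x

lemma mk_add {k : ℕ} {V : X.Opens} (x y : (secD Q V).HK k) : mk Q (x + y) = mk Q x + mk Q y := by
  apply cmp_injective Q
  rw [cmp_add, cmp_mk, cmp_mk, cmp_mk]

/-- The outgoing differential (zero in degree `0`). -/
noncomputable def outK : ∀ k : ℕ, Σ B : X.Modules, (Ck Q k ⟶ B)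
  | 0 => ⟨Ck Q 0, 0⟩
  | k + 1 => ⟨Ck Q k, dk Q k⟩

theorem dk_dk (k : ℕ) : dk Q (k + 1) ≫ dk Q k = 0 := by
  apply Scheme.Modules.hom_ext
  intro V
  ext x
  apply cmp_injective Q
  change cmp Q ((dk Q k).app V ((dk Q (k + 1)).app V x)) = cmp Q (0 : Γ(Ck Q k, V))
  rw [cmp_dk, cmp_dk, cd_cd, cmp_zero]

theorem dk_outK (k : ℕ) : dk Q k ≫ (outK Q k).2 = 0 := by
  cases k with
  | zero => exact comp_zero
  | succ k => exact dk_dk Q k

/-- A section of the alternating complex is a cycle iff the family of its components is. -/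
theorem outK_eq_zero_iff {k : ℕ} {V : X.Opens} (x : Γ(Ck Q k, V)) :
    (outK Q k).2.app V x = 0 ↔ (secD Q V).IsCyc k (cmp Q x) := by
  cases k with
  | zero => exact ⟨fun _ => trivial, fun _ => rfl⟩
  | succ k =>
    change (dk Q k).app V x = 0 ↔ (secD Q V).cd k (cmp Q x) = 0
    rw [← cmp_dk]
    refine ⟨fun h => by rw [h, cmp_zero], fun h => cmp_injective Q (h.trans (cmp_zero Q).symm)⟩

theorem isQCoh_Ck (k : ℕ) : Coh.IsQCoh (Ck Q k) :=
  CohqA.HBiprod.isQCoh_biproduct (fun s : Ix ι k => Q.E s.1) (fun s => Q.qc s.1)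

theorem isQCoh_outK (k : ℕ) : Coh.IsQCoh (outK Q k).1 := by
  cases k with
  | zero => exact isQCoh_Ck Q 0
  | succ k => exact isQCoh_Ck Q k

end Cx

end Groth.Agent.Flat2B.GExSC4
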