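import Groth.Agent.Flat2B.GExSC1
import Groth.Agent.PerfB.ApproxFlat
import Mathlib.AlgebraicGeometry.Morphisms.Flat

/-!
# S1270, route E, scheme side SC1: properties of the diagrams of rings
-/

set_option autoImplicit false
universe u

open CategoryTheory CategoryTheory.Limits AlgebraicGeometry Opposite TopologicalSpace

namespace Groth.Agent.Flat2B.GExSC1

open GEx GExGlob CohqA.PullbackAffine CohqA.PullbackUniv CohqA.BaseChangeMod

section Res

variable {X : Scheme.{u}}

theorem id_appLE_eq {U V : X.Opens} (h : V ≤ U) :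
    (𝟙 X : X ⟶ X).appLE U V h = X.presheaf.map (homOfLE h).op := by
  simp only [Scheme.Hom.appLE, Scheme.Hom.id_app]
  exact Category.id_comp _

theorem flat_res {U V : X.Opens} (hU : IsAffineOpen U) (hV : IsAffineOpen V) (h : V ≤ U) :
    (X.presheaf.map (homOfLE h).op).hom.Flat := by
  rw [← id_appLE_eq h]
  exact (𝟙 X : X ⟶ X).flat_appLE hU hV h

theorem isPushout_res {U V W T : X.Opens} (hU : IsAffineOpen U) (hV : IsAffineOpen V)
    (hW : IsAffineOpen W) (hVU : V ≤ U) (hWU : W ≤ U) (hTV : T ≤ V) (hTW : T ≤ W) (hT : T = V ⊓ W) :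
    IsPushout (X.presheaf.map (homOfLE hVU).op) (X.presheaf.map (homOfLE hWU).op)
      (X.presheaf.map (homOfLE hTV).op) (X.presheaf.map (homOfLE hTW).op) := by
  have H : IsPullback (𝟙 X) (𝟙 X) (𝟙 X) (𝟙 X) := IsPullback.of_id_fst
  have h1 := (isIso_pushoutSection_iff H _ _ _).mp
    (isIso_pushoutSection_of_isAffineOpen H (US := U) (UT := W) (UX := V)
    (UY := T) hWU hVU hT hU hW hV)
  rw [id_appLE_eq, id_appLE_eq, id_appLE_eq, id_appLE_eq] at h1
  exact h1

end Res

section Good

variable {S : Type u} [CommRing S] {X : Scheme.{u}} (f : X ⟶ Spec (CommRingCat.of S))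
  {ι : Type} [LinearOrder ι] {W : NE ι → X.Opens}

theorem good (hW : IsCov W) : (ringD f W hW.anti).Good where
  flat {s t} h := flat_res (hW.aff s) (hW.aff t) (hW.anti s t h)
  po {s t} h i := isPushout_res (hW.aff s) (hW.aff t) (hW.aff (ins i s)) (hW.anti s t h)
    (hW.anti _ _ (le_ins i s)) (hW.anti _ _ (le_ins i t)) (hW.anti _ _ (ins_le_ins i h))
    (hW.ins i s t h)

end Good

section PO

variable {S S' : Type u} [CommRing S] [CommRing S'] {X X' : Scheme.{u}}
  {f : X ⟶ Spec (CommRingCat.of S)} {f' : X' ⟶ Spec (CommRingCat.of S')} {ψ : S →+* S'}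
  {P : Type} [Preorder P] {W : P → X.Opens} {hW : ∀ s t : P, s ≤ t → W t ≤ W s}
  {W' : P → X'.Opens} {hW' : ∀ s t : P, s ≤ t → W' t ≤ W' s}

theorem isPO {h : X' ⟶ X} (H : IsPullback h f' f (Spec.map (CommRingCat.ofHom ψ)))
    (ha : ∀ s, IsAffineOpen (W s)) (e : ∀ s, W' s = h ⁻¹ᵁ W s) :
    (ringHom (hW := hW) (hW' := hW') h H.w (fun s => (e s).le)).IsPO := by
  intro s
  obtain rfl : W' = fun s => h ⁻¹ᵁ W s := funext e
  have h1 := PerfB.ApproxFlat.isPushout_scal ψ H (ha s)
  have h2 : h.app (W s) = h.appLE (W s) (h ⁻¹ᵁ W s) le_rfl := Scheme.Hom.app_eq_appLE _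
  rw [h2] at h1
  exact h1

end PO

/-! ### Modules -/

section IsBCMap

variable {R R' : Type u} [CommRing R] [CommRing R'] {φ : R →+* R'} {M M' : Type u}
    [AddCommGroup M] [AddCommGroup M'] [Module R M] [Module R' M'] {f : M →+ M'}

theorem isBCMap_iff : IsBCMap φ f ↔ IsBC φ f := by
  let := φ.toAlgebra
  let : Module R M' := Module.compHom M' φ
  have : IsScalarTower R R' M' := ⟨fun a b c => by
      change (φ a * b) • c = φ a • b • c
      rw [mul_smul]⟩
  constructor
  · rintro ⟨hf, h⟩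
    exact (isBC_iff_isBaseChange ({ toFun := f, map_add' := f.map_add, map_smul' := hf } : M →ₗ[R] M')).2 h
  · intro h
    exact ⟨h.map_smul, (isBC_iff_isBaseChange
      ({ toFun := f, map_add' := f.map_add, map_smul' := h.map_smul } : M →ₗ[R] M')).1 h⟩

end IsBCMap

section Cart

variable {X : Scheme.{u}}

theorem isUniv_id (F : X.Modules) : IsUniv (𝟙 X) ((Scheme.Modules.pushforwardId X).inv.app F) := by
  intro G
  have h : (fun φ : F ⟶ G => (Scheme.Modules.pushforwardId X).inv.app F ≫
      (Scheme.Modules.pushforward (𝟙 X)).map φ) = fun φ => φ ≫ (Scheme.Modules.pushforwardId X).inv.app G := by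
    funext φ
    exact ((Scheme.Modules.pushforwardId X).inv.naturality φ).symm
  rw [h]
  constructor
  · intro φ ψ hφ
    exact (cancel_mono _).1 hφ
  · intro ψ
    exact ⟨ψ ≫ (Scheme.Modules.pushforwardId X).hom.app G, by
      dsimp only
      rw [Category.assoc, ← NatTrans.comp_app, Iso.hom_inv_id, NatTrans.id_app]
      exact Category.comp_id _⟩

theorem isBC_res (F : X.Modules) (hF : Coh.IsQCoh F) {U V : X.Opens} (hU : IsAffineOpen U)
    (hV : IsAffineOpen V) (h : V ≤ U) :
    IsBC (X.presheaf.map (homOfLE h).op).hom (F.presheaf.map (homOfLE h).op).hom := by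
  have : F.IsQuasicoherent := hF
  have h1 := CohqA.PullbackSections.isBC_secMap (M := F) (N := F) (𝟙 X)
    ((Scheme.Modules.pushforwardId X).inv.app F) (isUniv_id F) hU hV h
  rw [id_appLE_eq] at h1
  have h2 : secMap (𝟙 X) ((Scheme.Modules.pushforwardId X).inv.app F) U V h = F.presheaf.map (homOfLE h).op := by
    exact Category.id_comp _
  rw [h2] at h1
  exact h1

variable {S : Type u} [CommRing S] (f : X ⟶ Spec (CommRingCat.of S))
  {ι : Type} [LinearOrder ι] {W : NE ι → X.Opens}

theorem isCart (hW : IsCov W) (F : X.Modules) (hF : Coh.IsQCoh F) : (modD f W hW.anti F).IsCart := by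
  intro s t h
  exact isBCMap_iff.2 (isBC_res F hF (hW.aff s) (hW.aff t) (hW.anti s t h))

end Cart

end Groth.Agent.Flat2B.GExSC1
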