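import Groth.Agent.Flat2B.GExSC4Defs
import Groth.Agent.Flat2B.GExSC1b
import Groth.Agent.Flat2B.GExBCMap

/-!
# S1270, route E, scheme side SC4 (T3): cartesian diagrams

For a cartesian diagram `M`, the equalizer `T.F` of `∏ E (sg i) ⇉ ∏ E (ins i (sg j))` has `Γ(T.F, W s) = M s`.
-/

set_option autoImplicit false
universe u

open CategoryTheory AlgebraicGeometry TopologicalSpace TensorProduct

namespace Groth.Agent.Flat2B.GExSC4T3

open GEx GExSC1 GExSC4 LoccohB.GlueHom

/-! ### Algebra -/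

section Alg

variable {R R' : Type u} [CommRing R] [CommRing R'] {φ : R →+* R'}

/-- Base changes are unique. -/
theorem exists_equiv {M M' M'' : Type u}
    [AddCommGroup M] [AddCommGroup M'] [AddCommGroup M''] [Module R M] [Module R' M'] [Module R' M'']
    {f : M →+ M'} {g : M →+ M''} (hf : IsBCMap φ f) (hg : IsBCMap φ g) :
    ∃ θ : M' ≃ₗ[R'] M'', ∀ m, θ (f m) = g m := by
  obtain ⟨s₁, b₁⟩ := hf
  obtain ⟨s₂, b₂⟩ := hg
  let := φ.toAlgebra
  let : Module R M' := Module.compHom M' φ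
  let : Module R M'' := Module.compHom M'' φ
  have : IsScalarTower R R' M' := ⟨fun a b c => by
    change (φ a * b) • c = φ a • b • c
    rw [mul_smul]⟩
  have : IsScalarTower R R' M'' := ⟨fun a b c => by
    change (φ a * b) • c = φ a • b • c
    rw [mul_smul]⟩
  refine ⟨b₁.equiv.symm ≪≫ₗ b₂.equiv, fun m => ?_⟩
  rw [LinearEquiv.trans_apply]
  have h1 : b₁.equiv.symm (f m) = (1 : R') ⊗ₜ[R] m := by
    rw [LinearEquiv.symm_apply_eq, b₁.equiv_tmul, one_smul]
    rfl
  rw [h1, b₂.equiv_tmul, one_smul]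
  rfl

/-- Uniqueness in the universal property. -/
theorem hom_ext {M M' : Type u} [AddCommGroup M] [AddCommGroup M'] [Module R M] [Module R' M']
    {f : M →+ M'} (hf : IsBCMap φ f) {R'' : Type u} [CommRing R''] (h : R' →+* R'') {Q : Type u}
    [AddCommGroup Q] [Module R'' Q] {θ θ' : M' →+ Q} (hθ : ∀ (c : R') x, θ (c • x) = h c • θ x)
    (hθ' : ∀ (c : R') x, θ' (c • x) = h c • θ' x) (H : ∀ m, θ (f m) = θ' (f m)) (x : M') :
    θ x = θ' x := by
  obtain ⟨h1, h2⟩ := hf
  let := φ.toAlgebra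
  let : Module R M' := Module.compHom M' φ
  have : IsScalarTower R R' M' := ⟨fun a b c => by
      change (φ a * b) • c = φ a • b • c
      rw [mul_smul]⟩
  let : Module R' Q := Module.compHom Q h
  let t : M' →ₗ[R'] Q := { toFun := θ, map_add' := θ.map_add, map_smul' := hθ }
  let t' : M' →ₗ[R'] Q := { toFun := θ', map_add' := θ'.map_add, map_smul' := hθ' }
  exact IsBaseChange.inductionOn h2 x (fun x => t x = t' x) (by simp) (fun m => H m)
      (fun c x hx => by rw [map_smul, map_smul, hx]) (fun x y hx hy => by rw [map_add, map_add, hx, hy])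

end Alg

/-! ### Sections -/

section Sec

variable {X : Scheme.{u}} (F : X.Modules) {κ : Type} (U : κ → X.Opens) {V : X.Opens}

theorem ext' (hU : ∀ i, U i ≤ V) (hV : V ≤ ⨆ i, U i) (x y : Γ(F, V))
    (h : ∀ i, res F (hU i) x = res F (hU i) y) : x = y := by
  refine sec_ext F (ι := ULift.{u} κ) (fun i => U i.down) ?_ x y fun i => ?_
  · refine hV.trans (iSup_le fun i => ?_)
    exact le_iSup (fun i : ULift.{u} κ => U i.down) ⟨i⟩
  · rw [← res_res F (hU i.down) inf_le_right, ← res_res F (hU i.down) inf_le_right, h]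

theorem glue' (hU : ∀ i, U i ≤ V) (hV : V ≤ ⨆ i, U i) (x : ∀ i, Γ(F, U i))
    (h : ∀ i j (V' : X.Opens) (hi : V' ≤ U i) (hj : V' ≤ U j), res F hi (x i) = res F hj (x j)) :
    ∃ y : Γ(F, V), ∀ i, res F (hU i) y = x i := by
  obtain ⟨t, ht⟩ := sec_glue F (ι := ULift.{u} κ) (fun i => U i.down) (V := V)
    (hV.trans (iSup_le fun i => le_iSup (fun i : ULift.{u} κ => U i.down) ⟨i⟩))
    (fun i => res F inf_le_right (x i.down)) (fun i j => by
      rw [res_res, res_res]
      exact h _ _ _ _ _)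
  refine ⟨t, fun i => ?_⟩
  have h1 : U i ≤ V ⊓ U i := le_inf (hU i) le_rfl
  have h2 := congrArg (res F h1) (ht ⟨i⟩)
  dsimp only at h2
  rw [res_res, res_res, res_self] at h2
  exact h2

end Sec

/-! ### The comparison -/

section Main

variable {S : Type u} [CommRing S] {X : Scheme.{u}} {f : X ⟶ Spec (CommRingCat.of S)}
  {ι : Type} [LinearOrder ι] {W : NE ι → X.Opens} {hW : ∀ s t : NE ι, s ≤ t → W t ≤ W s}
  {M : MDiag (ringD f W hW)}

theorem bij' (Q : ShD M) (s : NE ι) {V V' : X.Opens} (h : V' ≤ V) (hV : V' = V ⊓ W s) :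
    Function.Bijective (res (Q.E s) h) := by
  subst hV
  exact Q.bij s V

/-- `M t = Γ(E s, W t)` for `s ≤ t`. -/
theorem exists_th (hC : IsCov W) (hM : M.IsCart) (Q : ShD M) {s t : NE ι} (h : s ≤ t) :
    ∃ θ : M.M t ≃+ Γ(Q.E s, W t),
      (∀ (c : (ringD f W hW).C t) (m : M.M t), θ (c • m) = (show Γ(X, W t) from c) • θ m) ∧
      ∀ m : M.M s, θ (M.res h m) = res (Q.E s) (hW s t h) (Q.e s m) := by
  let N := modD f W hW (Q.E s)
  have h1 : IsBCMap ((ringD f W hW).res h).toRingHom (N.res h) :=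
    isBCMap_iff.2 (isBC_res (Q.E s) (Q.qc s) (hC.aff s) (hC.aff t) (hW s t h))
  let g : M.M s →+ N.M t := (N.res h).comp (Q.e s).toAddMonoidHom
  let e : M.M s ≃ₗ[(ringD f W hW).C s] N.M s := { Q.e s with map_smul' := fun c m => Q.e_smul s c m }
  have h2 : IsBCMap ((ringD f W hW).res h).toRingHom g :=
    IsBCMap.of_equiv h1 e (LinearEquiv.refl _ _) g fun m => rfl
  obtain ⟨θ, hθ⟩ := exists_equiv (hM h) h2
  exact ⟨θ.toAddEquiv, fun c m => θ.map_smul c m, fun m => hθ m⟩

/-- `M t = Γ(E s, W t)` for `s ≤ t`. -/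
noncomputable def th (hC : IsCov W) (hM : M.IsCart) (Q : ShD M) {s t : NE ι} (h : s ≤ t) :
    M.M t ≃+ Γ(Q.E s, W t) := (exists_th hC hM Q h).choose

section

variable (hC : IsCov W) (hM : M.IsCart) (Q : ShD M)

lemma th_smul {s t : NE ι} (h : s ≤ t) (c : (ringD f W hW).C t) (m : M.M t) :
    th hC hM Q h (c • m) = (show Γ(X, W t) from c) • th hC hM Q h m :=
  (exists_th hC hM Q h).choose_spec.1 c m

lemma th_M_res {s t : NE ι} (h : s ≤ t) (m : M.M s) :
    th hC hM Q h (M.res h m) = res (Q.E s) (hW s t h) (Q.e s m) :=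
  (exists_th hC hM Q h).choose_spec.2 m

/-- Compatibility with restrictions of sections. -/
lemma res_th {s t t' : NE ι} (h : s ≤ t) (h' : t ≤ t') (m : M.M t) :
    res (Q.E s) (hW t t' h') (th hC hM Q h m) = th hC hM Q (h.trans h') (M.res h' m) := by
  let N := modD f W hW (Q.E s)
  let a : M.M t →+ N.M t' := (N.res h').comp (th hC hM Q h).toAddMonoidHom
  let b : M.M t →+ N.M t' := (th hC hM Q (h.trans h')).toAddMonoidHom.comp (M.res h')
  refine hom_ext (hM h) (θ := a) (θ' := b) ((ringD f W hW).res h').toRingHom ?_ ?_ ?_ m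
  · intro c x
    change N.res h' (th hC hM Q h (c • x)) = (ringD f W hW).res h' c • N.res h' (th hC hM Q h x)
    rw [th_smul]
    exact N.res_smul h' c _
  · intro c x
    change th hC hM Q _ (M.res h' (c • x)) =
      (show Γ(X, W t') from (ringD f W hW).res h' c) • th hC hM Q _ (M.res h' x)
    rw [M.res_smul]
    exact th_smul hC hM Q _ _ _
  · intro x
    change res (Q.E s) (hW t t' h') (th hC hM Q h (M.res h x)) = th hC hM Q _ (M.res h' (M.res h x))
    rw [th_M_res, M.res_res, th_M_res, res_res]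

/-- Compatibility with the transition maps. -/
lemma r_th {s s' t : NE ι} (h : s ≤ s') (h' : s' ≤ t) (m : M.M t) :
    (Q.r h).app (W t) (th hC hM Q (h.trans h') m) = th hC hM Q h' m := by
  let N := modD f W hW (Q.E s')
  let a : M.M t →+ N.M t :=
    ((Q.r h).app (W t)).hom.comp (th hC hM Q (h.trans h')).toAddMonoidHom
  let b : M.M t →+ N.M t := (th hC hM Q h').toAddMonoidHom
  refine hom_ext (hM (h.trans h')) (θ := a) (θ' := b) (RingHom.id _) ?_ ?_ ?_ m
  · intro c x
    change (Q.r h).app (W t) (th hC hM Q _ (c • x)) = (show Γ(X, W t) from c) • (Q.r h).app (W t) (th hC hM Q _ x)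
    rw [th_smul]
    exact (Q.r h).app_smul _ _
  · intro c x
    exact th_smul hC hM Q _ _ _
  · intro x
    change (Q.r h).app (W t) (th hC hM Q _ (M.res _ x)) = th hC hM Q h' (M.res _ x)
    rw [th_M_res, app_res, ← M.res_res h h', th_M_res, ← Q.r_e h x, res_res]

end

section

variable (hC : IsCov W) (hcov : ⨆ i, W (sg i) = ⊤) (hM : M.IsCart) {Q : ShD M} (T : EqD Q)

/-- The sections `z : M s` and `y : Γ(T.F, W s)` correspond to each other. -/
def Cor (s : NE ι) (z : M.M s) (y : Γ(T.F, W s)) : Prop :=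
  ∀ i, res (Q.E (sg i)) (hW s (ins i s) (le_ins i s)) ((T.pr i).app (W s) y) =
    th hC hM Q (sg_le_ins i s) (M.res (le_ins i s) z)

include hC in
lemma ins_eq (s : NE ι) (i : ι) : W (ins i s) = W s ⊓ W (sg i) := hC.sg i s

include hC hcov in
lemma le_cov (s : NE ι) : W s ≤ ⨆ i, W (ins i s) := by
  simp only [ins_eq hC]
  rw [← inf_iSup_eq, hcov]
  exact le_inf le_rfl le_top

variable {T} {hC} {hM}

lemma Cor.add {s : NE ι} {z z' : M.M s} {y y' : Γ(T.F, W s)} (h : Cor hC hM T s z y)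
    (h' : Cor hC hM T s z' y') : Cor hC hM T s (z + z') (y + y') := by
  intro i
  rw [map_add, map_add, map_add, map_add, h i, h' i]

lemma Cor.smul {s : NE ι} {z : M.M s} {y : Γ(T.F, W s)} (h : Cor hC hM T s z y)
    (c : (ringD f W hW).C s) : Cor hC hM T s (c • z) ((show Γ(X, W s) from c) • y) := by
  intro i
  rw [M.res_smul, th_smul, ← h i, Scheme.Modules.Hom.app_smul, res_smul]
  rfl

lemma Cor.res {s t : NE ι} (hst : s ≤ t) {z : M.M s} {y : Γ(T.F, W s)} (h : Cor hC hM T s z y) :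
    Cor hC hM T t (M.res hst z) (res T.F (hW s t hst) y) := by
  intro i
  have h1 := congrArg (LoccohB.GlueHom.res (Q.E (sg i)) (hW _ _ (ins_le_ins i hst))) (h i)
  rw [res_res, res_th hC hM Q (sg_le_ins i s) (ins_le_ins i hst), M.res_res] at h1
  rw [app_res, res_res, M.res_res]
  exact h1

lemma Cor.right_unique {s : NE ι} {z : M.M s} {y y' : Γ(T.F, W s)} (h : Cor hC hM T s z y)
    (h' : Cor hC hM T s z y') : y = y' := by
  refine T.inj _ _ _ fun i => ?_
  refine (bij' Q (sg i) (hW s (ins i s) (le_ins i s)) (ins_eq hC s i)).1 ?_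
  rw [h i, h' i]

include hcov in
lemma Cor.left_unique {s : NE ι} {z z' : M.M s} {y : Γ(T.F, W s)} (h : Cor hC hM T s z y)
    (h' : Cor hC hM T s z' y) : z = z' := by
  apply (Q.e s).injective
  refine ext' (Q.E s) (fun i => W (ins i s)) (fun i => hW _ _ (le_ins i s)) (le_cov hC hcov s) _ _ fun i => ?_
  have h1 : M.res (le_ins i s) z = M.res (le_ins i s) z' :=
    (th hC hM Q (sg_le_ins i s)).injective ((h i).symm.trans (h' i))
  rw [← th_M_res hC hM Q (le_ins i s), ← th_M_res hC hM Q (le_ins i s), h1]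

lemma exists_right (s : NE ι) (z : M.M s) : ∃ y, Cor hC hM T s z y := by
  choose x hx using fun i => (bij' Q (sg i) (hW s (ins i s) (le_ins i s)) (ins_eq hC s i)).2
    (th hC hM Q (sg_le_ins i s) (M.res (le_ins i s) z))
  have key : ∀ i j, (Q.r (sg_le_ins i (sg j))).app (W s) (x i) =
      (Q.r (le_ins i (sg j))).app (W s) (x j) := by
    intro i j
    have h1 : s ≤ ins i (ins j s) := (le_ins j s).trans (le_ins i _)
    have h2 : ins i s ≤ ins i (ins j s) := ins_le_ins i (le_ins j s)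
    have h3 : ins j s ≤ ins i (ins j s) := le_ins i _
    have h4 : ins i (sg j) ≤ ins i (ins j s) := ins_le_ins i (sg_le_ins j s)
    refine (bij' Q (ins i (sg j)) (hW _ _ h1) ?_).1 ?_
    · rw [ins_eq hC, ins_eq hC, ins_eq hC, inf_assoc]
    · rw [← app_res, ← app_res, ← res_res (Q.E (sg i)) (hW _ _ (le_ins i s)) (hW _ _ h2), hx,
        ← res_res (Q.E (sg j)) (hW _ _ (le_ins j s)) (hW _ _ h3), hx,
        res_th hC hM Q (sg_le_ins i s) h2, res_th hC hM Q (sg_le_ins j s) h3, M.res_res, M.res_res,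
        r_th hC hM Q (sg_le_ins i (sg j)) h4, r_th hC hM Q (le_ins i (sg j)) h4]
  obtain ⟨y, hy⟩ := T.glue (W s) x key
  exact ⟨y, fun i => by rw [hy, hx]⟩

include hcov in
lemma exists_left (s : NE ι) (y : Γ(T.F, W s)) : ∃ z, Cor hC hM T s z y := by
  choose m hm using fun i => (th hC hM Q (sg_le_ins i s)).surjective
    (res (Q.E (sg i)) (hW s (ins i s) (le_ins i s)) ((T.pr i).app (W s) y))
  have key : ∀ i j, M.res (ins_le_ins i (le_ins j s)) (m i) = M.res (le_ins i (ins j s)) (m j) := by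
    intro i j
    have h2 : ins i s ≤ ins i (ins j s) := ins_le_ins i (le_ins j s)
    have h3 : ins j s ≤ ins i (ins j s) := le_ins i _
    have h4 : ins i (sg j) ≤ ins i (ins j s) := ins_le_ins i (sg_le_ins j s)
    apply (th hC hM Q h4).injective
    rw [← r_th hC hM Q (sg_le_ins i (sg j)) h4, ← r_th hC hM Q (le_ins i (sg j)) h4,
      ← res_th hC hM Q (sg_le_ins i s) h2, ← res_th hC hM Q (sg_le_ins j s) h3, hm, hm, res_res, res_res,
      app_res, app_res]
    congr 1
    have := congr($(T.pr_r i j).app (W s) y)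
    exact this
  have key2 : ∀ (i j : ι) (V' : X.Opens) (hi : V' ≤ W (ins i s)) (hj : V' ≤ W (ins j s)),
      res (Q.E s) hi (th hC hM Q (le_ins i s) (m i)) = res (Q.E s) hj (th hC hM Q (le_ins j s) (m j)) := by
    intro i j V' hi hj
    have h2 : ins i s ≤ ins i (ins j s) := ins_le_ins i (le_ins j s)
    have h3 : ins j s ≤ ins i (ins j s) := le_ins i _
    have h5 : V' ≤ W (ins i (ins j s)) := by
      rw [ins_eq hC (ins j s) i]
      refine le_inf hj (hi.trans ?_)
      rw [ins_eq hC s i]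
      exact inf_le_right
    rw [← res_res (Q.E s) (hW _ _ h2) h5, ← res_res (Q.E s) (hW _ _ h3) h5,
      res_th hC hM Q (le_ins i s) h2, res_th hC hM Q (le_ins j s) h3, key i j]
  obtain ⟨v, hv⟩ := glue' (Q.E s) (fun i => W (ins i s)) (fun i => hW _ _ (le_ins i s))
    (le_cov hC hcov s) (fun i => th hC hM Q (le_ins i s) (m i)) key2
  obtain ⟨z, rfl⟩ := (Q.e s).surjective v
  refine ⟨z, fun i => ?_⟩
  have h1 := hv i
  rw [← th_M_res hC hM Q (le_ins i s)] at h1
  rw [(th hC hM Q (le_ins i s)).injective h1, hm]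

end

variable (hC : IsCov W) (hcov : ⨆ i, W (sg i) = ⊤) (hM : M.IsCart) {Q : ShD M} (T : EqD Q)

include hC hcov hM in
/-- (T3): for a cartesian diagram, `Γ(T.F, W s) = M s`. -/
theorem exists_e : ∃ e : ∀ s, M.M s ≃+ Γ(T.F, W s),
    (∀ (s : NE ι) (c : (ringD f W hW).C s) (m : M.M s), e s (c • m) = (show Γ(X, W s) from c) • e s m) ∧
    ∀ {s t : NE ι} (h : s ≤ t) (z : M.M s), res T.F (hW s t h) (e s z) = e t (M.res h z) := by
  choose g hg using exists_right (hC := hC) (hM := hM) (T := T)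
  have g_add : ∀ s z z', g s (z + z') = g s z + g s z' := fun s z z' =>
    (hg s (z + z')).right_unique ((hg s z).add (hg s z'))
  refine ⟨fun s => AddEquiv.ofBijective (AddMonoidHom.mk' (g s) (g_add s)) ⟨?_, ?_⟩, ?_, ?_⟩
  · intro z z' h
    have h' : g s z = g s z' := h
    exact (hg s z).left_unique hcov (h' ▸ hg s z')
  · intro y
    obtain ⟨z, hz⟩ := exists_left (hC := hC) (hM := hM) hcov s y
    exact ⟨z, (hg s z).right_unique hz⟩
  · intro s c m
    exact (hg s (c • m)).right_unique ((hg s m).smul c)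
  · intro s t h z
    exact ((hg s z).res h).right_unique (hg t (M.res h z))

end Main

end Groth.Agent.Flat2B.GExSC4T3
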