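import Groth.Agent.Flat2B.GExSC4D
import Groth.Agent.Flat2B.GExSC4B

/-!
# S1270, route E, scheme side SC4: comparison with the Cech complexes of base changes; the equalizer in the
top homological degree
-/

set_option autoImplicit false
universe u

open CategoryTheory CategoryTheory.Limits AlgebraicGeometry TopologicalSpace Opposite
open Groth.Agent.Ega3B.Cube

namespace Groth.Agent.Flat2B.GExSC4

open GEx GEx.MDiag GExSC1 GExGlob LoccohB.GlueHom

attribute [local instance] Abelian.hasFiniteBiproducts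

section Map

variable {S S' : Type u} [CommRing S] [CommRing S'] {ι : Type} [LinearOrder ι] [Fintype ι]
  {D : RDiag S (NE ι)} {D' : RDiag S' (NE ι)} {N : MDiag D} {N' : MDiag D'} (l : ∀ s, N.M s →+ N'.M s)
  (hl : ∀ {s t : NE ι} (h : s ≤ t) (n : N.M s), N'.res h (l s n) = l t (N.res h n))

/-- Functoriality of cochains. -/
def mapK (k : ℕ) : N.HK k →+ N'.HK k where
  toFun x s := l s.1 (x s)
  map_zero' := by
    funext s
    exact map_zero _
  map_add' x y := by
    funext s
    exact map_add _ _ _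

include hl in
lemma cev_mapK {k : ℕ} (x : N.HK k) (s : NE ι) (t : Finset ι) :
    cev (mapK l k x) s t = l s (cev x s t) := by
  by_cases h : t.Nonempty ∧ t ⊆ s.1 ∧ t.card + k = Fintype.card ι
  · rw [cev, dif_pos h, cev, dif_pos h]
    exact hl _ _
  · rw [cev_neg _ _ h, cev_neg _ _ h, map_zero]

include hl in
lemma cd_mapK {k : ℕ} (x : N.HK (k + 1)) : N'.cd k (mapK l (k + 1) x) = mapK l k (N.cd k x) := by
  funext s
  rw [cd_eq]
  change _ = l s.1 (N.cd k x s)
  rw [cd_eq, map_sum]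
  refine Finset.sum_congr rfl fun i _ => ?_
  rw [cev_mapK l hl, map_zsmul]

include hl in
lemma isCyc_mapK (hinj : ∀ s, Function.Injective (l s)) {k : ℕ} (x : N.HK k) :
    N'.IsCyc k (mapK l k x) ↔ N.IsCyc k x := by
  cases k with
  | zero => exact Iff.rfl
  | succ k =>
    change N'.cd k (mapK l (k + 1) x) = 0 ↔ N.cd k x = 0
    rw [cd_mapK l hl]
    constructor
    · intro h
      funext s
      apply hinj s.1
      exact (congrFun h s).trans (map_zero _).symm
    · intro h
      rw [h, map_zero]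

end Map

section Top

variable {S : Type u} [CommRing S] {ι : Type} [LinearOrder ι] [Fintype ι] {D : RDiag S (NE ι)}
  {M : MDiag D}

lemma top_ext {k : ℕ} (hk : k + 1 = Fintype.card ι) {x y : M.HK k} (h : ∀ i, tc hk x i = tc hk y i) :
    x = y := by
  funext s
  obtain ⟨⟨s, hs⟩, hsk⟩ := s
  dsimp only at hsk
  obtain ⟨i, rfl⟩ := Finset.card_eq_one.1 (show s.card = 1 by omega)
  exact h i

lemma top_mk {k : ℕ} (hk : k + 1 = Fintype.card ι) (z : ∀ i, M.M (sg i)) :
    ∃ x : M.HK k, ∀ i, tc hk x i = z i := by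
  have key : ∀ (i j : ι) (h : sg i ≤ sg j), M.res h (z i) = z j := by
    intro i j h
    have : i = j := by
      have h1 : i ∈ ({j} : Finset ι) := h (Finset.mem_singleton_self i)
      exact Finset.mem_singleton.1 h1
    subst this
    exact M.res_self _ _ _
  refine ⟨fun s => M.res (show sg (s.1.1.min' s.1.2) ≤ s.1 from
    Finset.singleton_subset_iff.2 (Finset.min'_mem _ _)) (z _), fun i => ?_⟩
  exact key _ _ _

end Top

section Cmp

variable {S : Type u} [CommRing S] {X : Scheme.{u}} {f : X ⟶ Spec (CommRingCat.of S)}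
  {ι : Type} [LinearOrder ι] [Fintype ι] {W : NE ι → X.Opens} {hW : ∀ s t : NE ι, s ≤ t → W t ≤ W s}
  {M : MDiag (ringD f W hW)} {Q : ShD M}

section Lam

variable {i : ι} {N : MDiag ((ringD f W hW).shift i)} {κ : ∀ s, M.M s →+ N.M s} (L : Lam Q κ)

/-- The class of a cochain of `N`. -/
noncomputable def aK {k : ℕ} (HD : HomD (dk Q k) (outK Q k).2) (x : N.HK k) : Γ(HD.H, W (sg i)) :=
  HD.cl (W (sg i)) (mk Q (mapK (N' := secD Q (W (sg i))) (fun s => (L.l s).toAddMonoidHom) k x))

lemma out_aK {k : ℕ} (x : N.HK k) :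
    (outK Q k).2.app (W (sg i)) (mk Q (mapK (N' := secD Q (W (sg i)))
      (fun s => (L.l s).toAddMonoidHom) k x)) = 0 ↔ N.IsCyc k x := by
  rw [outK_eq_zero_iff, cmp_mk]
  exact isCyc_mapK _ (fun h n => L.l_res h n) (fun s => (L.l s).injective) x

theorem aK_add {k : ℕ} (HD : HomD (dk Q k) (outK Q k).2) (x y : N.HK k) (hx : N.IsCyc k x)
    (hy : N.IsCyc k y) : aK L HD (x + y) = aK L HD x + aK L HD y := by
  unfold aK
  rw [map_add, mk_add, HD.cl_add _ _ _ ((out_aK L x).2 hx) ((out_aK L y).2 hy)]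

theorem aK_smul (hl : ∀ (s : NE ι) (c : (ringD f W hW).C (sg i)) (n : N.M s),
      L.l s ((show ((ringD f W hW).shift i).C s from (ringD f W hW).res (sg_le_ins i s) c) • n) =
        (show Γ(X, W (sg i)) from c) • L.l s n)
    {k : ℕ} (HD : HomD (dk Q k) (outK Q k).2) (c : (ringD f W hW).C (sg i)) (x : N.HK k)
    (hx : N.IsCyc k x) :
    aK L HD (fun s => (show ((ringD f W hW).shift i).C s.1 from
      (ringD f W hW).res (sg_le_ins i s.1) c) • x s) = (show Γ(X, W (sg i)) from c) • aK L HD x := by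
  unfold aK
  rw [← HD.cl_smul _ _ _ ((out_aK L x).2 hx)]
  congr 1
  apply cmp_injective Q
  rw [cmp_mk]
  funext s
  rw [cmp_smul, cmp_mk]
  exact hl s.1 c (x s)

theorem aK_surj (hC : IsCov W) {k : ℕ} (HD : HomD (dk Q k) (outK Q k).2) (y : Γ(HD.H, W (sg i))) :
    ∃ x : N.HK k, N.IsCyc k x ∧ aK L HD x = y := by
  obtain ⟨z, hz, rfl⟩ := HD.cl_surj _ (hC.aff (sg i)) y
  let x : N.HK k := fun s => (L.l s.1).symm (cmp Q z s)
  have hx : mapK (N' := secD Q (W (sg i))) (fun s => (L.l s).toAddMonoidHom) k x = cmp Q z := by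
    funext s
    exact (L.l s.1).apply_symm_apply (cmp Q z s)
  have hx' : mk Q (mapK (N' := secD Q (W (sg i))) (fun s => (L.l s).toAddMonoidHom) k x) = z := by
    rw [hx, mk_cmp]
  refine ⟨x, (out_aK L x).1 ?_, ?_⟩
  · rw [hx', hz]
  · rw [aK, hx']

theorem aK_ker (hC : IsCov W) {k : ℕ} (HD : HomD (dk Q k) (outK Q k).2) (x : N.HK k) (hx : N.IsCyc k x) :
    aK L HD x = 0 ↔ ∃ z, N.cd k z = x := by
  rw [aK, HD.cl_ker _ (hC.aff (sg i)) _ ((out_aK L x).2 hx)]
  have hl := fun (s t : NE ι) (h : s ≤ t) (n : N.M s) => L.l_res h n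
  constructor
  · rintro ⟨w, hw⟩
    let z : N.HK (k + 1) := fun s => (L.l s.1).symm (cmp Q w s)
    have hz : mapK (N' := secD Q (W (sg i))) (fun s => (L.l s).toAddMonoidHom) (k + 1) z = cmp Q w := by
      funext s
      exact (L.l s.1).apply_symm_apply (cmp Q w s)
    refine ⟨z, ?_⟩
    have h1 := cmp_dk Q w
    rw [hw, cmp_mk, ← hz, cd_mapK (N' := secD Q (W (sg i))) (fun s => (L.l s).toAddMonoidHom)
      (fun h n => L.l_res h n)] at h1
    funext s
    exact (L.l s.1).injective (congrFun h1 s).symm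
  · rintro ⟨z, rfl⟩
    refine ⟨mk Q (mapK (N' := secD Q (W (sg i))) (fun s => (L.l s).toAddMonoidHom) (k + 1) z), ?_⟩
    apply cmp_injective Q
    rw [cmp_dk, cmp_mk, cmp_mk, cd_mapK (N' := secD Q (W (sg i))) (fun s => (L.l s).toAddMonoidHom)
      (fun h n => L.l_res h n)]

end Lam

section Eq

variable {k : ℕ} (hk : k + 1 = Fintype.card ι)

include hk in
lemma dk_top : dk Q k = 0 := by
  apply Scheme.Modules.hom_ext
  intro V
  ext x
  have h0 : x = 0 := by
    apply cmp_injective Q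
    funext s
    exfalso
    have h1 := s.2
    have h2 : 0 < s.1.1.card := Finset.card_pos.2 s.1.2
    omega
  rw [h0]
  exact map_zero ((dk Q k).app V).hom

/-- The projections of the equalizer. -/
noncomputable def prK (HD : HomD (dk Q k) (outK Q k).2) (i : ι) : HD.H ⟶ Q.E (sg i) :=
  (HD.inc (dk_top hk)).1 ≫ biproduct.π (fun s : Ix ι k => Q.E s.1)
    ⟨sg i, by rw [Finset.card_singleton, add_comm, hk]⟩

lemma prK_app (HD : HomD (dk Q k) (outK Q k).2) (i : ι) {V : X.Opens} (y : Γ(HD.H, V)) :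
    (prK hk HD i).app V y = tc hk (cmp Q ((HD.inc (dk_top hk)).1.app V y)) i := rfl

/-- In the top degree, the homology sheaf is the equalizer. -/
noncomputable def eqD (HD : HomD (dk Q k) (outK Q k).2) : EqD Q where
  F := HD.H
  qc := HD.qc
  pr := prK hk HD
  pr_r i j := by
    apply Scheme.Modules.hom_ext
    intro V
    ext y
    have h1 : (outK Q k).2.app V ((HD.inc (dk_top hk)).1.app V y) = 0 := by
      have h2 := (HD.inc (dk_top hk)).2.1
      have h3 : ((HD.inc (dk_top hk)).1 ≫ (outK Q k).2).app V y = (0 : HD.H ⟶ (outK Q k).1).app V y := by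
        rw [h2]
      exact h3
    rw [outK_eq_zero_iff, isCyc_top_iff hk] at h1
    exact h1 i j
  inj V y y' h := by
    apply (HD.inc (dk_top hk)).2.2.1 V
    apply cmp_injective Q
    apply top_ext hk
    exact h
  glue V x hx := by
    obtain ⟨z, hz⟩ := top_mk (M := secD Q V) hk x
    have hz' : (outK Q k).2.app V (mk Q z) = 0 := by
      rw [outK_eq_zero_iff, cmp_mk, isCyc_top_iff hk]
      intro i j
      rw [hz, hz]
      exact hx i j
    refine ⟨HD.cl V (mk Q z), fun i => ?_⟩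
    rw [prK_app, (HD.inc (dk_top hk)).2.2.2 V _ hz', cmp_mk, hz]

theorem pr_aK {i : ι} {N : MDiag ((ringD f W hW).shift i)} {κ : ∀ s, M.M s →+ N.M s} (L : Lam Q κ)
    (HD : HomD (dk Q k) (outK Q k).2) (x : N.HK k) (hx : N.IsCyc k x) (i' : ι) :
    ((eqD hk HD).pr i').app (W (sg i)) (aK L HD x) = L.l (sg i') (tc hk x i') := by
  change (prK hk HD i').app (W (sg i)) (aK L HD x) = _
  rw [prK_app, aK, (HD.inc (dk_top hk)).2.2.2 _ _ ((out_aK L x).2 hx), cmp_mk]
  rfl

end Eq

end Cmp

end Groth.Agent.Flat2B.GExSC4
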