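import Groth.Agent.Flat2B.GExSC4L

/-!
# S1270, route E, scheme side SC4: the equalizer sheaf, maps out of it, the cartesian case
-/

set_option autoImplicit false
universe u

open CategoryTheory AlgebraicGeometry TopologicalSpace

namespace Groth.Agent.Flat2B.GExSC4

open GEx GExSC1 LoccohB.GlueHom CohqA.BaseChangeMod CohqA.PullbackUniv CohqA.PullbackAffine

section General

variable {X : Scheme.{u}}

/-- Two sections agreeing near every point are equal. -/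
lemma sec_ext_pt (F : X.Modules) {V : X.Opens} (x y : Γ(F, V))
    (h : ∀ p ∈ V, ∃ (D : X.Opens) (hD : D ≤ V), p ∈ D ∧ res F hD x = res F hD y) : x = y := by
  choose D hD hp hxy using h
  refine sec_ext F (fun p : V => D p.1 p.2) (fun p hpV => ?_) x y fun p => ?_
  · exact Opens.mem_iSup.2 ⟨⟨p, hpV⟩, hp p hpV⟩
  · rw [← res_res F (hD p.1 p.2) (inf_le_right : V ⊓ D p.1 p.2 ≤ D p.1 p.2),
      ← res_res F (hD p.1 p.2) (inf_le_right : V ⊓ D p.1 p.2 ≤ D p.1 p.2), hxy]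

end General

variable {S : Type u} [CommRing S] {X : Scheme.{u}} {f : X ⟶ Spec (CommRingCat.of S)}
  {ι : Type} [LinearOrder ι] {W : NE ι → X.Opens} {hW : ∀ s t : NE ι, s ≤ t → W t ≤ W s}
  {M : MDiag (ringD f W hW)}

/-- Compatibility of the maps out of `E s` and `E t`. -/
lemma ShD.Gen.app_r {Q : ShD M} (hg : Q.Gen) {𝓕 : X.Modules} {m : ∀ s, M.M s →+ Γ(𝓕, W s)}
    (hmr : ∀ {s t : NE ι} (h : s ≤ t) (x : M.M s), res 𝓕 (hW s t h) (m s x) = m t (M.res h x))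
    {s t : NE ι} (h : s ≤ t) (μ : LHom (Q.E s) 𝓕 (W s)) (ν : LHom (Q.E t) 𝓕 (W t))
    (hμ : ∀ x, μ.app _ le_rfl (Q.e s x) = m s x) (hν : ∀ x, ν.app _ le_rfl (Q.e t x) = m t x)
    (V : X.Opens) (hV : V ≤ W t) (x : Γ(Q.E s, V)) :
    μ.app V (hV.trans (hW s t h)) x = ν.app V hV ((Q.r h).app V x) := by
  apply sec_ext_pt
  intro p hp
  obtain ⟨D, hD, hpD, hDs, c, z, hz⟩ := hg.gen s V (hV.trans (hW s t h)) x p hp
  refine ⟨D, hD, hpD, ?_⟩
  rw [← μ.nat _ _ hD, ← ν.nat _ _ hD, ← app_res, hz, Scheme.Modules.Hom.app_smul, map_smul,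
    map_smul, μ.nat _ _ hDs le_rfl, hμ, app_res]
  congr 1
  rw [← res_res 𝓕 (hW s t h) (hD.trans hV), hmr h, ← hν, ← ν.nat _ _ (hD.trans hV) le_rfl, ← Q.r_e,
    res_res]

/-- A morphism of modules as a morphism over an open. -/
noncomputable def LHom.comp' {F G H : X.Modules} {U : X.Opens} (φ : F ⟶ G) (ψ : LHom G H U) :
    LHom F H U where
  app V hV := (ψ.app V hV).comp
    ({ toFun := fun x => φ.app V x
       map_add' := fun x y => map_add _ x y
       map_smul' := fun c x => Scheme.Modules.Hom.app_smul φ c x } :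
      Γ(F, V) →ₗ[Γ(X, V)] Γ(G, V))
  nat V V' h hV s := by
    change ψ.app V' _ (φ.app V' (res F h s)) = res H h (ψ.app V hV (φ.app V s))
    rw [app_res, ψ.nat]

/-- (T1): maps out of the equalizer. -/
theorem EqD.exists_c (hC : IsCov W) (hcov : ⨆ i, W (sg i) = ⊤) {Q : ShD M} (hg : Q.Gen)
    (T : EqD Q) (𝓕 : X.Modules) (m : ∀ s, M.M s →+ Γ(𝓕, W s))
    (hm : ∀ (s : NE ι) (c : (ringD f W hW).C s) (x : M.M s),
      m s (c • x) = (show Γ(X, W s) from c) • m s x)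
    (hmr : ∀ {s t : NE ι} (h : s ≤ t) (x : M.M s), res 𝓕 (hW s t h) (m s x) = m t (M.res h x)) :
    ∃ c : T.F ⟶ 𝓕, ∀ (i : ι) (μ : LHom (Q.E (sg i)) 𝓕 (W (sg i))),
      (∀ x, μ.app _ le_rfl (Q.e (sg i) x) = m (sg i) x) →
      ∀ (V : X.Opens) (hV : V ≤ W (sg i)) (y : Γ(T.F, V)),
        c.app V y = μ.app V hV ((T.pr i).app V y) := by
  choose μ hμ using fun s => hg.lift s 𝓕 (m s) (hm s)
  obtain ⟨c, hc⟩ := exists_glue T.F 𝓕 (fun i : ULift.{u} ι => W (sg i.down))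
    (by rw [← hcov]; exact (Equiv.ulift (α := ι)).iSup_comp (g := fun i => W (sg i)))
    (fun i => LHom.comp' (T.pr i.down) (μ (sg i.down))) (by
      intro i j V hi hj s
      have hV : V ≤ W (ins i.down (sg j.down)) := by
        rw [hC.sg]; exact le_inf hj hi
      change (μ (sg i.down)).app V hi ((T.pr i.down).app V s) =
        (μ (sg j.down)).app V hj ((T.pr j.down).app V s)
      have h1 := hg.app_r (m := m) hmr (sg_le_ins i.down (sg j.down)) _ _ (hμ _) (hμ _) V hV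
        ((T.pr i.down).app V s)
      have h2 := hg.app_r (m := m) hmr (le_ins i.down (sg j.down)) _ _ (hμ _) (hμ _) V hV
        ((T.pr j.down).app V s)
      refine h1.trans (Eq.trans ?_ h2.symm)
      have h3 := congrArg (fun φ => φ.app V s) (T.pr_r i.down j.down)
      exact congrArg _ h3)
  refine ⟨c, fun i μ' hμ' V hV y => (hc ⟨i⟩ V hV y).trans ?_⟩
  exact hg.ext (sg i) 𝓕 (μ (sg i)) μ' (fun x => (hμ _ x).trans (hμ' x).symm) V hV _

/-- (T2), general form. -/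
theorem Lam.app_eq {Q : ShD M} {i : ι} {N : MDiag ((ringD f W hW).shift i)}
    {κ : ∀ s, M.M s →+ N.M s} (hκ : IsBCD κ) (L : Lam Q κ) {𝓕 : X.Modules}
    {m : ∀ s, M.M s →+ Γ(𝓕, W s)} (s : NE ι) (μ : LHom (Q.E s) 𝓕 (W s))
    (hμ : ∀ x, μ.app _ le_rfl (Q.e s x) = m s x) (γ : N.M s →+ Γ(𝓕, W (ins i s)))
    (hγ : ∀ (c : (ringD f W hW).C (ins i s)) (n : N.M s),
      γ ((show ((ringD f W hW).shift i).C s from c) • n) = (show Γ(X, W (ins i s)) from c) • γ n)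
    (hγκ : ∀ z, γ (κ s z) = res 𝓕 (hW _ _ (le_ins i s)) (m s z)) (n : N.M s) :
    μ.app (W (ins i s)) (hW _ _ (le_ins i s))
      (res (Q.E s) (hW _ _ (sg_le_ins i s)) (L.l s n)) = γ n := by
  let : Module Γ(X, W (ins i s)) (N.M s) := N.mod s
  let : Module Γ(X, W s) (M.M s) := M.mod s
  have h1 : IsBC (resO (hW _ _ (le_ins i s))) (κ s) := isBC_of_isBCMap (hκ.bc s)
  let g₁ : N.M s →ₗ[Γ(X, W (ins i s))] Γ(𝓕, W (ins i s)) :=
    { toFun := fun n => μ.app (W (ins i s)) (hW _ _ (le_ins i s))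
        (res (Q.E s) (hW _ _ (sg_le_ins i s)) (L.l s n))
      map_add' := fun a b => by simp only [map_add]
      map_smul' := fun c a => by
        refine (congrArg (fun z => μ.app (W (ins i s)) (hW _ _ (le_ins i s)) z)
          (L.l_smul s c a)).trans ?_
        rw [map_smul]
        rfl }
  let g₂ : N.M s →ₗ[Γ(X, W (ins i s))] Γ(𝓕, W (ins i s)) :=
    { γ with map_smul' := hγ }
  have h2 : g₁ = g₂ := h1.hom_ext fun z => by
    change μ.app (W (ins i s)) (hW _ _ (le_ins i s))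
      (res (Q.E s) (hW _ _ (sg_le_ins i s)) (L.l s (κ s z))) = γ (κ s z)
    rw [L.l_κ, μ.nat _ _ (hW _ _ (le_ins i s)) le_rfl, hμ, hγκ]
  exact LinearMap.congr_fun h2 n

/-- (T2): comparison of the values of `c`. -/
theorem EqD.c_app {Q : ShD M} (hg : Q.Gen) (T : EqD Q) {𝓕 : X.Modules}
    {m : ∀ s, M.M s →+ Γ(𝓕, W s)}
    (hm : ∀ (s : NE ι) (c : (ringD f W hW).C s) (x : M.M s),
      m s (c • x) = (show Γ(X, W s) from c) • m s x)
    {c : T.F ⟶ 𝓕} (hc : ∀ (i : ι) (μ : LHom (Q.E (sg i)) 𝓕 (W (sg i))),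
      (∀ x, μ.app _ le_rfl (Q.e (sg i) x) = m (sg i) x) →
      ∀ (V : X.Opens) (hV : V ≤ W (sg i)) (y : Γ(T.F, V)),
        c.app V y = μ.app V hV ((T.pr i).app V y))
    {i : ι} {N : MDiag ((ringD f W hW).shift i)}
    {κ : ∀ s, M.M s →+ N.M s} (hκ : IsBCD κ) (L : Lam Q κ)
    (γ : ∀ s, N.M s →+ Γ(𝓕, W (ins i s)))
    (hγ : ∀ (s : NE ι) (c : (ringD f W hW).C (ins i s)) (n : N.M s),
      γ s ((show ((ringD f W hW).shift i).C s from c) • n) = (show Γ(X, W (ins i s)) from c) • γ s n)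
    (hγκ : ∀ (s : NE ι) z, γ s (κ s z) = res 𝓕 (hW _ _ (le_ins i s)) (m s z))
    (i' : ι) (x : N.M (sg i')) (y : Γ(T.F, W (sg i)))
    (hy : (T.pr i').app (W (sg i)) y = L.l (sg i') x) :
    res 𝓕 (hW _ _ (sg_le_ins i (sg i'))) (c.app (W (sg i)) y) = γ (sg i') x := by
  obtain ⟨μ, hμ⟩ := hg.lift (sg i') 𝓕 (m (sg i')) (hm (sg i'))
  rw [← app_res, hc i' μ hμ _ (hW _ _ (le_ins i (sg i'))), app_res, hy]
  exact L.app_eq hκ (sg i') μ hμ (γ (sg i')) (hγ _) (hγκ _) x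

end Groth.Agent.Flat2B.GExSC4
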