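import Groth.Agent.Flat2B.GExSC4A
import Groth.Agent.Flat2B.GExSC4E
import Groth.Agent.Flat2B.GExSC4T
import Groth.Agent.Flat2B.GExSC4Out

/-!
# S1270, route E, scheme side SC4: the cohomology sheaves of a diagram of modules
-/

set_option autoImplicit false
universe u

open CategoryTheory CategoryTheory.Limits AlgebraicGeometry TopologicalSpace Opposite

namespace Groth.Agent.Flat2B.GExSC4

open GEx GEx.MDiag GExSC1 GExGlob LoccohB.GlueHom

attribute [local instance] Abelian.hasFiniteBiproducts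

variable {S : Type u} [CommRing S] {X : Scheme.{u}} {f : X ⟶ Spec (CommRingCat.of S)}
  {ι : Type} [LinearOrder ι] [Fintype ι] {W : NE ι → X.Opens} {hW : ∀ s t : NE ι, s ≤ t → W t ≤ W s}

/-- SC4: the cohomology sheaves of a diagram of modules. -/
theorem exists_cohOut (hC : IsCov W) (hcov : ⨆ i, W (sg i) = ⊤) (M : MDiag (ringD f W hW)) :
    Nonempty (CohOut M) := by
  obtain ⟨Q⟩ := exists_shD hC hcov M
  have hg : Q.Gen := ShD.gen hC Q
  have HD : ∀ k, HomD (dk Q k) (outK Q k).2 := fun k =>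
    (exists_homD (dk Q k) (outK Q k).2 (isQCoh_Ck Q (k + 1)) (isQCoh_Ck Q k) (isQCoh_outK Q k)
      (dk_outK Q k)).some
  have L : ∀ (i : ι) (N : MDiag ((ringD f W hW).shift i)) (κ : ∀ s, M.M s →+ N.M s) (_ : IsBCD κ),
      Lam Q κ := fun i N κ hκ => (exists_lam hC Q hκ).some
  refine ⟨{
    H := fun k => (HD k).H
    qc := fun k => (HD k).qc
    a := fun i N κ hκ k x => aK (L i N κ hκ) (HD k) x
    a_add := fun i N κ hκ k x y hx hy => aK_add _ _ x y hx hy
    a_smul := fun i N κ hκ k c x y hx hy => ?_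
    a_surj := fun i N κ hκ k s => aK_surj _ hC _ s
    a_ker := fun i N κ hκ k x hx => aK_ker _ hC _ x hx
    c := fun t ht 𝓕 m hm hmr => ?_ }⟩
  · rw [← aK_smul (L i N κ hκ) (fun s c n => Lam.l_smul' hC _ s c n) (HD k) c x hx]
    congr 1
    funext s
    exact hy s
  · obtain ⟨c, hc⟩ := (eqD ht (HD t)).exists_c hC hcov hg 𝓕 m hm hmr
    refine ⟨c, fun i N κ hκ γ hγ hγκ x hx i' h' => ?_⟩
    exact (eqD ht (HD t)).c_app hg hm hc hκ (L i N κ hκ) γ hγ hγκ i' _ _ (pr_aK ht (L i N κ hκ) (HD t) x hx i')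

end Groth.Agent.Flat2B.GExSC4
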