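import Groth.Agent.Flat2B.GExAug
import Mathlib.Algebra.MvPolynomial.Eval
import Mathlib.Data.Finsupp.Interval
import Mathlib.RingTheory.Flat.Equalizer
import Mathlib.RingTheory.Flat.EquationalCriterion

/-!
# S1270, route E, lemma AL1: free filtered modules and their base change
-/

universe u

open MvPolynomial

namespace Groth.Agent.Flat2B.GEx

variable {S : Type u} [CommRing S] {S' : Type u} [CommRing S'] {τ : Type} {J : Type}

lemma finite_deg [Finite τ] (m : ℕ) : {s : τ →₀ ℕ | (s.sum fun _ e => e) ≤ m}.Finite := by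
  classical
  refine (Set.finite_Iic (Finsupp.equivFunOnFinite.symm fun _ : τ => m)).subset fun s hs => ?_
  intro i
  rw [Finsupp.equivFunOnFinite_symm_apply_apply]
  by_cases h : i ∈ s.support
  · exact (Finset.single_le_sum (f := fun j => s j) (fun _ _ => Nat.zero_le _) h).trans hs
  · rw [Finsupp.notMem_support_iff.1 h]; exact Nat.zero_le _

lemma mem_freeF_iff_coeff {w : J → ℕ} {e : ℕ} {v : J → MvPolynomial τ S} :
    v ∈ freeF (S := S) (τ := τ) w e ↔
      ∀ a s, coeff s (v a) ≠ 0 → (s.sum fun _ e => e) + w a ≤ e := by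
  constructor
  · intro h a s hs
    rcases h a with h | h
    · rw [h, coeff_zero] at hs; exact absurd rfl hs
    · have := le_totalDegree (mem_support_iff.2 hs)
      omega
  · intro h a
    by_cases h0 : v a = 0
    · exact Or.inl h0
    · right
      obtain ⟨s, hs⟩ := ne_zero_iff.1 h0
      have h1 := h a s hs
      have : (v a).totalDegree ≤ e - w a := by
        rw [totalDegree, Finset.sup_le_iff]
        intro t ht
        have := h a t (mem_support_iff.1 ht)
        omega
      omega

section vec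

variable [Finite τ]

lemma finite_deg' (τ : Type) [Finite τ] (w e : ℕ) :
    {s : τ →₀ ℕ | (s.sum fun _ e => e) + w ≤ e}.Finite :=
  (finite_deg (τ := τ) e).subset fun _ hs => le_trans (Nat.le_add_right _ _) hs

/-- The exponents allowed in the `a`-th component. -/
noncomputable def expo (τ : Type) [Finite τ] (w e : ℕ) : Finset (τ →₀ ℕ) :=
  (finite_deg' τ w e).toFinset

lemma mem_expo {w e : ℕ} {s : τ →₀ ℕ} : s ∈ expo τ w e ↔ (s.sum fun _ e => e) + w ≤ e := by
  rw [expo, Set.Finite.mem_toFinset]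
  rfl

/-- The vector with given coefficients. -/
noncomputable def vecOf (w : J → ℕ) (e : ℕ) (c : J → (τ →₀ ℕ) → S) : J → MvPolynomial τ S :=
  fun a => ∑ s ∈ expo τ (w a) e, monomial s (c a s)

open Classical in
lemma coeff_vecOf (w : J → ℕ) (e : ℕ) (c : J → (τ →₀ ℕ) → S) (a : J) (s : τ →₀ ℕ) :
    coeff s (vecOf w e c a) = if s ∈ expo τ (w a) e then c a s else 0 := by
  rw [vecOf, coeff_sum]
  simp only [coeff_monomial]
  rw [Finset.sum_ite_eq']

lemma vecOf_mem (w : J → ℕ) (e : ℕ) (c : J → (τ →₀ ℕ) → S) :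
    vecOf w e c ∈ freeF (S := S) (τ := τ) w e := by
  rw [mem_freeF_iff_coeff]
  intro a s hs
  rw [coeff_vecOf] at hs
  by_contra h
  exact hs (if_neg (fun h' => h (mem_expo.1 h')))

lemma vecOf_coeff {w : J → ℕ} {e : ℕ} {v : J → MvPolynomial τ S}
    (hv : v ∈ freeF (S := S) (τ := τ) w e) : vecOf w e (fun a s => coeff s (v a)) = v := by
  funext a
  ext s
  rw [coeff_vecOf]
  split_ifs with h
  · rfl
  · by_contra h'
    exact h (mem_expo.2 (mem_freeF_iff_coeff.1 hv a s (Ne.symm h')))

/-- The index set of the basis. -/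
abbrev BIdx (τ : Type) [Finite τ] (w : J → ℕ) (e : ℕ) := Σ a : J, (expo τ (w a) e : Finset (τ →₀ ℕ))

open Classical in
/-- The steps of the filtration are free. -/
noncomputable def freeEquiv (w : J → ℕ) (e : ℕ) :
    freeF (S := S) (τ := τ) w e ≃ₗ[S] (BIdx τ w e → S) where
  toFun v b := coeff b.2.1 (v.1 b.1)
  map_add' v v' := by funext b; exact coeff_add _ _ _
  map_smul' c v := by funext b; exact coeff_smul _ _ _
  invFun c := ⟨vecOf w e (fun a s => if h : s ∈ expo τ (w a) e then c ⟨a, s, h⟩ else 0),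
    vecOf_mem _ _ _⟩
  left_inv v := by
    apply Subtype.ext
    funext a
    ext s
    change coeff s (vecOf _ _ _ _) = _
    rw [coeff_vecOf]
    split_ifs with h
    · rfl
    · by_contra h'
      exact h (mem_expo.2 (mem_freeF_iff_coeff.1 v.2 a s (Ne.symm h')))
  right_inv c := by
    funext b
    change coeff _ (vecOf _ _ _ _) = _
    rw [coeff_vecOf, if_pos b.2.2, dif_pos b.2.2]

lemma freeF_flat [Finite J] (w : J → ℕ) (e : ℕ) : Module.Flat S (freeF (S := S) (τ := τ) w e) :=
  Module.Flat.of_linearEquiv (freeEquiv w e)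

lemma freeF_fg [Finite J] (w : J → ℕ) (e : ℕ) : (freeF (S := S) (τ := τ) w e).FG := by
  rw [← Module.Finite.iff_fg]
  exact Module.Finite.equiv (freeEquiv w e).symm

end vec

/-! ### Base change -/

/-- Base change of vectors. -/
noncomputable def mapV (φ : S →+* S') (v : J → MvPolynomial τ S) : J → MvPolynomial τ S' :=
  fun a => MvPolynomial.map φ (v a)

lemma mapV_apply (φ : S →+* S') (v : J → MvPolynomial τ S) (a : J) :
    mapV φ v a = MvPolynomial.map φ (v a) := rfl

lemma mapV_add (φ : S →+* S') (v v' : J → MvPolynomial τ S) :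
    mapV φ (v + v') = mapV φ v + mapV φ v' := by
  funext a; exact map_add _ _ _

lemma mapV_sub (φ : S →+* S') (v v' : J → MvPolynomial τ S) :
    mapV φ (v - v') = mapV φ v - mapV φ v' := by
  funext a; exact map_sub _ _ _

lemma mapV_zero (φ : S →+* S') : mapV φ (0 : J → MvPolynomial τ S) = 0 := by
  funext a; exact map_zero _

lemma mapV_smul (φ : S →+* S') (p : MvPolynomial τ S) (v : J → MvPolynomial τ S) :
    mapV φ (p • v) = MvPolynomial.map φ p • mapV φ v := by
  funext a; exact map_mul _ _ _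

lemma mapV_mem (φ : S →+* S') {w : J → ℕ} {e : ℕ} {v : J → MvPolynomial τ S}
    (hv : v ∈ freeF (S := S) (τ := τ) w e) : mapV φ v ∈ freeF (S := S') (τ := τ) w e := by
  rw [mem_freeF_iff_coeff] at hv ⊢
  intro a s hs
  refine hv a s fun h => hs ?_
  rw [mapV_apply, coeff_map, h, map_zero]

lemma mapV_surj [Finite τ] {φ : S →+* S'} (hφ : Function.Surjective φ) {w : J → ℕ} {e : ℕ}
    {u : J → MvPolynomial τ S'} (hu : u ∈ freeF (S := S') (τ := τ) w e) :
    ∃ v ∈ freeF (S := S) (τ := τ) w e, mapV φ v = u := by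
  choose g hg using hφ
  refine ⟨vecOf w e fun a s => g (coeff s (u a)), vecOf_mem _ _ _, ?_⟩
  funext a
  ext s
  rw [mapV_apply, coeff_map, coeff_vecOf]
  split_ifs with h
  · exact hg _
  · rw [map_zero]
    by_contra h'
    exact h (mem_expo.2 (mem_freeF_iff_coeff.1 hu a s (Ne.symm h')))

lemma mapV_ker [Finite J] {φ : S →+* S'} {w : J → ℕ} {e : ℕ}
    {v : J → MvPolynomial τ S} (hv : v ∈ freeF (S := S) (τ := τ) w e) (h : mapV φ v = 0) :
    v ∈ RingHom.ker φ • freeF (S := S) (τ := τ) w e := by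
  classical
  have := Fintype.ofFinite J
  have h1 : v = ∑ a, ∑ s ∈ (v a).support,
      coeff s (v a) • (Pi.single a (monomial s (1 : S)) : J → MvPolynomial τ S) := by
    funext b
    rw [Finset.sum_apply, Finset.sum_eq_single b]
    · rw [Finset.sum_apply]
      conv_lhs => rw [(v b).as_sum]
      refine Finset.sum_congr rfl fun s _ => ?_
      simp [smul_monomial]
    · intro a _ hab
      rw [Finset.sum_apply]
      refine Finset.sum_eq_zero fun s _ => ?_
      simp [Ne.symm hab]
    · intro hb; exact absurd (Finset.mem_univ b) hb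
  rw [h1]
  refine Submodule.sum_mem _ fun a _ => Submodule.sum_mem _ fun s hs => ?_
  refine Submodule.smul_mem_smul ?_ ?_
  · rw [RingHom.mem_ker, ← coeff_map, ← mapV_apply, h]
    rfl
  · rw [mem_freeF_iff_coeff]
    intro b t ht
    by_cases hb : b = a
    · subst hb
      rw [Pi.single_eq_same, coeff_monomial] at ht
      by_cases hst : s = t
      · subst hst
        exact mem_freeF_iff_coeff.1 hv b s (mem_support_iff.1 hs)
      · rw [if_neg hst] at ht; exact absurd rfl ht
    · rw [Pi.single_eq_of_ne hb, coeff_zero] at ht; exact absurd rfl ht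

/-- Base change of `lin`. -/
lemma map_lin_semi [Fintype J] {W W' : Type u} [AddCommGroup W] [Module (MvPolynomial τ S) W]
    [AddCommGroup W'] [Module (MvPolynomial τ S') W'] (φ : S →+* S') (g : W →+ W')
    (hg : ∀ (p : MvPolynomial τ S) x, g (p • x) = MvPolynomial.map φ p • g x) (z : J → W)
    (v : J → MvPolynomial τ S) : g (lin z v) = lin (fun a => g (z a)) (mapV φ v) := by
  rw [lin_apply, lin_apply, map_sum]
  exact Finset.sum_congr rfl fun a _ => hg _ _

/-- Limits of compatible vectors. -/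
lemma exists_lim_vec [Finite τ] {A : Type u} [CommRing A] {A' : ℕ → Type u}
    [∀ n, CommRing (A' n)]
    {φ : ∀ n, A' (n + 1) →+* A' n} {π : ∀ n, A →+* A' n} (hlim : FlatCA.IsRingLimit A A' φ π)
    {w : J → ℕ} {e : ℕ} (v : ∀ n, J → MvPolynomial τ (A' n))
    (hv : ∀ n, v n ∈ freeF (S := A' n) (τ := τ) w e) (hc : ∀ n, mapV (φ n) (v (n + 1)) = v n) :
    ∃ u ∈ freeF (S := A) (τ := τ) w e, ∀ n, mapV (π n) u = v n := by
  choose g hg using hlim.2.2
  have hc' : ∀ a s n, φ n (coeff s (v (n + 1) a)) = coeff s (v n a) := fun a s n => by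
    rw [← coeff_map, ← mapV_apply, hc]
  refine ⟨vecOf w e fun a s => g (fun n => coeff s (v n a)) (hc' a s), vecOf_mem _ _ _, ?_⟩
  intro n
  funext a
  ext s
  rw [mapV_apply, coeff_map, coeff_vecOf]
  split_ifs with h
  · exact hg _ _ _
  · rw [map_zero]
    by_contra h'
    exact h (mem_expo.2 (mem_freeF_iff_coeff.1 (hv n) a s (Ne.symm h')))

lemma lim_vec_ext {A : Type u} [CommRing A] {A' : ℕ → Type u}
    [∀ n, CommRing (A' n)]
    {φ : ∀ n, A' (n + 1) →+* A' n} {π : ∀ n, A →+* A' n} (hlim : FlatCA.IsRingLimit A A' φ π)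
    {v : J → MvPolynomial τ A} (h : ∀ n, mapV (π n) v = 0) : v = 0 := by
  funext a
  ext s
  refine hlim.2.1 _ _ fun n => ?_
  rw [← coeff_map, ← mapV_apply, h n]
  simp

/-! ### Flatness lemmas -/

/-- The kernel of a surjection of flat modules is flat. -/
lemma flat_of_exact {R : Type u} [CommRing R] {M N P : Type u} [AddCommGroup M] [Module R M]
    [AddCommGroup N] [Module R N] [AddCommGroup P] [Module R P] [Module.Flat R N] [Module.Flat R P]
    (g : M →ₗ[R] N) (f : N →ₗ[R] P) (hf : Function.Surjective f) (hg : Function.Injective g)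
    (H : Function.Exact g f) : Module.Flat R M := by
  rw [Module.Flat.iff_rTensor_preserves_injective_linearMap]
  intro A B _ _ _ _ i hi
  have h1 := LinearMap.lTensor_injective_of_exact_of_flat f hf g hg H A
  have h2 := Module.Flat.rTensor_preserves_injective_linearMap (M := N) i hi
  have h3 : (g.lTensor B) ∘ₗ (i.rTensor M) = (i.rTensor N) ∘ₗ (g.lTensor A) := by
    rw [LinearMap.lTensor_comp_rTensor, LinearMap.rTensor_comp_lTensor]
  have h4 : Function.Injective ((g.lTensor B) ∘ₗ (i.rTensor M)) := by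
    rw [h3]
    exact h2.comp h1
  exact Function.Injective.of_comp (f := g.lTensor B) h4

/-- If `N → P` is surjective with `P` flat, then `ker ∩ I N = I ker`. -/
lemma exists_ker_of_flat {R : Type u} [CommRing R] {N P : Type u}
    [AddCommGroup N] [Module R N] [AddCommGroup P] [Module R P] [Module.Flat R P]
    (f : N →ₗ[R] P) (hf : Function.Surjective f) (I : Ideal R) {x : N}
    (hx : x ∈ I • (⊤ : Submodule R N)) (h0 : f x = 0) : x ∈ I • LinearMap.ker f := by
  obtain ⟨ι, hι, a, m, ha, rfl⟩ : ∃ (ι : Type) (_ : Fintype ι) (a : ι → R) (m : ι → N),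
      (∀ i, a i ∈ I) ∧ x = ∑ i, a i • m i := by
    refine Submodule.smul_induction_on hx ?_ ?_
    · intro r hr n _
      exact ⟨Unit, inferInstance, fun _ => r, fun _ => n, fun _ => hr, by simp⟩
    · rintro x y ⟨ι, _, a, m, ha, rfl⟩ ⟨ι', _, a', m', ha', rfl⟩
      refine ⟨ι ⊕ ι', inferInstance, Sum.elim a a', Sum.elim m m', ?_, ?_⟩
      · rintro (i | i)
        · exact ha i
        · exact ha' i
      · simp [Fintype.sum_sum_type]
  have h1 : ∑ i, a i • f (m i) = 0 := by simpa [map_sum] using h0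
  obtain ⟨k, b, y, h2, h3⟩ := Module.Flat.isTrivialRelation_of_sum_smul_eq_zero h1
  choose n hn using fun j => hf (y j)
  have h4 : ∑ i, a i • m i = ∑ i, a i • (m i - ∑ j, b i j • n j) := by
    simp only [smul_sub, Finset.sum_sub_distrib, Finset.smul_sum, smul_smul]
    rw [Finset.sum_comm]
    simp only [← Finset.sum_smul, h3, zero_smul, Finset.sum_const_zero, sub_zero]
  rw [h4]
  refine Submodule.sum_mem _ fun i _ => Submodule.smul_mem_smul (ha i) ?_
  rw [LinearMap.mem_ker, map_sub, map_sum, show f (m i) = _ from h2 i]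
  simp [hn]

end Groth.Agent.Flat2B.GEx
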