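import Groth.Agent.Flat2B.GExReesH
import Groth.Agent.Flat2B.GExFib

/-!
# S1270 route E, AL5 (a): the diagram of Rees homology modules
-/

set_option autoImplicit false
set_option linter.style.haveILetI false
universe u

open Finset MvPolynomial Groth.Agent.Ega3B.Cube

namespace Groth.Agent.Flat2B.GEx

section Poly

variable {B : Type u} [CommRing B] {P : Type} [Preorder P]

/-- The algebra structure of `D[y, y₀]` over `B[y, y₀]`. -/
noncomputable abbrev polyAlg (σ : Type) (B E : Type u) [CommRing B] [CommRing E] [Algebra B E] :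
    Algebra (MvPolynomial σ B) (MvPolynomial σ E) :=
  (MvPolynomial.map (algebraMap B E)).toAlgebra

/-- The diagram `s ↦ D s [y_σ]`. -/
noncomputable def RDiag.poly (D : RDiag B P) (σ : Type) : RDiag (MvPolynomial σ B) P where
  C s := MvPolynomial σ (D.C s)
  alg s := polyAlg σ B (D.C s)
  res {s t} h := letI := polyAlg σ B (D.C s); letI := polyAlg σ B (D.C t)
    { MvPolynomial.map (D.res h).toRingHom with
      commutes' := fun p => by
        change MvPolynomial.map (D.res h).toRingHom (MvPolynomial.map (algebraMap B (D.C s)) p) =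
          MvPolynomial.map (algebraMap B (D.C t)) p
        rw [MvPolynomial.map_map]
        congr 1
        refine congrArg _ (RingHom.ext fun x => ?_)
        exact (D.res h).commutes x }
  res_self s h p := by
    change MvPolynomial.map (D.res h).toRingHom p = p
    have : (D.res h).toRingHom = RingHom.id _ := RingHom.ext fun x => D.res_self s h x
    rw [this, MvPolynomial.map_id]
  res_res {s t u} h h' p := by
    change MvPolynomial.map (D.res h').toRingHom (MvPolynomial.map (D.res h).toRingHom p) =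
      MvPolynomial.map (D.res (h.trans h')).toRingHom p
    rw [MvPolynomial.map_map]
    refine congrArg (fun f => MvPolynomial.map f p) (RingHom.ext fun x => ?_)
    exact D.res_res h h' x

lemma RDiag.poly_res (D : RDiag B P) (σ : Type) {s t : P} (h : s ≤ t) (p : MvPolynomial σ (D.C s)) :
    (D.poly σ).res h p = MvPolynomial.map (D.res h).toRingHom p := rfl

lemma RDiag.poly_res_toRingHom (D : RDiag B P) (σ : Type) {s t : P} (h : s ≤ t) :
    ((D.poly σ).res h).toRingHom = MvPolynomial.map (D.res h).toRingHom := rfl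

/-- `C → D[y_σ]`. -/
noncomputable def RDiag.Hom.poly {Λ : Type u} [CommRing Λ] {ψ : Λ →+* B} {C : RDiag Λ P}
    {D : RDiag B P} (i₀ : RDiag.Hom ψ C D) (σ : Type) :
    RDiag.Hom ((MvPolynomial.C (σ := σ)).comp ψ) C (D.poly σ) where
  f s := (MvPolynomial.C (σ := σ)).comp (i₀.f s)
  f_alg s a := by
    change MvPolynomial.C (i₀.f s (algebraMap Λ (C.C s) a)) =
      MvPolynomial.map (algebraMap B (D.C s)) (MvPolynomial.C (ψ a))
    rw [MvPolynomial.map_C, i₀.f_alg]
  f_res {s t} h x := by
    change MvPolynomial.C (i₀.f t (C.res h x)) =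
      MvPolynomial.map (D.res h).toRingHom (MvPolynomial.C (i₀.f s x))
    rw [MvPolynomial.map_C, i₀.f_res]
    rfl

end Poly

section HDiag

variable {Λ : Type u} [CommRing Λ] {τ ι : Type} [LinearOrder ι] {C : RDiag Λ (NE ι)}
  (L : LData C τ) {B : Type u} [CommRing B] {ψ : Λ →+* B} {D : RDiag B (NE ι)}
  (i₀ : RDiag.Hom ψ C D) (M : MDiag D)

/-- The fibre of `L ⊗ M` at `s`. -/
noncomputable abbrev fibAt (s : NE ι) : FCx (D.C s) τ := L.fib s (i₀.f s) (M.M s)

/-- Restriction. -/
noncomputable def fibTr {s t : NE ι} (h : s ≤ t) :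
    FCx.Map (D.res h).toRingHom (fibAt L i₀ M s) (fibAt L i₀ M t) :=
  L.fibMap h (i₀.f s) (i₀.f t) (D.res h).toRingHom (fun x => i₀.f_res h x) (M.res h) (M.res_smul h)

lemma fibTr_f {s t : NE ι} (h : s ≤ t) (j : ℕ) (v : (fibAt L i₀ M s).X j) :
    (fibTr L i₀ M h).f j v = L.fibF (M.res h) j v := rfl

/-- Comparison of differentials. -/
lemma fibAt_d (s : NE ι) (j : ℕ) (v : (fibAt L i₀ M s).X (j + 1)) :
    (fibAt L i₀ M s).d j v = (L.map i₀).del M j s v := by
  classical
  funext b
  have h1 : (fibAt L i₀ M s).d j v b = ∑ a : L.G (j + 1) s,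
      MvPolynomial.map ((i₀.f s).comp (C.res a.2).toRingHom) (L.δ j a.1 b.1) • v a :=
    LData.delX_apply _ _ _ _ _ _ _
  rw [h1]
  refine Eq.trans ?_ (LData.del_apply _ _ _ _ _ _).symm
  refine Finset.sum_congr (by congr!) fun a _ => ?_
  congr 1
  change _ = MvPolynomial.map (D.res a.2).toRingHom (MvPolynomial.map (i₀.f _) (L.δ j a.1 b.1))
  rw [MvPolynomial.map_map]
  refine congrArg (fun f => MvPolynomial.map f (L.δ j a.1 b.1)) (RingHom.ext fun x => ?_)
  exact i₀.f_res a.2 x

lemma fibAt_F (s : NE ι) (j e : ℕ) (v : (fibAt L i₀ M s).X j) :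
    v ∈ (fibAt L i₀ M s).F j e ↔ v ∈ ((L.map i₀).tensor M).F j s e := Iff.rfl

/-- Comparison of restrictions. -/
lemma fibTr_f' {s t : NE ι} (h : s ≤ t) (j : ℕ) (v : (fibAt L i₀ M s).X j) :
    (fibTr L i₀ M h).f j v = ((L.map i₀).tensor M).res j h v := by
  classical
  refine funext fun b => ?_
  by_cases hb : L.loc j b.1 ≤ s
  · exact (LData.fibF_of L (M.res h) j v b hb).trans (LData.res_of (L.map i₀) M j h v b hb).symm
  · exact (LData.fibF_of_not L (M.res h) j v b hb).trans (LData.res_of_not (L.map i₀) M j h v b hb).symm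

theorem tower_aux {R R' N : Type u} [CommRing R] [CommRing R'] [AddCommGroup N] [Module R' N]
    (f : R →+* R') : letI := f.toAlgebra; letI := Module.compHom N f; IsScalarTower R R' N := by
  letI := f.toAlgebra
  letI := Module.compHom N f
  exact ⟨fun a b c => mul_smul (f a) b c⟩

/-- The diagram of Rees homology modules of `L ⊗ M`. -/
noncomputable def hDiag (j : ℕ) : MDiag (D.poly (Option τ)) where
  M s := (fibAt L i₀ M s).HR j
  grp s := inferInstance
  mod s := inferInstanceAs (Module (MvPolynomial (Option τ) (D.C s)) ((fibAt L i₀ M s).HR j))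
  modS s := Module.compHom ((fibAt L i₀ M s).HR j)
    (MvPolynomial.map (algebraMap B (D.C s)) : MvPolynomial (Option τ) B →+*
      MvPolynomial (Option τ) (D.C s))
  tower s := tower_aux (N := (fibAt L i₀ M s).HR j)
    (MvPolynomial.map (algebraMap B (D.C s)) : MvPolynomial (Option τ) B →+*
      MvPolynomial (Option τ) (D.C s))
  res h := ((fibTr L i₀ M h).hr j).toAddMonoidHom
  res_smul h c m := map_smulₛₗ ((fibTr L i₀ M h).hr j) c m
  res_self s h x := by
    obtain ⟨g, rfl⟩ := FCx.hm_surjective j x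
    refine (FCx.Map.hr_hm _ _).trans (congrArg _ (Subtype.ext (FCx.RX.ext fun e => ?_)))
    change (fibTr L i₀ M h).f j (g.1.cf e) = g.1.cf e
    rw [fibTr_f]
    exact L.fibF_id j (M.res h) (fun n => M.res_self s h n) _
  res_res {s t u} h h' x := by
    obtain ⟨g, rfl⟩ := FCx.hm_surjective j x
    refine congrArg ((fibAt L i₀ M u).hm j) (Subtype.ext (FCx.RX.ext fun e => ?_))
    change (fibTr L i₀ M h').f j ((fibTr L i₀ M h).f j (g.1.cf e)) =
      (fibTr L i₀ M (h.trans h')).f j (g.1.cf e)
    have : (M.res h').comp (M.res h) = M.res (h.trans h') := AddMonoidHom.ext fun n =>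
      M.res_res h h' n
    refine (LData.fibF_fibF L (M.res h') j h (M.res h) (g.1.cf e)).trans ?_
    rw [this]
    rfl

end HDiag

end Groth.Agent.Flat2B.GEx
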