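import Groth.Agent.Flat2B.GExSC1b
open AlgebraicGeometry CategoryTheory
universe u
namespace Groth.Agent.Flat2B.GExSC1
open GEx
variable {ι : Type} [LinearOrder ι]

lemma inter_preimage {X Y : Scheme.{u}} (q : X ⟶ Y) (U : ι → Y.Opens) (s : NE ι) :
    inter (fun i => q ⁻¹ᵁ U i) s = q ⁻¹ᵁ inter U s := by
  obtain ⟨s, hs⟩ := s
  induction hs using Finset.Nonempty.cons_induction with
  | singleton a =>
    change ({a} : Finset ι).inf _ = q ⁻¹ᵁ (({a} : Finset ι).inf U)
    rw [Finset.inf_singleton, Finset.inf_singleton]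
  | cons a s h hs ih =>
    change (Finset.cons a s h).inf _ = q ⁻¹ᵁ ((Finset.cons a s h).inf U)
    rw [Finset.inf_cons, Finset.inf_cons, Scheme.Hom.preimage_inf]
    congr 1
end Groth.Agent.Flat2B.GExSC1
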