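import Groth.Agent.PerfB.ApproxFlat

/-!
# Noetherian models of finitely presented modules on base changes of schemes over a Noetherian ring

`Y ⟶ Spec Λ` of finite type, `Λ` Noetherian, `S` any `Λ`-algebra, `X = Y ×_Λ S`, `F` a finitely presented
module on `X`, flat over `S`.  There are a finitely generated `Λ`-subalgebra `B ≤ S` and a coherent module on
`Y ×_Λ B`, flat over `B`, whose pull-back to `X` is `F`.
-/

set_option autoImplicit false
universe u
open CategoryTheory CategoryTheory.Limits AlgebraicGeometry Opposite TopologicalSpace TensorProduct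

namespace Groth.Agent.Flat2B.GExSC3

open Groth.Agent.PerfB Groth.Agent.VarietyB.PullSec

section Ring

variable {Λ S : Type u} [CommRing Λ] [CommRing S] [Algebra Λ S]

variable (S) in
/-- `Spec S ⟶ Spec B`. -/
noncomputable abbrev sa (B : Subalgebra Λ S) : Spec (CommRingCat.of S) ⟶ Spec (CommRingCat.of B) :=
  Spec.map (CommRingCat.ofHom (algebraMap B S))

/-- `Spec B ⟶ Spec Λ`. -/
noncomputable abbrev sl (B : Subalgebra Λ S) : Spec (CommRingCat.of B) ⟶ Spec (CommRingCat.of Λ) :=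
  Spec.map (CommRingCat.ofHom (algebraMap Λ B))

/-- the inclusion of subalgebras -/
def incl {B C : Subalgebra Λ S} (h : B ≤ C) : B →+* C := (Subalgebra.inclusion h).toRingHom

/-- `Spec C ⟶ Spec B`. -/
noncomputable abbrev si {B C : Subalgebra Λ S} (h : B ≤ C) :
    Spec (CommRingCat.of C) ⟶ Spec (CommRingCat.of B) :=
  Spec.map (CommRingCat.ofHom (incl h))

theorem sa_sl (B : Subalgebra Λ S) : sa S B ≫ sl B = Spec.map (CommRingCat.ofHom (algebraMap Λ S)) := by
  rw [← Spec.map_comp]; rfl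

theorem sa_si {B C : Subalgebra Λ S} (h : B ≤ C) : sa S C ≫ si h = sa S B := by
  rw [← Spec.map_comp]; rfl

theorem si_sl {B C : Subalgebra Λ S} (h : B ≤ C) : si h ≫ sl B = sl C := by
  rw [← Spec.map_comp]; rfl

/-- every finite set of elements lies in a finitely generated subalgebra -/
theorem exists_fg_of_finite {s : Set S} (hs : s.Finite) {B : Subalgebra Λ S} (hB : B.FG) :
    ∃ C : Subalgebra Λ S, C.FG ∧ B ≤ C ∧ s ⊆ C := by
  obtain ⟨t, rfl⟩ := hs.exists_finset_coe
  exact ⟨B ⊔ Algebra.adjoin Λ (t : Set S), hB.sup (Subalgebra.fg_adjoin_finset t), le_sup_left,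
    (Algebra.subset_adjoin).trans (show Algebra.adjoin Λ (t : Set S) ≤ _ from le_sup_right)⟩

theorem isNoetherianRing_of_fg [IsNoetherianRing Λ] {B : Subalgebra Λ S} (hB : B.FG) :
    IsNoetherianRing B := by
  have : Algebra.FiniteType Λ B := (Subalgebra.fg_iff_finiteType B).1 hB
  exact Algebra.FiniteType.isNoetherianRing Λ B

end Ring

section Stage

variable {Λ S : Type u} [CommRing Λ] [CommRing S] [Algebra Λ S]
  {Y : Scheme.{u}} (p : Y ⟶ Spec (CommRingCat.of Λ))

/-- `Y ×_Λ B` -/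
noncomputable abbrev YB (B : Subalgebra Λ S) : Scheme.{u} := pullback p (sl B)

/-- `Y ×_Λ B ⟶ Y` -/
noncomputable abbrev aB (B : Subalgebra Λ S) : YB p B ⟶ Y := pullback.fst p (sl B)

/-- `Y ×_Λ B ⟶ Spec B` -/
noncomputable abbrev fB (B : Subalgebra Λ S) : YB p B ⟶ Spec (CommRingCat.of B) := pullback.snd p (sl B)

/-- `Y ×_Λ C ⟶ Y ×_Λ B` -/
noncomputable def cB {B C : Subalgebra Λ S} (h : B ≤ C) : YB p C ⟶ YB p B :=
  pullback.lift (aB p C) (fB p C ≫ si h) (by rw [Category.assoc, si_sl]; exact pullback.condition)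

theorem cB_aB {B C : Subalgebra Λ S} (h : B ≤ C) : cB p h ≫ aB p B = aB p C := pullback.lift_fst _ _ _

theorem cB_fB {B C : Subalgebra Λ S} (h : B ≤ C) : cB p h ≫ fB p B = fB p C ≫ si h :=
  pullback.lift_snd _ _ _

theorem isPullback_cB {B C : Subalgebra Λ S} (h : B ≤ C) : IsPullback (cB p h) (fB p C) (fB p B) (si h) := by
  refine IsPullback.of_right ?_ (cB_fB p h) (IsPullback.of_hasPullback p (sl B))
  rw [si_sl]
  change IsPullback (cB p h ≫ aB p B) _ _ _
  rw [cB_aB]
  exact IsPullback.of_hasPullback p (sl C)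

variable {p} {X : Scheme.{u}} {f : X ⟶ Spec (CommRingCat.of S)} {q : X ⟶ Y}
  (hX : IsPullback q f p (Spec.map (CommRingCat.ofHom (algebraMap Λ S))))

/-- `X ⟶ Y ×_Λ B` -/
noncomputable def bB (B : Subalgebra Λ S) : X ⟶ YB p B :=
  pullback.lift q (f ≫ sa S B) (by rw [Category.assoc, sa_sl]; exact hX.w)

theorem bB_aB (B : Subalgebra Λ S) : bB hX B ≫ aB p B = q := pullback.lift_fst _ _ _

theorem bB_fB (B : Subalgebra Λ S) : bB hX B ≫ fB p B = f ≫ sa S B := pullback.lift_snd _ _ _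

theorem bB_cB {B C : Subalgebra Λ S} (h : B ≤ C) : bB hX C ≫ cB p h = bB hX B := by
  apply pullback.hom_ext
  · rw [Category.assoc]
    change _ ≫ cB p h ≫ aB p B = bB hX B ≫ aB p B
    rw [cB_aB, bB_aB, bB_aB]
  · rw [Category.assoc]
    change _ ≫ cB p h ≫ fB p B = bB hX B ≫ fB p B
    rw [cB_fB, ← Category.assoc, bB_fB, bB_fB, Category.assoc, sa_si]

theorem isPullback_bB (B : Subalgebra Λ S) : IsPullback (bB hX B) f (fB p B) (sa S B) := by
  refine IsPullback.of_right ?_ (bB_fB hX B) (IsPullback.of_hasPullback p (sl B))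
  rw [sa_sl]
  change IsPullback (bB hX B ≫ aB p B) _ _ _
  rw [bB_aB]
  exact hX

theorem isAffineHom_bB (B : Subalgebra Λ S) : IsAffineHom (bB hX B) :=
  MorphismProperty.of_isPullback (isPullback_bB hX B).flip (inferInstanceAs (IsAffineHom (sa S B)))

include hX in
theorem isAffineHom_q : IsAffineHom q :=
  MorphismProperty.of_isPullback hX.flip (inferInstanceAs (IsAffineHom (Spec.map _)))

instance isAffineHom_aB (B : Subalgebra Λ S) : IsAffineHom (aB p B) :=
  MorphismProperty.of_isPullback (IsPullback.of_hasPullback p (sl B)).flip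
    (inferInstanceAs (IsAffineHom (sl B)))

instance isAffineHom_cB {B C : Subalgebra Λ S} (h : B ≤ C) : IsAffineHom (cB p h) :=
  MorphismProperty.of_isPullback (isPullback_cB p h).flip (inferInstanceAs (IsAffineHom (si h)))

open ApproxTower ApproxStage

/-- A function comes from a stage which contains the scalars. -/
theorem mem_range_appLE {X₀ X₁ : Scheme.{u}} {g : X ⟶ X₀} {q : X ⟶ X₁} {p : X₁ ⟶ X₀} (w : q ≫ p = g)
    {C : Type u} [CommRing C] (c : C →+* S) (s : X₁ ⟶ Spec (CommRingCat.of C))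
    (w' : q ≫ s = f ≫ Spec.map (CommRingCat.ofHom c)) (V : X₀.Opens)
    (t : Set S) (ht : t ⊆ Set.range c) (r : Γ(X, g ⁻¹ᵁ V))
    (hr : r ∈ Subring.closure (Set.range (g.app V) ∪ scal f (g ⁻¹ᵁ V) '' t)) :
    r ∈ (q.appLE (p ⁻¹ᵁ V) (g ⁻¹ᵁ V) (by rw [← w]; rfl)).hom.range := by
  subst w
  have h2 : Subring.closure (Set.range ((q ≫ p).app V) ∪ scal f ((q ≫ p) ⁻¹ᵁ V) '' t) ≤
      (q.appLE (p ⁻¹ᵁ V) ((q ≫ p) ⁻¹ᵁ V) le_rfl).hom.range := by
    rw [Subring.closure_le]
    rintro x (⟨y, rfl⟩ | ⟨a, ha, rfl⟩)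
    · refine ⟨p.app V y, ?_⟩
      rw [Scheme.Hom.comp_app]
      exact congr(($(Scheme.Hom.appLE_eq_app q)) (p.app V y))
    · obtain ⟨a', rfl⟩ := ht ha
      refine ⟨scal s (p ⁻¹ᵁ V) a', ?_⟩
      exact scal_appLE c s w' _ _
  exact h2 hr

variable [IsNoetherianRing Λ] [LocallyOfFiniteType p] [QuasiCompact p] [QuasiSeparated p]

include hX in
/-- A finitely presented module on `Y ×_Λ S` comes from a coherent module on `Y ×_Λ B`. -/
theorem exists_model (F : X.Modules) (hF : CohB1.IsFP F) :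
    ∃ (B : Subalgebra Λ S) (_ : B.FG) (G : (YB p B).Modules), CohB1.IsFP G ∧
      Nonempty ((Scheme.Modules.pullback (bB hX B)).obj G ≅ F) := by
  classical
  have hF0 : Coh.IsQCoh F := Models2.FPCoh.isQCoh_of_isFP hF
  have hq : IsAffineHom q := isAffineHom_q hX
  have c1 : CompactSpace Y := QuasiCompact.compactSpace_of_compactSpace p
  have c2 : QuasiSeparatedSpace Y := quasiSeparatedSpace_of_quasiSeparated p
  obtain ⟨G, γ, T, hG, hG', hT, hR⟩ := ApproxRel.exists_rel q F hF0 hF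
  have R : ∀ V : T, ApproxStage.Rel γ (V.1 : Y.Opens) := fun V => (hR V.1 V.2).some
  have hs : ∀ (V : T) (l : Fin (R V).m) (i : Fin (R V).n), ∃ s : Set S, s.Finite ∧
      (R V).k l i ∈ Subring.closure (Set.range (q.app (V.1 : Y.Opens)) ∪
        scal f (q ⁻¹ᵁ (V.1 : Y.Opens)) '' s) := fun V l i =>
    exists_finite_scal (algebraMap Λ S) hX V.1.2 _
  choose s hs1 hs2 using hs
  obtain ⟨C, hC, -, hsC⟩ := exists_fg_of_finite (Λ := Λ)
    (s := ⋃ (V : T), ⋃ (l : Fin (R V).m), ⋃ (i : Fin (R V).n), s V l i)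
    (Set.finite_iUnion fun V => Set.finite_iUnion fun l => Set.finite_iUnion fun i => hs1 V l i)
    (Subalgebra.fg_bot (R := Λ) (A := S))
  have a1 := isAffineHom_bB hX C
  obtain ⟨F', hF1, hF2, he⟩ := stage (bB hX C) (aB p C) (bB_aB hX C) γ hG
    (Models2.FPCoh.isFT_of_isFP hG') hF0 (fun x => by
    obtain ⟨V, hV, hx⟩ := hT x
    refine ⟨V, hx, V.2, R ⟨V, hV⟩, fun l i => ?_⟩
    refine mem_range_appLE (bB_aB hX C) (algebraMap C S) (fB p C) (bB_fB hX C) V _ ?_ _ (hs2 ⟨V, hV⟩ l i)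
    have h1 : s ⟨V, hV⟩ l i ⊆ (C : Set S) := by
      refine subset_trans ?_ hsC
      exact (Set.subset_iUnion (fun i => s ⟨V, hV⟩ l i) i).trans
        ((Set.subset_iUnion (fun l => ⋃ i, s ⟨V, hV⟩ l i) l).trans
          (Set.subset_iUnion (fun V => ⋃ l, ⋃ i, s V l i) ⟨V, hV⟩))
    exact fun a ha => ⟨⟨a, h1 ha⟩, rfl⟩)
  have : IsNoetherianRing C := isNoetherianRing_of_fg hC
  have l2 : IsLocallyNoetherian (YB p C) := LocallyOfFiniteType.isLocallyNoetherian (fB p C)
  exact ⟨C, hC, F', (Groth.Agent.S0018.result _ F').mp ⟨hF1, hF2⟩, he⟩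

end Stage

section Flat

variable {Λ S : Type u} [CommRing Λ] [CommRing S] [Algebra Λ S]

open ApproxTower ApproxFlat

/-- Base change of flatness along a further inclusion of subalgebras. -/
theorem flat_of_adjoin {B C : Subalgebra Λ S} (h : B ≤ C) (s : Finset S)
    (hs : (s : Set S) ⊆ C) (N : Type u) [AddCommGroup N] [Module B N]
    (hf : Module.Flat (Algebra.adjoin B (s : Set S)) (Algebra.adjoin B (s : Set S) ⊗[B] N)) :
    letI := (incl h).toAlgebra
    Module.Flat C (C ⊗[B] N) := by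
  letI := (incl h).toAlgebra
  let D := Algebra.adjoin B (s : Set S)
  have hD : ∀ x ∈ D, x ∈ C := by
    intro x hx
    induction hx using Algebra.adjoin_induction with
    | mem x hx => exact hs hx
    | algebraMap r => exact h r.2
    | add x y _ _ hx hy => exact add_mem hx hy
    | mul x y _ _ hx hy => exact mul_mem hx hy
  let j : D →+* C :=
    { toFun := fun x => ⟨x.1, hD x.1 x.2⟩
      map_one' := rfl
      map_mul' := fun _ _ => rfl
      map_zero' := rfl
      map_add' := fun _ _ => rfl }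
  letI := j.toAlgebra
  have : IsScalarTower B D C := IsScalarTower.of_algebraMap_eq fun _ => rfl
  exact Module.Flat.of_linearEquiv
    (TensorProduct.AlgebraTensorModule.cancelBaseChange B D C C N).symm

variable {Y : Scheme.{u}} {p : Y ⟶ Spec (CommRingCat.of Λ)}
  {X : Scheme.{u}} {f : X ⟶ Spec (CommRingCat.of S)} {q : X ⟶ Y}
  (hX : IsPullback q f p (Spec.map (CommRingCat.ofHom (algebraMap Λ S))))

/-- Flatness passes to larger subalgebras. -/
theorem flat_up {B C : Subalgebra Λ S} (h : B ≤ C) (G : (YB p B).Modules)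
    (hf : FlatMod.IsFlatOver (fB p B) G) :
    FlatMod.IsFlatOver (fB p C) ((Scheme.Modules.pullback (cB p h)).obj G) := fun z =>
  Groth.Agent.Fdesc.FlatBC.isFlatOverAt_pullback (isPullback_cB p h) G z (hf _)

include hX in
theorem exists_stage_affine [LocallyOfFinitePresentation p] {B : Subalgebra Λ S} (G : (YB p B).Modules)
    (hGfp : CohB1.IsFP G)
    (hf : FlatMod.IsFlatOver f ((Scheme.Modules.pullback (bB hX B)).obj G)) {V : (YB p B).Opens}
    (hV : IsAffineOpen V) :
    ∃ s : Finset S,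
      letI := modA (fB p B) G V
      Module.Flat (Algebra.adjoin B (s : Set S)) (Algebra.adjoin B (s : Set S) ⊗[B] Γ(G, V)) := by
  have hG : Coh.IsQCoh G := Models2.FPCoh.isQCoh_of_isFP hGfp
  have hG' : Coh.IsQCoh ((Scheme.Modules.pullback (bB hX B)).obj G) := isQCoh_pullback (bB hX B) G hG
  have hb1 := isAffineHom_bB hX B
  have h1 : SecFlat f ((Scheme.Modules.pullback (bB hX B)).obj G) (bB hX B ⁻¹ᵁ V) :=
    (secFlat_iff hG' (hV.preimage (bB hX B))).mpr fun x _ => hf x
  let i1 := modA (fB p B) G V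
  let i2 := algA (fB p B) V
  have s1 : IsScalarTower B Γ(YB p B, V) Γ(G, V) := IsScalarTower.of_algebraMap_smul fun _ _ => rfl
  have h2 : Module.Flat S (S ⊗[B] Γ(G, V)) :=
    (secFlat_pullback_iff (φ := algebraMap B S) rfl (isPullback_bB hX B) hV G hG).mp h1
  have h3 : Algebra.FinitePresentation B Γ(YB p B, V) := by
    have h4 := HasRingHomProperty.appLE (P := @LocallyOfFinitePresentation) (fB p B) inferInstance
      ⟨⊤, isAffineOpen_top _⟩ ⟨V, hV⟩ (le_pre_top (fB p B) V)
    have hb : Function.Bijective (Scheme.ΓSpecIso (CommRingCat.of B)).inv.hom :=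
      (ConcreteCategory.isIso_iff_bijective _).mp inferInstance
    have h5 : (scal (fB p B) V).FinitePresentation :=
      RingHom.FinitePresentation.comp h4 (RingHom.FinitePresentation.of_bijective hb)
    exact h5
  have h6 : Module.FinitePresentation Γ(YB p B, V) Γ(G, V) :=
    Desc.FPSections.finitePresentation_sections hV hG hGfp
  exact Etbase.FlatStageModule.exists_flat_stage (A₀ := B) (A := S) Γ(YB p B, V) Γ(G, V)

include hX in
/-- Flatness at a finite stage. -/
theorem exists_up_flat [LocallyOfFinitePresentation p] [QuasiCompact p] {B : Subalgebra Λ S} (hB : B.FG)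
    (G : (YB p B).Modules) (hGfp : CohB1.IsFP G)
    (hf : FlatMod.IsFlatOver f ((Scheme.Modules.pullback (bB hX B)).obj G)) :
    ∃ (C : Subalgebra Λ S) (_ : C.FG) (h : B ≤ C),
      FlatMod.IsFlatOver (fB p C) ((Scheme.Modules.pullback (cB p h)).obj G) := by
  classical
  have : CompactSpace (YB p B) := QuasiCompact.compactSpace_of_compactSpace (fB p B)
  have hG : Coh.IsQCoh G := Models2.FPCoh.isQCoh_of_isFP hGfp
  choose W hW hyW using fun y : YB p B => (show ∃ W : (YB p B).Opens, IsAffineOpen W ∧ y ∈ W by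
    obtain ⟨W, hW, hy, -⟩ := exists_isAffineOpen_mem_and_subset (U := ⊤) (x := y) trivial
    exact ⟨W, hW, hy⟩)
  obtain ⟨t, ht⟩ := (isCompact_univ : IsCompact (Set.univ : Set (YB p B))).elim_finite_subcover
    (fun y => ((W y : (YB p B).Opens) : Set (YB p B))) (fun y => (W y).2)
    (fun y _ => Set.mem_iUnion.2 ⟨y, hyW y⟩)
  choose s hs using fun y => exists_stage_affine hX G hGfp hf (hW y)
  obtain ⟨C, hCfg, h, hC⟩ := exists_fg_of_finite (s := ⋃ y ∈ t, (s y : Set S))
    (Set.Finite.biUnion t.finite_toSet fun y _ => (s y).finite_toSet) hB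
  refine ⟨C, hCfg, h, fun z => ?_⟩
  obtain ⟨y, hy, hz⟩ := Set.mem_iUnion₂.1 (ht (Set.mem_univ (cB p h z)))
  have hG' : Coh.IsQCoh ((Scheme.Modules.pullback (cB p h)).obj G) := isQCoh_pullback _ G hG
  let i1 := modA (fB p B) G (W y)
  let i2 := (incl h).toAlgebra
  have h1 : Module.Flat C (C ⊗[B] Γ(G, W y)) :=
    flat_of_adjoin h (s y) (fun x hx => hC (Set.mem_iUnion₂.2 ⟨y, hy, hx⟩)) Γ(G, W y) (hs y)
  have h2 : SecFlat (fB p C) ((Scheme.Modules.pullback (cB p h)).obj G) (cB p h ⁻¹ᵁ (W y)) :=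
    (secFlat_pullback_iff (φ := incl h) rfl (isPullback_cB p h) (hW y) G hG).mpr h1
  exact (secFlat_iff hG' ((hW y).preimage (cB p h))).mp h2 z hz

include hX in
/-- **Noetherian models** (concrete form): a finitely presented module on `Y ×_Λ S`, flat over `S`, comes from a
coherent module on `Y ×_Λ B`, flat over `B`, for a finitely generated `Λ`-subalgebra `B` of `S`. -/
theorem exists_flat_model [IsNoetherianRing Λ] [LocallyOfFiniteType p] [QuasiCompact p] [QuasiSeparated p]
    (F : X.Modules) (hF : CohB1.IsFP F) (hfl : FlatMod.IsFlatOver f F) :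
    ∃ (B : Subalgebra Λ S) (_ : B.FG) (G : (YB p B).Modules), CohB1.IsFP G ∧
      FlatMod.IsFlatOver (fB p B) G ∧ Nonempty ((Scheme.Modules.pullback (bB hX B)).obj G ≅ F) := by
  obtain ⟨B, hB, G, hG, ⟨e⟩⟩ := exists_model hX F hF
  have hp : LocallyOfFinitePresentation p := by
    rw [HasRingHomProperty.iff_appLE (P := @LocallyOfFinitePresentation)]
    intro U V e
    have := IsLocallyNoetherian.component_noetherian U
    have h := p.finiteType_appLE U.2 V.2 e
    algebraize [(p.appLE U V e).hom]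
    exact RingHom.finitePresentation_algebraMap.mpr (Algebra.FinitePresentation.of_finiteType.mp ‹_›)
  obtain ⟨C, hC, h, hfC⟩ := exists_up_flat hX hB G hG (Models2.FlatIso.isFlatOver_of_iso f e.symm hfl)
  exact ⟨C, hC, (Scheme.Modules.pullback (cB p h)).obj G, FormalA.PullbackQC.isFP_pullback _ _ hG, hfC,
    ⟨(Scheme.Modules.pullbackComp (bB hX C) (cB p h)).app G ≪≫
      (Scheme.Modules.pullbackCongr (bB_cB hX h)).app G ≪≫ e⟩⟩

end Flat

/-- **Noetherian models** (existential form). -/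
theorem exists_noetherian_model {Λ : Type u} [CommRing Λ] [IsNoetherianRing Λ] {Y : Scheme.{u}}
    (p : Y ⟶ Spec (CommRingCat.of Λ)) [LocallyOfFiniteType p] [QuasiCompact p] [QuasiSeparated p]
    {S : Type u} [CommRing S] [Algebra Λ S] {X : Scheme.{u}} (f : X ⟶ Spec (CommRingCat.of S)) (q : X ⟶ Y)
    (hX : IsPullback q f p (Spec.map (CommRingCat.ofHom (algebraMap Λ S))))
    (F : X.Modules) (hF : CohB1.IsFP F) (hfl : FlatMod.IsFlatOver f F) :
    ∃ (B : Subalgebra Λ S) (_ : B.FG) (Z : Scheme.{u}) (fZ : Z ⟶ Spec (CommRingCat.of B)) (a : Z ⟶ Y)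
      (b : X ⟶ Z) (FB : Z.Modules),
      IsPullback a fZ p (Spec.map (CommRingCat.ofHom (algebraMap Λ B))) ∧
      IsPullback b f fZ (Spec.map (CommRingCat.ofHom (algebraMap B S))) ∧ b ≫ a = q ∧
      Coh.IsCoh FB ∧ CohB1.IsFP FB ∧ FlatMod.IsFlatOver fZ FB ∧
      Nonempty ((Scheme.Modules.pullback b).obj FB ≅ F) := by
  obtain ⟨B, hB, G, hG, hGf, he⟩ := exists_flat_model hX F hF hfl
  exact ⟨B, hB, YB p B, fB p B, aB p B, bB hX B, G, IsPullback.of_hasPullback p (sl B), isPullback_bB hX B,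
    bB_aB hX B, Models2.FPCoh.isCoh_of_isFP hG, hG, hGf, he⟩

end Groth.Agent.Flat2B.GExSC3
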