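import Groth.Agent.Flat2B.GExSC1c
import Groth.Agent.Flat2B.GExSC1d
import Groth.Agent.Flat2B.GExSC1e
import Groth.Agent.Flat2B.GExSC3
import Groth.Agent.Flat2B.GExAsm

/-!
# S1270, route E: Noetherian models of the diagrams of modules
-/

set_option autoImplicit false
universe u

open CategoryTheory CategoryTheory.Limits AlgebraicGeometry Opposite TopologicalSpace

namespace Groth.Agent.Flat2B.GExSC1

open GEx GExGlob CohqA.PullbackAffine CohqA.PullbackUniv CohqA.BaseChangeMod

theorem isAffineHom_of_isPullback {Λ S : Type u} [CommRing Λ] [CommRing S] {l : Λ →+* S}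
    {X Y : Scheme.{u}} {p : Y ⟶ Spec (CommRingCat.of Λ)} {f : X ⟶ Spec (CommRingCat.of S)} {q : X ⟶ Y}
    (hX : IsPullback q f p (Spec.map (CommRingCat.ofHom l))) : IsAffineHom q :=
  MorphismProperty.of_isPullback hX.flip inferInstance

theorem hasModel {Λ : Type u} [CommRing Λ] [IsNoetherianRing Λ] {Y : Scheme.{u}}
    (p : Y ⟶ Spec (CommRingCat.of Λ)) [LocallyOfFiniteType p] [QuasiCompact p] [QuasiSeparated p]
    {ι : Type} [LinearOrder ι] {W : NE ι → Y.Opens} (hW : IsCov W)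
    {S : Type u} [CommRing S] (l : Λ →+* S) {X : Scheme.{u}} (f : X ⟶ Spec (CommRingCat.of S)) (q : X ⟶ Y)
    (hX : IsPullback q f p (Spec.map (CommRingCat.ofHom l)))
    {W' : NE ι → X.Opens} (hW' : ∀ s t, s ≤ t → W' t ≤ W' s) (e : ∀ s, W' s = q ⁻¹ᵁ W s)
    (F : X.Modules) (hF : CohB1.IsFP F) (hfl : FlatMod.IsFlatOver f F) :
    HasModel (ringHom (f := p) (f' := f) (hW := hW.anti) (hW' := hW') q hX.w (fun s => (e s).le))
      (modD f W' hW' F) := by
  let := l.toAlgebra
  obtain ⟨B, hB, Z, fZ, a, b, FB, hZ, hb, hba, hcoh, hfp, hflat, ⟨u⟩⟩ :=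
    GExSC3.exists_noetherian_model p f q hX F hF hfl
  have hBN : IsNoetherianRing B := by
    have : Algebra.FiniteType Λ B := B.fg_iff_finiteType.1 hB
    exact Algebra.FiniteType.isNoetherianRing Λ B
  have ha : IsAffineHom a := isAffineHom_of_isPullback hZ
  have hb' : IsAffineHom b := isAffineHom_of_isPullback hb
  have hq' : IsAffineHom q := isAffineHom_of_isPullback hX
  have hWZ := hW.preimage a
  have hWX := hW.preimage q
  have haff' : ∀ s, IsAffineOpen (W' s) := fun s => by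
    rw [e s]
    exact hWX.aff s
  have e' : ∀ s, W' s = b ⁻¹ᵁ (a ⁻¹ᵁ W s) := fun s => by
    rw [e s, ← hba]
    rfl
  let aa : FB ⟶ (Scheme.Modules.pushforward b).obj F :=
    (Scheme.Modules.pullbackPushforwardAdjunction b).unit.app FB ≫ (Scheme.Modules.pushforward b).map u.hom
  have haa : IsUniv b aa := (isUniv_unit b FB).comp_iso u
  refine ⟨B, inferInstance, hBN, algebraMap Λ B, algebraMap B S, ringD fZ (fun s => a ⁻¹ᵁ W s) hWZ.anti,
    ringHom a hZ.w (fun s => le_rfl), isPO hZ hW.aff (fun s => rfl),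
    ringHom b hb.w (fun s => (e' s).le), ?_, modD fZ _ hWZ.anti FB, finite_modD fZ _ hWZ.aff FB hcoh,
    isCart fZ hWZ FB hcoh.1, flat_modD fZ _ hWZ.aff FB hcoh.1 hflat,
    modHom b hb.w (fun s => (e' s).le) aa,
    modHom_isBCMap_base hb e' hcoh.1 aa haa hWZ.aff haff'⟩
  intro s x
  have h1 := Scheme.Hom.appLE_comp_appLE b a (W s) (a ⁻¹ᵁ W s) (W' s) le_rfl (e' s).le
  subst hba
  exact congr($(h1).hom x)

end Groth.Agent.Flat2B.GExSC1
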