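import Groth.Agent.S2107
import Groth.Agent.Flat2E.FibInj
import Groth.Agent.Flat2A.KeyLemma
import Groth.Agent.Flat2B.FlatCrit
import Groth.Agent.Flat2A.ResInjPrime
import Mathlib.RingTheory.Flat.Equalizer
import Mathlib.RingTheory.Flat.FaithfullyFlat.Basic

/-!
# Flatness of a cokernel near a closed subscheme of the base

`flatAt_coker`: `A → B` of finite presentation, `u : M → N` a map of finitely presented `B`-modules with `N` flat
over `A`.  If `u` stays injective over an `A`-algebra `A₀` and the cokernel is flat over `A₀` after base change, then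
the cokernel of `u` is flat over `A` at every prime of `B` lying over the image of `Spec A₀`.
-/

set_option autoImplicit false
universe u

open TensorProduct

namespace Groth.Agent.Flat2B.GExLoc

section Residue

variable {A M N : Type u} [CommRing A] [AddCommGroup M] [Module A M] [AddCommGroup N] [Module A N]

theorem lTensor_injective (u : M →ₗ[A] N) (A₀ : Type u) [CommRing A₀] [Algebra A A₀]
    (hinj : Function.Injective (u.baseChange A₀))
    (hflat : Module.Flat A₀ (A₀ ⊗[A] (N ⧸ LinearMap.range u)))
    (P : Type u) [AddCommGroup P] [Module A₀ P] [Module A P] [IsScalarTower A A₀ P] :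
    Function.Injective (u.lTensor P) := by
  refine (Flat2A.ResInjPrime.lTensor_injective_iff_baseChange A₀ P u).mp ?_
  have hex : Function.Exact (u.baseChange A₀) ((LinearMap.range u).mkQ.baseChange A₀) := by
    have := lTensor_exact A₀ (LinearMap.exact_map_mkQ_range u) (Submodule.mkQ_surjective _)
    exact this
  have hsurj : Function.Surjective ((LinearMap.range u).mkQ.baseChange A₀) :=
    LinearMap.lTensor_surjective A₀ (Submodule.mkQ_surjective _)
  exact LinearMap.lTensor_injective_of_exact_of_flat _ hsurj _ hinj hex P

theorem residueField_injective (u : M →ₗ[A] N) (A₀ : Type u) [CommRing A₀] [Algebra A A₀]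
    (hinj : Function.Injective (u.baseChange A₀))
    (hflat : Module.Flat A₀ (A₀ ⊗[A] (N ⧸ LinearMap.range u)))
    (p : Ideal A) [p.IsPrime] (p₀ : Ideal A₀) [p₀.IsPrime] (h : p = p₀.comap (algebraMap A A₀)) :
    Function.Injective (u.lTensor p.ResidueField) := by
  let f : p.ResidueField →+* p₀.ResidueField := Ideal.ResidueField.map p p₀ (algebraMap A A₀) h
  let _ : Algebra p.ResidueField p₀.ResidueField := f.toAlgebra
  have _ : IsScalarTower A p.ResidueField p₀.ResidueField := IsScalarTower.of_algebraMap_eq (fun a => by
    change _ = f _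
    simp only [f, Ideal.ResidueField.map_algebraMap]
    rfl)
  have h1 : Function.Injective (u.lTensor p₀.ResidueField) := lTensor_injective u A₀ hinj hflat _
  rw [← Flat2A.ResInjPrime.lTensor_injective_iff_baseChange p.ResidueField] at h1
  have h2 := (Module.FaithfullyFlat.lTensor_injective_iff_injective p.ResidueField p₀.ResidueField
    (u.baseChange p.ResidueField)).mp h1
  exact h2

end Residue

section Local

variable {A B : Type u} [CommRing A] [CommRing B] [Algebra A B]

attribute [local instance] Algebra.TensorProduct.rightAlgebra in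
theorem isEssFinitePresentation_localization [Algebra.FinitePresentation A B] (q : Ideal B) [q.IsPrime]
    (p : Ideal A) [p.IsPrime] [q.LiesOver p] :
    letI := Localization.AtPrime.algebraOfLiesOver p q
    CAlgX.IsEssFinitePresentation (Localization.AtPrime p) (Localization.AtPrime q) := by
  letI := Localization.AtPrime.algebraOfLiesOver p q
  let R := Localization.AtPrime p
  let S := Localization.AtPrime q
  let φ : R ⊗[A] B →ₐ[R] S := Algebra.TensorProduct.lift (Algebra.ofId R S)
    (IsScalarTower.toAlgHom A B S) (fun _ _ => Commute.all _ _)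
  letI : Algebra (R ⊗[A] B) S := φ.toAlgebra
  haveI : IsScalarTower R (R ⊗[A] B) S := IsScalarTower.of_algebraMap_eq (fun r => by
    change _ = φ _
    rw [φ.commutes])
  haveI : IsScalarTower B (R ⊗[A] B) S := IsScalarTower.of_algebraMap_eq (fun b => by
    change _ = φ (1 ⊗ₜ b)
    simp only [φ, Algebra.TensorProduct.lift_tmul, map_one, one_mul]
    rfl)
  have hle : Algebra.algebraMapSubmonoid B p.primeCompl ≤ q.primeCompl := by
    rintro _ ⟨a, ha, rfl⟩ h
    apply ha
    rw [Ideal.LiesOver.over (p := p) (P := q)]
    exact h
  haveI : IsLocalization (Algebra.algebraMapSubmonoid B p.primeCompl) (R ⊗[A] B) :=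
    IsLocalization.tensorRight (R := A) (S := B) (A := Localization.AtPrime p) p.primeCompl
  exact ⟨R ⊗[A] B, inferInstance, inferInstance, inferInstance, inferInstance,
    q.primeCompl.map (algebraMap B (R ⊗[A] B)), inferInstance,
    IsLocalization.isLocalization_of_submonoid_le _ _ _ _ hle⟩

/-- Flatness of the cokernel at a prime, from injectivity on the fibre. -/
theorem flatAt_of_residue_injective [Algebra.FinitePresentation A B]
    {M N : Type u} [AddCommGroup M] [Module B M] [Module A M] [IsScalarTower A B M] [Module.FinitePresentation B M]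
    [AddCommGroup N] [Module B N] [Module A N] [IsScalarTower A B N] [Module.FinitePresentation B N]
    [Module.Flat A N] (u : M →ₗ[B] N) (q : Ideal B) [q.IsPrime] (p : Ideal A) [p.IsPrime] [q.LiesOver p]
    (h : Function.Injective ((u.restrictScalars A).lTensor p.ResidueField)) :
    FlatCA.FlatAt A q (N ⧸ LinearMap.range u) := by
  letI := Localization.AtPrime.algebraOfLiesOver p q
  let R := Localization.AtPrime p
  let S := Localization.AtPrime q
  let M' := LocalizedModule q.primeCompl M
  let N' := LocalizedModule q.primeCompl N
  letI : Module R M' := Module.compHom M' (algebraMap R S)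
  letI : Module R N' := Module.compHom N' (algebraMap R S)
  haveI : IsScalarTower R S M' := ⟨fun r s m => by
    rw [Algebra.smul_def, mul_smul]; rfl⟩
  haveI : IsScalarTower R S N' := ⟨fun r s m => by
    rw [Algebra.smul_def, mul_smul]; rfl⟩
  haveI : IsScalarTower A R N' := ⟨fun a r n => by
    have h1 : (a • r) • n = (algebraMap R S (a • r)) • n := rfl
    have h2 : r • n = (algebraMap R S r) • n := rfl
    rw [h1, h2, Algebra.smul_def, map_mul, mul_smul, ← IsScalarTower.algebraMap_apply, algebraMap_smul]⟩
  haveI : Module.Flat A N' := FlatCrit.flat_of_isLocalizedModule (R := A) q.primeCompl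
    (LocalizedModule.mkLinearMap q.primeCompl N)
  haveI : Module.Flat R N' := (Module.flat_iff_of_isLocalization R p.primeCompl N').mpr inferInstance
  let u' : M' →ₗ[S] N' := LocalizedModule.map q.primeCompl u
  have hmap : (IsLocalRing.maximalIdeal R).map (algebraMap R S) = (p.map (algebraMap A B)).map (algebraMap B S) := by
    rw [← Localization.AtPrime.map_eq_maximalIdeal, Ideal.map_map, Ideal.map_map,
      ← IsScalarTower.algebraMap_eq, ← IsScalarTower.algebraMap_eq]
  have key := S2107.result (R := R) (S := S) (isEssFinitePresentation_localization q p) u' (by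
    intro x hx
    obtain ⟨⟨m, t⟩, rfl⟩ := IsLocalizedModule.mk'_surjective q.primeCompl
      (LocalizedModule.mkLinearMap q.primeCompl M) x
    rw [hmap] at hx ⊢
    simp only [Function.uncurry_apply_pair] at hx ⊢
    rw [Flat2A.KeyLemma.map_mem_smul_top_iff]
    have hu' : u' (IsLocalizedModule.mk' (LocalizedModule.mkLinearMap q.primeCompl M) m t) =
      IsLocalizedModule.mk' (LocalizedModule.mkLinearMap q.primeCompl N) (u m) t := by
      exact IsLocalizedModule.map_mk' _ _ _ _ _ _
    rw [hu', Flat2A.KeyLemma.map_mem_smul_top_iff] at hx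
    obtain ⟨c, hc⟩ := hx
    have hres : ∀ (P : Type u) [AddCommGroup P] [Module B P] [Module A P] [IsScalarTower A B P] (y : P),
        y ∈ (p.map (algebraMap A B) • ⊤ : Submodule B P) ↔ y ∈ (p • ⊤ : Submodule A P) := by
      intro P _ _ _ _ y
      have := Ideal.smul_restrictScalars (R := A) (S := B) p (⊤ : Submodule B P)
      rw [← Submodule.restrictScalars_mem A, this, Submodule.restrictScalars_top]
    rw [hres] at hc
    have h1 : (1 : p.ResidueField) ⊗ₜ[A] (c.1 • m) = 0 := by
      apply h
      rw [LinearMap.lTensor_tmul, map_zero]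
      rw [Flat2E.FibInj.one_tmul_eq_zero_iff]
      refine ⟨1, fun h => Ideal.IsPrime.ne_top' ((Ideal.eq_top_iff_one p).mpr h), ?_⟩
      rw [one_smul]
      change u (c.1 • m) ∈ _
      rw [map_smul]
      exact hc
    rw [Flat2E.FibInj.one_tmul_eq_zero_iff] at h1
    obtain ⟨a, ha, ham⟩ := h1
    refine ⟨⟨algebraMap A B a, fun h => ha (by rw [Ideal.LiesOver.over (p := p) (P := q)]; exact h)⟩ * c, ?_⟩
    rw [hres]
    change (algebraMap A B a * c.1) • m ∈ _
    rw [mul_smul, algebraMap_smul]
    exact ham)
  have h2 : LinearMap.range u' = (LinearMap.range u).localized q.primeCompl :=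
    (LinearMap.localized'_range_eq_range_localizedMap S q.primeCompl
      (LocalizedModule.mkLinearMap q.primeCompl M) (LocalizedModule.mkLinearMap q.primeCompl N) u).symm
  have h3 : Module.Flat A (N' ⧸ LinearMap.range u') := by
    have hk := key.2
    haveI : IsScalarTower A R (N' ⧸ LinearMap.range u') := ⟨fun a r n => by
      obtain ⟨n, rfl⟩ := Submodule.Quotient.mk_surjective _ n
      rw [← Submodule.Quotient.mk_smul, ← Submodule.Quotient.mk_smul, ← Submodule.Quotient.mk_smul, smul_assoc]⟩
    exact (Module.flat_iff_of_isLocalization R p.primeCompl _).mp hk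
  rw [h2] at h3
  let e := (localizedQuotientEquiv q.primeCompl (LinearMap.range u)).restrictScalars A
  exact Module.Flat.of_linearEquiv e.symm

/-- Flatness of a cokernel near a closed subscheme of the base. -/
theorem flatAt_coker [Algebra.FinitePresentation A B]
    {M N : Type u} [AddCommGroup M] [Module B M] [Module A M] [IsScalarTower A B M] [Module.FinitePresentation B M]
    [AddCommGroup N] [Module B N] [Module A N] [IsScalarTower A B N] [Module.FinitePresentation B N]
    [Module.Flat A N] (u : M →ₗ[B] N) (A₀ : Type u) [CommRing A₀] [Algebra A A₀]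
    (hinj : Function.Injective ((u.restrictScalars A).lTensor A₀))
    (hflat : Module.Flat A₀ (A₀ ⊗[A] (N ⧸ LinearMap.range u)))
    (q : Ideal B) [q.IsPrime] (p₀ : Ideal A₀) [p₀.IsPrime]
    (h : q.comap (algebraMap A B) = p₀.comap (algebraMap A A₀)) :
    FlatCA.FlatAt A q (N ⧸ LinearMap.range u) := by
  have _ : q.LiesOver (q.under A) := ⟨rfl⟩
  refine flatAt_of_residue_injective u q (q.under A) ?_
  exact residueField_injective (u.restrictScalars A) A₀ hinj hflat _ p₀ h

end Local

end Groth.Agent.Flat2B.GExLoc
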