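import Groth.Agent.Flat2B.GExDefs
import Groth.Agent.Flat2B.GExRees

/-!
# S1270 route E, AL2a: over a Noetherian ring finitely generated homology implies pseudo-coherence
-/

universe u

open MvPolynomial

namespace Groth.Agent.Flat2B.GEx.Noeth

variable {B : Type u} [CommRing B] {τ : Type} {T : FCx B τ}

theorem smul_mem' {T : FCx B τ} {k e w : ℕ} {p : MvPolynomial τ B} {x : T.X k} (hp : p = 0 ∨ p.totalDegree + w ≤ e)
    (hx : x ∈ T.F k w) : p • x ∈ T.F k e := by
  rcases hp with rfl | hp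
  · rw [zero_smul]; exact Submodule.zero_mem _
  · have h1 := T.smul_mem k w (e - w) p x (by omega) hx
    rwa [Nat.add_sub_cancel' (by omega)] at h1

variable (T) in
/-- A stage of the construction of the free resolution. -/
structure St (k : ℕ) where
  J : Type
  [fin : Fintype J]
  w : J → ℕ
  t : J → T.X k
  t_mem : ∀ a, t a ∈ T.F k (w a)
  Cyc : Submodule (MvPolynomial τ B) (J → MvPolynomial τ B)
  cyc : ∀ v ∈ Cyc, T.IsCyc k (∑ a, v a • t a)

attribute [instance] St.fin

/-- `s'` with the matrix `D` is a correct next stage after `s`. -/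
structure Next {k : ℕ} (s : St T k) (s' : St T (k + 1)) (D : s'.J → s.J → MvPolynomial τ B) : Prop where
  deg : ∀ a b, D a b = 0 ∨ (D a b).totalDegree + s.w b ≤ s'.w a
  cyc : ∀ a, D a ∈ s.Cyc
  comm : ∀ a, T.d k (s'.t a) = ∑ b, D a b • s.t b
  cycIff : ∀ v, v ∈ s'.Cyc ↔ ∀ b, ∑ a, v a * D a b = 0
  exact : ∀ e (v : s.J → MvPolynomial τ B) y, (∀ a, v a = 0 ∨ (v a).totalDegree + s.w a ≤ e) → v ∈ s.Cyc →
    y ∈ T.F (k + 1) e → ∑ a, v a • s.t a = T.d k y →
    ∃ v' : s'.J → MvPolynomial τ B, (∀ a, v' a = 0 ∨ (v' a).totalDegree + s'.w a ≤ e) ∧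
      ∃ z ∈ T.F (k + 2) e, (∀ b, ∑ a, v' a * D a b = v b) ∧ ∑ a, v' a • s'.t a + T.d (k + 1) z = y

/-- The submodule family of liftable cycles. -/
def liftable {k : ℕ} (s : St T k) (e : ℕ) : AddSubmonoid (s.J → MvPolynomial τ B) where
  carrier := {v | (∀ a, v a = 0 ∨ (v a).totalDegree + s.w a ≤ e) ∧ v ∈ s.Cyc ∧
    ∃ y ∈ T.F (k + 1) e, ∑ a, v a • s.t a = T.d k y}
  zero_mem' := ⟨fun _ => Or.inl rfl, Submodule.zero_mem _, 0, Submodule.zero_mem _, by simp⟩
  add_mem' := by
    rintro v v' ⟨h1, h2, y, hy, h3⟩ ⟨h1', h2', y', hy', h3'⟩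
    refine ⟨fun a => ?_, Submodule.add_mem _ h2 h2', y + y', Submodule.add_mem _ hy hy', ?_⟩
    · rcases h1 a with h | h
      · rcases h1' a with h' | h'
        · left; rw [Pi.add_apply, h, h', add_zero]
        · right; rw [Pi.add_apply, h, zero_add]; exact h'
      · rcases h1' a with h' | h'
        · right; rw [Pi.add_apply, h', add_zero]; exact h
        · right
          have := totalDegree_add (v a) (v' a)
          rw [Pi.add_apply]
          omega
    · rw [map_add, ← h3, ← h3', ← Finset.sum_add_distrib]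
      exact Finset.sum_congr rfl fun a _ => by rw [Pi.add_apply, add_smul]

theorem smul_mem_liftable {k : ℕ} (s : St T k) (e m : ℕ) (p : MvPolynomial τ B) (v : s.J → MvPolynomial τ B)
    (hp : p.totalDegree ≤ m) (hv : v ∈ liftable s e) : p • v ∈ liftable s (e + m) := by
  obtain ⟨h1, h2, y, hy, h3⟩ := hv
  refine ⟨fun a => ?_, Submodule.smul_mem _ _ h2, p • y, T.smul_mem _ _ _ _ _ hp hy, ?_⟩
  · rcases h1 a with h | h
    · left; rw [Pi.smul_apply, h, smul_zero]
    · right
      rw [Pi.smul_apply, smul_eq_mul]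
      have := totalDegree_mul p (v a)
      omega
  · rw [map_smul, ← h3, Finset.smul_sum]
    exact Finset.sum_congr rfl fun a _ => by rw [Pi.smul_apply, smul_eq_mul, mul_smul]

theorem exists_next [IsNoetherianRing B] [Finite τ] {k : ℕ} (s : St T k) (h : T.HomFG (k + 1)) :
    ∃ (s' : St T (k + 1)) (D : s'.J → s.J → MvPolynomial τ B), Next s s' D := by
  classical
  obtain ⟨m₁, w₁, v₁, hv₁, hgen⟩ := Rees.exists_fg (B := B) (τ := τ) s.w (fun a => Pi.single a (1 : MvPolynomial τ B))
    (liftable s) (smul_mem_liftable s) (fun e v hv => ⟨v, hv.1, by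
      funext b
      simp [Finset.sum_apply, Pi.single_apply]⟩)
  choose hF₁ hC₁ y₁ hy₁ hd₁ using hv₁
  obtain ⟨m₂, w₂, z₂, hz₂, hc₂, hgen₂⟩ := h
  let D : Fin m₁ ⊕ Fin m₂ → s.J → MvPolynomial τ B := Sum.elim v₁ (fun _ => 0)
  let t : Fin m₁ ⊕ Fin m₂ → T.X (k + 1) := Sum.elim y₁ z₂
  have hcomm : ∀ a, T.d k (t a) = ∑ b, D a b • s.t b := by
    rintro (i | j)
    · exact (hd₁ i).symm
    · have h1 : T.d k (z₂ j) = 0 := hc₂ j
      change T.d k (z₂ j) = ∑ b, (0 : MvPolynomial τ B) • s.t b
      rw [h1]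
      simp
  let L : (Fin m₁ ⊕ Fin m₂ → MvPolynomial τ B) →ₗ[MvPolynomial τ B] (s.J → MvPolynomial τ B) :=
    { toFun := fun v b => ∑ a, v a * D a b
      map_add' := fun v w => by funext b; simp only [Pi.add_apply, add_mul, Finset.sum_add_distrib]
      map_smul' := fun p v => by
        funext b
        simp only [Pi.smul_apply, smul_eq_mul, RingHom.id_apply, Finset.mul_sum, mul_assoc] }
  let s' : St T (k + 1) :=
    { J := Fin m₁ ⊕ Fin m₂
      w := Sum.elim w₁ w₂
      t := t
      t_mem := by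
        rintro (i | j)
        · exact hy₁ i
        · exact hz₂ j
      Cyc := LinearMap.ker L
      cyc := by
        intro v hv
        change T.d k _ = 0
        rw [map_sum]
        simp only [map_smul, hcomm, Finset.smul_sum, smul_smul]
        rw [Finset.sum_comm]
        refine Finset.sum_eq_zero fun b _ => ?_
        rw [← Finset.sum_smul]
        have h1 : ∑ a, v a * D a b = 0 := congrFun hv b
        rw [h1, zero_smul] }
  refine ⟨s', D, ?_, ?_, hcomm, ?_, ?_⟩
  · rintro (i | j) b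
    · exact hF₁ i b
    · exact Or.inl rfl
  · rintro (i | j)
    · exact hC₁ i
    · exact Submodule.zero_mem _
  · intro v
    exact funext_iff
  · intro e v y hv hcyc hy hvy
    obtain ⟨p, hp, hp'⟩ := hgen e v ⟨hv, hcyc, y, hy, hvy⟩
    have h1 : y - ∑ i, p i • y₁ i ∈ T.F (k + 1) e :=
      Submodule.sub_mem _ hy (Submodule.sum_mem _ fun i _ => smul_mem' (hp i) (hy₁ i))
    have h2 : T.IsCyc (k + 1) (y - ∑ i, p i • y₁ i) := by
      change T.d k _ = 0
      rw [map_sub, ← hvy, map_sum, hp', sub_eq_zero]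
      simp only [map_smul, ← hd₁, Finset.smul_sum, smul_smul, Finset.sum_apply, Pi.smul_apply, smul_eq_mul,
        Finset.sum_smul]
      rw [Finset.sum_comm]
    obtain ⟨q, hq, z, hz, hz'⟩ := hgen₂ e _ h1 h2
    refine ⟨Sum.elim p q, ?_, z, hz, ?_, ?_⟩
    · rintro (i | j)
      · exact hp i
      · exact hq j
    · intro b
      change ∑ a : Fin m₁ ⊕ Fin m₂, _ = _
      rw [Fintype.sum_sum_type, hp']
      simp [D, Finset.sum_apply]
    · change ∑ a : Fin m₁ ⊕ Fin m₂, _ + _ = _
      rw [Fintype.sum_sum_type]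
      simp only [Sum.elim_inl, Sum.elim_inr, t, s']
      rw [add_assoc, ← hz', add_sub_cancel]

/-- AL2a. Over a Noetherian ring finitely generated homology implies pseudo-coherence. -/
theorem isPC_of_noetherian {B : Type u} [CommRing B] [IsNoetherianRing B] {τ : Type} [Finite τ]
    (T : FCx B τ) (h : ∀ k, T.HomFG k) : T.IsPC := by
  obtain ⟨m, w, z, hz, -, hgen⟩ := h 0
  let s₀ : St T 0 :=
    { J := Fin m
      w := w
      t := z
      t_mem := hz
      Cyc := ⊤
      cyc := fun _ _ => trivial }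
  let s : ∀ k, St T k := fun k => Nat.rec s₀ (fun k s => Classical.choose (exists_next s (h (k + 1)))) k
  have hs : ∀ k, ∃ D, Next (s k) (s (k + 1)) D := fun k => Classical.choose_spec (exists_next (s k) (h (k + 1)))
  choose D hD using hs
  let K : FreeCx B τ :=
    { J := fun k => (s k).J
      fin := fun k => (s k).fin
      w := fun k => (s k).w
      D := D
      D_deg := fun k => (hD k).deg
      D_D := fun k a c => ((hD k).cycIff _).mp ((hD (k + 1)).cyc a) c }
  let φ : FreeCx.Hom K T :=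
    { t := fun k => (s k).t
      t_mem := fun k => (s k).t_mem
      comm := fun k => (hD k).comm }
  have hcyc : ∀ k v, K.IsCyc k v → v ∈ (s k).Cyc := by
    intro k v hv
    cases k with
    | zero => exact Submodule.mem_top
    | succ k => exact ((hD k).cycIff v).mpr fun b => congrFun hv b
  refine ⟨K, φ, ?_, ?_⟩
  · intro e y hy
    obtain ⟨p, hp, x, hx, hxy⟩ := hgen e y hy trivial
    exact ⟨p, hp, x, hx, hxy.symm⟩
  · intro k e v y hv hcv hy hvy
    obtain ⟨v', hv', z, hz, h1, h2⟩ := (hD k).exact e v y hv (hcyc k v hcv) hy hvy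
    exact ⟨v', hv', z, hz, funext h1, h2⟩

end Groth.Agent.Flat2B.GEx.Noeth
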