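import Groth.Agent.Flat2B.GExContr

/-!
# S1270 route E, AL5 (c): from exactness over `C t` to exactness with coefficients
-/

universe u

open MvPolynomial

namespace Groth.Agent.Flat2B.GEx

namespace LData

variable {Λ : Type u} [CommRing Λ] {τ ι : Type} [LinearOrder ι] {C : RDiag Λ (NE ι)}
  (L : LData C τ)

open Classical in
lemma delP_apply {j : ℕ} {s : NE ι} (v : L.G (j + 1) s → MvPolynomial τ (C.C s)) (b : L.G j s) :
    L.delP j s v b = ∑ a : L.G (j + 1) s,
      v a * MvPolynomial.map (C.res a.2).toRingHom (L.δ j a.1 b.1) := by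
  unfold delP
  change (∑ a : L.G (j + 1) s, _) = _
  congr!

open Classical in
lemma matD_matD (j : ℕ) (s : NE ι) (a : L.G (j + 2) s) (c : L.G j s) :
    (∑ b : L.G (j + 1) s, MvPolynomial.map (C.res a.2).toRingHom (L.δ (j + 1) a.1 b.1) *
      MvPolynomial.map (C.res b.2).toRingHom (L.δ j b.1 c.1)) = 0 := by
  let g : ∀ b : L.J (j + 1), MvPolynomial τ (C.C (L.loc (j + 2) a.1)) := fun b =>
    if h : L.loc (j + 1) b ≤ L.loc (j + 2) a.1 then
      MvPolynomial.map (C.res h).toRingHom (L.δ j b c.1) else 0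
  have h0 := congrArg (MvPolynomial.map (C.res a.2).toRingHom) (L.δ_δ j a.1 c.1 g (fun b h => by
    simp only [g, dif_pos h]))
  rw [map_sum, map_zero] at h0
  rw [← h0]
  let h : L.J (j + 1) → MvPolynomial τ (C.C s) := fun b =>
    if hb : L.loc (j + 1) b ≤ s then MvPolynomial.map (C.res a.2).toRingHom (L.δ (j + 1) a.1 b) *
      MvPolynomial.map (C.res hb).toRingHom (L.δ j b c.1) else 0
  have e1 : ∀ b, MvPolynomial.map (C.res a.2).toRingHom (L.δ (j + 1) a.1 b * g b) = h b := by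
    intro b
    by_cases hba : L.loc (j + 1) b ≤ L.loc (j + 2) a.1
    · simp only [g, h, dif_pos hba, dif_pos (hba.trans a.2)]
      rw [map_mul, MvPolynomial.map_map]
      congr 3
      ext x
      exact C.res_res hba a.2 x
    · have h0 : L.δ (j + 1) a.1 b = 0 := by
        by_contra h'
        exact hba (L.δ_loc _ _ _ h')
      simp only [h, h0, map_zero, zero_mul, dite_eq_ite, ite_self]
  rw [Finset.sum_congr rfl fun b _ => e1 b]
  rw [← Finset.sum_subset (Finset.filter_subset (fun b => L.loc (j + 1) b ≤ s) Finset.univ)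
    (fun b _ hb => by
      have hb' : ¬ L.loc (j + 1) b ≤ s := fun h' => hb (by simp [h'])
      simp only [h, dif_neg hb'])]
  rw [Finset.sum_subtype (p := fun b => L.loc (j + 1) b ≤ s) _ (fun b => by simp)]
  exact Finset.sum_congr rfl fun b _ => by simp only [h, dif_pos b.2]

open Classical in
lemma sum_quot {j : ℕ} (s t : NE ι) {M : Type*} [AddCommMonoid M] (F : L.G j t → M)
    (hF : ∀ a, L.loc j a.1 ≤ s → F a = 0) :
    ∑ a, F a = ∑ a : {b : L.G j t // ¬ L.loc j b.1 ≤ s}, F a.1 :=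
  (Fintype.sum_of_injective Subtype.val Subtype.val_injective _ _
    (fun a ha => hF a (by_contra fun h => ha ⟨⟨a, h⟩, rfl⟩)) (fun _ => rfl)).symm

/-- Exactness of the quotient `L (t) / (L (s) ⊗ C t)` in degree `0`, over `C t`. -/
def QEx0 (s t : NE ι) : Prop :=
  ∀ e (v : L.G 0 t → MvPolynomial τ (C.C t)), L.DegP e v →
    ∃ v' : L.G 1 t → MvPolynomial τ (C.C t), L.DegP e v' ∧
      ∀ b, ¬ L.loc 0 b.1 ≤ s → v b = L.delP 0 t v' b

/-- Exactness of the quotient `L (t) / (L (s) ⊗ C t)` in positive degrees, over `C t`. -/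
def QExS (s t : NE ι) : Prop :=
  ∀ j e (v : L.G (j + 1) t → MvPolynomial τ (C.C t)), L.DegP e v →
    (∀ b, ¬ L.loc j b.1 ≤ s → L.delP j t v b = 0) →
    ∃ v' : L.G (j + 2) t → MvPolynomial τ (C.C t), L.DegP e v' ∧
      ∀ b, ¬ L.loc (j + 1) b.1 ≤ s → v b = L.delP (j + 1) t v' b

/-- AL5 (c2). -/
theorem exists_of_qcyc_of_qex {s t : NE ι} (h0 : L.QEx0 s t) (hS : L.QExS s t)
    {E : Type u} [CommRing E] (χ : C.C t →+* E) (N : Type u) [AddCommGroup N] [Module E N]
    (j e : ℕ) (x : L.G j t → PM τ N) (hx : ∀ a, PM.Deg (L.w j a.1) e (x a))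
    (hcyc : L.QCyc s t χ N j x) :
    ∃ y : L.G (j + 1) t → PM τ N, (∀ a, PM.Deg (L.w (j + 1) a.1) e (y a)) ∧
      ∀ b : L.G j t, ¬ L.loc j b.1 ≤ s → x b = L.delX t χ N j y b := by
  classical
  let I : ℕ → Type := fun j => {b : L.G j t // ¬ L.loc j b.1 ≤ s}
  letI : ∀ j, Fintype (I j) := fun j => inferInstanceAs (Fintype {b : L.G j t // ¬ L.loc j b.1 ≤ s})
  let w : ∀ j, I j → ℕ := fun j a => L.w j a.1.1
  let D : ∀ j, I (j + 1) → I j → MvPolynomial τ (C.C t) := fun j a b =>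
    MvPolynomial.map (C.res a.1.2).toRingHom (L.δ j a.1.1 b.1.1)
  have hδ : ∀ j (a : L.G (j + 1) t) (b : I j), L.loc (j + 1) a.1 ≤ s → L.δ j a.1 b.1.1 = 0 := by
    intro j a b ha
    by_contra h
    exact b.2 ((L.δ_loc _ _ _ h).trans ha)
  -- extension by zero of a vector
  let ex : ∀ j, (I j → MvPolynomial τ (C.C t)) → L.G j t → MvPolynomial τ (C.C t) :=
    fun j v a => if h : ¬ L.loc j a.1 ≤ s then v ⟨a, h⟩ else 0
  have hex : ∀ j (v : I j → MvPolynomial τ (C.C t)) (a : I j), ex j v a.1 = v a := fun j v a =>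
    dif_pos a.2
  have hexdeg : ∀ j e (v : I j → MvPolynomial τ (C.C t)), (∀ a, Contr.PDeg (w j a) e (v a)) →
      L.DegP e (ex j v) := by
    intro j e v hv a
    by_cases h : L.loc j a.1 ≤ s
    · left
      exact dif_neg (not_not.2 h)
    · have := hv ⟨a, h⟩
      rw [← hex j v ⟨a, h⟩] at this
      exact this
  have hsum : ∀ j (v : L.G (j + 1) t → MvPolynomial τ (C.C t)) (b : I j),
      L.delP j t v b.1 = ∑ a : I (j + 1), v a.1 * D j a b := by
    intro j v b
    rw [delP_apply]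
    exact L.sum_quot s t _ fun a ha => by rw [hδ j a b ha, map_zero, mul_zero]
  have hsumX : ∀ j (v : L.G (j + 1) t → PM τ N) (b : I j),
      L.delX t χ N j v b.1 = ∑ a : I (j + 1), MvPolynomial.map χ (D j a b) • v a.1 := by
    intro j v b
    rw [delX_apply]
    refine (L.sum_quot s t _ fun a ha => by rw [hδ j a b ha, map_zero, zero_smul]).trans
      (Finset.sum_congr rfl fun a _ => ?_)
    simp only [D, MvPolynomial.map_map]
  have H0 : ∀ e (v : I 0 → MvPolynomial τ (C.C t)), (∀ a, Contr.PDeg (w 0 a) e (v a)) →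
      ∃ v' : I 1 → MvPolynomial τ (C.C t), (∀ a, Contr.PDeg (w 1 a) e (v' a)) ∧
        ∀ b, v b = ∑ a, v' a * D 0 a b := by
    intro e v hv
    obtain ⟨v', h1, h2⟩ := h0 e (ex 0 v) (hexdeg 0 e v hv)
    refine ⟨fun a => v' a.1, fun a => h1 a.1, fun b => ?_⟩
    rw [← hex 0 v b, h2 b.1 b.2, hsum]
  have HS : ∀ j e (v : I (j + 1) → MvPolynomial τ (C.C t)),
      (∀ a, Contr.PDeg (w (j + 1) a) e (v a)) → (∀ b, ∑ a, v a * D j a b = 0) →
      ∃ v' : I (j + 2) → MvPolynomial τ (C.C t), (∀ a, Contr.PDeg (w (j + 2) a) e (v' a)) ∧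
        ∀ b, v b = ∑ a, v' a * D (j + 1) a b := by
    intro j e v hv hc
    obtain ⟨v', h1, h2⟩ := hS j e (ex (j + 1) v) (hexdeg (j + 1) e v hv) (fun b hb => by
      rw [hsum j _ ⟨b, hb⟩]
      simp only [hex]
      exact hc ⟨b, hb⟩)
    refine ⟨fun a => v' a.1, fun a => h1 a.1, fun b => ?_⟩
    rw [← hex (j + 1) v b, h2 b.1 b.2, hsum]
  have hDD : ∀ j a c, ∑ b, D (j + 1) a b * D j b c = 0 := by
    intro j a c
    rw [← L.matD_matD j t a.1 c.1]
    refine (L.sum_quot s t (fun b : L.G (j + 1) t =>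
      MvPolynomial.map (C.res a.1.2).toRingHom (L.δ (j + 1) a.1.1 b.1) *
        MvPolynomial.map (C.res b.2).toRingHom (L.δ j b.1 c.1.1)) fun b hb => ?_).symm
    rw [hδ j b c hb, map_zero, mul_zero]
  have hdeg : ∀ j a b, Contr.PDeg (w j b) (w (j + 1) a) (D j a b) := fun j a b =>
    Contr.PDeg.map (L.δ_deg j a.1.1 b.1.1) _
  -- conclusion
  have concl : (∃ y : I (j + 1) → PM τ N, (∀ a, PM.Deg (w (j + 1) a) e (y a)) ∧
      ∀ b : I j, x b.1 = ∑ a, MvPolynomial.map χ (D j a b) • y a) →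
      ∃ y : L.G (j + 1) t → PM τ N, (∀ a, PM.Deg (L.w (j + 1) a.1) e (y a)) ∧
        ∀ b : L.G j t, ¬ L.loc j b.1 ≤ s → x b = L.delX t χ N j y b := by
    rintro ⟨y, hy, hy'⟩
    refine ⟨fun a => if h : ¬ L.loc (j + 1) a.1 ≤ s then y ⟨a, h⟩ else 0, fun a => ?_,
      fun b hb => ?_⟩
    · by_cases h : L.loc (j + 1) a.1 ≤ s
      · intro μ hμ
        beta_reduce at hμ
        rw [dif_neg (not_not.2 h)] at hμ
        exact absurd (PM.coeff_zero μ) hμ
      · beta_reduce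
        rw [dif_pos h]
        exact hy ⟨a, h⟩
    · rw [hsumX j _ ⟨b, hb⟩, hy' ⟨b, hb⟩]
      refine Finset.sum_congr rfl fun a _ => ?_
      rw [dif_pos a.2]
  refine concl ?_
  cases j with
  | zero => exact Contr.exact_zero w D χ H0 e (fun a => x a.1) fun a => hx a.1
  | succ j =>
    refine Contr.exact_succ w D χ hdeg hDD H0 HS j e (fun a => x a.1) (fun a => hx a.1) fun b => ?_
    rw [← hsumX]
    exact hcyc b.1 b.2

end LData

end Groth.Agent.Flat2B.GEx
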