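import Groth.Agent.Flat2B.GExDefs
import Groth.Agent.Flat2B.GExRees
import Groth.Agent.Flat2B.GExBCMap
import Mathlib.Algebra.DirectSum.Module

/-!
# S1270 route E, AL5 (a): homology of the Rees complex of a filtered complex

For `T : FCx S τ` the Rees homology `T.HR j = ⊕ e, H_j (F e)` is a module over `S[y_τ, y₀]`.
-/

set_option autoImplicit false
set_option linter.style.haveILetI false
universe u

open Polynomial MvPolynomial

namespace Groth.Agent.Flat2B.GEx

open Rees

section Ring

variable {S S' : Type u} [CommRing S] [CommRing S'] {τ : Type}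

variable (S τ) in
/-- The map `S[y_τ, y₀] → S[y_τ][t]`, `y_j ↦ y_j t`, `y₀ ↦ t`. -/
noncomputable def θ : MvPolynomial (Option τ) S →ₐ[S] (MvPolynomial τ S)[X] :=
  MvPolynomial.aeval fun o => o.elim Polynomial.X fun j => Polynomial.C (MvPolynomial.X j) * Polynomial.X

theorem θ_mem (p : MvPolynomial (Option τ) S) : θ S τ p ∈ R S τ := by
  induction p using MvPolynomial.induction_on with
  | C a =>
    rw [← MvPolynomial.algebraMap_eq, AlgHom.commutes]
    exact Subalgebra.algebraMap_mem _ _
  | add p q hp hq => rw [map_add]; exact Subalgebra.add_mem _ hp hq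
  | mul_X p o hp =>
    rw [map_mul]
    refine Subalgebra.mul_mem _ hp ?_
    rw [θ, MvPolynomial.aeval_X]
    cases o with
    | none =>
      change Polynomial.X ∈ R S τ
      intro m
      rw [Polynomial.coeff_X]
      split_ifs <;> simp
    | some j =>
      change Polynomial.C (MvPolynomial.X j) * Polynomial.X ∈ R S τ
      rw [← Polynomial.monomial_one_one_eq_X, Polynomial.C_mul_monomial, mul_one]
      exact monomial_mem (totalDegree_X_le j)

theorem exists_θ_eq {f : (MvPolynomial τ S)[X]} (hf : f ∈ R S τ) : ∃ p, θ S τ p = f := by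
  have hX : (Polynomial.X : (MvPolynomial τ S)[X]) ∈ (θ S τ).range :=
    ⟨MvPolynomial.X none, by
      change θ S τ (MvPolynomial.X none) = _
      rw [θ, MvPolynomial.aeval_X]; rfl⟩
  have hXj : ∀ j : τ, (Polynomial.C (MvPolynomial.X j) * Polynomial.X : (MvPolynomial τ S)[X]) ∈
      (θ S τ).range := fun j => ⟨MvPolynomial.X (some j), by
      change θ S τ (MvPolynomial.X (some j)) = _
      rw [θ, MvPolynomial.aeval_X]; rfl⟩
  have h : f ∈ (θ S τ).range := by
    rw [f.as_sum_support]
    refine Subalgebra.sum_mem _ fun m _ => ?_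
    rw [(f.coeff m).as_sum, map_sum]
    refine Subalgebra.sum_mem _ fun t ht => ?_
    have ht1 : t.sum (fun _ e => e) ≤ m := (le_totalDegree ht).trans (hf m)
    have h1 : Polynomial.monomial m (MvPolynomial.monomial t ((f.coeff m).coeff t)) =
        algebraMap S (MvPolynomial τ S)[X] ((f.coeff m).coeff t) *
          ((t.prod fun j e => (Polynomial.C (MvPolynomial.X j) * Polynomial.X) ^ e) *
            Polynomial.X ^ (m - t.sum (fun _ e => e))) := by
      have h2 : (t.prod fun j e => (Polynomial.C (MvPolynomial.X j) * Polynomial.X) ^ e) =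
          Polynomial.C (t.prod fun j e => (MvPolynomial.X j : MvPolynomial τ S) ^ e) *
            Polynomial.X ^ (t.sum (fun _ e => e)) := by
        simp only [mul_pow, Finsupp.prod, Finset.prod_mul_distrib, Finset.prod_pow_eq_pow_sum, map_prod, map_pow,
          Finsupp.sum]
      rw [h2, mul_assoc, ← pow_add, Nat.add_sub_cancel' ht1]
      rw [MvPolynomial.monomial_eq, ← Polynomial.C_mul_X_pow_eq_monomial, map_mul, mul_assoc]
      rfl
    rw [h1]
    refine Subalgebra.mul_mem _ (Subalgebra.algebraMap_mem _ _) (Subalgebra.mul_mem _ ?_ (Subalgebra.pow_mem _ hX _))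
    exact Subalgebra.prod_mem _ fun j _ => Subalgebra.pow_mem _ (hXj j) _
  exact h

theorem θ_map (φ : S →+* S') (p : MvPolynomial (Option τ) S) :
    θ S' τ (MvPolynomial.map φ p) = Polynomial.map (MvPolynomial.map φ) (θ S τ p) := by
  induction p using MvPolynomial.induction_on with
  | C a =>
    rw [MvPolynomial.map_C, ← MvPolynomial.algebraMap_eq, ← MvPolynomial.algebraMap_eq, AlgHom.commutes,
      AlgHom.commutes]
    change Polynomial.C (MvPolynomial.C (φ a)) = Polynomial.map _ (Polynomial.C (MvPolynomial.C a))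
    rw [Polynomial.map_C, MvPolynomial.map_C]
  | add p q hp hq => rw [map_add, map_add, map_add, Polynomial.map_add, hp, hq]
  | mul_X p o hp =>
    rw [map_mul, map_mul, map_mul, Polynomial.map_mul, hp, MvPolynomial.map_X]
    congr 1
    rw [θ, MvPolynomial.aeval_X, θ, MvPolynomial.aeval_X]
    cases o with
    | none =>
      change Polynomial.X = Polynomial.map _ Polynomial.X
      rw [Polynomial.map_X]
    | some j =>
      change Polynomial.C (MvPolynomial.X j) * Polynomial.X =
        Polynomial.map _ (Polynomial.C (MvPolynomial.X j) * Polynomial.X)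
      rw [Polynomial.map_mul, Polynomial.map_X, Polynomial.map_C, MvPolynomial.map_X]

end Ring

namespace FCx

variable {S : Type u} [CommRing S] {τ : Type} (T : FCx S τ)

/-- `X_j [t]`. -/
def RX (j : ℕ) : Type u := PolynomialModule (MvPolynomial τ S) (T.X j)

noncomputable instance (j : ℕ) : AddCommGroup (T.RX j) :=
  inferInstanceAs (AddCommGroup (PolynomialModule (MvPolynomial τ S) (T.X j)))

noncomputable instance (j : ℕ) : Module S (T.RX j) :=
  inferInstanceAs (Module S (PolynomialModule (MvPolynomial τ S) (T.X j)))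

/-- The underlying polynomial. -/
def RX.pm {T : FCx S τ} {j : ℕ} (g : T.RX j) : PolynomialModule (MvPolynomial τ S) (T.X j) := g

noncomputable instance (j : ℕ) : Module (MvPolynomial (Option τ) S) (T.RX j) :=
  Module.compHom (PolynomialModule (MvPolynomial τ S) (T.X j)) (θ S τ).toRingHom

instance (j : ℕ) : IsScalarTower S (MvPolynomial (Option τ) S) (T.RX j) := ⟨fun a p g => by
  change (θ S τ (a • p)) • g.pm = a • (θ S τ p • g.pm)
  rw [map_smul, smul_assoc]⟩

namespace RX

variable {T} {j : ℕ}

/-- Coefficients. -/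
def cf (g : T.RX j) (e : ℕ) : T.X j := g.pm.coeff e

@[ext] lemma ext {g h : T.RX j} (H : ∀ e, g.cf e = h.cf e) : g = h :=
  PolynomialModule.coeff_injective (Finsupp.ext H)

@[simp] lemma cf_zero (e : ℕ) : (0 : T.RX j).cf e = 0 := rfl
@[simp] lemma cf_add (g h : T.RX j) (e : ℕ) : (g + h).cf e = g.cf e + h.cf e := rfl
@[simp] lemma cf_neg (g : T.RX j) (e : ℕ) : (-g).cf e = - g.cf e := rfl
@[simp] lemma cf_sub (g h : T.RX j) (e : ℕ) : (g - h).cf e = g.cf e - h.cf e := rfl
@[simp] lemma cf_smulS (a : S) (g : T.RX j) (e : ℕ) : (a • g).cf e = a • g.cf e := rfl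

lemma smul_def (p : MvPolynomial (Option τ) S) (g : T.RX j) : (p • g).pm = θ S τ p • g.pm := rfl

lemma cf_smul (p : MvPolynomial (Option τ) S) (g : T.RX j) (e : ℕ) :
    (p • g).cf e = ∑ b ∈ g.pm.coeff.support, if b ≤ e then (θ S τ p).coeff (e - b) • g.cf b else 0 :=
  component_eq _ _ _

variable (T j) in
/-- `x t^e`. -/
noncomputable def single (e : ℕ) (x : T.X j) : T.RX j :=
  PolynomialModule.single (MvPolynomial τ S) e x

lemma cf_single (e e' : ℕ) (x : T.X j) : (single T j e x).cf e' = if e = e' then x else 0 :=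
  Finsupp.single_apply

@[simp] lemma cf_single_self (e : ℕ) (x : T.X j) : (single T j e x).cf e = x :=
  Finsupp.single_eq_same

end RX

/-- The cycles as a submodule. -/
noncomputable def cyc : ∀ j : ℕ, Submodule (MvPolynomial τ S) (T.X j)
  | 0 => ⊤
  | j + 1 => LinearMap.ker (T.d j)

lemma mem_cyc {j : ℕ} {x : T.X j} : x ∈ T.cyc j ↔ T.IsCyc j x := by
  cases j with
  | zero => exact ⟨fun _ => trivial, fun _ => trivial⟩
  | succ j => exact Iff.rfl

/-- Rees cycles. -/
noncomputable def ZR (j : ℕ) : Submodule (MvPolynomial (Option τ) S) (T.RX j) where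
  carrier := {g | ∀ e, g.cf e ∈ T.F j e ∧ g.cf e ∈ T.cyc j}
  add_mem' {g h} hg hh e := ⟨add_mem (hg e).1 (hh e).1, add_mem (hg e).2 (hh e).2⟩
  zero_mem' e := ⟨zero_mem _, zero_mem _⟩
  smul_mem' p g hg e := by
    rw [RX.cf_smul]
    constructor
    · refine Submodule.sum_mem _ fun b _ => ?_
      split_ifs with h
      · have := T.smul_mem j b (e - b) _ _ (θ_mem p (e - b)) (hg b).1
        rwa [Nat.add_sub_cancel' h] at this
      · exact zero_mem _
    · refine Submodule.sum_mem _ fun b _ => ?_
      split_ifs with h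
      · exact Submodule.smul_mem _ _ (hg b).2
      · exact zero_mem _

/-- Rees boundaries. -/
noncomputable def BR (j : ℕ) : Submodule (MvPolynomial (Option τ) S) (T.RX j) where
  carrier := {g | ∀ e, ∃ u ∈ T.F (j + 1) e, T.d j u = g.cf e}
  add_mem' {g h} hg hh e := by
    obtain ⟨u, hu, hu'⟩ := hg e
    obtain ⟨v, hv, hv'⟩ := hh e
    exact ⟨u + v, add_mem hu hv, by rw [map_add, hu', hv', RX.cf_add]⟩
  zero_mem' e := ⟨0, zero_mem _, map_zero _⟩
  smul_mem' p g hg e := by
    classical
    choose u hu hu' using hg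
    refine ⟨∑ b ∈ g.pm.coeff.support, if b ≤ e then (θ S τ p).coeff (e - b) • u b else 0, ?_, ?_⟩
    · refine Submodule.sum_mem _ fun b _ => ?_
      split_ifs with h
      · have := T.smul_mem (j + 1) b (e - b) _ _ (θ_mem p (e - b)) (hu b)
        rwa [Nat.add_sub_cancel' h] at this
      · exact zero_mem _
    · rw [RX.cf_smul, map_sum]
      refine Finset.sum_congr rfl fun b _ => ?_
      split_ifs with h
      · rw [map_smul, hu']
      · exact map_zero _

/-- The homology of the Rees complex. -/
def HR (j : ℕ) : Type u := T.ZR j ⧸ (T.BR j).submoduleOf (T.ZR j)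

noncomputable instance (j : ℕ) : AddCommGroup (T.HR j) :=
  inferInstanceAs (AddCommGroup (T.ZR j ⧸ (T.BR j).submoduleOf (T.ZR j)))

noncomputable instance (j : ℕ) : Module (MvPolynomial (Option τ) S) (T.HR j) :=
  inferInstanceAs (Module (MvPolynomial (Option τ) S) (T.ZR j ⧸ (T.BR j).submoduleOf (T.ZR j)))

noncomputable instance (j : ℕ) : Module S (T.HR j) :=
  inferInstanceAs (Module S (T.ZR j ⧸ (T.BR j).submoduleOf (T.ZR j)))

instance (j : ℕ) : IsScalarTower S (MvPolynomial (Option τ) S) (T.HR j) :=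
  inferInstanceAs (IsScalarTower S (MvPolynomial (Option τ) S)
    (T.ZR j ⧸ (T.BR j).submoduleOf (T.ZR j)))

/-- The class of a Rees cycle. -/
noncomputable def hm (j : ℕ) : T.ZR j →ₗ[MvPolynomial (Option τ) S] T.HR j :=
  Submodule.mkQ _

variable {T}

lemma hm_surjective (j : ℕ) : Function.Surjective (T.hm j) := Submodule.mkQ_surjective _

lemma hm_eq_zero {j : ℕ} {g : T.ZR j} :
    T.hm j g = 0 ↔ ∀ e, ∃ u ∈ T.F (j + 1) e, T.d j u = g.1.cf e :=
  (Submodule.Quotient.mk_eq_zero _).trans Iff.rfl

lemma single_mem_ZR {j e : ℕ} {x : T.X j} (hx : x ∈ T.F j e) (hc : T.IsCyc j x) :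
    RX.single T j e x ∈ T.ZR j := by
  intro e'
  rw [RX.cf_single]
  split_ifs with h
  · subst h
    exact ⟨hx, T.mem_cyc.2 hc⟩
  · exact ⟨zero_mem _, zero_mem _⟩

/-! ### Finiteness -/

/-- The Rees module of a submodule family, over `S[y, y₀]`. -/
theorem fg_of_fg_rees {j : ℕ} (N : ℕ → AddSubmonoid (T.X j))
    (hN : ∀ e m (p : MvPolynomial τ S) x, p.totalDegree ≤ m → x ∈ N e → p • x ∈ N (e + m))
    (hfg : (rees N hN).FG) (Z : Submodule (MvPolynomial (Option τ) S) (T.RX j))
    (hZ : ∀ g : T.RX j, g ∈ Z ↔ ∀ e, g.cf e ∈ N e) : Z.FG := by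
  classical
  obtain ⟨s, hs⟩ := hfg
  refine ⟨s, le_antisymm ?_ ?_⟩
  · rw [Submodule.span_le]
    intro g hg
    have : g ∈ rees N hN := by rw [← hs]; exact Submodule.subset_span hg
    exact (hZ _).2 this
  · intro g hg
    have h1 : g ∈ rees N hN := (hZ g).1 hg
    rw [← hs] at h1
    clear hg
    induction h1 using Submodule.span_induction with
    | mem x hx => exact Submodule.subset_span hx
    | zero => exact zero_mem _
    | add x y hx hy ihx ihy => exact add_mem ihx ihy
    | smul a x hx ih =>
      obtain ⟨p, hp⟩ := exists_θ_eq a.2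
      have h2 : (p • (show T.RX j from x)).pm = (a : (MvPolynomial τ S)[X]) •
          (show PolynomialModule (MvPolynomial τ S) (T.X j) from x) := by
        rw [RX.smul_def, hp]
        rfl
      have h3 := Submodule.smul_mem _ p ih
      have h4 : (p • (show T.RX j from x)) = (show T.RX j from ((a : (MvPolynomial τ S)[X]) •
          (show PolynomialModule (MvPolynomial τ S) (T.X j) from x))) := h2
      convert h3 using 1
      exact h4.symm

/-- The Rees homology is finite if `T` is a complex of finitely generated filtered modules over a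
Noetherian ring. -/
theorem finite_HR [Finite τ] [IsNoetherianRing S] (j : ℕ) {κ : Type} [Fintype κ] (w : κ → ℕ)
    (z : κ → T.X j) (hF : ∀ e, ∀ x ∈ T.F j e, ∃ p : κ → MvPolynomial τ S,
      (∀ i, p i = 0 ∨ (p i).totalDegree + w i ≤ e) ∧ x = ∑ i, p i • z i) :
    Module.Finite (MvPolynomial (Option τ) S) (T.HR j) := by
  have hN : ∀ e m (p : MvPolynomial τ S) (x : T.X j), p.totalDegree ≤ m →
      x ∈ (T.F j e).toAddSubmonoid ⊓ (T.cyc j).toAddSubmonoid →
      p • x ∈ (T.F j (e + m)).toAddSubmonoid ⊓ (T.cyc j).toAddSubmonoid :=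
    fun e m p x hp hx => ⟨T.smul_mem j e m p x hp hx.1, (T.cyc j).smul_mem p hx.2⟩
  have h1 := fg_rees w z (fun e => (T.F j e).toAddSubmonoid ⊓ (T.cyc j).toAddSubmonoid) hN
    (fun e x hx => hF e x hx.1)
  have h2 : (T.ZR j).FG := fg_of_fg_rees _ hN h1 (T.ZR j) fun g => Iff.rfl
  have h3 : Module.Finite (MvPolynomial (Option τ) S) (T.ZR j) := Module.Finite.iff_fg.2 h2
  exact Module.Finite.of_surjective (T.hm j) (hm_surjective j)

/-! ### Functoriality -/

section Map

variable {S' S'' : Type u} [CommRing S'] [CommRing S''] {φ : S →+* S'} {T' : FCx S' τ}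

lemma Map.cyc (r : Map φ T T') {j : ℕ} {x : T.X j} (hx : x ∈ T.cyc j) : r.f j x ∈ T'.cyc j := by
  cases j with
  | zero => trivial
  | succ j =>
    change T'.d j (r.f (j + 1) x) = 0
    rw [← r.f_d, show T.d j x = 0 from hx, map_zero]

/-- The map on polynomials. -/
noncomputable def Map.rx (r : Map φ T T') (j : ℕ) : T.RX j →+ T'.RX j where
  toFun g := PolynomialModule.ofCoeff _ (g.pm.coeff.mapRange (r.f j) (map_zero _))
  map_zero' := RX.ext fun e => by
    change r.f j 0 = 0
    exact map_zero _
  map_add' g h := RX.ext fun e => by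
    change r.f j (g.cf e + h.cf e) = _
    exact map_add _ _ _

@[simp] lemma Map.cf_rx (r : Map φ T T') {j : ℕ} (g : T.RX j) (e : ℕ) :
    (r.rx j g).cf e = r.f j (g.cf e) := rfl

lemma Map.rx_smul (r : Map φ T T') {j : ℕ} (p : MvPolynomial (Option τ) S) (g : T.RX j) :
    r.rx j (p • g) = MvPolynomial.map φ p • r.rx j g := by
  have key : ∀ (f : (MvPolynomial τ S)[X]) (g : PolynomialModule (MvPolynomial τ S) (T.X j)),
      (r.rx j (show T.RX j from f • g)).pm =
        Polynomial.map (MvPolynomial.map φ) f • (r.rx j (show T.RX j from g)).pm := by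
    intro f g
    induction f using Polynomial.induction_on' with
    | add f₁ f₂ h₁ h₂ =>
      rw [add_smul, Polynomial.map_add, add_smul, ← h₁, ← h₂]
      exact congrArg RX.pm (map_add (r.rx j) (show T.RX j from f₁ • g) (show T.RX j from f₂ • g))
    | monomial i a =>
      induction g using PolynomialModule.induction_linear with
      | zero =>
        rw [smul_zero]
        have h0 : r.rx j (show T.RX j from (0 : PolynomialModule (MvPolynomial τ S) (T.X j))) = 0 :=
          map_zero (r.rx j)
        rw [h0, show RX.pm (0 : T'.RX j) = (0 : PolynomialModule (MvPolynomial τ S') (T'.X j)) from rfl,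
          smul_zero]
      | add g₁ g₂ h₁ h₂ =>
        rw [smul_add]
        refine (congrArg RX.pm (map_add (r.rx j) (show T.RX j from Polynomial.monomial i a • g₁)
          (show T.RX j from Polynomial.monomial i a • g₂))).trans ?_
        refine (congrArg₂ (· + ·) h₁ h₂).trans ?_
        rw [← smul_add]
        exact congrArg _ (congrArg RX.pm (map_add (r.rx j) (show T.RX j from g₁)
          (show T.RX j from g₂))).symm
      | single n m =>
        rw [PolynomialModule.monomial_smul_single, Polynomial.map_monomial]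
        have h1 : ∀ k (x : T.X j), (r.rx j (show T.RX j from
            PolynomialModule.single (MvPolynomial τ S) k x)).pm =
            PolynomialModule.single (MvPolynomial τ S') k (r.f j x) := by
          intro k x
          apply PolynomialModule.coeff_injective
          exact Finsupp.mapRange_single (hf := map_zero (r.f j))
        rw [h1, h1, PolynomialModule.monomial_smul_single, r.f_smul]
  have := key (θ S τ p) g.pm
  rw [← θ_map] at this
  exact this

lemma Map.rx_mem_ZR (r : Map φ T T') {j : ℕ} {g : T.RX j} (hg : g ∈ T.ZR j) :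
    r.rx j g ∈ T'.ZR j := fun e => ⟨r.f_mem j e _ (hg e).1, r.cyc (hg e).2⟩

lemma Map.rx_mem_BR (r : Map φ T T') {j : ℕ} {g : T.RX j} (hg : g ∈ T.BR j) :
    r.rx j g ∈ T'.BR j := by
  intro e
  obtain ⟨u, hu, hu'⟩ := hg e
  exact ⟨r.f (j + 1) u, r.f_mem _ _ _ hu, by rw [← r.f_d, hu', Map.cf_rx]⟩

/-- The map on cycles. -/
noncomputable def Map.zr (r : Map φ T T') (j : ℕ) :
    T.ZR j →ₛₗ[MvPolynomial.map (σ := Option τ) φ] T'.ZR j where
  toFun g := ⟨r.rx j g.1, r.rx_mem_ZR g.2⟩
  map_add' g h := Subtype.ext (map_add (r.rx j) g.1 h.1)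
  map_smul' p g := Subtype.ext (r.rx_smul p g.1)

/-- The map on homology. -/
noncomputable def Map.hr (r : Map φ T T') (j : ℕ) :
    T.HR j →ₛₗ[MvPolynomial.map (σ := Option τ) φ] T'.HR j :=
  Submodule.mapQ _ _ (r.zr j) fun _ hg => r.rx_mem_BR hg

@[simp] lemma Map.hr_hm (r : Map φ T T') {j : ℕ} (g : T.ZR j) :
    r.hr j (T.hm j g) = T'.hm j (r.zr j g) := rfl

end Map

end FCx

end Groth.Agent.Flat2B.GEx
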