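import Groth.Agent.Flat2B.GExCech
import Groth.Agent.Flat2B.GExGlob
import Groth.Agent.CohqA.PullbackSections

/-!
# S1270, route E, scheme side SC1: diagrams of rings and modules of a scheme

For `f : X ⟶ Spec S` and a decreasing family `W : P → X.Opens`: `ringD f W hW : RDiag S P`,
`s ↦ Γ(X, W s)`, and for `F : X.Modules`: `modD f W hW F : MDiag (ringD f W hW)`, `s ↦ Γ(F, W s)`.
Functoriality: `ringHom`, `modHom`.
-/

set_option autoImplicit false
universe u

open CategoryTheory CategoryTheory.Limits AlgebraicGeometry Opposite TopologicalSpace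

namespace Groth.Agent.Flat2B.GExSC1

open GEx GExGlob CohqA.PullbackAffine CohqA.PullbackUniv CohqA.BaseChangeMod

section Defs

variable {S : Type u} [CommRing S] {X : Scheme.{u}} (f : X ⟶ Spec (CommRingCat.of S))
  {P : Type} [Preorder P] (W : P → X.Opens) (hW : ∀ s t : P, s ≤ t → W t ≤ W s)

theorem res_aMap {U V : X.Opens} (h : V ≤ U) (a : S) :
    (X.presheaf.map (homOfLE h).op).hom (aMap f U a) = aMap f V a := by
  have h1 := Scheme.Hom.appLE_map f (U := ⊤) (V := U) le_top (homOfLE h).op
  exact congr($(h1).hom ((Scheme.ΓSpecIso (CommRingCat.of S)).inv.hom a))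

/-- The diagram of rings `s ↦ Γ(X, W s)`. -/
noncomputable def ringD : RDiag S P where
  C s := Γ(X, W s)
  alg s := aAlgebra f (W s)
  res {s t} h :=
    letI := aAlgebra f (W s)
    letI := aAlgebra f (W t)
    { (X.presheaf.map (homOfLE (hW s t h)).op).hom with
      commutes' := fun a => res_aMap f (hW s t h) a }
  res_self s h x := by
    change (X.presheaf.map (homOfLE (hW s s h)).op).hom x = x
    have h1 : X.presheaf.map (homOfLE (hW s s h)).op = 𝟙 _ := X.presheaf.map_id _
    exact congr($(h1).hom x)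
  res_res {s t t'} h h' x := by
    have h1 : X.presheaf.map (homOfLE (hW s t h)).op ≫ X.presheaf.map (homOfLE (hW t t' h')).op =
      X.presheaf.map (homOfLE (hW s t' (h.trans h'))).op := (X.presheaf.map_comp _ _).symm
    exact congr($(h1).hom x)

/-- The diagram of modules `s ↦ Γ(F, W s)`. -/
noncomputable def modD (F : X.Modules) : MDiag (ringD f W hW) where
  M s := Γ(F, W s)
  mod s := inferInstanceAs (Module Γ(X, W s) Γ(F, W s))
  modS s := aModule f F (W s)
  tower s := by exact isScalarTower_a f F (W s)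
  res {s t} h := (F.presheaf.map (homOfLE (hW s t h)).op).hom
  res_smul {s t} h c m := Scheme.Modules.map_smul F (homOfLE (hW s t h)) c m
  res_self s h x := by
    change (F.presheaf.map (homOfLE (hW s s h)).op).hom x = x
    have h1 : F.presheaf.map (homOfLE (hW s s h)).op = 𝟙 _ := F.presheaf.map_id _
    exact congr($(h1).hom x)
  res_res {s t t'} h h' x := by
    have h1 : F.presheaf.map (homOfLE (hW s t h)).op ≫ F.presheaf.map (homOfLE (hW t t' h')).op =
      F.presheaf.map (homOfLE (hW s t' (h.trans h'))).op := (F.presheaf.map_comp _ _).symm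
    exact congr($(h1).hom x)

end Defs

/-! ### Morphisms -/

section Hom

variable {S S' : Type u} [CommRing S] [CommRing S'] {X X' : Scheme.{u}}
  {f : X ⟶ Spec (CommRingCat.of S)} {f' : X' ⟶ Spec (CommRingCat.of S')} {ψ : S →+* S'}
  {P : Type} [Preorder P] {W : P → X.Opens} {hW : ∀ s t : P, s ≤ t → W t ≤ W s}
  {W' : P → X'.Opens} {hW' : ∀ s t : P, s ≤ t → W' t ≤ W' s}

/-- The morphism of diagrams of rings attached to a morphism of schemes. -/
noncomputable def ringHom (h : X' ⟶ X) (hh : h ≫ f = f' ≫ Spec.map (CommRingCat.ofHom ψ))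
    (e : ∀ s, W' s ≤ h ⁻¹ᵁ W s) : RDiag.Hom ψ (ringD f W hW) (ringD f' W' hW') where
  f s := (h.appLE (W s) (W' s) (e s)).hom
  f_alg s a := by
    refine (appLE_aMap h (W s) (W' s) (e s) a).trans ?_
    rw [hh]
    exact aMap_comp_specMap f' ψ (W' s) a
  f_res {s t} hst x := by
    have h1 := Scheme.Hom.map_appLE h (U := W t) (V := W' t) (U' := W s) (e t)
      (homOfLE (hW s t hst)).op
    have h2 := Scheme.Hom.appLE_map h (U := W s) (V := W' s) (e s) (homOfLE (hW' s t hst)).op
    exact congr($(h1.trans h2.symm).hom x)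

/-- The morphism of diagrams of modules attached to `F ⟶ h_* F'`. -/
noncomputable def modHom (h : X' ⟶ X) (hh : h ≫ f = f' ≫ Spec.map (CommRingCat.ofHom ψ))
    (e : ∀ s, W' s ≤ h ⁻¹ᵁ W s) {F : X.Modules} {F' : X'.Modules}
    (a : F ⟶ (Scheme.Modules.pushforward h).obj F') :
    MDiag.Hom (ringHom (hW := hW) (hW' := hW') h hh e) (modD f W hW F) (modD f' W' hW' F') where
  f s := (secMap h a (W s) (W' s) (e s)).hom
  f_smul s c m := secMap_smul h a (W s) (W' s) (e s) c m
  f_res {s t} hst x := by
    have h1 := CohqA.PullbackSections.app_map a (hW s t hst) x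
    change F'.presheaf.map (homOfLE (e t)).op (a.app (W t) (F.presheaf.map (homOfLE (hW s t hst)).op x)) =
      F'.presheaf.map (homOfLE (hW' s t hst)).op (F'.presheaf.map (homOfLE (e s)).op (a.app (W s) x))
    rw [CohqA.PullbackSections.map_map']
    refine (congrArg (fun z => F'.presheaf.map (homOfLE (e t)).op z) h1).trans ?_
    exact CohqA.PullbackSections.map_map' F' (e t) (Scheme.Hom.preimage_mono h (hW s t hst)) (a.app (W s) x)

end Hom

/-! ### Good families of affine opens -/

section Cov

variable {ι : Type} [LinearOrder ι]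

/-- Formal properties of the family `s ↦ U_s` of intersections of affine opens. -/
structure IsCov {X : Scheme.{u}} (W : NE ι → X.Opens) : Prop where
  anti : ∀ s t, s ≤ t → W t ≤ W s
  aff : ∀ s, IsAffineOpen (W s)
  ins : ∀ (i : ι) (s t : NE ι), s ≤ t → W (ins i t) = W t ⊓ W (ins i s)
  sg : ∀ (i : ι) (s : NE ι), W (GEx.ins i s) = W s ⊓ W (GEx.sg i)

/-- `U_s`, the intersection of the `U i`, `i ∈ s`. -/
def inter {X : Scheme.{u}} (U : ι → X.Opens) (s : NE ι) : X.Opens := s.1.inf U

@[simp] lemma inter_sg {X : Scheme.{u}} (U : ι → X.Opens) (i : ι) : inter U (sg i) = U i :=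
  Finset.inf_singleton

lemma isAffineOpen_inf {X : Scheme.{u}} [X.IsSeparated] {U V : X.Opens} (hU : IsAffineOpen U)
    (hV : IsAffineOpen V) : IsAffineOpen (U ⊓ V) := hU.inf hV

lemma isCov_inter {X : Scheme.{u}} [X.IsSeparated] (U : ι → X.Opens) (hU : ∀ i, IsAffineOpen (U i)) :
    IsCov (inter U) where
  anti s t h := Finset.inf_mono h
  aff s := by
    obtain ⟨s, hs⟩ := s
    induction hs using Finset.Nonempty.cons_induction with
    | singleton a =>
      change IsAffineOpen (({a} : Finset ι).inf U)
      rw [Finset.inf_singleton]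
      exact hU a
    | cons a s h hs ih =>
      change IsAffineOpen ((Finset.cons a s h).inf U)
      rw [Finset.inf_cons]
      exact isAffineOpen_inf (hU a) ih
  ins i s t h := by
    change (insert i t.1).inf U = t.1.inf U ⊓ (insert i s.1).inf U
    rw [Finset.inf_insert, Finset.inf_insert]
    apply le_antisymm
    · exact le_inf inf_le_right (le_inf inf_le_left (inf_le_right.trans (Finset.inf_mono h)))
    · exact le_inf (inf_le_right.trans inf_le_left) inf_le_left
  sg i s := by
    change (insert i s.1).inf U = s.1.inf U ⊓ ({i} : Finset ι).inf U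
    rw [Finset.inf_insert, Finset.inf_singleton, inf_comm]

lemma IsCov.preimage {X Y : Scheme.{u}} (q : X ⟶ Y) [IsAffineHom q] {W : NE ι → Y.Opens}
    (hW : IsCov W) : IsCov fun s => q ⁻¹ᵁ W s where
  anti s t h := Scheme.Hom.preimage_mono q (hW.anti s t h)
  aff s := (hW.aff s).preimage q
  ins i s t h := by rw [hW.ins i s t h, Scheme.Hom.preimage_inf]
  sg i s := by rw [hW.sg i s, Scheme.Hom.preimage_inf]

end Cov

end Groth.Agent.Flat2B.GExSC1
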