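import Groth.Agent.Flat2B.GExSC1b
import Groth.Agent.Etbase.FFExact

/-!
# S1270, route E, scheme side SC1: properties of the diagrams of modules
-/

set_option autoImplicit false
universe u

open CategoryTheory CategoryTheory.Limits AlgebraicGeometry Opposite TopologicalSpace

namespace Groth.Agent.Flat2B.GExSC1

open GEx GExGlob CohqA.PullbackAffine CohqA.PullbackUniv CohqA.BaseChangeMod

/-! ### Algebra of `IsBCMap` -/

section Alg

variable {R R' : Type u} [CommRing R] [CommRing R'] {φ : R →+* R'} {M M' : Type u}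
    [AddCommGroup M] [AddCommGroup M'] [Module R M] [Module R' M'] {f : M →+ M'}

theorem IsBCMap.surjective (hφ : Function.Surjective φ) (h : IsBCMap φ f) :
    Function.Surjective f := by
  obtain ⟨hf, h⟩ := h
  let := φ.toAlgebra
  let : Module R M' := Module.compHom M' φ
  have : IsScalarTower R R' M' := ⟨fun a b c => by
      change (φ a * b) • c = φ a • b • c
      rw [mul_smul]⟩
  intro y
  obtain ⟨t, rfl⟩ := h.equiv.surjective y
  induction t using TensorProduct.induction_on with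
  | zero => exact ⟨0, by rw [map_zero, map_zero]⟩
  | tmul r m =>
    obtain ⟨a, rfl⟩ := hφ r
    refine ⟨a • m, ?_⟩
    rw [IsBaseChange.equiv_tmul]
    exact hf a m
  | add x y hx hy =>
    obtain ⟨a, ha⟩ := hx
    obtain ⟨b, hb⟩ := hy
    exact ⟨a + b, by rw [map_add, map_add, ha, hb]⟩

theorem IsBCMap.mem_ker_smul (hφ : Function.Surjective φ) (h : IsBCMap φ f) (x : M) (hx : f x = 0) :
    x ∈ RingHom.ker φ • (⊤ : Submodule R M) := by
  obtain ⟨hf, h⟩ := h
  let := φ.toAlgebra
  let : Module R M' := Module.compHom M' φ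
  have : IsScalarTower R R' M' := ⟨fun a b c => by
      change (φ a * b) • c = φ a • b • c
      rw [mul_smul]⟩
  let q : M →ₗ[R] (M ⧸ (RingHom.ker φ • (⊤ : Submodule R M))) := Submodule.mkQ _
  -- the quotient is an `R'`-module
  let e : (R ⧸ RingHom.ker φ) ≃+* R' := RingHom.quotientKerEquivOfSurjective hφ
  let i1 : Module R' (M ⧸ (RingHom.ker φ • (⊤ : Submodule R M))) :=
    Module.compHom _ (e.symm : R' →+* (R ⧸ RingHom.ker φ))
  have hsm : ∀ (a : R) (y : M ⧸ (RingHom.ker φ • (⊤ : Submodule R M))), φ a • y = a • y := by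
    intro a y
    change (e.symm (φ a)) • y = a • y
    have : e.symm (φ a) = Ideal.Quotient.mk _ a := by
      rw [RingEquiv.symm_apply_eq]
      rfl
    rw [this]
    rfl
  have i2 : IsScalarTower R R' (M ⧸ (RingHom.ker φ • (⊤ : Submodule R M))) := ⟨fun a b c => by
      change (φ a * b) • c = a • b • c
      rw [mul_smul, hsm]⟩
  have h1 : h.lift q ((f : M →+ M') x) = q x := h.lift_eq q x
  rw [hx, map_zero] at h1
  exact (Submodule.Quotient.mk_eq_zero _).1 h1.symm

end Alg

section PO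

/-- Base change over the smaller rings. -/
theorem IsBCMap.of_isPushout {A B A' B' : Type u} [CommRing A] [CommRing B] [CommRing A'] [CommRing B']
    (α : A →+* A') (φ : A →+* B) (φ' : A' →+* B') (β : B →+* B')
    (hpush : IsPushout (CommRingCat.ofHom φ) (CommRingCat.ofHom α) (CommRingCat.ofHom β)
      (CommRingCat.ofHom φ'))
    {M M' : Type u} [AddCommGroup M] [AddCommGroup M'] [Module A' M] [Module B' M'] {ψ : M →+ M'}
    [Module A M] [Module B M'] (hM : ∀ (a : A) (m : M), a • m = α a • m)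
    (hM' : ∀ (b : B) (m : M'), b • m = β b • m) (h : IsBCMap φ' ψ) : IsBCMap φ ψ := by
  have comm : φ'.comp α = β.comp φ := by
    ext a
    exact congr($(hpush.w).hom a).symm
  refine Etbase.FFExact.IsBC.of_isPushout α φ φ' β comm ?_ ψ hM hM' h
  let := α.toAlgebra
  let := φ.toAlgebra
  let := φ'.toAlgebra
  let := β.toAlgebra
  let := (φ'.comp α).toAlgebra
  have : IsScalarTower A A' B' := IsScalarTower.of_algebraMap_eq' rfl
  have : IsScalarTower A B B' := IsScalarTower.of_algebraMap_eq' comm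
  exact Algebra.IsPushout.symm (CommRingCat.isPushout_iff_isPushout.1 hpush.flip)

end PO

/-! ### Sections of modules -/

section Mod

variable {S : Type u} [CommRing S] {X : Scheme.{u}} (f : X ⟶ Spec (CommRingCat.of S))
  {P : Type} [Preorder P] {W : P → X.Opens} (hW : ∀ s t : P, s ≤ t → W t ≤ W s)

theorem finite_modD (ha : ∀ s, IsAffineOpen (W s)) (F : X.Modules) (hF : Coh.IsCoh F) (s : P) :
    Module.Finite ((ringD f W hW).C s) ((modD f W hW F).M s) :=
  CohqA.FinSec.finite_sections (ha s) hF.1 hF.2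

theorem finitePresentation_modD (ha : ∀ s, IsAffineOpen (W s)) (F : X.Modules) (hq : Coh.IsQCoh F)
    (hF : CohB1.IsFP F) (s : P) :
    Module.FinitePresentation ((ringD f W hW).C s) ((modD f W hW F).M s) :=
  Desc.FPSections.finitePresentation_sections (ha s) hq hF

theorem flat_modD (ha : ∀ s, IsAffineOpen (W s)) (F : X.Modules) (hq : Coh.IsQCoh F)
    (hF : FlatMod.IsFlatOver f F) (s : P) : Module.Flat S ((modD f W hW F).M s) :=
  (PerfB.ApproxFlat.secFlat_iff hq (ha s)).2 fun x _ => hF x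

end Mod

section ModHom

variable {S S' : Type u} [CommRing S] [CommRing S'] {X X' : Scheme.{u}}
  {f : X ⟶ Spec (CommRingCat.of S)} {f' : X' ⟶ Spec (CommRingCat.of S')} {ψ : S →+* S'}
  {P : Type} [Preorder P] {W : P → X.Opens} {hW : ∀ s t : P, s ≤ t → W t ≤ W s}
  {W' : P → X'.Opens} {hW' : ∀ s t : P, s ≤ t → W' t ≤ W' s}

theorem modHom_isBCMap {h : X' ⟶ X} (hh : h ≫ f = f' ≫ Spec.map (CommRingCat.ofHom ψ))
    (e : ∀ s, W' s ≤ h ⁻¹ᵁ W s) {F : X.Modules} {F' : X'.Modules} (hF : Coh.IsQCoh F)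
    (a : F ⟶ (Scheme.Modules.pushforward h).obj F') (ha : IsUniv h a)
    (hWa : ∀ s, IsAffineOpen (W s)) (hWa' : ∀ s, IsAffineOpen (W' s)) (s : P) :
    IsBCMap ((ringHom (hW := hW) (hW' := hW') h hh e).f s)
      ((modHom (hW := hW) (hW' := hW') h hh e a).f s) := by
  have : F.IsQuasicoherent := hF
  exact isBCMap_iff.2 (CohqA.PullbackSections.isBC_secMap h a ha (hWa s) (hWa' s) (e s))

theorem modHom_isBCMap_base {h : X' ⟶ X}
    (H : IsPullback h f' f (Spec.map (CommRingCat.ofHom ψ)))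
    (e : ∀ s, W' s = h ⁻¹ᵁ W s) {F : X.Modules} {F' : X'.Modules} (hF : Coh.IsQCoh F)
    (a : F ⟶ (Scheme.Modules.pushforward h).obj F') (ha : IsUniv h a)
    (hWa : ∀ s, IsAffineOpen (W s)) (hWa' : ∀ s, IsAffineOpen (W' s)) (s : P) :
    IsBCMap (M := (modD f W hW F).M s) (M' := (modD f' W' hW' F').M s) ψ
      ((modHom (hW := hW) (hW' := hW') h H.w (fun s => (e s).le) a).f s) :=
  IsBCMap.of_isPushout (A' := (ringD f W hW).C s) (B' := (ringD f' W' hW').C s)
    (aMap f (W s)) ψ _ (aMap f' (W' s)) (isPO (hW := hW) (hW' := hW') H hWa e s)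
    (fun _ _ => rfl) (fun _ _ => rfl)
    (modHom_isBCMap (hW := hW) (hW' := hW') H.w (fun s => (e s).le) hF a ha hWa hWa' s)

end ModHom

end Groth.Agent.Flat2B.GExSC1
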