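import Groth.Agent.Flat2B.GExCech

/-!
# S1270, route E, SC2a: the finiteness property may be tested on one pushout diagram
-/

universe u

open Finset CategoryTheory Groth.Agent.Ega3B.Cube

namespace Groth.Agent.Flat2B.GEx

/-- Transport of `IsBCMap` along semilinear bijections. -/
lemma IsBCMap.transport {R R' R₀ R₀' : Type u} [CommRing R] [CommRing R'] [CommRing R₀]
    [CommRing R₀'] {φ : R →+* R'} {φ₀ : R₀ →+* R₀'} (g : R₀ ≃+* R) (g' : R₀' ≃+* R')
    (hg : ∀ x, g' (φ₀ x) = φ (g x))
    {M M' M₀ M₀' : Type u} [AddCommGroup M] [AddCommGroup M'] [Module R M] [Module R' M']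
    [AddCommGroup M₀] [AddCommGroup M₀'] [Module R₀ M₀] [Module R₀' M₀']
    (e : M₀ ≃+ M) (e' : M₀' ≃+ M') (he : ∀ (a : R₀) m, e (a • m) = g a • e m)
    (he' : ∀ (a : R₀') m, e' (a • m) = g' a • e' m)
    {f : M →+ M'} {f₀ : M₀ →+ M₀'} (hf : ∀ m, e' (f₀ m) = f (e m)) (h : IsBCMap φ f) :
    IsBCMap φ₀ f₀ := by
  obtain ⟨hfs, h⟩ := h
  have hes : ∀ (a : R) m, e.symm (a • m) = g.symm a • e.symm m := by
    intro a m
    apply e.injective
    rw [he, AddEquiv.apply_symm_apply, AddEquiv.apply_symm_apply, RingEquiv.apply_symm_apply]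
  have hes' : ∀ (a : R') m, e'.symm (a • m) = g'.symm a • e'.symm m := by
    intro a m
    apply e'.injective
    rw [he', AddEquiv.apply_symm_apply, AddEquiv.apply_symm_apply, RingEquiv.apply_symm_apply]
  have hgs : ∀ x, φ₀ (g.symm x) = g'.symm (φ x) := by
    intro x
    apply g'.injective
    rw [hg, RingEquiv.apply_symm_apply, RingEquiv.apply_symm_apply]
  refine ⟨fun a m => ?_, ?_⟩
  · apply e'.injective
    rw [hf, he, hfs, he', hf, hg]
  letI := φ.toAlgebra
  letI := φ₀.toAlgebra
  letI : Module R M' := Module.compHom M' φ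
  letI : Module R₀ M₀' := Module.compHom M₀' φ₀
  haveI : IsScalarTower R R' M' := ⟨fun a b c => by
      change (φ a * b) • c = φ a • b • c
      rw [mul_smul]⟩
  haveI : IsScalarTower R₀ R₀' M₀' := ⟨fun a b c => by
      change (φ₀ a * b) • c = φ₀ a • b • c
      rw [mul_smul]⟩
  refine IsBaseChange.of_lift_unique _ ?_
  intro Q _ _ _ tw q
  letI : Module R' Q := Module.compHom Q g'.symm.toRingHom
  letI : Module R Q := Module.compHom Q (g'.symm.toRingHom.comp φ)
  haveI : IsScalarTower R R' Q := ⟨fun a b c => by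
      change (g'.symm (φ a * b)) • c = g'.symm (φ a) • g'.symm b • c
      rw [map_mul, mul_smul]⟩
  let q₁ : M →ₗ[R] Q :=
    { toFun := fun m => q (e.symm m)
      map_add' := fun x y => by rw [map_add, map_add]
      map_smul' := fun a m => by
        rw [hes, map_smul, ← IsScalarTower.algebraMap_smul R₀' (g.symm a) (q (e.symm m))]
        change φ₀ (g.symm a) • q (e.symm m) = g'.symm (φ a) • q (e.symm m)
        rw [hgs] }
  let F : M' →ₗ[R'] Q := h.lift q₁
  have hF : ∀ m, F (f m) = q (e.symm m) := fun m => h.lift_eq q₁ m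
  have hFs : ∀ (a : R') m, F (a • m) = g'.symm a • F m := fun a m => F.map_smul a m
  refine ⟨{ toFun := fun m => F (e' m)
            map_add' := fun x y => by rw [map_add, map_add]
            map_smul' := fun a m => by
              rw [he', hFs, RingEquiv.symm_apply_apply]
              rfl }, ?_, ?_⟩
  · apply LinearMap.ext
    intro m
    change F (e' (f₀ m)) = q m
    rw [hf, hF, AddEquiv.symm_apply_apply]
  · intro F' hF'
    let F₁ : M' →ₗ[R'] Q :=
      { toFun := fun m => F' (e'.symm m)
        map_add' := fun x y => by rw [map_add, map_add]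
        map_smul' := fun a m => by
          rw [hes', map_smul]
          rfl }
    have h1 : F₁ = F := by
      refine h.algHom_ext _ _ fun m => ?_
      change F' (e'.symm (f m)) = F (f m)
      rw [hF]
      have h2 : e'.symm (f m) = f₀ (e.symm m) := by
        apply e'.injective
        rw [hf, AddEquiv.apply_symm_apply, AddEquiv.apply_symm_apply]
      rw [h2]
      exact LinearMap.congr_fun hF' (e.symm m)
    apply LinearMap.ext
    intro m
    change F' m = F (e' m)
    rw [← h1]
    change F' m = F' (e'.symm (e' m))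
    rw [AddEquiv.symm_apply_apply]

section CechFG

variable {B : Type u} [CommRing B] {ι : Type} [LinearOrder ι] [Fintype ι]
  {D D' : RDiag B (NE ι)} {M : MDiag D} {M' : MDiag D'}

/-- Transport of `CechFG` along isomorphisms of diagrams of `B`-modules. -/
lemma MDiag.CechFG.transport (e : ∀ s, M.M s ≃+ M'.M s)
    (he : ∀ s (a : B) m, e s (a • m) = a • e s m)
    (hres : ∀ {s t : NE ι} (h : s ≤ t) m, e t (M.res h m) = M'.res h (e s m))
    (hM : M'.CechFG) : M.CechFG := by
  have hcev : ∀ {k : ℕ} (x : M.HK k) (s : NE ι) (t : Finset ι),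
      e s (MDiag.cev x s t) = MDiag.cev (M := M') (fun s => e s.1 (x s)) s t := by
    intro k x s t
    unfold MDiag.cev
    split_ifs
    · exact hres _ _
    · exact map_zero _
  have hcd : ∀ (k : ℕ) (x : M.HK (k + 1)) s, e s.1 (M.cd k x s) =
      M'.cd k (fun s => e s.1 (x s)) s := by
    intro k x s
    change e s.1 (∑ i ∈ s.1.1, sgn i s.1.1 • MDiag.cev x s.1 (s.1.1.erase i)) =
      ∑ i ∈ s.1.1, sgn i s.1.1 • MDiag.cev (M := M') (fun s => e s.1 (x s)) s.1 (s.1.1.erase i)
    rw [map_sum]
    refine Finset.sum_congr rfl fun i _ => ?_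
    rw [map_zsmul, hcev]
  intro k
  obtain ⟨N, hN, h⟩ := hM k
  let E : M.HK k ≃ₗ[B] M'.HK k :=
    { toFun := fun x s => e s.1 (x s)
      invFun := fun x s => (e s.1).symm (x s)
      left_inv := fun x => by funext s; exact (e s.1).symm_apply_apply _
      right_inv := fun x => by funext s; exact (e s.1).apply_symm_apply _
      map_add' := fun x y => by funext s; exact map_add _ _ _
      map_smul' := fun a x => by funext s; exact he _ _ _ }
  refine ⟨N.map E.symm.toLinearMap, hN.map _, fun x hx => ?_⟩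
  have hcyc : M'.IsCyc k (E x) := by
    cases k with
    | zero => trivial
    | succ k =>
      change M'.cd k (E x) = 0
      change M.cd k x = 0 at hx
      funext s
      refine (hcd k x s).symm.trans ?_
      rw [hx]
      exact map_zero _
  obtain ⟨n, hn, y, hy⟩ := h (E x) hcyc
  refine ⟨E.symm n, Submodule.mem_map_of_mem hn, fun s => (e s.1).symm (y s), ?_⟩
  apply E.injective
  rw [map_add, LinearEquiv.apply_symm_apply, hy]
  congr 1
  funext s
  refine Eq.trans ?_ (hcd k _ s).symm
  have hy' : y = fun s => (e s.1) ((e s.1).symm (y s)) := by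
    funext s
    exact ((e s.1).apply_symm_apply _).symm
  exact congrArg (fun z => M'.cd k z s) hy'

end CechFG

section FIN

variable {Λ : Type u} [CommRing Λ] {ι : Type} [LinearOrder ι] [Fintype ι]

/-- Comparison of two pushout diagrams. -/
lemma RDiag.Hom.IsPO.exists_equiv {B : Type u} [CommRing B] {ψ : Λ →+* B} {C : RDiag Λ (NE ι)}
    {D₀ D : RDiag B (NE ι)} {i₀ : RDiag.Hom ψ C D₀} {i : RDiag.Hom ψ C D} (h₀ : i₀.IsPO)
    (h : i.IsPO) : ∃ g : ∀ s, D₀.C s ≃ₐ[B] D.C s, (∀ s c, g s (i₀.f s c) = i.f s c) ∧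
      ∀ {s t : NE ι} (hst : s ≤ t) x, g t (D₀.res hst x) = D.res hst (g s x) := by
  have key : ∀ s, ∃ g : D₀.C s ≃ₐ[B] D.C s, ∀ c, g (i₀.f s c) = i.f s c := by
    intro s
    let e := (h₀ s).isoIsPushout _ _ (h s)
    have e1 : ∀ x, e.hom (algebraMap B (D₀.C s) x) = algebraMap B (D.C s) x := fun x =>
      ConcreteCategory.congr_hom (IsPushout.inl_isoIsPushout_hom _ _ (h₀ s) (h s)) x
    have e2 : ∀ x, e.hom (i₀.f s x) = i.f s x := fun x =>
      ConcreteCategory.congr_hom (IsPushout.inr_isoIsPushout_hom _ _ (h₀ s) (h s)) x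
    exact ⟨AlgEquiv.ofRingEquiv (f := e.commRingCatIsoToRingEquiv) e1, e2⟩
  choose g hg using key
  refine ⟨g, hg, fun {s t} hst x => ?_⟩
  have h1 : CommRingCat.ofHom ((g t).toRingEquiv.toRingHom.comp (D₀.res hst).toRingHom) =
      CommRingCat.ofHom ((D.res hst).toRingHom.comp (g s).toRingEquiv.toRingHom) := by
    refine (h₀ s).hom_ext ?_ ?_
    · ext x
      change g t (D₀.res hst (algebraMap B _ x)) = D.res hst (g s (algebraMap B _ x))
      rw [AlgHom.commutes, AlgEquiv.commutes, AlgEquiv.commutes, AlgHom.commutes]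
    · ext x
      change g t (D₀.res hst (i₀.f s x)) = D.res hst (g s (i₀.f s x))
      rw [← i₀.f_res, hg, hg, i.f_res]
  exact ConcreteCategory.congr_hom h1 x

/-- It suffices to test `FIN` on one pushout diagram for each `ψ : Λ → B`. -/
theorem RDiag.FIN.of_exists {C : RDiag Λ (NE ι)}
    (H : ∀ (B : Type u) [CommRing B] [IsNoetherianRing B] (ψ : Λ →+* B),
      ∃ (D₀ : RDiag B (NE ι)) (i₀ : RDiag.Hom ψ C D₀) (_ : i₀.IsPO),
        ∀ (M : MDiag D₀) (_ : ∀ s, Module.Finite (D₀.C s) (M.M s)) (_ : M.IsCart), M.CechFG) :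
    C.FIN := by
  intro B _ _ ψ D i hi M hfin hcart
  obtain ⟨D₀, i₀, h₀, H⟩ := H B ψ
  obtain ⟨g, hg, hres⟩ := h₀.exists_equiv hi
  letI mod : ∀ s, Module (D₀.C s) (M.M s) := fun s =>
    Module.compHom (M.M s) (g s).toRingEquiv.toRingHom
  have smul_def : ∀ s (c : D₀.C s) (m : M.M s), c • m = g s c • m := fun s c m => rfl
  let M₀ : MDiag D₀ :=
    { M := M.M
      mod := mod
      tower := fun s => ⟨fun a c m => by
        rw [smul_def, smul_def, map_smul, smul_assoc]⟩
      res := fun h => M.res h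
      res_smul := fun h c m => by rw [smul_def, smul_def, M.res_smul, hres]
      res_self := fun s h x => M.res_self s h x
      res_res := fun h h' x => M.res_res h h' x }
  refine MDiag.CechFG.transport (M' := M₀) (fun s => AddEquiv.refl _) (fun s a m => rfl)
    (fun h m => rfl) (H M₀ (fun s => ?_) fun {s t} h => ?_)
  · obtain ⟨S, hS⟩ := (hfin s).fg_top
    refine ⟨⟨S, ?_⟩⟩
    rw [eq_top_iff]
    intro x _
    have hx : x ∈ Submodule.span (D.C s) (S : Set (M.M s)) := by
      rw [hS]
      trivial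
    refine Submodule.span_induction (p := fun x _ => (x : M₀.M s) ∈
      Submodule.span (D₀.C s) (S : Set (M₀.M s))) ?_ ?_ ?_ ?_ hx
    · exact fun x hx => Submodule.subset_span hx
    · exact Submodule.zero_mem _
    · exact fun x y _ _ hx hy => Submodule.add_mem _ hx hy
    · intro a x _ hx
      have := Submodule.smul_mem _ ((g s).symm a) hx
      have h2 : ((g s).symm a : D₀.C s) • (x : M₀.M s) = a • x := by
        change g s ((g s).symm a) • x = a • x
        rw [AlgEquiv.apply_symm_apply]
      rwa [h2] at this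
  · exact (hcart h).transport (g s).toRingEquiv (g t).toRingEquiv (fun x => hres h x)
      (AddEquiv.refl _) (AddEquiv.refl _) (fun a m => rfl) (fun a m => rfl) (fun m => rfl)

end FIN

end Groth.Agent.Flat2B.GEx
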