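import Groth.Agent.Flat2B.GExSC4T

/-!
# S1270, route E, scheme side SC4 (T3): the cartesian case
-/

set_option autoImplicit false
universe u

open CategoryTheory AlgebraicGeometry TopologicalSpace

namespace Groth.Agent.Flat2B.GExSC4

open GEx GExSC1 LoccohB.GlueHom CohqA.BaseChangeMod CohqA.PullbackUniv CohqA.PullbackAffine

variable {S : Type u} [CommRing S] {X : Scheme.{u}} {f : X ⟶ Spec (CommRingCat.of S)}
  {ι : Type} [LinearOrder ι] {W : NE ι → X.Opens} {hW : ∀ s t : NE ι, s ≤ t → W t ≤ W s}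
  {M : MDiag (ringD f W hW)}

/-- For a cartesian diagram: `M u ≃ Γ(E t, W u)`, `t ≤ u`. -/
lemma exists_beta (hC : IsCov W) (Q : ShD M) (hM : M.IsCart) {t u' : NE ι} (h : t ≤ u') :
    ∃ β : M.M u' ≃+ Γ(Q.E t, W u'),
      (∀ (c : (ringD f W hW).C u') (n : M.M u'), β (c • n) = (show Γ(X, W u') from c) • β n) ∧
      ∀ m, β (M.res h m) = res (Q.E t) (hW _ _ h) (Q.e t m) := by
  let : Module Γ(X, W u') (M.M u') := M.mod u'
  let : Module Γ(X, W t) (M.M t) := M.mod t
  have h1 : IsBC (resO (hW _ _ h)) (M.res h) := isBC_of_isBCMap (hM h)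
  have h2 : IsBC (RingHom.id Γ(X, W t)) (Q.e t).toAddMonoidHom :=
    IsBC.of_bijective _ Function.bijective_id _ (Q.e t).bijective (Q.e_smul t)
  have h3 := h2.comp (isBC_res (Q.E t) (Q.qc t) (hW _ _ h) (hC.aff t) (hC.aff u'))
  rw [RingHom.comp_id] at h3
  obtain ⟨e, he⟩ := h1.exists_equiv h3
  exact ⟨e.toAddEquiv, fun c n => e.map_smul _ n, he⟩

/-- `M u ≃ Γ(E t, W u)`. -/
noncomputable def beta (hC : IsCov W) (Q : ShD M) (hM : M.IsCart) {t u' : NE ι} (h : t ≤ u') :
    M.M u' ≃+ Γ(Q.E t, W u') := (exists_beta hC Q hM h).choose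

lemma beta_smul (hC : IsCov W) (Q : ShD M) (hM : M.IsCart) {t u' : NE ι} (h : t ≤ u')
    (c : (ringD f W hW).C u') (n : M.M u') :
    beta hC Q hM h (c • n) = (show Γ(X, W u') from c) • beta hC Q hM h n :=
  (exists_beta hC Q hM h).choose_spec.1 c n

lemma beta_res (hC : IsCov W) (Q : ShD M) (hM : M.IsCart) {t u' : NE ι} (h : t ≤ u')
    (m : M.M t) : beta hC Q hM h (M.res h m) = res (Q.E t) (hW _ _ h) (Q.e t m) :=
  (exists_beta hC Q hM h).choose_spec.2 m

/-- (N1) -/
lemma res_beta (hC : IsCov W) (Q : ShD M) (hM : M.IsCart) {t u' v : NE ι} (h : t ≤ u')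
    (h' : u' ≤ v) (z : M.M u') :
    res (Q.E t) (hW _ _ h') (beta hC Q hM h z) = beta hC Q hM (h.trans h') (M.res h' z) := by
  let : Module Γ(X, W u') (M.M u') := M.mod u'
  let : Module Γ(X, W t) (M.M t) := M.mod t
  let : Module Γ(X, W u') Γ(Q.E t, W v) := Module.compHom _ (resO (hW _ _ h'))
  have h1 : IsBC (resO (hW _ _ h)) (M.res h) := isBC_of_isBCMap (hM h)
  let g₁ : M.M u' →ₗ[Γ(X, W u')] Γ(Q.E t, W v) :=
    { toFun := fun z => res (Q.E t) (hW _ _ h') (beta hC Q hM h z)
      map_add' := fun a b => by simp only [map_add]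
      map_smul' := fun c a => by
        refine (congrArg (res (Q.E t) (hW _ _ h')) (beta_smul hC Q hM h c a)).trans ?_
        rw [res_smul]
        rfl }
  let g₂ : M.M u' →ₗ[Γ(X, W u')] Γ(Q.E t, W v) :=
    { toFun := fun z => beta hC Q hM (h.trans h') (M.res h' z)
      map_add' := fun a b => by simp only [map_add]
      map_smul' := fun c a => by
        refine (congrArg _ (M.res_smul h' c a)).trans ?_
        exact beta_smul hC Q hM (h.trans h') _ _ }
  have h2 : g₁ = g₂ := h1.hom_ext fun m => by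
    change res (Q.E t) (hW _ _ h') (beta hC Q hM h (M.res h m)) =
      beta hC Q hM (h.trans h') (M.res h' (M.res h m))
    rw [beta_res, M.res_res, beta_res, res_res]
  exact LinearMap.congr_fun h2 z

/-- (N2) -/
lemma r_beta (hC : IsCov W) (Q : ShD M) (hM : M.IsCart) {t t' u' : NE ι} (h : t ≤ t')
    (h' : t' ≤ u') (z : M.M u') :
    (Q.r h).app (W u') (beta hC Q hM (h.trans h') z) = beta hC Q hM h' z := by
  let : Module Γ(X, W u') (M.M u') := M.mod u'
  let : Module Γ(X, W t) (M.M t) := M.mod t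
  have h1 : IsBC (resO (hW _ _ (h.trans h'))) (M.res (h.trans h')) :=
    isBC_of_isBCMap (hM (h.trans h'))
  let g₁ : M.M u' →ₗ[Γ(X, W u')] Γ(Q.E t', W u') :=
    { toFun := fun z => (Q.r h).app (W u') (beta hC Q hM (h.trans h') z)
      map_add' := fun a b => by simp only [map_add]
      map_smul' := fun c a => by
        refine (congrArg ((Q.r h).app (W u')) (beta_smul hC Q hM (h.trans h') c a)).trans ?_
        exact Scheme.Modules.Hom.app_smul _ _ _ }
  let g₂ : M.M u' →ₗ[Γ(X, W u')] Γ(Q.E t', W u') :=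
    { toFun := fun z => beta hC Q hM h' z
      map_add' := fun a b => map_add _ a b
      map_smul' := fun c a => beta_smul hC Q hM h' c a }
  have h2 : g₁ = g₂ := h1.hom_ext fun m => by
    change (Q.r h).app (W u') (beta hC Q hM (h.trans h') (M.res (h.trans h') m)) =
      beta hC Q hM h' (M.res (h.trans h') m)
    rw [beta_res, ← M.res_res h h', beta_res, app_res, ← Q.r_e, res_res]
  exact LinearMap.congr_fun h2 z

/-- Sections of `E (sg i)` over `W s`. -/
lemma bij_sg (hC : IsCov W) (Q : ShD M) (i : ι) (s : NE ι) :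
    Function.Bijective (res (Q.E (sg i)) (hW _ _ (le_ins i s))) :=
  bijective_res_of_eq _ _ (hC.sg i s) (Q.bij (sg i) (W s))

/-- Sections of `E (ins i (sg j))` over `W s`. -/
lemma bij_two (hC : IsCov W) (Q : ShD M) (i j : ι) (s : NE ι) :
    Function.Bijective (res (Q.E (ins i (sg j))) (hW _ _ ((le_ins j s).trans (le_ins i (ins j s))))) := by
  refine bijective_res_of_eq _ _ ?_ (Q.bij (ins i (sg j)) (W s))
  rw [hC.sg i (ins j s), hC.sg j s, hC.sg i (sg j), inf_assoc]

/-- The section of the equalizer attached to `z : M s`. -/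
lemma EqD.exists_sec (hC : IsCov W) {Q : ShD M} (T : EqD Q) (hM : M.IsCart) (s : NE ι)
    (z : M.M s) : ∃ y : Γ(T.F, W s), ∀ i, res (Q.E (sg i)) (hW _ _ (le_ins i s))
      ((T.pr i).app (W s) y) = beta hC Q hM (sg_le_ins i s) (M.res (le_ins i s) z) := by
  choose x hx using fun i => (bij_sg hC Q i s).2
    (beta hC Q hM (sg_le_ins i s) (M.res (le_ins i s) z))
  obtain ⟨y, hy⟩ := T.glue (W s) x (fun i j => by
    have h1 : ins i s ≤ ins i (ins j s) := ins_le_ins i (le_ins j s)
    have h2 : ins j s ≤ ins i (ins j s) := le_ins i _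
    have h3 : ins i (sg j) ≤ ins i (ins j s) := ins_le_ins i (sg_le_ins j s)
    apply (bij_two hC Q i j s).1
    rw [← app_res, ← app_res, ← res_res _ (hW _ _ (le_ins i s)) (hW _ _ h1),
      ← res_res _ (hW _ _ (le_ins j s)) (hW _ _ h2), hx, hx,
      res_beta hC Q hM (sg_le_ins i s) h1, res_beta hC Q hM (sg_le_ins j s) h2,
      M.res_res, M.res_res]
    exact (r_beta hC Q hM (sg_le_ins i (sg j)) h3 _).trans
      (r_beta hC Q hM (le_ins i (sg j)) h3 _).symm)
  exact ⟨y, fun i => by rw [hy, hx]⟩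

/-- A section of the equalizer over `W s` is determined by its components over `W (ins i s)`. -/
lemma EqD.ext_ins (hC : IsCov W) {Q : ShD M} (T : EqD Q) (s : NE ι) (y y' : Γ(T.F, W s))
    (h : ∀ i, res (Q.E (sg i)) (hW _ _ (le_ins i s)) ((T.pr i).app (W s) y) =
      res (Q.E (sg i)) (hW _ _ (le_ins i s)) ((T.pr i).app (W s) y')) : y = y' :=
  T.inj _ _ _ fun i => (bij_sg hC Q i s).1 (h i)

lemma res_back {s t : NE ι} (h : s ≤ t) (h' : t ≤ s) (z : M.M s) :
    M.res h' (M.res h z) = z := by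
  rw [M.res_res, M.res_self]

lemma ins_le {i : ι} {s : NE ι} (hi : i ∈ s.1) : ins i s ≤ s := by
  intro x hx
  rcases Finset.mem_insert.1 hx with h | h
  · rw [h]; exact hi
  · exact h

/-- (T3): the cartesian case. -/
theorem EqD.exists_e (hC : IsCov W) {Q : ShD M} (T : EqD Q) (hM : M.IsCart) :
    ∃ e : ∀ s, M.M s ≃+ Γ(T.F, W s),
      (∀ (s : NE ι) (c : (ringD f W hW).C s) (z : M.M s),
        e s (c • z) = (show Γ(X, W s) from c) • e s z) ∧
      ∀ {s t : NE ι} (h : s ≤ t) (z : M.M s), res T.F (hW s t h) (e s z) = e t (M.res h z) := by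
  choose g hg using fun s z => T.exists_sec hC hM s z
  have hadd : ∀ s z z', g s (z + z') = g s z + g s z' := fun s z z' =>
    T.ext_ins hC s _ _ fun i => by
      rw [hg, map_add, map_add, map_add, map_add, hg, hg]
  have hinj : ∀ s, Function.Injective (g s) := by
    intro s z z' h
    obtain ⟨i, hi⟩ := s.2
    have h1 := (hg s z i).symm.trans ((congrArg (fun y => res (Q.E (sg i)) (hW _ _ (le_ins i s))
      ((T.pr i).app (W s) y)) h).trans (hg s z' i))
    have h2 := (beta hC Q hM (sg_le_ins i s)).injective h1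
    have h3 := congrArg (M.res (ins_le hi)) h2
    rwa [res_back, res_back] at h3
  have hsurj : ∀ s, Function.Surjective (g s) := by
    intro s y
    obtain ⟨j, hj⟩ := s.2
    obtain ⟨z', hz'⟩ := (beta hC Q hM (sg_le_ins j s)).surjective
      (res (Q.E (sg j)) (hW _ _ (le_ins j s)) ((T.pr j).app (W s) y))
    refine ⟨M.res (ins_le hj) z', T.ext_ins hC s _ _ fun i => ?_⟩
    rw [hg]
    have h3 : ins i (sg j) ≤ ins i s := ins_le_ins i (Finset.singleton_subset_iff.2 hj)
    have h4 : ins j s ≤ ins i s := (ins_le hj).trans (le_ins i s)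
    -- injectivity of `r` on sections over `W (ins i s)`
    have hr : Function.Injective (fun x : Γ(Q.E (sg i), W (ins i s)) =>
        (Q.r (sg_le_ins i (sg j))).app (W (ins i s)) x) := by
      intro x x' hx
      obtain ⟨a, rfl⟩ := (beta hC Q hM ((sg_le_ins i (sg j)).trans h3)).surjective x
      obtain ⟨a', rfl⟩ := (beta hC Q hM ((sg_le_ins i (sg j)).trans h3)).surjective x'
      have h5 := (r_beta hC Q hM (sg_le_ins i (sg j)) h3 a).symm.trans
        (Eq.trans hx (r_beta hC Q hM (sg_le_ins i (sg j)) h3 a'))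
      rw [(beta hC Q hM h3).injective h5]
    apply hr
    change (Q.r (sg_le_ins i (sg j))).app (W (ins i s)) (beta hC Q hM (sg_le_ins i s) _) =
      (Q.r (sg_le_ins i (sg j))).app (W (ins i s)) (res (Q.E (sg i)) (hW _ _ (le_ins i s))
        ((T.pr i).app (W s) y))
    refine (r_beta hC Q hM (sg_le_ins i (sg j)) h3 _).trans ?_
    rw [app_res]
    have h5 : (Q.r (sg_le_ins i (sg j))).app (W s) ((T.pr i).app (W s) y) =
        (Q.r (le_ins i (sg j))).app (W s) ((T.pr j).app (W s) y) :=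
      congrArg (fun φ => φ.app (W s) y) (T.pr_r i j)
    rw [h5, ← app_res, ← res_res _ (hW _ _ (le_ins j s)) (hW _ _ h4), ← hz', res_beta]
    rw [M.res_res]
    exact (r_beta hC Q hM (le_ins i (sg j)) h3 _).symm
  refine ⟨fun s => AddEquiv.ofBijective (AddMonoidHom.mk' (g s) (hadd s)) ⟨hinj s, hsurj s⟩,
    fun s c z => ?_, fun {s t} h z => ?_⟩
  · change g s (c • z) = (show Γ(X, W s) from c) • g s z
    refine T.ext_ins hC s _ _ fun i => ?_
    rw [hg, Scheme.Modules.Hom.app_smul, res_smul, hg, M.res_smul, beta_smul]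
    rfl
  · change res T.F (hW s t h) (g s z) = g t (M.res h z)
    refine T.ext_ins hC t _ _ fun i => ?_
    rw [hg, app_res, res_res, M.res_res,
      ← res_res _ (hW _ _ (le_ins i s)) (hW _ _ (ins_le_ins i h)), hg,
      res_beta hC Q hM (sg_le_ins i s) (ins_le_ins i h), M.res_res]

end Groth.Agent.Flat2B.GExSC4
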