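import Groth.Agent.Flat2B.GExSC1
import Groth.Agent.LoccohB.GlueHom

/-!
# S1270, route E, scheme side SC4: definitions

* `ShD M` : quasi-coherent sheaves `E s` on `X` (direct images of the sheaves on the affine opens `W s` attached to the
  modules `M s`) and maps `E s ⟶ E t`, `s ≤ t`;
* `Lam Q i κ` : for a base change `κ s : M s → N s` of `M` to `W (ins i s)`, `N s ≃ Γ(E s, W (sg i))`;
* `EqD Q` : the equalizer of `∏ E (sg i) ⇉ ∏ E (ins i (sg j))`.
-/

set_option autoImplicit false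
universe u

open CategoryTheory AlgebraicGeometry TopologicalSpace

namespace Groth.Agent.Flat2B.GExSC4

open GEx GExSC1 LoccohB.GlueHom

variable {S : Type u} [CommRing S] {X : Scheme.{u}} {f : X ⟶ Spec (CommRingCat.of S)}
  {ι : Type} [LinearOrder ι] {W : NE ι → X.Opens} {hW : ∀ s t : NE ι, s ≤ t → W t ≤ W s}

/-- The direct images `E s` on `X` of the sheaves attached to the modules `M s` on the affine opens `W s`. -/
structure ShD (M : MDiag (ringD f W hW)) where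
  E : NE ι → X.Modules
  qc : ∀ s, Coh.IsQCoh (E s)
  e : ∀ s, M.M s ≃+ Γ(E s, W s)
  e_smul : ∀ (s : NE ι) (c : (ringD f W hW).C s) (m : M.M s), e s (c • m) = (show Γ(X, W s) from c) • e s m
  bij : ∀ (s : NE ι) (V : X.Opens), Function.Bijective (res (E s) (inf_le_left : V ⊓ W s ≤ V))
  r : ∀ {s t : NE ι}, s ≤ t → (E s ⟶ E t)
  r_e : ∀ {s t : NE ι} (h : s ≤ t) (m : M.M s),
    res (E t) (hW s t h) ((r h).app (W s) (e s m)) = e t (M.res h m)
  r_self : ∀ (s : NE ι) (h : s ≤ s), r h = 𝟙 (E s)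
  r_r : ∀ {s t t' : NE ι} (h : s ≤ t) (h' : t ≤ t'), r h ≫ r h' = r (h.trans h')

/-- The diagram `N` (on `W (ins i s)`) is the base change of `M`. -/
structure IsBCD {M : MDiag (ringD f W hW)} {i : ι} {N : MDiag ((ringD f W hW).shift i)}
    (κ : ∀ s, M.M s →+ N.M s) : Prop where
  bc : ∀ s, letI : Module ((ringD f W hW).C (ins i s)) (N.M s) := N.mod s
    IsBCMap ((ringD f W hW).res (le_ins i s)).toRingHom (κ s)
  nat : ∀ {s t : NE ι} (h : s ≤ t) (m : M.M s), κ t (M.res h m) = N.res h (κ s m)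

/-- `N s ≃ Γ(E s, W (sg i))`, compatible with everything. -/
structure Lam {M : MDiag (ringD f W hW)} (Q : ShD M) {i : ι} {N : MDiag ((ringD f W hW).shift i)}
    (κ : ∀ s, M.M s →+ N.M s) where
  l : ∀ s, N.M s ≃+ Γ(Q.E s, W (sg i))
  l_smul : ∀ (s : NE ι) (c : (ringD f W hW).C (ins i s)) (n : N.M s),
    res (Q.E s) (hW _ _ (sg_le_ins i s)) (l s ((show ((ringD f W hW).shift i).C s from c) • n)) =
      (show Γ(X, W (ins i s)) from c) • res (Q.E s) (hW _ _ (sg_le_ins i s)) (l s n)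
  l_κ : ∀ (s : NE ι) (m : M.M s), res (Q.E s) (hW _ _ (sg_le_ins i s)) (l s (κ s m)) =
    res (Q.E s) (hW _ _ (le_ins i s)) (Q.e s m)
  l_res : ∀ {s t : NE ι} (h : s ≤ t) (n : N.M s), (Q.r h).app (W (sg i)) (l s n) = l t (N.res h n)

/-- The equalizer of `∏ E (sg i) ⇉ ∏ E (ins i (sg j))` on sections. -/
structure EqD {M : MDiag (ringD f W hW)} (Q : ShD M) where
  F : X.Modules
  qc : Coh.IsQCoh F
  pr : ∀ i, F ⟶ Q.E (sg i)
  pr_r : ∀ i j, pr i ≫ Q.r (sg_le_ins i (sg j)) = pr j ≫ Q.r (le_ins i (sg j))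
  inj : ∀ (V : X.Opens) (y y' : Γ(F, V)), (∀ i, (pr i).app V y = (pr i).app V y') → y = y'
  glue : ∀ (V : X.Opens) (x : ∀ i, Γ(Q.E (sg i), V)),
    (∀ i j, (Q.r (sg_le_ins i (sg j))).app V (x i) = (Q.r (le_ins i (sg j))).app V (x j)) →
    ∃ y : Γ(F, V), ∀ i, (pr i).app V y = x i

/-- `E s` on `W s` is the sheaf of a module: sections over opens contained in `W s` are locally multiples of
elements of `M s`, and linear maps `M s → Γ(G, W s)` extend uniquely. -/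
structure ShD.Gen {M : MDiag (ringD f W hW)} (Q : ShD M) : Prop where
  gen : ∀ (s : NE ι) (V : X.Opens), V ≤ W s → ∀ (x : Γ(Q.E s, V)) (p : X), p ∈ V →
    ∃ (D : X.Opens) (hD : D ≤ V) (_ : p ∈ D) (hDs : D ≤ W s) (c : Γ(X, D)) (m : M.M s),
      res (Q.E s) hD x = c • res (Q.E s) hDs (Q.e s m)
  ext : ∀ (s : NE ι) (G : X.Modules) (φ : LHom (Q.E s) G (W s)) (ψ : LHom (Q.E s) G (W s)),
    (∀ m : M.M s, φ.app (W s) le_rfl (Q.e s m) = ψ.app (W s) le_rfl (Q.e s m)) →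
    ∀ (V : X.Opens) (hV : V ≤ W s) (x : Γ(Q.E s, V)), φ.app V hV x = ψ.app V hV x
  lift : ∀ (s : NE ι) (G : X.Modules) (u : M.M s →+ Γ(G, W s)),
    (∀ (c : (ringD f W hW).C s) (m : M.M s), u (c • m) = (show Γ(X, W s) from c) • u m) →
    ∃ φ : LHom (Q.E s) G (W s), ∀ m, φ.app (W s) le_rfl (Q.e s m) = u m

end Groth.Agent.Flat2B.GExSC4
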