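import Groth.Agent.Flat2B.GExSC4Defs
import Groth.Agent.CohqA.PullbackSections

/-!
# S1270, route E, scheme side SC4: sections of `E s` over `W (sg i)`
-/

set_option autoImplicit false
universe u

open CategoryTheory AlgebraicGeometry TopologicalSpace

namespace Groth.Agent.Flat2B.GExSC4

open GEx GExSC1 LoccohB.GlueHom CohqA.BaseChangeMod CohqA.PullbackUniv CohqA.PullbackAffine

section General

lemma isBC_of_isBCMap {R R' : Type u} [CommRing R] [CommRing R'] {φ : R →+* R'} {M M' : Type u}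
    [AddCommGroup M] [AddCommGroup M'] [Module R M] [Module R' M'] {f : M →+ M'}
    (h : IsBCMap φ f) : IsBC φ f := by
  obtain ⟨hf, h⟩ := h
  let := φ.toAlgebra
  let : Module R M' := Module.compHom M' φ
  have : IsScalarTower R R' M' := ⟨fun a b c => by
    change (φ a * b) • c = φ a • b • c
    rw [mul_smul]⟩
  exact (isBC_iff_isBaseChange ({ toFun := f, map_add' := f.map_add, map_smul' := hf } :
    M →ₗ[R] M')).2 h

variable {X : Scheme.{u}}

lemma isUniv_id (F : X.Modules) :
    IsUniv (𝟙 X) ((Scheme.Modules.pushforwardId X).inv.app F) := by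
  intro P
  have h : (fun φ : F ⟶ P => (Scheme.Modules.pushforwardId X).inv.app F ≫
      (Scheme.Modules.pushforward (𝟙 X)).map φ) =
      fun φ : F ⟶ P => φ ≫ (Scheme.Modules.pushforwardId X).inv.app P := by
    funext φ
    exact ((Scheme.Modules.pushforwardId X).inv.naturality φ).symm
  rw [h]
  constructor
  · intro a b hab
    exact (cancel_mono _).1 hab
  · intro b
    exact ⟨b ≫ (Scheme.Modules.pushforwardId X).hom.app P, by
      simp only [Category.assoc, Iso.hom_inv_id_app]
      exact Category.comp_id _⟩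

lemma id_appLE' {V V' : X.Opens} (e : V' ≤ (𝟙 X : X ⟶ X) ⁻¹ᵁ V) :
    (𝟙 X : X ⟶ X).appLE V V' e = X.presheaf.map (homOfLE (show V' ≤ V from e)).op :=
  Category.id_comp _

/-- Restriction of sections of a quasi-coherent module to a smaller affine open is a base
change. -/
theorem isBC_res (F : X.Modules) (hF : Coh.IsQCoh F) {U V : X.Opens} (h : V ≤ U)
    (hU : IsAffineOpen U) (hV : IsAffineOpen V) : IsBC (resO h) (res F h) := by
  have : F.IsQuasicoherent := hF
  have h1 := CohqA.PullbackSections.isBC_secMap (M := F) (N := F) (𝟙 X) _ (isUniv_id F) hU hV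
    (e := h)
  have h2 : ((𝟙 X : X ⟶ X).appLE U V h).hom = resO h := congrArg _ (id_appLE' h)
  exact h2 ▸ h1

lemma bijective_res_of_eq (F : X.Modules) {V V' W₀ : X.Opens} (h : V' ≤ V) (e : V' = V ⊓ W₀)
    (hb : Function.Bijective (res F (inf_le_left : V ⊓ W₀ ≤ V))) :
    Function.Bijective (res F h) := by
  subst e
  exact hb

end General

variable {S : Type u} [CommRing S] {X : Scheme.{u}} {f : X ⟶ Spec (CommRingCat.of S)}
  {ι : Type} [LinearOrder ι] {W : NE ι → X.Opens} {hW : ∀ s t : NE ι, s ≤ t → W t ≤ W s}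

/-- `Γ(E s, W (sg i)) → Γ(E s, W (ins i s))` is bijective. -/
lemma ShD.bij_ins {M : MDiag (ringD f W hW)} (hC : IsCov W) (Q : ShD M) (i : ι) (s : NE ι) :
    Function.Bijective (res (Q.E s) (hW _ _ (sg_le_ins i s))) :=
  bijective_res_of_eq _ _ ((hC.sg i s).trans (inf_comm _ _)) (Q.bij s (W (sg i)))

/-- Ring elements of the diagram as functions. -/
abbrev fn {s : NE ι} (c : (ringD f W hW).C s) : Γ(X, W s) := c

/-- The linear equivalence `N s ≃ Γ(E s, W (ins i s))`. -/
lemma exists_lam_ins (hC : IsCov W) {M : MDiag (ringD f W hW)} (Q : ShD M) {i : ι}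
    {N : MDiag ((ringD f W hW).shift i)} {κ : ∀ s, M.M s →+ N.M s} (hκ : IsBCD κ) (s : NE ι) :
    ∃ l : N.M s ≃+ Γ(Q.E s, W (ins i s)),
      (∀ (c : (ringD f W hW).C (ins i s)) (n : N.M s),
        l ((show ((ringD f W hW).shift i).C s from c) • n) =
          (show Γ(X, W (ins i s)) from c) • l n) ∧
      ∀ m, l (κ s m) = res (Q.E s) (hW _ _ (le_ins i s)) (Q.e s m) := by
  let : Module Γ(X, W (ins i s)) (N.M s) := N.mod s
  let : Module Γ(X, W s) (M.M s) := M.mod s
  have h1 : IsBC (resO (hW _ _ (le_ins i s))) (κ s) := isBC_of_isBCMap (hκ.bc s)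
  let eL : M.M s ≃ₗ[Γ(X, W s)] Γ(Q.E s, W s) := { Q.e s with map_smul' := Q.e_smul s }
  have h2 : IsBC (RingHom.id Γ(X, W s)) (Q.e s).toAddMonoidHom :=
    IsBC.of_bijective _ Function.bijective_id _ (Q.e s).bijective (Q.e_smul s)
  have h3 := h2.comp (isBC_res (Q.E s) (Q.qc s) (hW _ _ (le_ins i s)) (hC.aff s)
    (hC.aff (ins i s)))
  rw [RingHom.comp_id] at h3
  obtain ⟨e, he⟩ := h1.exists_equiv h3
  exact ⟨e.toAddEquiv, fun c n => e.map_smul _ n, he⟩

/-- `Γ(E s, W (sg i)) ≃ Γ(E s, W (ins i s))`. -/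
noncomputable def ShD.insEquiv {M : MDiag (ringD f W hW)} (hC : IsCov W) (Q : ShD M) (i : ι)
    (s : NE ι) : Γ(Q.E s, W (sg i)) ≃+ Γ(Q.E s, W (ins i s)) :=
  AddEquiv.ofBijective (res (Q.E s) (hW _ _ (sg_le_ins i s))) (Q.bij_ins hC i s)

lemma ShD.insEquiv_apply {M : MDiag (ringD f W hW)} (hC : IsCov W) (Q : ShD M) (i : ι)
    (s : NE ι) (x : Γ(Q.E s, W (sg i))) :
    Q.insEquiv hC i s x = res (Q.E s) (hW _ _ (sg_le_ins i s)) x := rfl

/-- (L): sections of `E s` over `W (sg i)`. -/
theorem exists_lam (hC : IsCov W) {M : MDiag (ringD f W hW)} (Q : ShD M) {i : ι}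
    {N : MDiag ((ringD f W hW).shift i)} {κ : ∀ s, M.M s →+ N.M s} (hκ : IsBCD κ) :
    Nonempty (Lam Q κ) := by
  choose l hl1 hl2 using fun s => exists_lam_ins hC Q hκ s
  have key : ∀ s (n : N.M s), res (Q.E s) (hW _ _ (sg_le_ins i s))
      ((Q.insEquiv hC i s).symm (l s n)) = l s n := fun s n =>
    (Q.insEquiv hC i s).apply_symm_apply (l s n)
  refine ⟨⟨fun s => (l s).trans (Q.insEquiv hC i s).symm, ?_, ?_, ?_⟩⟩
  · intro s c n
    refine (key s _).trans ((hl1 s c n).trans ?_)
    exact congrArg _ (key s n).symm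
  · intro s m
    exact (key s _).trans (hl2 s m)
  · intro s t h n
    apply (Q.bij_ins hC i t).1
    refine Eq.trans ?_ (key t _).symm
    rw [← app_res]
    have e1 : res (Q.E s) (hW _ _ (sg_le_ins i t)) ((Q.insEquiv hC i s).symm (l s n)) =
        res (Q.E s) (hW _ _ (ins_le_ins i h)) (l s n) := by
      rw [← res_res (Q.E s) (hW _ _ (sg_le_ins i s)) (hW _ _ (ins_le_ins i h)), key]
    change (Q.r h).app (W (ins i t)) (res (Q.E s) (hW _ _ (sg_le_ins i t))
      ((Q.insEquiv hC i s).symm (l s n))) = l t (N.res h n)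
    rw [e1]
    -- both sides are semilinear in `n` and agree on the image of `κ s`
    let : Module Γ(X, W (ins i s)) (N.M s) := N.mod s
    let : Module Γ(X, W s) (M.M s) := M.mod s
    let : Module Γ(X, W (ins i s)) Γ(Q.E t, W (ins i t)) :=
      Module.compHom _ (resO (hW _ _ (ins_le_ins i h)))
    have h1 : IsBC (resO (hW _ _ (le_ins i s))) (κ s) := isBC_of_isBCMap (hκ.bc s)
    let g₁ : N.M s →ₗ[Γ(X, W (ins i s))] Γ(Q.E t, W (ins i t)) :=
      { toFun := fun n => (Q.r h).app (W (ins i t)) (res (Q.E s) (hW _ _ (ins_le_ins i h)) (l s n))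
        map_add' := fun a b => by simp only [map_add]
        map_smul' := fun c a => by
          refine (congrArg (fun z => (Q.r h).app (W (ins i t))
            (res (Q.E s) (hW _ _ (ins_le_ins i h)) z)) (hl1 s c a)).trans ?_
          rw [res_smul, Scheme.Modules.Hom.app_smul]
          rfl }
    let g₂ : N.M s →ₗ[Γ(X, W (ins i s))] Γ(Q.E t, W (ins i t)) :=
      { toFun := fun n => l t (N.res h n)
        map_add' := fun a b => by simp only [map_add]
        map_smul' := fun c a => by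
          refine (congrArg (l t) (N.res_smul h c a)).trans ?_
          exact hl1 t _ _ }
    have h2 : g₁ = g₂ := h1.hom_ext fun m => by
      change (Q.r h).app (W (ins i t)) (res (Q.E s) (hW _ _ (ins_le_ins i h)) (l s (κ s m))) =
        l t (N.res h (κ s m))
      rw [hl2, ← hκ.nat h m, hl2, res_res, ← Q.r_e h m, res_res, app_res]
    exact LinearMap.congr_fun h2 n

/-- Linearity over `Γ(X, W (sg i))`. -/
theorem Lam.l_smul' (hC : IsCov W) {M : MDiag (ringD f W hW)} {Q : ShD M} {i : ι}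
    {N : MDiag ((ringD f W hW).shift i)} {κ : ∀ s, M.M s →+ N.M s} (L : Lam Q κ) (s : NE ι)
    (c : (ringD f W hW).C (sg i)) (n : N.M s) :
    L.l s ((show ((ringD f W hW).shift i).C s from (ringD f W hW).res (sg_le_ins i s) c) • n) =
      (show Γ(X, W (sg i)) from c) • L.l s n := by
  apply (Q.bij_ins hC i s).1
  rw [L.l_smul, res_smul]
  rfl

end Groth.Agent.Flat2B.GExSC4
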