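import Groth.Agent.Flat2B.GExDefs
import Groth.Agent.Ega3B.Cube

/-!
# S1270, route E: complexes of diagrams over a cube and their total complexes

`NE ι` is the poset of nonempty subsets of a finite linearly ordered type `ι`.  A `CD R P` is a
chain complex of diagrams of `R`-modules over the preorder `P`.  Its total (ordered Cech) complex
`CD.X E k`, `k : ℕ`, consists of families `x (s, j)` with `j + (card ι - card s) = k`;
`D x (s, j) = (-1) ^ (card s + 1) ∂ x (s, j + 1) + ∑ i ∈ s, sgn i s • res (x (s.erase i, j))`.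
-/

universe u v

open Finset

namespace Groth.Agent.Flat2B.GEx

open Groth.Agent.Ega3B.Cube

/-- Nonempty finite subsets. -/
abbrev NE (ι : Type) [LinearOrder ι] : Type := {s : Finset ι // s.Nonempty}

/-- Chain complexes of diagrams of `R`-modules. -/
structure CD (R : Type v) [CommRing R] (P : Type) [Preorder P] where
  E : ℕ → P → Type u
  [grp : ∀ j s, AddCommGroup (E j s)]
  [mod : ∀ j s, Module R (E j s)]
  del : ∀ j s, E (j + 1) s →ₗ[R] E j s
  del_del : ∀ j s x, del j s (del (j + 1) s x) = 0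
  res : ∀ j {s t : P}, s ≤ t → (E j s →ₗ[R] E j t)
  res_self : ∀ j s (h : s ≤ s) x, res j h x = x
  res_res : ∀ j {s t u : P} (h : s ≤ t) (h' : t ≤ u) x, res j h' (res j h x) = res j (h.trans h') x
  del_res : ∀ j {s t : P} (h : s ≤ t) x, res j h (del j s x) = del j t (res (j + 1) h x)

attribute [instance] CD.grp CD.mod

/-- Indices of the total complex in degree `k`. -/
abbrev Idx (ι : Type) [LinearOrder ι] [Fintype ι] (k : ℕ) : Type :=
  {q : NE ι × ℕ // q.2 + (Fintype.card ι - q.1.1.card) = k}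

section Sgn

variable {ι : Type} [LinearOrder ι]

lemma sgn_erase_key {i j : ι} {s : Finset ι} (hi : i ∈ s) (hj : j ∈ s) (hij : i ≠ j) :
    sgn i s * sgn j (s.erase i) = - (sgn j s * sgn i (s.erase j)) := by
  obtain ⟨t, hit, hjt, rfl⟩ : ∃ t : Finset ι, i ∉ t ∧ j ∉ t ∧ s = insert i (insert j t) :=
    ⟨(s.erase i).erase j, by simp, by simp, by
      rw [insert_erase (mem_erase.2 ⟨hij.symm, hj⟩), insert_erase hi]⟩
  have hi' : i ∉ insert j t := by simp [hij, hit]
  have hj' : j ∉ insert i t := by simp [hij.symm, hjt]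
  have h := sgn_key hij hit hjt
  rw [erase_insert hi', insert_comm i j t, erase_insert hj']
  rw [insert_comm i j t] at h
  linear_combination h

end Sgn

namespace CD

variable {R : Type v} [CommRing R] {ι : Type} [LinearOrder ι] [Fintype ι] (C : CD.{u} R (NE ι))

/-- The total complex. -/
abbrev X (k : ℕ) : Type u := ∀ q : Idx ι k, C.E q.1.2 q.1.1

variable {C}

/-- The restriction to `s` of the `(t, j)`-component of `x` if `(t, j)` has the right degree and
`t ≤ s`, zero otherwise. -/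
def ev {k : ℕ} (x : C.X k) (s : NE ι) (j : ℕ) (t : Finset ι) : C.E j s :=
  if h : t.Nonempty ∧ t ⊆ s.1 ∧ j + (Fintype.card ι - t.card) = k then
    C.res j (show (⟨t, h.1⟩ : NE ι) ≤ s from h.2.1) (x ⟨(⟨t, h.1⟩, j), h.2.2⟩) else 0

lemma ev_of {k : ℕ} (x : C.X k) (s : NE ι) (q : Idx ι k) (h : q.1.1 ≤ s) :
    ev x s q.1.2 q.1.1.1 = C.res _ h (x q) := by
  rw [ev, dif_pos ⟨q.1.1.2, h, q.2⟩]

lemma ev_self {k : ℕ} (x : C.X k) (q : Idx ι k) : ev x q.1.1 q.1.2 q.1.1.1 = x q := by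
  rw [ev_of x _ q le_rfl, C.res_self]

lemma ev_add {k : ℕ} (x y : C.X k) (s : NE ι) (j : ℕ) (t : Finset ι) :
    ev (x + y) s j t = ev x s j t + ev y s j t := by
  unfold ev
  split_ifs
  · simp
  · simp

lemma ev_smul {k : ℕ} (a : R) (x : C.X k) (s : NE ι) (j : ℕ) (t : Finset ι) :
    ev (a • x) s j t = a • ev x s j t := by
  unfold ev
  split_ifs
  · simp
  · simp

lemma ev_res {k : ℕ} (x : C.X k) {s s' : NE ι} (h : s ≤ s') (j : ℕ) (t : Finset ι) (ht : t ⊆ s.1) :
    C.res j h (ev x s j t) = ev x s' j t := by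
  unfold ev
  by_cases h1 : t.Nonempty ∧ j + (Fintype.card ι - t.card) = k
  · rw [dif_pos ⟨h1.1, ht, h1.2⟩, dif_pos ⟨h1.1, ht.trans h, h1.2⟩, C.res_res]
  · rw [dif_neg (fun h2 => h1 ⟨h2.1, h2.2.2⟩), dif_neg (fun h2 => h1 ⟨h2.1, h2.2.2⟩), map_zero]

lemma card_le (s : NE ι) : s.1.card ≤ Fintype.card ι := card_le_univ _

/-- The index `(s, j + 1)`. -/
abbrev up {k : ℕ} (q : Idx ι k) : Idx ι (k + 1) := ⟨(q.1.1, q.1.2 + 1), by have := q.2; dsimp only; omega⟩

variable (C)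

/-- The differential of the total complex. -/
def D (k : ℕ) : C.X (k + 1) →ₗ[R] C.X k where
  toFun x q := (-1 : ℤ) ^ (q.1.1.1.card + 1) • C.del q.1.2 q.1.1 (x (up q)) +
    ∑ i ∈ q.1.1.1, sgn i q.1.1.1 • ev x q.1.1 q.1.2 (q.1.1.1.erase i)
  map_add' x y := by
    funext q
    simp only [Pi.add_apply, ev_add, smul_add, sum_add_distrib, map_add]
    abel
  map_smul' a x := by
    funext q
    simp only [Pi.smul_apply, RingHom.id_apply, ev_smul, smul_add, smul_sum, map_smul]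
    congr 1
    · exact smul_comm _ _ _
    · exact sum_congr rfl fun i _ => smul_comm _ _ _

variable {C}

lemma D_apply {k : ℕ} (x : C.X (k + 1)) (q : Idx ι k) :
    C.D k x q = (-1 : ℤ) ^ (q.1.1.1.card + 1) • C.del q.1.2 q.1.1 (x (up q)) +
      ∑ i ∈ q.1.1.1, sgn i q.1.1.1 • ev x q.1.1 q.1.2 (q.1.1.1.erase i) := rfl

lemma ev_D {k : ℕ} (x : C.X (k + 1)) (s : NE ι) (j : ℕ) (t : Finset ι) (ht : t.Nonempty)
    (hts : t ⊆ s.1) (hj : j + (Fintype.card ι - t.card) = k) :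
    ev (C.D k x) s j t = (-1 : ℤ) ^ (t.card + 1) • C.del j s (ev x s (j + 1) t) +
      ∑ i ∈ t, sgn i t • ev x s j (t.erase i) := by
  have h1 : ev (C.D k x) s j t = C.res j (show (⟨t, ht⟩ : NE ι) ≤ s from hts)
      (C.D k x ⟨(⟨t, ht⟩, j), hj⟩) := by
    rw [ev, dif_pos ⟨ht, hts, hj⟩]
  rw [h1, D_apply, map_add, map_zsmul, map_sum]
  congr 1
  · congr 1
    refine (C.del_res _ _ _).trans ?_
    congr 1
    exact (ev_of x s (up ⟨(⟨t, ht⟩, j), hj⟩) hts).symm
  · refine sum_congr rfl fun i _ => ?_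
    rw [map_zsmul]
    congr 1
    exact ev_res x _ j _ (erase_subset _ _)

lemma ev_eq_zero {k : ℕ} (x : C.X k) (s : NE ι) (j : ℕ) {t : Finset ι}
    (h : ¬ (t.Nonempty ∧ j + (Fintype.card ι - t.card) = k)) : ev x s j t = 0 := by
  rw [ev, dif_neg (fun h2 => h ⟨h2.1, h2.2.2⟩)]

lemma D_D (k : ℕ) (x : C.X (k + 2)) : C.D k (C.D (k + 1) x) = 0 := by
  funext q
  obtain ⟨⟨s, j⟩, hq⟩ := q
  rw [Pi.zero_apply, D_apply]
  dsimp only
  have hs1 : 1 ≤ s.1.card := Finset.card_pos.2 s.2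
  have hs2 := card_le s
  dsimp only at hq
  have e1 : C.del j s (C.D (k + 1) x (up ⟨(s, j), hq⟩)) =
      ∑ i ∈ s.1, sgn i s.1 • C.del j s (ev x s (j + 1) (s.1.erase i)) := by
    rw [D_apply]
    dsimp only [up]
    rw [map_add, map_zsmul, C.del_del, smul_zero, zero_add, map_sum]
    exact sum_congr rfl fun i _ => map_zsmul _ _ _
  rw [e1]
  have e2 : ∀ i ∈ s.1, sgn i s.1 • ev (C.D (k + 1) x) s j (s.1.erase i) =
      (sgn i s.1 * (-1 : ℤ) ^ s.1.card) • C.del j s (ev x s (j + 1) (s.1.erase i)) +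
      ∑ i' ∈ s.1.erase i, (sgn i s.1 * sgn i' (s.1.erase i)) •
        ev x s j ((s.1.erase i).erase i') := by
    intro i hi
    have hc : (s.1.erase i).card = s.1.card - 1 := card_erase_of_mem hi
    by_cases hne : (s.1.erase i).Nonempty
    · rw [ev_D x s j _ hne (erase_subset _ _) (by omega), smul_add, smul_smul, smul_sum]
      congr 1
      · rw [hc, Nat.sub_add_cancel hs1]
      · exact sum_congr rfl fun i' _ => smul_smul _ _ _
    · rw [ev_eq_zero _ s j (fun h => hne h.1), ev_eq_zero _ s (j + 1) (fun h => hne h.1), map_zero,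
        smul_zero, smul_zero, zero_add]
      rw [not_nonempty_iff_eq_empty.1 hne, sum_empty]
  rw [sum_congr rfl e2, sum_add_distrib, ← add_assoc]
  have e3 : (-1 : ℤ) ^ (s.1.card + 1) •
      ∑ i ∈ s.1, sgn i s.1 • C.del j s (ev x s (j + 1) (s.1.erase i)) +
      ∑ i ∈ s.1, (sgn i s.1 * (-1 : ℤ) ^ s.1.card) • C.del j s (ev x s (j + 1) (s.1.erase i)) = 0 := by
    rw [smul_sum, ← sum_add_distrib]
    refine sum_eq_zero fun i _ => ?_
    rw [smul_smul, ← add_smul, pow_succ]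
    have : (-1 : ℤ) ^ s.1.card * -1 * sgn i s.1 + sgn i s.1 * (-1) ^ s.1.card = 0 := by ring
    rw [this, zero_smul]
  rw [e3, zero_add, sum_sigma']
  refine sum_involution (fun x _ => ⟨x.2, x.1⟩) ?_ ?_ ?_ ?_
  · rintro ⟨i, i'⟩ hx
    simp only [mem_sigma, mem_erase] at hx
    obtain ⟨hi, hne, hi'⟩ := hx
    have := sgn_erase_key hi hi' (Ne.symm hne)
    simp only
    rw [this, erase_right_comm (a := i') (b := i), neg_smul, neg_add_cancel]
  · rintro ⟨i, i'⟩ hx _ h
    simp only [mem_sigma, mem_erase] at hx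
    simp only [Sigma.mk.injEq] at h
    exact hx.2.1 h.1
  · rintro ⟨i, i'⟩ hx
    simp only [mem_sigma, mem_erase] at hx ⊢
    exact ⟨hx.2.2, Ne.symm hx.2.1, hx.1⟩
  · rintro ⟨i, i'⟩ _
    rfl

end CD

end Groth.Agent.Flat2B.GEx
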