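import Groth.Agent.Flat2B.GExDefs
import Mathlib.RingTheory.Flat.Equalizer
import Mathlib.LinearAlgebra.TensorProduct.Quotient
import Mathlib.RingTheory.MvPolynomial.Basic
import Mathlib.RingTheory.Nakayama
import Mathlib.LinearAlgebra.TensorProduct.Prod

/-!
# Linear algebra for the tower lemma (S1270, route E, AL1)
-/

set_option autoImplicit false

universe u v

open MvPolynomial TensorProduct

namespace Groth.Agent.Flat2B.GExTowerAlg

noncomputable section

theorem flat_prod {R : Type u} [CommRing R] {A B : Type u} [AddCommGroup A] [Module R A]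
    [AddCommGroup B] [Module R B]
    [Module.Flat R A] [Module.Flat R B] : Module.Flat R (A × B) := by
  rw [Module.Flat.iff_rTensor_preserves_injective_linearMap]
  intro N P _ _ _ _ f hf
  have h1 : (TensorProduct.prodRight R R P A B).toLinearMap ∘ₗ (f.rTensor (A × B)) =
      ((f.rTensor A).prodMap (f.rTensor B)) ∘ₗ (TensorProduct.prodRight R R N A B).toLinearMap := by
    apply TensorProduct.ext'
    intro x y
    rfl
  have h2 : Function.Injective
      ((TensorProduct.prodRight R R P A B).toLinearMap ∘ₗ (f.rTensor (A × B))) := by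
    rw [h1]
    have h3 : Function.Injective ((f.rTensor A).prodMap (f.rTensor B)) :=
      Prod.map_injective.mpr ⟨Module.Flat.rTensor_preserves_injective_linearMap f hf,
        Module.Flat.rTensor_preserves_injective_linearMap f hf⟩
    exact h3.comp (TensorProduct.prodRight R R N A B).injective
  exact Function.Injective.of_comp (f := (TensorProduct.prodRight R R P A B)) h2

/-- The kernel of a surjection between flat modules is flat. -/
theorem flat_ker {R : Type u} [CommRing R] {Y P : Type u} [AddCommGroup Y] [AddCommGroup P]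
    [Module R Y] [Module R P] [Module.Flat R Y] [Module.Flat R P] (g : Y →ₗ[R] P)
    (hg : Function.Surjective g) : Module.Flat R (LinearMap.ker g) := by
  rw [Module.Flat.iff_rTensor_preserves_injective_linearMap]
  intro N N' _ _ _ _ f hf
  have h1 : Function.Injective ((LinearMap.ker g).subtype.lTensor N) :=
    LinearMap.lTensor_injective_of_exact_of_flat g hg _ (LinearMap.ker g).injective_subtype
      (LinearMap.exact_subtype_ker_map g) N
  have h2 : Function.Injective (f.rTensor Y) := Module.Flat.rTensor_preserves_injective_linearMap f hf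
  have h3 : ((LinearMap.ker g).subtype.lTensor N').comp (f.rTensor (LinearMap.ker g)) =
      (f.rTensor Y).comp ((LinearMap.ker g).subtype.lTensor N) := by
    rw [LinearMap.lTensor_comp_rTensor, LinearMap.rTensor_comp_lTensor]
  refine Function.Injective.of_comp (f := (LinearMap.ker g).subtype.lTensor N') ?_
  rw [← LinearMap.coe_comp, h3, LinearMap.coe_comp]
  exact h2.comp h1

/-- Purity of the kernel of a surjection onto a flat module. -/
theorem mem_smul_ker {R : Type u} [CommRing R] {Y P : Type u} [AddCommGroup Y] [AddCommGroup P]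
    [Module R Y] [Module R P] [Module.Flat R P] (g : Y →ₗ[R] P)
    (hg : Function.Surjective g) (I : Ideal R) (y : LinearMap.ker g)
    (hy : (y : Y) ∈ I • (⊤ : Submodule R Y)) : y ∈ I • (⊤ : Submodule R (LinearMap.ker g)) := by
  have h1 : Function.Injective ((LinearMap.ker g).subtype.lTensor (R ⧸ I)) :=
    LinearMap.lTensor_injective_of_exact_of_flat g hg _ (LinearMap.ker g).injective_subtype
      (LinearMap.exact_subtype_ker_map g) (R ⧸ I)
  have h2 : ((1 : R ⧸ I) ⊗ₜ[R] (y : Y)) = 0 := by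
    apply (quotTensorEquivQuotSMul Y I).injective
    have := quotTensorEquivQuotSMul_mk_tmul I (1 : R) (y : Y)
    rw [map_one] at this
    rw [this, one_smul, map_zero]
    exact (Submodule.Quotient.mk_eq_zero _).mpr hy
  have h3 : ((1 : R ⧸ I) ⊗ₜ[R] y) = 0 := by
    apply h1
    rw [LinearMap.lTensor_tmul, map_zero]
    exact h2
  have h4 := congrArg (quotTensorEquivQuotSMul (LinearMap.ker g) I) h3
  have := quotTensorEquivQuotSMul_mk_tmul I (1 : R) y
  rw [map_one] at this
  rw [this, one_smul, map_zero] at h4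
  exact (Submodule.Quotient.mk_eq_zero _).mp h4

/-- Dependent choice along an inverse system. -/
theorem exists_lift_seq {X : ℕ → Type v} (r : ∀ n, X (n + 1) → X n) (P : ∀ n, X n → Prop)
    (x0 : X 0) (h0 : P 0 x0) (hs : ∀ n x, P n x → ∃ x', r n x' = x ∧ P (n + 1) x') :
    ∃ x : ∀ n, X n, x 0 = x0 ∧ (∀ n, r n (x (n + 1)) = x n) ∧ ∀ n, P n (x n) := by
  choose f hf using hs
  let x : ∀ n, {x : X n // P n x} := fun n ↦ Nat.rec ⟨x0, h0⟩
    (fun n y ↦ ⟨f n y.1 y.2, (hf n y.1 y.2).2⟩) n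
  exact ⟨fun n ↦ (x n).1, rfl, fun n ↦ (hf n (x n).1 (x n).2).1, fun n ↦ (x n).2⟩

/-- Filtered modules over `S[y_τ]`. -/
structure FMod (S : Type u) [CommRing S] (τ : Type) where
  C : Type u
  [grp : AddCommGroup C]
  [modS : Module S C]
  [mod : Module (MvPolynomial τ S) C]
  [tower : IsScalarTower S (MvPolynomial τ S) C]
  F : ℕ → Submodule S C
  mono : Monotone F
  exh : ∀ x, ∃ e, x ∈ F e
  smul_mem : ∀ e m (p : MvPolynomial τ S) x, p.totalDegree ≤ m → x ∈ F e → p • x ∈ F (e + m)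

attribute [instance] FMod.grp FMod.modS FMod.mod FMod.tower

variable {S : Type u} [CommRing S] {τ : Type}

/-- Filtered maps. -/
structure FHom (M N : FMod S τ) where
  f : M.C →ₗ[MvPolynomial τ S] N.C
  mem : ∀ e x, x ∈ M.F e → f x ∈ N.F e

/-- Composition of filtered maps. -/
def FHom.comp {M N P : FMod S τ} (g : FHom N P) (f : FHom M N) : FHom M P where
  f := g.f.comp f.f
  mem e x hx := g.mem e _ (f.mem e x hx)

namespace FMod

variable {T E W : FMod S τ} (δ : FHom T W) (ε : FHom E W)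

/-- The fibre product of filtered modules. -/
def pb : FMod S τ where
  C := ↥(LinearMap.eqLocus (δ.f.comp (LinearMap.fst (MvPolynomial τ S) T.C E.C))
    (ε.f.comp (LinearMap.snd (MvPolynomial τ S) T.C E.C)))
  F e := ((T.F e).prod (E.F e)).comap ((Submodule.subtype _).restrictScalars S)
  mono _ _ h _ hx := ⟨T.mono h hx.1, E.mono h hx.2⟩
  exh x := by
    obtain ⟨e, he⟩ := T.exh x.1.1
    obtain ⟨e', he'⟩ := E.exh x.1.2
    exact ⟨max e e', T.mono (le_max_left _ _) he, E.mono (le_max_right _ _) he'⟩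
  smul_mem e m p x hp hx := ⟨T.smul_mem e m p _ hp hx.1, E.smul_mem e m p _ hp hx.2⟩

/-- First projection. -/
def p1 : FHom (pb δ ε) T where
  f := (LinearMap.fst _ _ _).comp (Submodule.subtype _)
  mem _ _ hx := hx.1

/-- Second projection. -/
def p2 : FHom (pb δ ε) E where
  f := (LinearMap.snd _ _ _).comp (Submodule.subtype _)
  mem _ _ hx := hx.2

variable {δ ε}

theorem comm (x : (pb δ ε).C) : δ.f ((p1 δ ε).f x) = ε.f ((p2 δ ε).f x) := x.2

theorem ext {x y : (pb δ ε).C} (h1 : (p1 δ ε).f x = (p1 δ ε).f y)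
    (h2 : (p2 δ ε).f x = (p2 δ ε).f y) : x = y := Subtype.ext (Prod.ext h1 h2)

/-- Elements of the fibre product. -/
def pair (y : T.C) (v : E.C) (h : δ.f y = ε.f v) : (pb δ ε).C := ⟨(y, v), h⟩

@[simp] theorem p1_pair (y : T.C) (v : E.C) (h : δ.f y = ε.f v) :
    (p1 δ ε).f (pair y v h) = y := rfl

@[simp] theorem p2_pair (y : T.C) (v : E.C) (h : δ.f y = ε.f v) :
    (p2 δ ε).f (pair y v h) = v := rfl

theorem mem_F_iff (e : ℕ) (x : (pb δ ε).C) :
    x ∈ (pb δ ε).F e ↔ (p1 δ ε).f x ∈ T.F e ∧ (p2 δ ε).f x ∈ E.F e := Iff.rfl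

/-- Lifting to the fibre product. -/
def lift {N : FMod S τ} (a : FHom N T) (b : FHom N E) (h : ∀ x, δ.f (a.f x) = ε.f (b.f x)) :
    FHom N (pb δ ε) where
  f := LinearMap.codRestrict _ (a.f.prod b.f) h
  mem e x hx := ⟨a.mem e x hx, b.mem e x hx⟩

@[simp] theorem p1_lift {N : FMod S τ} (a : FHom N T) (b : FHom N E)
    (h : ∀ x, δ.f (a.f x) = ε.f (b.f x)) (x : N.C) : (p1 δ ε).f ((lift a b h).f x) = a.f x := rfl

@[simp] theorem p2_lift {N : FMod S τ} (a : FHom N T) (b : FHom N E)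
    (h : ∀ x, δ.f (a.f x) = ε.f (b.f x)) (x : N.C) : (p2 δ ε).f ((lift a b h).f x) = b.f x := rfl

end FMod

/-- The pair `δ, ε` is jointly surjective on each step of the filtration. -/
def Gen {T E W : FMod S τ} (δ : FHom T W) (ε : FHom E W) : Prop :=
  ∀ e, ∀ x ∈ W.F e, ∃ v ∈ E.F e, ∃ z ∈ T.F e, x = ε.f v + δ.f z

/-- The map on the step `e` of the filtration. -/
def stepMap {T E W : FMod S τ} (δ : FHom T W) (ε : FHom E W) (e : ℕ) :
    (↥(T.F e) × ↥(E.F e)) →ₗ[S] ↥(W.F e) :=
  LinearMap.codRestrict (W.F e)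
    (((δ.f.restrictScalars S).comp (T.F e).subtype).coprod
      (-((ε.f.restrictScalars S).comp (E.F e).subtype)))
    (fun x ↦ by
      change δ.f x.1 + -(ε.f x.2) ∈ W.F e
      exact add_mem (δ.mem e _ x.1.2) (neg_mem (ε.mem e _ x.2.2)))

theorem stepMap_apply {T E W : FMod S τ} (δ : FHom T W) (ε : FHom E W) (e : ℕ)
    (x : ↥(T.F e) × ↥(E.F e)) : (stepMap δ ε e x : W.C) = δ.f x.1 - ε.f x.2 := by
  rw [sub_eq_add_neg]
  rfl

theorem stepMap_surjective {T E W : FMod S τ} {δ : FHom T W} {ε : FHom E W} (h : Gen δ ε) (e : ℕ) :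
    Function.Surjective (stepMap δ ε e) := by
  rintro ⟨x, hx⟩
  obtain ⟨v, hv, z, hz, rfl⟩ := h e x hx
  refine ⟨(⟨z, hz⟩, -⟨v, hv⟩), Subtype.ext ?_⟩
  rw [stepMap_apply]
  change δ.f z - ε.f (-v) = ε.f v + δ.f z
  rw [map_neg, sub_neg_eq_add, add_comm]

/-- The step `e` of the fibre product is the kernel of `stepMap`. -/
def stepEquiv {T E W : FMod S τ} (δ : FHom T W) (ε : FHom E W) (e : ℕ) :
    ↥((FMod.pb δ ε).F e) ≃ₗ[S] ↥(LinearMap.ker (stepMap δ ε e)) where
  toFun x := ⟨(⟨(FMod.p1 δ ε).f x, x.2.1⟩, ⟨(FMod.p2 δ ε).f x, x.2.2⟩), by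
    rw [LinearMap.mem_ker]
    apply Subtype.ext
    rw [stepMap_apply]
    exact sub_eq_zero.mpr (FMod.comm x.1)⟩
  invFun x := ⟨FMod.pair x.1.1.1 x.1.2.1 (by
    have := congrArg Subtype.val (LinearMap.mem_ker.mp x.2)
    rw [stepMap_apply] at this
    exact sub_eq_zero.mp this), x.1.1.2, x.1.2.2⟩
  map_add' x y := rfl
  map_smul' c x := rfl
  left_inv x := rfl
  right_inv x := rfl

theorem flat_pb {T E W : FMod S τ} {δ : FHom T W} {ε : FHom E W} (h : Gen δ ε) (e : ℕ)
    [Module.Flat S (T.F e)] [Module.Flat S (E.F e)] [Module.Flat S (W.F e)] :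
    Module.Flat S ((FMod.pb δ ε).F e) := by
  have : Module.Flat S (↥(T.F e) × ↥(E.F e)) := flat_prod
  have := flat_ker (stepMap δ ε e) (stepMap_surjective h e)
  exact Module.Flat.of_linearEquiv (stepEquiv δ ε e)

/-- Semilinear filtered maps. -/
structure SHom {S' : Type u} [CommRing S'] (φ : S →+* S') (M : FMod S τ) (N : FMod S' τ) where
  f : M.C →+ N.C
  smul : ∀ (p : MvPolynomial τ S) x, f (p • x) = MvPolynomial.map φ p • f x
  mem : ∀ e x, x ∈ M.F e → f x ∈ N.F e

/-- Surjective base changes. -/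
structure SHom.IsBC {S' : Type u} [CommRing S'] {φ : S →+* S'} {M : FMod S τ} {N : FMod S' τ}
    (r : SHom φ M N) : Prop where
  surj : ∀ e, ∀ y ∈ N.F e, ∃ x ∈ M.F e, r.f x = y
  ker : ∀ e, ∀ x ∈ M.F e, r.f x = 0 → x ∈ RingHom.ker φ • M.F e

/-- Elements of `I • F e` are killed by base change along a map killing `I`. -/
theorem SHom.map_smul_ker {S' : Type u} [CommRing S'] {φ : S →+* S'} {M : FMod S τ} {N : FMod S' τ}
    (r : SHom φ M N) (e : ℕ) {x : M.C} (hx : x ∈ RingHom.ker φ • M.F e) : r.f x = 0 := by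
  induction hx using Submodule.smul_induction_on' with
  | smul a ha y hy =>
    have h1 : a • y = (C a : MvPolynomial τ S) • y := by
      rw [← algebraMap_eq, algebraMap_smul]
    rw [h1, r.smul, map_C, RingHom.mem_ker.mp ha, map_zero, zero_smul]
  | add x _ y _ hx hy => rw [map_add, hx, hy, add_zero]

section pbBC

variable {S' : Type u} [CommRing S'] {φ : S →+* S'} {T E W : FMod S τ} {T' E' W' : FMod S' τ}
  {δ : FHom T W} {ε : FHom E W} {δ' : FHom T' W'} {ε' : FHom E' W'}
  (rT : SHom φ T T') (rE : SHom φ E E') (rW : SHom φ W W')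
  (hδ : ∀ x, rW.f (δ.f x) = δ'.f (rT.f x)) (hε : ∀ x, rW.f (ε.f x) = ε'.f (rE.f x))

/-- The induced semilinear map on fibre products. -/
def pbMap : SHom φ (FMod.pb δ ε) (FMod.pb δ' ε') where
  f := AddMonoidHom.mk' (fun x ↦ FMod.pair (rT.f ((FMod.p1 δ ε).f x)) (rE.f ((FMod.p2 δ ε).f x)) (by
    rw [← hδ, ← hε, FMod.comm])) (by
    intro x y
    apply FMod.ext
    · simp
    · simp)
  smul p x := by
    apply FMod.ext
    · simp [rT.smul]
    · simp [rE.smul]
  mem e x hx := ⟨rT.mem e _ hx.1, rE.mem e _ hx.2⟩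

@[simp] theorem p1_pbMap (x : (FMod.pb δ ε).C) :
    (FMod.p1 δ' ε').f ((pbMap rT rE rW hδ hε).f x) = rT.f ((FMod.p1 δ ε).f x) := rfl

@[simp] theorem p2_pbMap (x : (FMod.pb δ ε).C) :
    (FMod.p2 δ' ε').f ((pbMap rT rE rW hδ hε).f x) = rE.f ((FMod.p2 δ ε).f x) := rfl

variable {rT rE rW}

theorem isBC_pbMap (hT : rT.IsBC) (hE : rE.IsBC) (hW : rW.IsBC) (h : Gen δ ε)
    (hfl : ∀ e, Module.Flat S (W.F e)) : (pbMap rT rE rW hδ hε).IsBC where
  surj e y hy := by
    obtain ⟨t, ht, ht'⟩ := hT.surj e _ hy.1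
    obtain ⟨v, hv, hv'⟩ := hE.surj e _ hy.2
    change rT.f t = (FMod.p1 δ' ε').f y at ht'
    change rE.f v = (FMod.p2 δ' ε').f y at hv'
    have h1 : δ.f t - ε.f v ∈ RingHom.ker φ • W.F e := by
      refine hW.ker e _ (sub_mem (δ.mem e _ ht) (ε.mem e _ hv)) ?_
      rw [map_sub, hδ, hε, ht', hv', FMod.comm, sub_self]
    -- `I • F e W` is hit by `I • (F e T × F e E)`
    have h2 : ∀ w ∈ RingHom.ker φ • W.F e, ∃ t' ∈ RingHom.ker φ • T.F e,
        ∃ v' ∈ RingHom.ker φ • E.F e, w = ε.f v' + δ.f t' := by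
      intro w hw
      induction hw using Submodule.smul_induction_on' with
      | smul a ha y hy =>
        obtain ⟨v', hv', t', ht', rfl⟩ := h e y hy
        refine ⟨a • t', Submodule.smul_mem_smul ha ht', a • v', Submodule.smul_mem_smul ha hv', ?_⟩
        rw [smul_add, LinearMap.map_smul_of_tower, LinearMap.map_smul_of_tower]
      | add x _ y _ hx hy =>
        obtain ⟨t1, ht1, v1, hv1, rfl⟩ := hx
        obtain ⟨t2, ht2, v2, hv2, rfl⟩ := hy
        refine ⟨t1 + t2, add_mem ht1 ht2, v1 + v2, add_mem hv1 hv2, ?_⟩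
        rw [map_add, map_add]
        abel
    obtain ⟨t', ht1, v', hv1, h3⟩ := h2 _ h1
    have ht2 : t' ∈ T.F e := Submodule.smul_le_right ht1
    have hv2 : v' ∈ E.F e := Submodule.smul_le_right hv1
    refine ⟨FMod.pair (t - t') (v + v') ?_, ⟨sub_mem ht ht2, add_mem hv hv2⟩, ?_⟩
    · rw [map_sub, map_add, sub_eq_iff_eq_add, add_assoc, ← h3]
      abel
    · apply FMod.ext
      · rw [p1_pbMap, FMod.p1_pair, map_sub, rT.map_smul_ker e ht1, sub_zero, ht']
      · rw [p2_pbMap, FMod.p2_pair, map_add, rE.map_smul_ker e hv1, add_zero, hv']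
  ker e x hx hx0 := by
    have := hfl e
    have h1 : (FMod.p1 δ ε).f x ∈ RingHom.ker φ • T.F e := by
      refine hT.ker e _ hx.1 ?_
      rw [← p1_pbMap rT rE rW hδ hε, hx0, map_zero]
    have h2 : (FMod.p2 δ ε).f x ∈ RingHom.ker φ • E.F e := by
      refine hE.ker e _ hx.2 ?_
      rw [← p2_pbMap rT rE rW hδ hε, hx0, map_zero]
    have key := mem_smul_ker (stepMap δ ε e) (stepMap_surjective h e) (RingHom.ker φ)
      (stepEquiv δ ε e ⟨x, hx⟩)
    have h3 : ((stepEquiv δ ε e ⟨x, hx⟩ : LinearMap.ker (stepMap δ ε e)) :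
        ↥(T.F e) × ↥(E.F e)) ∈ RingHom.ker φ • (⊤ : Submodule S (↥(T.F e) × ↥(E.F e))) := by
      have h5 : (⟨_, hx.1⟩ : ↥(T.F e)) ∈ RingHom.ker φ • (⊤ : Submodule S ↥(T.F e)) :=
        (Submodule.mem_smul_top_iff _ _ _).mpr h1
      have h6 : (⟨_, hx.2⟩ : ↥(E.F e)) ∈ RingHom.ker φ • (⊤ : Submodule S ↥(E.F e)) :=
        (Submodule.mem_smul_top_iff _ _ _).mpr h2
      have h7 := Submodule.mem_map_of_mem (f := LinearMap.inl S ↥(T.F e) ↥(E.F e)) h5
      have h8 := Submodule.mem_map_of_mem (f := LinearMap.inr S ↥(T.F e) ↥(E.F e)) h6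
      rw [Submodule.map_smul''] at h7 h8
      have h9 := add_mem (Submodule.smul_mono le_rfl le_top h7)
        (Submodule.smul_mono le_rfl le_top h8)
      rw [LinearMap.inl_apply, LinearMap.inr_apply, Prod.mk_add_mk, add_zero, zero_add] at h9
      exact h9
    have h4 := Submodule.mem_map_of_mem (f := (stepEquiv δ ε e).symm.toLinearMap) (key h3)
    rw [Submodule.map_smul''] at h4
    have h5 := Submodule.smul_mono (le_refl (RingHom.ker φ)) le_top h4
    rw [LinearEquiv.coe_coe, LinearEquiv.symm_apply_apply] at h5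
    exact (Submodule.mem_smul_top_iff _ _ _).mp h5

end pbBC


end

end Groth.Agent.Flat2B.GExTowerAlg
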