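import Groth.Agent.Flat2B.GExTowerAlg

/-!
# Free filtered modules (S1270, route E, AL1)
-/

set_option autoImplicit false

universe u v

open MvPolynomial

namespace Groth.Agent.Flat2B.GExTowerAlg

noncomputable section

section

variable (S : Type u) [CommRing S] (τ : Type) (J : Type) [Fintype J] (w : J → ℕ)

/-- The component `a` of the step `e` of the filtration of a free module. -/
def comp (a : J) (e : ℕ) : Submodule S (MvPolynomial τ S) :=
  if w a ≤ e then restrictTotalDegree τ S (e - w a) else ⊥

variable {S τ J w}

omit [Fintype J] in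
theorem mem_comp_iff {a : J} {e : ℕ} {p : MvPolynomial τ S} :
    p ∈ comp S τ J w a e ↔ p = 0 ∨ p.totalDegree + w a ≤ e := by
  unfold comp
  split_ifs with h
  · rw [mem_restrictTotalDegree]
    constructor
    · intro h1
      right
      omega
    · rintro (rfl | h1)
      · simp
      · omega
  · rw [Submodule.mem_bot]
    constructor
    · exact Or.inl
    · rintro (h1 | h1)
      · exact h1
      · omega

instance (a : J) (e : ℕ) : Module.Free S (comp S τ J w a e) := by
  by_cases h : w a ≤ e
  · rw [show comp S τ J w a e = restrictTotalDegree τ S (e - w a) from if_pos h]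
    exact Module.Free.of_basis (basisRestrictSupport S _)
  · rw [show comp S τ J w a e = ⊥ from if_neg h]
    infer_instance

instance [Finite τ] (a : J) (e : ℕ) : Module.Finite S (comp S τ J w a e) := by
  by_cases h : w a ≤ e
  · rw [show comp S τ J w a e = restrictTotalDegree τ S (e - w a) from if_pos h]
    infer_instance
  · rw [show comp S τ J w a e = ⊥ from if_neg h]
    infer_instance

variable (S τ J w)

/-- The free filtered module `⊕ S[y](-w a)`. -/
def free : FMod S τ where
  C := J → MvPolynomial τ S
  F e := Submodule.pi Set.univ (fun a ↦ comp S τ J w a e)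
  mono := by
    intro e e' h x hx a _
    have := hx a trivial
    rw [SetLike.mem_coe, mem_comp_iff] at this ⊢
    rcases this with h1 | h1
    · exact Or.inl h1
    · exact Or.inr (h1.trans h)
  exh x := by
    refine ⟨Finset.univ.sup (fun a ↦ (x a).totalDegree + w a), fun a _ ↦ ?_⟩
    rw [SetLike.mem_coe, mem_comp_iff]
    exact Or.inr (Finset.le_sup (f := fun a ↦ (x a).totalDegree + w a) (Finset.mem_univ a))
  smul_mem e m p x hp hx a _ := by
    have := hx a trivial
    rw [SetLike.mem_coe, mem_comp_iff] at this ⊢
    change p * x a = 0 ∨ (p * x a).totalDegree + w a ≤ e + m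
    rcases this with h1 | h1
    · left
      rw [h1, mul_zero]
    · right
      have := totalDegree_mul p (x a)
      omega

variable {S τ J w}

theorem mem_free_iff {e : ℕ} {v : J → MvPolynomial τ S} :
    v ∈ (free S τ J w).F e ↔ ∀ a, v a = 0 ∨ (v a).totalDegree + w a ≤ e := by
  constructor
  · intro h a
    exact mem_comp_iff.mp (h a trivial)
  · intro h a _
    exact mem_comp_iff.mpr (h a)

/-- The steps of the filtration are products. -/
def freeEquiv (e : ℕ) : ↥((free S τ J w).F e) ≃ₗ[S] ((a : J) → ↥(comp S τ J w a e)) where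
  toFun x a := ⟨x.1 a, x.2 a trivial⟩
  invFun x := ⟨fun a ↦ (x a).1, fun a _ ↦ (x a).2⟩
  map_add' _ _ := rfl
  map_smul' _ _ := rfl
  left_inv _ := rfl
  right_inv _ := rfl

instance (e : ℕ) : Module.Free S ↥((free S τ J w).F e) := Module.Free.of_equiv (freeEquiv e).symm

instance [Finite τ] (e : ℕ) : Module.Finite S ↥((free S τ J w).F e) :=
  Module.Finite.equiv (freeEquiv e).symm

/-- Filtered maps out of a free module. -/
def ofFam {M : FMod S τ} (z : J → M.C) (hz : ∀ a, z a ∈ M.F (w a)) : FHom (free S τ J w) M where
  f := 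
    { toFun := fun v ↦ ∑ a, v a • z a
      map_add' := fun v v' ↦ by
        rw [← Finset.sum_add_distrib]
        exact Finset.sum_congr rfl fun a _ ↦ add_smul _ _ _
      map_smul' := fun p v ↦ by
        rw [RingHom.id_apply, Finset.smul_sum]
        exact Finset.sum_congr rfl fun a _ ↦ mul_smul _ _ _ }
  mem e v hv := by
    refine Submodule.sum_mem _ fun a _ ↦ ?_
    rcases mem_free_iff.mp hv a with h | h
    · rw [h, zero_smul]
      exact zero_mem _
    · exact M.mono h (by
        rw [add_comm]
        exact M.smul_mem _ _ _ _ le_rfl (hz a))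

theorem ofFam_apply {M : FMod S τ} (z : J → M.C) (hz : ∀ a, z a ∈ M.F (w a))
    (v : J → MvPolynomial τ S) : (ofFam z hz).f v = ∑ a, v a • z a := rfl

theorem ofFam_single [DecidableEq J] {M : FMod S τ} (z : J → M.C) (hz : ∀ a, z a ∈ M.F (w a))
    (a : J) : (ofFam z hz).f (Pi.single a 1 : J → MvPolynomial τ S) = z a := by
  rw [ofFam_apply, Finset.sum_eq_single a]
  · rw [Pi.single_eq_same, one_smul]
  · intro b _ hb
    rw [Pi.single_eq_of_ne hb, zero_smul]
  · intro h
    exact absurd (Finset.mem_univ a) h

theorem single_mem [DecidableEq J] (a : J) :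
    (Pi.single a 1 : J → MvPolynomial τ S) ∈ (free S τ J w).F (w a) := by
  rw [mem_free_iff]
  intro b
  by_cases h : b = a
  · subst h
    right
    rw [Pi.single_eq_same, totalDegree_one, zero_add]
  · left
    rw [Pi.single_eq_of_ne h]

/-- Extensionality for maps out of a free module. -/
theorem fhom_ext {N : Type*} [AddCommGroup N] [Module (MvPolynomial τ S) N] [DecidableEq J]
    {f g : (J → MvPolynomial τ S) →ₗ[MvPolynomial τ S] N}
    (h : ∀ a, f (Pi.single a 1) = g (Pi.single a 1)) : f = g := by
  refine LinearMap.pi_ext' fun a ↦ LinearMap.ext_ring ?_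
  exact h a

/-- Lifting maps out of a free module along a jointly surjective pair. -/
theorem exists_lift {T E W : FMod S τ} {δ : FHom T W} {ε : FHom E W} (h : Gen δ ε)
    (g : FHom (free S τ J w) W) : ∃ (a : FHom (free S τ J w) E) (b : FHom (free S τ J w) T),
      ∀ x : J → MvPolynomial τ S, g.f x = ε.f (a.f x) + δ.f (b.f x) := by
  classical
  choose v hv z hz hx using fun a ↦ h (w a) _ (g.mem _ _ (single_mem (S := S) (τ := τ) (w := w) a))
  refine ⟨ofFam v hv, ofFam z hz, fun x ↦ ?_⟩
  have : (g.f : (J → MvPolynomial τ S) →ₗ[MvPolynomial τ S] W.C) =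
      ε.f.comp (ofFam v hv).f + δ.f.comp (ofFam z hz).f := by
    refine fhom_ext fun a ↦ ?_
    change g.f (Pi.single a 1 : J → MvPolynomial τ S) =
      ε.f ((ofFam v hv).f (Pi.single a 1 : J → MvPolynomial τ S)) +
      δ.f ((ofFam z hz).f (Pi.single a 1 : J → MvPolynomial τ S))
    rw [ofFam_single, ofFam_single]
    exact hx a
  exact LinearMap.congr_fun this x

section map

variable {S' : Type u} [CommRing S'] (φ : S →+* S')

omit [Fintype J] in
/-- Coefficientwise application of a ring map. -/
def mapFun : (J → MvPolynomial τ S) →+ (J → MvPolynomial τ S') where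
  toFun v a := MvPolynomial.map φ (v a)
  map_zero' := by
    funext a
    exact map_zero _
  map_add' x y := by
    funext a
    exact map_add _ _ _

omit [Fintype J] in
theorem mapFun_apply (v : J → MvPolynomial τ S) (a : J) :
    mapFun φ v a = MvPolynomial.map φ (v a) := rfl

theorem mapFun_mem {e : ℕ} {v : J → MvPolynomial τ S} (hv : v ∈ (free S τ J w).F e) :
    mapFun φ v ∈ (free S' τ J w).F e := by
  refine mem_free_iff.mpr fun a ↦ ?_
  rcases mem_free_iff.mp hv a with h | h
  · left
    rw [mapFun_apply, h, map_zero]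
  · right
    refine le_trans (Nat.add_le_add_right ?_ _) h
    exact Finset.sup_mono (MvPolynomial.support_map_subset φ _)

theorem exists_lift_poly (hφ : Function.Surjective φ) (p : MvPolynomial τ S') :
    ∃ q : MvPolynomial τ S, MvPolynomial.map φ q = p ∧ (p = 0 → q = 0) ∧
      q.totalDegree ≤ p.totalDegree := by
  classical
  choose c hc using hφ
  refine ⟨∑ s ∈ p.support, monomial s (c (coeff s p)), ?_, ?_, ?_⟩
  · rw [map_sum]
    conv_rhs => rw [p.as_sum]
    exact Finset.sum_congr rfl fun s _ ↦ by rw [map_monomial, hc]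
  · rintro rfl
    simp
  · rw [← mem_restrictTotalDegree]
    refine Submodule.sum_mem _ fun s hs ↦ ?_
    rw [mem_restrictTotalDegree]
    exact (totalDegree_monomial_le s _).trans (le_totalDegree hs)

theorem exists_lift_free (hφ : Function.Surjective φ) {e : ℕ} {v : J → MvPolynomial τ S'}
    (hv : v ∈ (free S' τ J w).F e) : ∃ v' ∈ (free S τ J w).F e, mapFun φ v' = v := by
  choose q hq hq0 hq' using fun a ↦ exists_lift_poly φ hφ (v a)
  refine ⟨q, mem_free_iff.mpr fun a ↦ ?_, funext hq⟩
  rcases mem_free_iff.mp hv a with h | h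
  · exact Or.inl (hq0 a h)
  · exact Or.inr ((Nat.add_le_add_right (hq' a) _).trans h)

theorem mem_ker_smul_free {e : ℕ} {v : J → MvPolynomial τ S}
    (hv : v ∈ (free S τ J w).F e) (h0 : mapFun φ v = 0) :
    v ∈ RingHom.ker φ • (free S τ J w).F e := by
  classical
  have h1 : ∀ a s, coeff s (v a) ∈ RingHom.ker φ := by
    intro a s
    have : MvPolynomial.map φ (v a) = 0 := congrFun h0 a
    rw [RingHom.mem_ker, ← coeff_map, this, coeff_zero]
  have h2 : v = ∑ a, ∑ s ∈ (v a).support,
      (coeff s (v a)) • (Pi.single a (monomial s 1) : J → MvPolynomial τ S) := by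
    funext b
    rw [Finset.sum_apply, Finset.sum_eq_single b]
    · rw [Finset.sum_apply]
      conv_lhs => rw [(v b).as_sum]
      refine Finset.sum_congr rfl fun s _ ↦ ?_
      rw [Pi.smul_apply, Pi.single_eq_same, smul_monomial, smul_eq_mul, mul_one]
    · intro a _ hab
      rw [Finset.sum_apply]
      refine Finset.sum_eq_zero fun s _ ↦ ?_
      rw [Pi.smul_apply, Pi.single_eq_of_ne hab.symm, smul_zero]
    · intro h
      exact absurd (Finset.mem_univ b) h
  have h3 : ∀ a, ∀ s ∈ (v a).support, (coeff s (v a)) •
      (Pi.single a (monomial s 1) : J → MvPolynomial τ S) ∈ RingHom.ker φ • (free S τ J w).F e := by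
    intro a s hs
    have h4 : (Pi.single a (monomial s 1) : J → MvPolynomial τ S) ∈ (free S τ J w).F e := ?_
    · exact Submodule.smul_mem_smul (M := (free S τ J w).C) (h1 a s) h4
    refine mem_free_iff.mpr fun b ↦ ?_
    by_cases hb : b = a
    · subst hb
      rcases mem_free_iff.mp hv b with h | h
      · rw [h, support_zero] at hs
        exact absurd hs (Finset.notMem_empty _)
      · right
        rw [Pi.single_eq_same]
        refine le_trans (Nat.add_le_add_right ?_ _) h
        exact (totalDegree_monomial_le s _).trans (le_totalDegree hs)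
    · left
      rw [Pi.single_eq_of_ne hb]
  rw [h2]
  let N : Submodule S (free S τ J w).C := RingHom.ker φ • (free S τ J w).F e
  exact N.sum_mem fun a _ ↦ N.sum_mem fun s hs ↦ h3 a s hs

variable (τ J w) in
/-- Base change of free modules. -/
def freeMap : SHom φ (free S τ J w) (free S' τ J w) where
  f := mapFun φ
  smul p _ := funext fun _ ↦ map_mul (MvPolynomial.map φ) p _
  mem _ _ hv := mapFun_mem φ hv

theorem freeMap_isBC (hφ : Function.Surjective φ) : (freeMap τ J w φ).IsBC where
  surj _ _ hv := exists_lift_free φ hφ hv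
  ker _ _ hv h0 := mem_ker_smul_free φ hv h0

end map

/-- Limits of compatible elements of free modules. -/
theorem exists_limit_free [Finite τ] {A : Type u} [CommRing A] {A' : ℕ → Type u}
    [∀ n, CommRing (A' n)] {φ : ∀ n, A' (n + 1) →+* A' n} {π : ∀ n, A →+* A' n}
    (hlim : FlatCA.IsRingLimit A A' φ π) (e : ℕ) (v : ∀ n, J → MvPolynomial τ (A' n))
    (hv : ∀ n, v n ∈ (free (A' n) τ J w).F e) (hc : ∀ n, mapFun (φ n) (v (n + 1)) = v n) :
    ∃ x ∈ (free A τ J w).F e, ∀ n, mapFun (π n) x = v n := by
  classical
  have hfin := Finsupp.finite_of_degree_le (σ := τ) e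
  have h1 : ∀ a s, ∃ c : A, ∀ n, π n c = coeff s (v n a) := by
    intro a s
    refine hlim.2.2 _ fun n ↦ ?_
    rw [← coeff_map]
    exact congrArg (coeff s) (congrFun (hc n) a)
  choose c hc' using h1
  have h2 : ∀ n a s, s ∉ hfin.toFinset → coeff s (v n a) = 0 := by
    intro n a s hs
    rw [Set.Finite.mem_toFinset, Set.mem_ofPred_eq, not_le] at hs
    rcases mem_free_iff.mp (hv n) a with h | h
    · rw [h, coeff_zero]
    · apply coeff_eq_zero_of_totalDegree_lt
      refine lt_of_le_of_lt ?_ hs
      omega
  refine ⟨fun a ↦ ∑ s ∈ hfin.toFinset, monomial s (c a s), mem_free_iff.mpr fun a ↦ ?_, ?_⟩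
  · by_cases hall : ∀ n, v n a = 0
    · left
      refine Finset.sum_eq_zero fun s _ ↦ ?_
      have : c a s = 0 := hlim.2.1 _ _ fun n ↦ by rw [hc', hall n, coeff_zero, map_zero]
      rw [this, monomial_zero]
    · right
      push Not at hall
      obtain ⟨n0, hn0⟩ := hall
      have hwa : w a ≤ e := by
        rcases mem_free_iff.mp (hv n0) a with h | h
        · exact absurd h hn0
        · omega
      have : ∑ s ∈ hfin.toFinset, monomial s (c a s) ∈ restrictTotalDegree τ A (e - w a) := by
        refine Submodule.sum_mem _ fun s _ ↦ ?_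
        by_cases hs : s.degree ≤ e - w a
        · rw [mem_restrictTotalDegree]
          exact (totalDegree_monomial_le s _).trans hs
        · have : c a s = 0 := hlim.2.1 _ _ fun n ↦ by
            rw [hc', map_zero]
            rcases mem_free_iff.mp (hv n) a with h | h
            · rw [h, coeff_zero]
            · apply coeff_eq_zero_of_totalDegree_lt
              refine lt_of_le_of_lt ?_ (not_le.mp hs)
              omega
          rw [this, monomial_zero]
          exact zero_mem _
      rw [mem_restrictTotalDegree] at this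
      omega
  · intro n
    funext a
    rw [mapFun_apply, map_sum]
    ext s
    rw [coeff_sum]
    by_cases hs : s ∈ hfin.toFinset
    · rw [Finset.sum_eq_single s]
      · rw [map_monomial, coeff_monomial, if_pos rfl, hc']
      · intro t _ hts
        rw [map_monomial, coeff_monomial, if_neg hts]
      · intro h
        exact absurd hs h
    · rw [h2 n a s hs]
      refine Finset.sum_eq_zero fun t ht ↦ ?_
      rw [map_monomial, coeff_monomial, if_neg]
      rintro rfl
      exact hs ht

/-- Elements of free modules over the limit are determined by their images. -/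
theorem free_eq_of_forall {A : Type u} [CommRing A] {A' : ℕ → Type u}
    [∀ n, CommRing (A' n)] {φ : ∀ n, A' (n + 1) →+* A' n} {π : ∀ n, A →+* A' n}
    (hlim : FlatCA.IsRingLimit A A' φ π) {p q : MvPolynomial τ A}
    (h : ∀ n, MvPolynomial.map (π n) p = MvPolynomial.map (π n) q) : p = q := by
  ext s
  refine hlim.2.1 _ _ fun n ↦ ?_
  rw [← coeff_map, ← coeff_map, h n]

end

end

end Groth.Agent.Flat2B.GExTowerAlg
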