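import Groth.Agent.Flat2B.GExTowerSeq

/-!
# Limits of stages of the tower lemma (S1270, route E, AL1)
-/

set_option autoImplicit false

universe u v

open MvPolynomial

namespace Groth.Agent.Flat2B.GExTowerAlg

noncomputable section

variable {A' : ℕ → Type u} [∀ n, CommRing (A' n)] {φ : ∀ n, A' (n + 1) →+* A' n} {τ : Type}

/-- Limits of towers. -/
structure ALim (𝒯 : ATower A' φ τ) {A : Type u} [CommRing A] (π : ∀ n, A →+* A' n) where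
  L : ACx A τ
  ρ : ∀ n k, SHom (π n) (L.M k) ((𝒯.T n).M k)
  ρ_d : ∀ n k x, (ρ n k).f ((L.d k).f x) = ((𝒯.T n).d k).f ((ρ n (k + 1)).f x)
  comp : ∀ n k x, (𝒯.r n k).f ((ρ (n + 1) k).f x) = (ρ n k).f x
  inj : ∀ k e x, x ∈ (L.M k).F e → (∀ n, (ρ n k).f x = 0) → x = 0
  surj : ∀ k e (y : ∀ n, ((𝒯.T n).M k).C), (∀ n, y n ∈ ((𝒯.T n).M k).F e) →
    (∀ n, (𝒯.r n k).f (y (n + 1)) = y n) → ∃ x ∈ (L.M k).F e, ∀ n, (ρ n k).f x = y n

namespace Gens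

variable {𝒯 : ATower A' φ τ} {A : Type u} [CommRing A] {π : ∀ n, A →+* A' n} (𝓛 : ALim 𝒯 π)
  {k : ℕ} {p : PreStage 𝒯 k} (g : Gens p)

section

variable {hsurj : ∀ n, Function.Surjective (φ n)}

/-- The second projection out of the next stage. -/
def q (n : ℕ) : FHom ((g.next hsurj).W n) (g.E n) := FMod.p2 (p.δ n) (g.ε n)

theorem q_δ (n : ℕ) (x : ((𝒯.T n).M (k + 2)).C) :
    (g.q (hsurj := hsurj) n).f (((g.next hsurj).δ n).f x) = 0 := rfl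

theorem next_ext {n : ℕ} {x y : ((g.next hsurj).W n).C}
    (h1 : ((g.next hsurj).pT n).f x = ((g.next hsurj).pT n).f y)
    (h2 : (g.q n).f x = (g.q n).f y) : x = y := FMod.ext h1 h2

theorem next_comm (n : ℕ) (x : ((g.next hsurj).W n).C) :
    (p.δ n).f (((g.next hsurj).pT n).f x) = (g.ε n).f ((g.q n).f x) := FMod.comm x

/-- Elements of the next stage. -/
def mkW (n : ℕ) (y : ((𝒯.T n).M (k + 1)).C) (v : (g.E n).C) (h : (p.δ n).f y = (g.ε n).f v) :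
    ((g.next hsurj).W n).C := FMod.pair y v h

@[simp] theorem pT_mkW (n : ℕ) (y : ((𝒯.T n).M (k + 1)).C) (v : (g.E n).C)
    (h : (p.δ n).f y = (g.ε n).f v) : ((g.next hsurj).pT n).f (g.mkW n y v h) = y := rfl

@[simp] theorem q_mkW (n : ℕ) (y : ((𝒯.T n).M (k + 1)).C) (v : (g.E n).C)
    (h : (p.δ n).f y = (g.ε n).f v) : (g.q (hsurj := hsurj) n).f (g.mkW n y v h) = v := rfl

theorem mkW_mem (n e : ℕ) (y : ((𝒯.T n).M (k + 1)).C) (v : (g.E n).C)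
    (h : (p.δ n).f y = (g.ε n).f v) (hy : y ∈ ((𝒯.T n).M (k + 1)).F e) (hv : v ∈ (g.E n).F e) :
    (g.mkW (hsurj := hsurj) n y v h) ∈ ((g.next hsurj).W n).F e := ⟨hy, hv⟩

theorem q_r (n : ℕ) (x : ((g.next hsurj).W (n + 1)).C) :
    (g.q n).f (((g.next hsurj).r n).f x) = (freeMap τ g.J g.w (φ n)).f ((g.q (n + 1)).f x) := rfl

end

/-- Compatible sequences in `W` are generated by the limits. -/
theorem exists_limit [Finite τ] (hsurj : ∀ n, Function.Surjective (φ n))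
    (hlim : FlatCA.IsRingLimit A A' φ π) (e : ℕ) (y : ∀ n, (p.W n).C)
    (hy : ∀ n, y n ∈ (p.W n).F e) (hc : ∀ n, (p.r n).f (y (n + 1)) = y n) :
    ∃ v ∈ (free A τ g.J g.w).F e, ∃ z ∈ (𝓛.L.M (k + 1)).F e, ∀ n,
      y n = (g.ε n).f (mapFun (π n) v) + (p.δ n).f ((𝓛.ρ n (k + 1)).f z) := by
  obtain ⟨v0, hv0, z0, hz0, h0⟩ := g.gen 0 e (y 0) (hy 0)
  obtain ⟨x, -, hx1, hx2⟩ := exists_lift_seq
    (X := fun n ↦ (g.E n).C × ((𝒯.T n).M (k + 1)).C)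
    (fun n x ↦ ((freeMap τ g.J g.w (φ n)).f x.1, (𝒯.r n (k + 1)).f x.2))
    (fun n x ↦ x.1 ∈ (g.E n).F e ∧ x.2 ∈ ((𝒯.T n).M (k + 1)).F e ∧
      y n = (g.ε n).f x.1 + (p.δ n).f x.2) (v0, z0) ⟨hv0, hz0, h0⟩ (by
    rintro n ⟨v, z⟩ ⟨hv, hz, h⟩
    obtain ⟨v', hv', z', hz', h'⟩ := g.gen (n + 1) e (y (n + 1)) (hy (n + 1))
    change y (n + 1) = (g.ε (n + 1)).f v' + _ at h'
    change y n = (g.ε n).f v + (p.δ n).f z at h
    have h1 : (p.δ n).f (z - (𝒯.r n (k + 1)).f z') =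
        (g.ε n).f ((freeMap τ g.J g.w (φ n)).f v' - v) := by
      have h2 := hc n
      rw [h', map_add, g.r_ε, p.r_δ, h] at h2
      rw [map_sub, map_sub, sub_eq_sub_iff_add_eq_add, h2, add_comm]
    obtain ⟨c, hc1, hc2⟩ := ((g.next hsurj).bc n).surj e (g.mkW n _ _ h1)
      ⟨sub_mem hz ((𝒯.r n (k + 1)).mem e z' hz'),
        sub_mem ((freeMap τ g.J g.w (φ n)).mem e v' hv') hv⟩
    have h3 := (congrArg ((g.next hsurj).pT n).f hc2).trans (g.pT_mkW n _ _ h1)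
    have h4 := (congrArg (g.q n).f hc2).trans (g.q_mkW n _ _ h1)
    rw [← (g.next hsurj).r_pT] at h3
    rw [g.q_r] at h4
    refine ⟨(v' - (g.q (n + 1)).f c, z' + ((g.next hsurj).pT (n + 1)).f c), ?_,
      sub_mem hv' ((g.q (n + 1)).mem e c hc1),
      add_mem hz' (((g.next hsurj).pT (n + 1)).mem e c hc1), ?_⟩
    · refine Prod.ext ?_ ?_
      · refine (map_sub (freeMap τ g.J g.w (φ n)).f _ _).trans ?_
        rw [h4]
        exact sub_sub_cancel _ _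
      · refine (map_add (𝒯.r n (k + 1)).f _ _).trans ?_
        rw [h3]
        exact add_sub_cancel _ _
    · rw [map_sub, map_add, g.next_comm, h']
      abel)
  obtain ⟨v, hv, hv'⟩ := exists_limit_free (τ := τ) (J := g.J) (w := g.w) hlim e
    (fun n ↦ (x n).1) (fun n ↦ (hx2 n).1) (fun n ↦ congrArg Prod.fst (hx1 n))
  obtain ⟨z, hz, hz'⟩ := 𝓛.surj (k + 1) e (fun n ↦ (x n).2) (fun n ↦ (hx2 n).2.1)
    (fun n ↦ congrArg Prod.snd (hx1 n))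
  refine ⟨v, hv, z, hz, fun n ↦ ?_⟩
  rw [hz' n]
  refine (hx2 n).2.2.trans ?_
  rw [← hv' n]

/-- The images of the generators. -/
theorem exists_t (a : g.J) : ∃ t ∈ (𝓛.L.M k).F (g.w a),
    ∀ n, (𝓛.ρ n k).f t = (p.pT n).f (g.γ n a) := by
  refine 𝓛.surj k (g.w a) (fun n ↦ (p.pT n).f (g.γ n a))
    (fun n ↦ (p.pT n).mem _ _ (g.γ_mem n a)) (fun n ↦ ?_)
  rw [p.r_pT, g.γ_comp]

/-- The images of the generators. -/
def t (a : g.J) : (𝓛.L.M k).C := (g.exists_t 𝓛 a).choose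

theorem t_mem (a : g.J) : g.t 𝓛 a ∈ (𝓛.L.M k).F (g.w a) := (g.exists_t 𝓛 a).choose_spec.1

theorem ρ_t (n : ℕ) (a : g.J) : (𝓛.ρ n k).f (g.t 𝓛 a) = (p.pT n).f (g.γ n a) :=
  (g.exists_t 𝓛 a).choose_spec.2 n

/-- The map to the limit. -/
def tH : FHom (free A τ g.J g.w) (𝓛.L.M k) := ofFam (g.t 𝓛) (g.t_mem 𝓛)

theorem map_ofFam' {S : Type u} [CommRing S] {J : Type}
    [Fintype J] {w : J → ℕ} {M N : FMod S τ} (f : FHom M N) (z : J → M.C)
    (hz : ∀ a, z a ∈ M.F (w a)) (z' : J → N.C) (hz' : ∀ a, z' a ∈ N.F (w a))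
    (h : ∀ a, f.f (z a) = z' a) (x : J → MvPolynomial τ S) :
    f.f ((ofFam z hz).f x) = (ofFam z' hz').f x := by
  rw [ofFam_apply, ofFam_apply, map_sum]
  refine Finset.sum_congr rfl fun a _ ↦ ?_
  rw [map_smul, h]

theorem ρ_tH (n : ℕ) (v : g.J → MvPolynomial τ A) :
    (𝓛.ρ n k).f ((g.tH 𝓛).f v) = (p.pT n).f ((g.ε n).f (mapFun (π n) v)) := by
  have h1 := map_ofFam (𝓛.ρ n k) (g.t 𝓛) (g.t_mem 𝓛) (fun a ↦ (p.pT n).f (g.γ n a))
    (fun a ↦ (p.pT n).mem _ _ (g.γ_mem n a)) (g.ρ_t 𝓛 n) v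
  have h2 := map_ofFam' (p.pT n) (g.γ n) (g.γ_mem n) (fun a ↦ (p.pT n).f (g.γ n a))
    (fun a ↦ (p.pT n).mem _ _ (g.γ_mem n a)) (fun a ↦ rfl) (mapFun (π n) v)
  exact h1.trans h2.symm

variable {hsurj : ∀ n, Function.Surjective (φ n)} (g' : Gens (g.next hsurj))

/-- The matrix of the differential. -/
theorem exists_D [Finite τ] (hlim : FlatCA.IsRingLimit A A' φ π) (a : g'.J) :
    ∃ D ∈ (free A τ g.J g.w).F (g'.w a), ∀ n, mapFun (π n) D = (g.q n).f (g'.γ n a) := by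
  refine exists_limit_free hlim (g'.w a) (fun n ↦ (g.q n).f (g'.γ n a))
    (fun n ↦ (g.q n).mem _ _ (g'.γ_mem n a)) (fun n ↦ ?_)
  refine (g.q_r n (g'.γ (n + 1) a)).symm.trans ?_
  rw [g'.γ_comp]

variable [Finite τ] (hlim : FlatCA.IsRingLimit A A' φ π)

/-- The matrix of the differential. -/
def D (a : g'.J) : g.J → MvPolynomial τ A := (g.exists_D g' hlim a).choose

theorem D_mem (a : g'.J) : g.D g' hlim a ∈ (free A τ g.J g.w).F (g'.w a) :=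
  (g.exists_D g' hlim a).choose_spec.1

theorem map_D (n : ℕ) (a : g'.J) : mapFun (π n) (g.D g' hlim a) = (g.q n).f (g'.γ n a) :=
  (g.exists_D g' hlim a).choose_spec.2 n

/-- The differential. -/
def dH : FHom (free A τ g'.J g'.w) (free A τ g.J g.w) := ofFam (g.D g' hlim) (g.D_mem g' hlim)

theorem map_dH (n : ℕ) (v : g'.J → MvPolynomial τ A) :
    (freeMap τ g.J g.w (π n)).f ((g.dH g' hlim).f v) = (g.q n).f ((g'.ε n).f (mapFun (π n) v)) := by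
  have h1 := map_ofFam (freeMap τ g.J g.w (π n)) (g.D g' hlim) (g.D_mem g' hlim)
    (fun a ↦ (g.q n).f (g'.γ n a))
    (fun a ↦ (g.q n).mem _ _ (g'.γ_mem n a)) (g.map_D g' hlim n) v
  have h2 := map_ofFam' (g.q n) (g'.γ n) (g'.γ_mem n) (fun a ↦ (g.q n).f (g'.γ n a))
    (fun a ↦ (g.q n).mem _ _ (g'.γ_mem n a)) (fun a ↦ rfl) (mapFun (π n) v)
  exact h1.trans h2.symm

end Gens

end

end Groth.Agent.Flat2B.GExTowerAlg
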