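import Groth.Agent.Flat2B.GExTowerStage

/-!
# Nakayama for jointly surjective pairs (S1270, route E, AL1)
-/

set_option autoImplicit false

universe u v

open MvPolynomial

namespace Groth.Agent.Flat2B.GExTowerAlg

noncomputable section

/-- Joint surjectivity lifts along nilpotent thickenings. -/
theorem gen_lift {S S' : Type u} [CommRing S] [CommRing S'] {φ : S →+* S'}
    (hnil : ∀ x ∈ RingHom.ker φ, IsNilpotent x)
    {τ : Type} [Finite τ] {T E W : FMod S τ} {T' E' W' : FMod S' τ}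
    {δ : FHom T W} {ε : FHom E W} {δ' : FHom T' W'} {ε' : FHom E' W'}
    {rT : SHom φ T T'} {rE : SHom φ E E'} {rW : SHom φ W W'}
    (hδ : ∀ x, rW.f (δ.f x) = δ'.f (rT.f x)) (hε : ∀ x, rW.f (ε.f x) = ε'.f (rE.f x))
    (hT : rT.IsBC) (hE : rE.IsBC) (hW : rW.IsBC) (h' : Gen δ' ε')
    {J0 : Type} [Fintype J0] {w0 : J0 → ℕ} {ε0 : FHom (free S τ J0 w0) W} (h0 : Gen δ ε0) :
    Gen δ ε := by
  intro e
  let D : Submodule S W.C := (T.F e).map (δ.f.restrictScalars S)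
  let N : Submodule S W.C := (E.F e).map (ε.f.restrictScalars S) ⊔ D
  let P : Submodule S W.C := ((free S τ J0 w0).F e).map (ε0.f.restrictScalars S)
  have hPfg : P.FG := Submodule.FG.map _ (Module.Finite.iff_fg.mp inferInstance)
  have hI : RingHom.ker φ ≤ Ideal.jacobson ⊥ := fun x hx ↦ Ideal.radical_le_jacobson (hnil x hx)
  have hPW : P ≤ W.F e := by
    rintro _ ⟨x, hx, rfl⟩
    exact ε0.mem e x hx
  have hWP : W.F e ≤ P ⊔ D := by
    intro x hx
    obtain ⟨v, hv, z, hz, rfl⟩ := h0 e x hx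
    exact Submodule.add_mem_sup ⟨v, hv, rfl⟩ ⟨z, hz, rfl⟩
  have hWN : W.F e ≤ N ⊔ RingHom.ker φ • W.F e := by
    intro x hx
    obtain ⟨v', hv', z', hz', h1⟩ := h' e _ (rW.mem e x hx)
    obtain ⟨v, hv, rfl⟩ := hE.surj e v' hv'
    obtain ⟨z, hz, rfl⟩ := hT.surj e z' hz'
    have h2 : x - (ε.f v + δ.f z) ∈ RingHom.ker φ • W.F e := by
      refine hW.ker e _ (sub_mem hx (add_mem (ε.mem e v hv) (δ.mem e z hz))) ?_
      rw [map_sub, map_add, hε, hδ, h1, sub_self]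
    have h3 : x = (ε.f v + δ.f z) + (x - (ε.f v + δ.f z)) := by abel
    rw [h3]
    exact Submodule.add_mem_sup (Submodule.add_mem_sup ⟨v, hv, rfl⟩ ⟨z, hz, rfl⟩) h2
  have hPN : P ≤ N ⊔ RingHom.ker φ • P := by
    refine hPW.trans (hWN.trans (sup_le le_sup_left ?_))
    refine (Submodule.smul_mono le_rfl hWP).trans ?_
    rw [Submodule.smul_sup]
    refine sup_le le_sup_right ?_
    exact Submodule.smul_le_right.trans (le_sup_right.trans le_sup_left)
  have hPN' : P ≤ N := Submodule.le_of_le_smul_of_le_jacobson_bot hPfg hI hPN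
  intro x hx
  obtain ⟨y, ⟨v, hv, rfl⟩, _, ⟨z, hz, rfl⟩, h⟩ := Submodule.mem_sup.mp
    ((hWP.trans (sup_le hPN' le_sup_right)) hx)
  exact ⟨v, hv, z, hz, h.symm⟩

end

end Groth.Agent.Flat2B.GExTowerAlg
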