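import Groth.Agent.Flat2B.GExTowerLim

/-!
# The limit complex of the tower lemma (S1270, route E, AL1)
-/

set_option autoImplicit false

universe u v

open MvPolynomial

namespace Groth.Agent.Flat2B.GExTowerAlg

noncomputable section

variable {A' : ℕ → Type u} [∀ n, CommRing (A' n)] {φ : ∀ n, A' (n + 1) →+* A' n} {τ : Type}

namespace Gens

variable {𝒯 : ATower A' φ τ} {A : Type u} [CommRing A] {π : ∀ n, A →+* A' n} (𝓛 : ALim 𝒯 π)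
  {k : ℕ} {p : PreStage 𝒯 k} (g : Gens p)
  {hsurj : ∀ n, Function.Surjective (φ n)} (g' : Gens (g.next hsurj))

/-- Exactness at finite level. -/
theorem key_level (n e : ℕ) (v : (g.E n).C) (y : ((𝒯.T n).M (k + 1)).C) (hv : v ∈ (g.E n).F e)
    (hy : y ∈ ((𝒯.T n).M (k + 1)).F e) (h : (g.ε n).f v = (p.δ n).f y) :
    ∃ v' ∈ (g'.E n).F e, ∃ z ∈ ((𝒯.T n).M (k + 2)).F e, (g.q n).f ((g'.ε n).f v') = v ∧
      ((g.next hsurj).pT n).f ((g'.ε n).f v') + ((𝒯.T n).d (k + 1)).f z = y := by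
  obtain ⟨v', hv', z, hz, h'⟩ := g'.gen n e (g.mkW n y v h.symm) (g.mkW_mem n e y v h.symm hy hv)
  change _ = (g'.ε n).f v' + _ at h'
  refine ⟨v', hv', z, hz, ?_, ?_⟩
  · have h1 := congrArg (g.q n).f h'
    rw [map_add, g.q_mkW, g.q_δ, add_zero] at h1
    exact h1.symm
  · have h1 := congrArg ((g.next hsurj).pT n).f h'
    rw [map_add, g.pT_mkW, (g.next hsurj).pT_δ] at h1
    exact h1.symm

theorem cyc_level (n : ℕ) (v : (g'.E n).C) (y : ((𝒯.T n).M (k + 2)).C)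
    (h1 : (g.q n).f ((g'.ε n).f v) = 0)
    (h2 : ((g.next hsurj).pT n).f ((g'.ε n).f v) = ((𝒯.T n).d (k + 1)).f y) :
    (g'.ε n).f v = ((g.next hsurj).δ n).f y := by
  apply g.next_ext
  · rw [h2, (g.next hsurj).pT_δ]
  · rw [h1, g.q_δ]

variable [Finite τ] (hlim : FlatCA.IsRingLimit A A' φ π)

theorem comm (v : g'.J → MvPolynomial τ A) :
    (𝓛.L.d k).f ((g'.tH 𝓛).f v) = (g.tH 𝓛).f ((g.dH g' hlim).f v) := by
  obtain ⟨e, he⟩ := (free A τ g'.J g'.w).exh v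
  refine sub_eq_zero.mp (𝓛.inj k e _ (sub_mem ((𝓛.L.d k).mem e _ ((g'.tH 𝓛).mem e _ he))
    ((g.tH 𝓛).mem e _ ((g.dH g' hlim).mem e _ he))) fun n ↦ ?_)
  rw [map_sub, 𝓛.ρ_d, g'.ρ_tH, sub_eq_zero]
  refine Eq.trans ?_ (g.ρ_tH 𝓛 n _).symm
  have h1 : mapFun (π n) ((g.dH g' hlim).f v) = (g.q n).f ((g'.ε n).f (mapFun (π n) v)) :=
    g.map_dH g' hlim n v
  rw [h1, ← g.next_comm, p.pT_δ]

theorem D_D (g'' : Gens (g'.next hsurj)) (a : g''.J) (c : g.J) :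
    ∑ b, g'.D g'' hlim a b * g.D g' hlim b c = 0 := by
  have h1 : ∑ b, g'.D g'' hlim a b * g.D g' hlim b c =
      ((g.dH g' hlim).f (g'.D g'' hlim a) : g.J → MvPolynomial τ A) c := by
    change _ = (∑ b, g'.D g'' hlim a b • g.D g' hlim b) c
    rw [Finset.sum_apply]
    rfl
  rw [h1]
  refine free_eq_of_forall hlim fun n ↦ ?_
  have h2 : mapFun (π n) ((g.dH g' hlim).f (g'.D g'' hlim a)) =
      (g.q n).f ((g'.ε n).f (mapFun (π n) (g'.D g'' hlim a))) :=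
    g.map_dH g' hlim n _
  rw [map_zero]
  refine (congrFun h2 c).trans ?_
  rw [g'.map_D g'' hlim n a]
  have h3 : (g'.ε n).f ((g'.q n).f (g''.γ n a)) = ((g.next hsurj).δ n).f _ :=
    (g'.next_comm n (g''.γ n a)).symm
  have h4 : (g.q n).f ((g'.ε n).f ((g'.q n).f (g''.γ n a))) = 0 := by
    rw [h3, g.q_δ]
  exact congrFun h4 c

/-- Exactness in the limit. -/
theorem key_limit (e : ℕ) (v : g.J → MvPolynomial τ A) (y : (𝓛.L.M (k + 1)).C)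
    (hv : v ∈ (free A τ g.J g.w).F e)
    (hy : y ∈ (𝓛.L.M (k + 1)).F e)
    (h : ∀ n, (g.ε n).f (mapFun (π n) v) = (p.δ n).f ((𝓛.ρ n (k + 1)).f y)) :
    ∃ v' ∈ (free A τ g'.J g'.w).F e, ∃ z ∈ (𝓛.L.M (k + 2)).F e, (g.dH g' hlim).f v' = v ∧
      (g'.tH 𝓛).f v' + (𝓛.L.d (k + 1)).f z = y := by
  obtain ⟨vn, hvn⟩ : ∃ vn : ∀ n, (g.E n).C, ∀ n, vn n = mapFun (π n) v :=
    ⟨fun n ↦ mapFun (π n) v, fun n ↦ rfl⟩
  have hvn' : ∀ n, vn n ∈ (g.E n).F e := fun n ↦ by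
    rw [hvn]
    exact mapFun_mem (π n) hv
  have hvc : ∀ n, (freeMap τ g.J g.w (φ n)).f (vn (n + 1)) = vn n := by
    intro n
    rw [hvn, hvn]
    funext a
    change MvPolynomial.map (φ n) (MvPolynomial.map (π (n + 1)) (v a)) =
      MvPolynomial.map (π n) (v a)
    rw [MvPolynomial.map_map, hlim.1 n]
  have h0 : ∀ n, (p.δ n).f ((𝓛.ρ n (k + 1)).f y) = (g.ε n).f (vn n) := fun n ↦ by
    rw [← h n, hvn]
  obtain ⟨v', hv', z, hz, h'⟩ := g'.exists_limit 𝓛 hsurj hlim e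
    (fun n ↦ g.mkW n ((𝓛.ρ n (k + 1)).f y) (vn n) (h0 n))
    (fun n ↦ g.mkW_mem n e _ _ _ ((𝓛.ρ n (k + 1)).mem e y hy) (hvn' n))
    (fun n ↦ by
      apply g.next_ext
      · rw [← (g.next hsurj).r_pT, g.pT_mkW, g.pT_mkW]
        exact 𝓛.comp n (k + 1) y
      · rw [g.q_r, g.q_mkW, g.q_mkW, hvc])
  refine ⟨v', hv', z, hz, ?_, ?_⟩
  · funext c
    refine free_eq_of_forall hlim fun n ↦ ?_
    have h1 := congrArg (g.q n).f (h' n)
    rw [map_add, g.q_mkW, g.q_δ, add_zero, hvn] at h1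
    have h2 : mapFun (π n) ((g.dH g' hlim).f v') = (g.q n).f ((g'.ε n).f (mapFun (π n) v')) :=
      g.map_dH g' hlim n v'
    exact congrFun (h2.trans h1.symm) c
  · refine (sub_eq_zero.mp (𝓛.inj (k + 1) e _ (sub_mem hy (add_mem ((g'.tH 𝓛).mem e _ hv')
      ((𝓛.L.d (k + 1)).mem e _ hz))) fun n ↦ ?_)).symm
    have h1 := congrArg ((g.next hsurj).pT n).f (h' n)
    rw [map_add, g.pT_mkW, (g.next hsurj).pT_δ] at h1
    have h3 : (𝓛.ρ n (k + 1)).f ((g'.tH 𝓛).f v') =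
        ((g.next hsurj).pT n).f ((g'.ε n).f (mapFun (π n) v')) := g'.ρ_tH 𝓛 n v'
    rw [map_sub, map_add, h3, 𝓛.ρ_d, h1, sub_self]

theorem cyc_limit (v : g'.J → MvPolynomial τ A) (y : (𝓛.L.M (k + 2)).C)
    (h1 : (g.dH g' hlim).f v = 0)
    (h2 : (g'.tH 𝓛).f v = (𝓛.L.d (k + 1)).f y) (n : ℕ) :
    (g'.ε n).f (mapFun (π n) v) = ((g.next hsurj).δ n).f ((𝓛.ρ n (k + 2)).f y) := by
  apply g.cyc_level
  · have h3 : mapFun (π n) ((g.dH g' hlim).f v) = (g.q n).f ((g'.ε n).f (mapFun (π n) v)) :=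
      g.map_dH g' hlim n v
    rw [← h3, h1]
    exact (mapFun (π n)).map_zero
  · rw [← g'.ρ_tH, h2, 𝓛.ρ_d]

end Gens

end

end Groth.Agent.Flat2B.GExTowerAlg
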