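import Groth.Agent.Flat2B.GExTowerNak

/-!
# Stages of the tower lemma (S1270, route E, AL1)
-/

set_option autoImplicit false

universe u v

open MvPolynomial

namespace Groth.Agent.Flat2B.GExTowerAlg

noncomputable section

/-- Towers of pseudo-coherent complexes of flat filtered modules. -/
structure ATower (A' : ℕ → Type u) [∀ n, CommRing (A' n)]
    (φ : ∀ n, A' (n + 1) →+* A' n) (τ : Type) where
  T : ∀ n, ACx (A' n) τ
  flat : ∀ n k e, Module.Flat (A' n) (((T n).M k).F e)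
  r : ∀ n k, SHom (φ n) ((T (n + 1)).M k) ((T n).M k)
  bc : ∀ n k, (r n k).IsBC
  r_d : ∀ n k x, (r n k).f (((T (n + 1)).d k).f x) = ((T n).d k).f ((r n (k + 1)).f x)
  P : ∀ n, ACx (A' n) τ
  hP : ∀ n k, FP ((P n).M k)
  ψ : ∀ n, AHom (P n) (T n)
  qi : ∀ n, (ψ n).QI

variable {A' : ℕ → Type u} [∀ n, CommRing (A' n)] {φ : ∀ n, A' (n + 1) →+* A' n} {τ : Type}

/-- Stages of the construction, before the choice of generators. -/
structure PreStage (𝒯 : ATower A' φ τ) (k : ℕ) where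
  W : ∀ n, FMod (A' n) τ
  δ : ∀ n, FHom ((𝒯.T n).M (k + 1)) (W n)
  pT : ∀ n, FHom (W n) ((𝒯.T n).M k)
  r : ∀ n, SHom (φ n) (W (n + 1)) (W n)
  bc : ∀ n, (r n).IsBC
  flat : ∀ n e, Module.Flat (A' n) ((W n).F e)
  r_δ : ∀ n x, (r n).f ((δ (n + 1)).f x) = (δ n).f ((𝒯.r n (k + 1)).f x)
  r_pT : ∀ n x, (𝒯.r n k).f ((pT (n + 1)).f x) = (pT n).f ((r n).f x)
  δ_d : ∀ n x, (δ n).f (((𝒯.T n).d (k + 1)).f x) = 0
  pT_δ : ∀ n x, (pT n).f ((δ n).f x) = ((𝒯.T n).d k).f x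
  wit : ∀ n, Wit (𝒯.ψ n) k (W n) (δ n)

/-- Compatible generators. -/
structure Gens {𝒯 : ATower A' φ τ} {k : ℕ} (p : PreStage 𝒯 k) where
  J : Type
  [fin : Fintype J]
  w : J → ℕ
  γ : ∀ n, J → (p.W n).C
  γ_mem : ∀ n a, γ n a ∈ (p.W n).F (w a)
  γ_comp : ∀ n a, (p.r n).f (γ (n + 1) a) = γ n a
  gen : ∀ n, Gen (p.δ n) (ofFam (γ n) (γ_mem n))

attribute [instance] Gens.fin

theorem map_ofFam {S S' : Type u} [CommRing S] [CommRing S'] {ρ : S →+* S'} {τ J : Type}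
    [Fintype J] {w : J → ℕ} {M : FMod S τ} {N : FMod S' τ} (r : SHom ρ M N) (z : J → M.C)
    (hz : ∀ a, z a ∈ M.F (w a)) (z' : J → N.C) (hz' : ∀ a, z' a ∈ N.F (w a))
    (h : ∀ a, r.f (z a) = z' a) (x : J → MvPolynomial τ S) :
    r.f ((ofFam z hz).f x) = (ofFam z' hz').f (mapFun ρ x) := by
  rw [ofFam_apply, ofFam_apply, map_sum]
  refine Finset.sum_congr rfl fun a _ ↦ ?_
  rw [r.smul, h, mapFun_apply]

/-- Compatible generators exist. -/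
theorem PreStage.exists_gens [Finite τ] {𝒯 : ATower A' φ τ} {k : ℕ} (p : PreStage 𝒯 k)
    (hsurj : ∀ n, Function.Surjective (φ n))
    (hnil : ∀ n, ∀ x ∈ RingHom.ker (φ n), IsNilpotent x) : Nonempty (Gens p) := by
  classical
  obtain ⟨J, _, w, ε0, h0⟩ := (p.wit 0).exists_gen
  have h1 : ∀ a : J, ∃ y : ∀ n, (p.W n).C, y 0 = ε0.f (Pi.single a 1 : J → MvPolynomial τ (A' 0)) ∧
      (∀ n, (p.r n).f (y (n + 1)) = y n) ∧ ∀ n, y n ∈ (p.W n).F (w a) := by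
    intro a
    refine exists_lift_seq (fun n ↦ (p.r n).f) (fun n y ↦ y ∈ (p.W n).F (w a)) _
      (ε0.mem _ _ (single_mem a)) ?_
    intro n x hx
    obtain ⟨x', hx', h⟩ := (p.bc n).surj _ x hx
    exact ⟨x', h, hx'⟩
  choose y hy0 hyr hym using h1
  refine ⟨⟨J, w, fun n a ↦ y a n, fun n a ↦ hym a n, fun n a ↦ hyr a n, ?_⟩⟩
  intro n
  induction n with
  | zero =>
    have h2 : (ofFam (w := w) (fun a ↦ y a 0) (fun a ↦ hym a 0)).f = ε0.f := by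
      refine fhom_ext fun a ↦ ?_
      exact (ofFam_single (fun a ↦ y a 0) (fun a ↦ hym a 0) a).trans (hy0 a)
    intro e x hx
    obtain ⟨v, hv, z, hz, h3⟩ := h0 e x hx
    exact ⟨v, hv, z, hz, by rw [h2]; exact h3⟩
  | succ n ih =>
    obtain ⟨J', _, w', ε', h'⟩ := (p.wit (n + 1)).exists_gen
    exact gen_lift (hnil n) (rT := 𝒯.r n (k + 1)) (rE := freeMap τ J w (φ n)) (rW := p.r n)
      (p.r_δ n) (fun x ↦ map_ofFam (p.r n) _ _ _ _ (fun a ↦ hyr a n) x) (𝒯.bc n (k + 1))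
      (freeMap_isBC (φ n) (hsurj n)) (p.bc n) ih h'

namespace Gens

variable {𝒯 : ATower A' φ τ} {k : ℕ} {p : PreStage 𝒯 k} (g : Gens p)

/-- The free module on the generators. -/
abbrev E (n : ℕ) : FMod (A' n) τ := free (A' n) τ g.J g.w

/-- The map given by the generators. -/
def ε (n : ℕ) : FHom (g.E n) (p.W n) := ofFam (g.γ n) (g.γ_mem n)

theorem r_ε (n : ℕ) (x : (g.E (n + 1)).C) : (p.r n).f ((g.ε (n + 1)).f x) =
    (g.ε n).f ((freeMap τ g.J g.w (φ n)).f x) :=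
  map_ofFam (p.r n) _ _ _ _ (fun a ↦ g.γ_comp n a) x

/-- The next stage. -/
def next (hsurj : ∀ n, Function.Surjective (φ n)) : PreStage 𝒯 (k + 1) where
  W n := FMod.pb (p.δ n) (g.ε n)
  δ n := nextδ (p.δ n) (g.ε n) (p.δ_d n)
  pT n := FMod.p1 (p.δ n) (g.ε n)
  r n := pbMap (𝒯.r n (k + 1)) (freeMap τ g.J g.w (φ n)) (p.r n) (p.r_δ n) (g.r_ε n)
  bc n := isBC_pbMap (p.r_δ n) (g.r_ε n) (𝒯.bc n (k + 1)) (freeMap_isBC (φ n) (hsurj n)) (p.bc n)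
    (g.gen (n + 1)) (p.flat (n + 1))
  flat n e := by
    have := 𝒯.flat n (k + 1) e
    have := p.flat n e
    exact flat_pb (g.gen n) e
  r_δ n x := by
    apply FMod.ext
    · rw [p1_pbMap, p1_nextδ, p1_nextδ, 𝒯.r_d]
    · rw [p2_pbMap, p2_nextδ, p2_nextδ, map_zero]
  r_pT _ _ := rfl
  δ_d n x := by
    apply FMod.ext
    · rw [p1_nextδ, (𝒯.T n).d_d, map_zero]
    · rw [p2_nextδ, map_zero]
  pT_δ _ _ := rfl
  wit n := Wit.next (𝒯.qi n) (𝒯.hP n) (p.wit n) (p.δ_d n) (FP.free _ _) (g.gen n)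

end Gens

/-- The first stage. -/
def PreStage.zero (𝒯 : ATower A' φ τ) : PreStage 𝒯 0 where
  W n := (𝒯.T n).M 0
  δ n := (𝒯.T n).d 0
  pT _ := FHom.id _
  r n := 𝒯.r n 0
  bc n := 𝒯.bc n 0
  flat n e := 𝒯.flat n 0 e
  r_δ n x := 𝒯.r_d n 0 x
  r_pT _ _ := rfl
  δ_d n x := (𝒯.T n).d_d 0 x
  pT_δ _ _ := rfl
  wit n := Wit.zero (𝒯.qi n) (𝒯.hP n 0)

section

variable [Finite τ] (𝒯 : ATower A' φ τ) (hsurj : ∀ n, Function.Surjective (φ n))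
  (hnil : ∀ n, ∀ x ∈ RingHom.ker (φ n), IsNilpotent x)

/-- All stages. -/
def stg : ∀ k : ℕ, Σ p : PreStage 𝒯 k, Gens p
  | 0 => ⟨PreStage.zero 𝒯, ((PreStage.zero 𝒯).exists_gens hsurj hnil).some⟩
  | k + 1 => ⟨(stg k).2.next hsurj, (((stg k).2.next hsurj).exists_gens hsurj hnil).some⟩

theorem stg_succ_fst (k : ℕ) : (stg 𝒯 hsurj hnil (k + 1)).1 = (stg 𝒯 hsurj hnil k).2.next hsurj :=
  rfl

end

end

end Groth.Agent.Flat2B.GExTowerAlg
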