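import Groth.Agent.Flat2B.GExTowerFree

/-!
# Witnesses of pseudo-coherence (S1270, route E, AL1)
-/

set_option autoImplicit false

universe u v

open MvPolynomial

namespace Groth.Agent.Flat2B.GExTowerAlg

open GEx

noncomputable section

section

variable {S : Type u} [CommRing S] {τ : Type}

/-- Identity. -/
def FHom.id (M : FMod S τ) : FHom M M := ⟨LinearMap.id, fun _ _ h ↦ h⟩

/-- The zero map. -/
def zeroH (M N : FMod S τ) : FHom M N := ⟨0, fun _ _ _ ↦ zero_mem _⟩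

/-- Filtered direct summands of finite free filtered modules. -/
def FP (M : FMod S τ) : Prop := ∃ (J : Type) (_ : Fintype J) (w : J → ℕ)
  (i : FHom M (free S τ J w)) (r : FHom (free S τ J w) M), ∀ x, r.f (i.f x) = x

theorem FP.free (J : Type) [Fintype J] (w : J → ℕ) : FP (free S τ J w) :=
  ⟨J, inferInstance, w, FHom.id _, FHom.id _, fun _ ↦ rfl⟩

theorem FP.exists_lift {V : FMod S τ} (hV : FP V) {T E W : FMod S τ} {δ : FHom T W}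
    {ε : FHom E W} (h : Gen δ ε) (g : FHom V W) :
    ∃ (a : FHom V E) (b : FHom V T), ∀ x, g.f x = ε.f (a.f x) + δ.f (b.f x) := by
  obtain ⟨J, _, w, i, r, hir⟩ := hV
  obtain ⟨a, b, hab⟩ := GExTowerAlg.exists_lift h (g.comp r)
  refine ⟨a.comp i, b.comp i, fun x ↦ ?_⟩
  refine Eq.trans ?_ (hab (i.f x))
  change g.f x = g.f (r.f (i.f x))
  rw [hir]

theorem FP.pb {M₁ M₂ V : FMod S τ} (hM₁ : FP M₁) (hM₂ : FP M₂)
    (hV : FP V) {δ : FHom M₁ V} {ε : FHom M₂ V}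
    (h : Gen δ ε) : FP (FMod.pb δ ε) := by
  obtain ⟨a, b, hab⟩ := hV.exists_lift h (FHom.id V)
  have hab' : ∀ x, x = ε.f (a.f x) + δ.f (b.f x) := hab
  obtain ⟨J₁, _, w₁, i₁, r₁, hir₁⟩ := hM₁
  obtain ⟨J₂, _, w₂, i₂, r₂, hir₂⟩ := hM₂
  let F := GExTowerAlg.free S τ (J₁ ⊕ J₂) (Sum.elim w₁ w₂)
  let c₁ : FHom F (GExTowerAlg.free S τ J₁ w₁) :=
    ⟨LinearMap.funLeft _ _ Sum.inl, fun e v hv ↦ mem_free_iff.mpr fun a ↦
      mem_free_iff.mp hv (Sum.inl a)⟩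
  let c₂ : FHom F (GExTowerAlg.free S τ J₂ w₂) :=
    ⟨LinearMap.funLeft _ _ Sum.inr, fun e v hv ↦ mem_free_iff.mpr fun a ↦
      mem_free_iff.mp hv (Sum.inr a)⟩
  let q₁ : FHom F M₁ := r₁.comp c₁
  let q₂ : FHom F M₂ := r₂.comp c₂
  let U : FHom F V := ⟨δ.f.comp q₁.f - ε.f.comp q₂.f, fun e v hv ↦
    sub_mem (δ.mem e _ (q₁.mem e v hv)) (ε.mem e _ (q₂.mem e v hv))⟩
  let y₁ : FHom F M₁ := ⟨q₁.f - b.f.comp U.f, fun e v hv ↦
    sub_mem (q₁.mem e v hv) (b.mem e _ (U.mem e v hv))⟩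
  let y₂ : FHom F M₂ := ⟨q₂.f + a.f.comp U.f, fun e v hv ↦
    add_mem (q₂.mem e v hv) (a.mem e _ (U.mem e v hv))⟩
  have hU : ∀ v, U.f v = δ.f (q₁.f v) - ε.f (q₂.f v) := fun v ↦ rfl
  have hy : ∀ v, δ.f (y₁.f v) = ε.f (y₂.f v) := by
    intro v
    change δ.f (q₁.f v - b.f (U.f v)) = ε.f (q₂.f v + a.f (U.f v))
    rw [map_sub, map_add, sub_eq_iff_eq_add, add_assoc, ← hab' (U.f v), hU]
    abel
  let i : FHom (FMod.pb δ ε) F :=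
    ⟨{ toFun := fun x ↦ Sum.elim (i₁.f ((FMod.p1 δ ε).f x)) (i₂.f ((FMod.p2 δ ε).f x))
       map_add' := fun x y ↦ by
        funext c
        rcases c with c | c
        · exact congrFun (i₁.f.map_add ((FMod.p1 δ ε).f x) ((FMod.p1 δ ε).f y)) c
        · exact congrFun (i₂.f.map_add ((FMod.p2 δ ε).f x) ((FMod.p2 δ ε).f y)) c
       map_smul' := fun p x ↦ by
        funext c
        rcases c with c | c
        · exact congrFun (i₁.f.map_smul p ((FMod.p1 δ ε).f x)) c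
        · exact congrFun (i₂.f.map_smul p ((FMod.p2 δ ε).f x)) c },
      fun e x hx ↦ by
        refine mem_free_iff.mpr ?_
        rintro (c | c)
        · exact mem_free_iff.mp (i₁.mem e _ hx.1) c
        · exact mem_free_iff.mp (i₂.mem e _ hx.2) c⟩
  refine ⟨J₁ ⊕ J₂, inferInstance, Sum.elim w₁ w₂, i, FMod.lift y₁ y₂ hy, fun x ↦ ?_⟩
  have h1 : q₁.f (i.f x) = (FMod.p1 δ ε).f x := hir₁ _
  have h2 : q₂.f (i.f x) = (FMod.p2 δ ε).f x := hir₂ _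
  have h3 : U.f (i.f x) = 0 := by
    rw [hU, h1, h2, FMod.comm, sub_self]
  apply FMod.ext
  · change q₁.f (i.f x) - b.f (U.f (i.f x)) = _
    rw [h3, h1, map_zero, sub_zero]
  · change q₂.f (i.f x) + a.f (U.f (i.f x)) = _
    rw [h3, h2, map_zero, add_zero]

/-- Complexes of filtered modules. -/
structure ACx (S : Type u) [CommRing S] (τ : Type) where
  M : ℕ → FMod S τ
  d : ∀ k, FHom (M (k + 1)) (M k)
  d_d : ∀ k x, (d k).f ((d (k + 1)).f x) = 0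

/-- Maps of complexes of filtered modules. -/
structure AHom (P T : ACx S τ) where
  f : ∀ k, FHom (P.M k) (T.M k)
  comm : ∀ k x, (T.d k).f ((f (k + 1)).f x) = (f k).f ((P.d k).f x)

/-- Filtered quasi-isomorphisms. -/
structure AHom.QI {P T : ACx S τ} (φ : AHom P T) : Prop where
  zero : ∀ e, ∀ y ∈ (T.M 0).F e, ∃ v ∈ (P.M 0).F e, ∃ z ∈ (T.M 1).F e,
    (φ.f 0).f v + (T.d 0).f z = y
  one : ∀ e v y, v ∈ (P.M 0).F e → y ∈ (T.M 1).F e → (φ.f 0).f v = (T.d 0).f y →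
    ∃ v' ∈ (P.M 1).F e, ∃ z ∈ (T.M 2).F e, (P.d 0).f v' = v ∧
      (φ.f 1).f v' + (T.d 1).f z = y
  succ : ∀ k e v y, v ∈ (P.M (k + 1)).F e → (P.d k).f v = 0 → y ∈ (T.M (k + 2)).F e →
    (φ.f (k + 1)).f v = (T.d (k + 1)).f y →
    ∃ v' ∈ (P.M (k + 2)).F e, ∃ z ∈ (T.M (k + 3)).F e, (P.d (k + 1)).f v' = v ∧
      (φ.f (k + 2)).f v' + (T.d (k + 2)).f z = y

/-- The next differential. -/
def nextδ {T : ACx S τ} {k : ℕ} {W E : FMod S τ} (δ : FHom (T.M (k + 1)) W) (ε : FHom E W)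
    (hδ : ∀ z, δ.f ((T.d (k + 1)).f z) = 0) : FHom (T.M (k + 2)) (FMod.pb δ ε) :=
  FMod.lift (T.d (k + 1)) (zeroH _ _) (fun x ↦ (hδ x).trans (map_zero ε.f).symm)

@[simp] theorem p1_nextδ {T : ACx S τ} {k : ℕ} {W E : FMod S τ} (δ : FHom (T.M (k + 1)) W)
    (ε : FHom E W) (hδ : ∀ z, δ.f ((T.d (k + 1)).f z) = 0) (z : (T.M (k + 2)).C) :
    (FMod.p1 δ ε).f ((nextδ δ ε hδ).f z) = (T.d (k + 1)).f z := rfl

@[simp] theorem p2_nextδ {T : ACx S τ} {k : ℕ} {W E : FMod S τ} (δ : FHom (T.M (k + 1)) W)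
    (ε : FHom E W) (hδ : ∀ z, δ.f ((T.d (k + 1)).f z) = 0) (z : (T.M (k + 2)).C) :
    (FMod.p2 δ ε).f ((nextδ δ ε hδ).f z) = 0 := rfl

/-- Witness of pseudo-coherence of `W ← T (k+1) ← T (k+2) ← ...`. -/
def Wit {P T : ACx S τ} (φ : AHom P T) (k : ℕ) (W : FMod S τ)
    (δ : FHom (T.M (k + 1)) W) : Prop :=
  ∃ (V : FMod S τ) (_ : FP V) (dQ : FHom (P.M (k + 1)) V) (ψ : FHom V W),
    (∀ v, ψ.f (dQ.f v) = δ.f ((φ.f (k + 1)).f v)) ∧ Gen δ ψ ∧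
    (∀ e v y, v ∈ V.F e → y ∈ (T.M (k + 1)).F e → ψ.f v = δ.f y → ∃ v' ∈ (P.M (k + 1)).F e,
      ∃ z ∈ (T.M (k + 2)).F e, dQ.f v' = v ∧ (φ.f (k + 1)).f v' + (T.d (k + 1)).f z = y) ∧
    (∀ v, dQ.f v = 0 → (P.d k).f v = 0) ∧ (∀ v, dQ.f ((P.d (k + 1)).f v) = 0)

theorem Wit.zero {P T : ACx S τ} {φ : AHom P T} (h : φ.QI) (hP : FP (P.M 0)) :
    Wit φ 0 (T.M 0) (T.d 0) := by
  refine ⟨P.M 0, hP, P.d 0, φ.f 0, fun v ↦ (φ.comm 0 v).symm, ?_, h.one, fun v hv ↦ hv,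
    fun v ↦ P.d_d 0 v⟩
  intro e x hx
  obtain ⟨v, hv, z, hz, h1⟩ := h.zero e x hx
  exact ⟨v, hv, z, hz, h1.symm⟩

theorem Wit.next {P T : ACx S τ} {φ : AHom P T} (h : φ.QI) (hP : ∀ k, FP (P.M k)) {k : ℕ}
    {W : FMod S τ} {δ : FHom (T.M (k + 1)) W} (hW : Wit φ k W δ)
    (hδ : ∀ z, δ.f ((T.d (k + 1)).f z) = 0) {E : FMod S τ} (hE : FP E)
    {ε : FHom E W} (hε : Gen δ ε) :
    Wit φ (k + 1) (FMod.pb δ ε) (nextδ δ ε hδ) := by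
  obtain ⟨V, hV, dQ, ψ, h1, h2, h3, h4, h5⟩ := hW
  obtain ⟨e', g, hg⟩ := hE.exists_lift h2 ε
  have hgen : Gen dQ e' := by
    intro e v hv
    obtain ⟨x, hx, z, hz, h6⟩ := hε e _ (ψ.mem e v hv)
    have h7 : ψ.f (v - e'.f x) = δ.f (g.f x + z) := by
      rw [map_sub, map_add, h6, hg]
      abel
    obtain ⟨v', hv', z', hz', h8, h9⟩ := h3 e (v - e'.f x) (g.f x + z)
      (sub_mem hv (e'.mem e x hx)) (add_mem (g.mem e x hx) hz) h7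
    exact ⟨x, hx, v', hv', by rw [h8]; abel⟩
  let dQ' : FHom (P.M (k + 2)) (FMod.pb dQ e') := FMod.lift (P.d (k + 1)) (zeroH _ _)
    (fun v ↦ (h5 v).trans (map_zero e'.f).symm)
  let s : FHom (FMod.pb dQ e') (T.M (k + 1)) :=
    ⟨(φ.f (k + 1)).f.comp (FMod.p1 dQ e').f + g.f.comp (FMod.p2 dQ e').f, fun e x hx ↦
      add_mem ((φ.f (k + 1)).mem e _ hx.1) (g.mem e _ hx.2)⟩
  have hs : ∀ x, s.f x = (φ.f (k + 1)).f ((FMod.p1 dQ e').f x) + g.f ((FMod.p2 dQ e').f x) :=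
    fun x ↦ rfl
  let ψ' : FHom (FMod.pb dQ e') (FMod.pb δ ε) := FMod.lift s (FMod.p2 dQ e') (fun x ↦ by
    rw [hs, hg, ← FMod.comm, h1]
    exact map_add δ.f _ _)
  have hψ1 : ∀ x, (FMod.p1 δ ε).f (ψ'.f x) = s.f x := fun x ↦ rfl
  have hψ2 : ∀ x, (FMod.p2 δ ε).f (ψ'.f x) = (FMod.p2 dQ e').f x := fun x ↦ rfl
  have hd1 : ∀ x, (FMod.p1 dQ e').f (dQ'.f x) = (P.d (k + 1)).f x := fun x ↦ rfl
  have hd2 : ∀ x, (FMod.p2 dQ e').f (dQ'.f x) = 0 := fun x ↦ rfl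
  refine ⟨FMod.pb dQ e', (hP (k + 1)).pb hE hV hgen, dQ', ψ', ?_, ?_, ?_, ?_, ?_⟩
  · intro v
    apply FMod.ext
    · rw [hψ1, hs, hd1, hd2, map_zero, add_zero, p1_nextδ, φ.comm]
    · rw [hψ2, hd2, p2_nextδ]
  · intro e x hx
    have h6 : ψ.f (e'.f ((FMod.p2 δ ε).f x)) =
        δ.f ((FMod.p1 δ ε).f x - g.f ((FMod.p2 δ ε).f x)) := by
      rw [map_sub, FMod.comm, hg]
      abel
    obtain ⟨q, hq, z, hz, h7, h8⟩ := h3 e (e'.f ((FMod.p2 δ ε).f x))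
      ((FMod.p1 δ ε).f x - g.f ((FMod.p2 δ ε).f x)) (e'.mem e _ hx.2)
      (sub_mem hx.1 (g.mem e _ hx.2)) h6
    refine ⟨FMod.pair q ((FMod.p2 δ ε).f x) h7, ⟨hq, hx.2⟩, z, hz, ?_⟩
    apply FMod.ext
    · rw [map_add, hψ1, hs, FMod.p1_pair, FMod.p2_pair, p1_nextδ, add_right_comm]
      exact (sub_add_cancel _ _).symm.trans (congrArg (· + g.f ((FMod.p2 δ ε).f x)) h8.symm)
    · rw [map_add, hψ2, FMod.p2_pair, p2_nextδ, add_zero]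
  · intro e v y hv hy h6
    have h7 : (FMod.p2 dQ e').f v = 0 := by
      rw [← hψ2, h6, p2_nextδ]
    have h8 : s.f v = (T.d (k + 1)).f y := by
      rw [← hψ1, h6, p1_nextδ]
    rw [hs, h7, map_zero, add_zero] at h8
    have h9 : dQ.f ((FMod.p1 dQ e').f v) = 0 := by
      rw [FMod.comm, h7, map_zero]
    obtain ⟨v', hv', z, hz, h10, h11⟩ := h.succ k e _ y hv.1 (h4 _ h9) hy h8
    refine ⟨v', hv', z, hz, ?_, h11⟩
    apply FMod.ext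
    · exact h10
    · rw [h7, hd2]
  · intro v hv
    rw [← hd1, hv, map_zero]
  · intro v
    apply FMod.ext
    · rw [hd1, P.d_d, map_zero]
    · rw [hd2, map_zero]

theorem Wit.exists_gen {P T : ACx S τ} {φ : AHom P T} {k : ℕ}
    {W : FMod S τ} {δ : FHom (T.M (k + 1)) W} (hW : Wit φ k W δ) :
    ∃ (J : Type) (_ : Fintype J) (w : J → ℕ) (ε : FHom (free S τ J w) W), Gen δ ε := by
  obtain ⟨V, ⟨J, _, w, i, r, hir⟩, dQ, ψ, -, h2, -⟩ := hW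
  refine ⟨J, inferInstance, w, ψ.comp r, fun e x hx ↦ ?_⟩
  obtain ⟨v, hv, z, hz, rfl⟩ := h2 e x hx
  refine ⟨i.f v, i.mem e v hv, z, hz, ?_⟩
  change _ = ψ.f (r.f (i.f v)) + _
  rw [hir]

end

end

end Groth.Agent.Flat2B.GExTowerAlg
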