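import Groth.Agent.Flat2B.GExDefs

/-!
# S1270 route E: statements of the algebraic lemmas AL1, AL2 (to be proved in other files)
-/

universe u

namespace Groth.Agent.Flat2B.GEx.Stub

/-- AL1. Tower lemma. -/
theorem tower_exists_free {A : Type u} [CommRing A] {A' : ℕ → Type u} [∀ n, CommRing (A' n)]
    {φ : ∀ n, A' (n + 1) →+* A' n} {π : ∀ n, A →+* A' n} (hlim : FlatCA.IsRingLimit A A' φ π)
    (hsurj : ∀ n, Function.Surjective (φ n)) (hnil : ∀ n, ∀ x ∈ RingHom.ker (φ n), IsNilpotent x)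
    {τ : Type} [Finite τ] (𝒯 : Tower A' φ π τ) (hPC : ∀ n, (𝒯.T n).IsPC) :
    ∃ (K : FreeCx A τ) (f : FreeCx.Hom K 𝒯.L), f.QI ∧ ∀ n, (f.push (𝒯.ρ n)).QI := by
  sorry

/-- AL2a. Over a Noetherian ring finitely generated homology implies pseudo-coherence. -/
theorem isPC_of_noetherian {B : Type u} [CommRing B] [IsNoetherianRing B] {τ : Type} [Finite τ]
    (T : FCx B τ) (h : ∀ k, T.HomFG k) : T.IsPC := by
  sorry

/-- AL2b. Pseudo-coherence of flat complexes passes to base changes. -/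
theorem isPC_baseChange {B S : Type u} [CommRing B] [CommRing S] {τ : Type} [Finite τ]
    {ψ : B →+* S} {T : FCx B τ} {T' : FCx S τ} (r : FCx.Map ψ T T') (hr : r.IsBC)
    (hflat : T.IsFlat) (h : T.IsPC) : T'.IsPC := by
  sorry

end Groth.Agent.Flat2B.GEx.Stub
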