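import Groth.Agent.Flat2B.GINRes
import Mathlib.RingTheory.TensorProduct.MvPolynomial

/-!
# Assembly lemmas
-/

set_option autoImplicit false

universe u

open scoped TensorProduct
open Groth.Agent.Flat2B.GINPoly Groth.Agent.Flat2B.GINGood

attribute [local instance] MvPolynomial.algebraMvPolynomial

namespace Groth.Agent.Flat2B.GINAsm

/-- `Ω ⊗[E] B` embeds in `Ω(x) ⊗[E[x]] B`. -/
theorem exists_injective {σ : Type} {E B Ω : Type u} [CommRing E] [CommRing B] [Field Ω] [Algebra E B]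
    [Algebra (MvPolynomial σ E) B] [IsScalarTower E (MvPolynomial σ E) B]
    [Module.Flat (MvPolynomial σ E) B] [Algebra E Ω] (FF : Type u) [Field FF]
    [Algebra (MvPolynomial σ Ω) FF] [IsFractionRing (MvPolynomial σ Ω) FF]
    [Algebra (MvPolynomial σ E) FF] [IsScalarTower (MvPolynomial σ E) (MvPolynomial σ Ω) FF] :
    ∃ f : Ω ⊗[E] B →+* FF ⊗[MvPolynomial σ E] B, Function.Injective f := by
  let e : MvPolynomial σ Ω ⊗[MvPolynomial σ E] B ≃ₐ[Ω] Ω ⊗[E] B :=
    Algebra.IsPushout.cancelBaseChangeAlg E Ω (MvPolynomial σ E) (MvPolynomial σ Ω) B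
  let θ : MvPolynomial σ Ω →ₐ[MvPolynomial σ E] FF := IsScalarTower.toAlgHom _ _ _
  have hinj : Function.Injective (Algebra.TensorProduct.map θ (AlgHom.id _ B)) :=
    Module.Flat.rTensor_preserves_injective_linearMap (M := B) θ.toLinearMap
      (IsFractionRing.injective (MvPolynomial σ Ω) FF)
  exact ⟨(Algebra.TensorProduct.map θ (AlgHom.id _ B)).toRingHom.comp e.symm.toRingEquiv.toRingHom,
    hinj.comp e.symm.injective⟩

/-- The field property passes to localizations with nonempty fibre. -/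
theorem isField_of_isLocalization {P Y Y' FF : Type u} [CommRing P] [CommRing Y] [CommRing Y']
    [Field FF] [Algebra P Y] [Algebra P Y'] [Algebra Y Y'] [IsScalarTower P Y Y'] [Algebra P FF]
    (M : Submonoid Y) [IsLocalization M Y'] (h : IsField (FF ⊗[P] Y))
    (hnt : Nontrivial (FF ⊗[P] Y')) : IsField (FF ⊗[P] Y') := by
  have hone : IsLocalization (Submonoid.powers (1 : Y)) Y :=
    IsLocalization.away_of_isUnit_of_bijective Y isUnit_one Function.bijective_id
  let θ : Y →ₐ[P] Y' := IsScalarTower.toAlgHom _ _ _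
  obtain ⟨e⟩ := GINCompact.nonempty_equiv_tensor (P := P) (D := Y) (F := FF)
    (G₁ := Y) (G₂ := Y') (Submonoid.powers (1 : Y)) M (by
      rintro _ ⟨n, rfl⟩
      simp only [one_pow, map_one]
      exact isUnit_one) (by
      intro m hm
      let _ := h.toField
      rw [isUnit_iff_ne_zero]
      intro h0
      have h1 := congr(Algebra.TensorProduct.map (AlgHom.id P FF) θ $h0)
      have h3 : Algebra.TensorProduct.map (AlgHom.id P FF) θ ((1 : FF) ⊗ₜ[P] algebraMap Y Y m) =
        (1 : FF) ⊗ₜ[P] algebraMap Y Y' m := by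
          rw [Algebra.TensorProduct.map_tmul, map_one]
          rfl
      have h2 : IsUnit ((1 : FF) ⊗ₜ[P] algebraMap Y Y' m) :=
        (IsLocalization.map_units Y' (⟨m, hm⟩ : M)).map
          (Algebra.TensorProduct.includeRight : Y' →ₐ[P] _)
      rw [h3] at h1
      exact h2.ne_zero (h1.trans (map_zero _)))
  exact e.symm.toMulEquiv.isField h

/-- The combination. -/
theorem isDomain_aux {σ : Type} {E Y Y' Ω : Type u} [CommRing E] [CommRing Y]
    [CommRing Y'] [Field Ω] [Algebra E Ω] [Algebra E Y'] [Algebra (MvPolynomial σ E) Y]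
    [Algebra (MvPolynomial σ E) Y'] [Algebra Y Y'] [IsScalarTower E (MvPolynomial σ E) Y']
    [IsScalarTower (MvPolynomial σ E) Y Y'] [Module.Flat (MvPolynomial σ E) Y'] (M : Submonoid Y)
    [IsLocalization M Y'] (FF : Type u) [Field FF]
    [Algebra (MvPolynomial σ Ω) FF] [IsFractionRing (MvPolynomial σ Ω) FF]
    [Algebra (MvPolynomial σ E) FF] [IsScalarTower (MvPolynomial σ E) (MvPolynomial σ Ω) FF]
    (h : IsField (FF ⊗[MvPolynomial σ E] Y)) (hnt : Nontrivial (Ω ⊗[E] Y')) :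
    IsDomain (Ω ⊗[E] Y') := by
  obtain ⟨f, hf⟩ := exists_injective (σ := σ) (E := E) (B := Y') (Ω := Ω) FF
  have hnt' : Nontrivial (FF ⊗[MvPolynomial σ E] Y') := hf.nontrivial
  have h1 : IsField (FF ⊗[MvPolynomial σ E] Y') := isField_of_isLocalization M h hnt'
  have : IsDomain (FF ⊗[MvPolynomial σ E] Y') := h1.isDomain
  exact hf.isDomain

theorem isDomain_of_goodAt {σ : Type} {E Y Y' Ω : Type u} [CommRing E] [CommRing Y]
    [CommRing Y'] [Field Ω] [Algebra E Ω] [Algebra E Y'] [Algebra (MvPolynomial σ E) Y]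
    [Algebra (MvPolynomial σ E) Y'] [Algebra Y Y'] [IsScalarTower E (MvPolynomial σ E) Y']
    [IsScalarTower (MvPolynomial σ E) Y Y'] [Module.Flat (MvPolynomial σ E) Y'] (M : Submonoid Y)
    [IsLocalization M Y'] (h : GoodAt σ Y (algebraMap E Ω)) (hnt : Nontrivial (Ω ⊗[E] Y')) :
    IsDomain (Ω ⊗[E] Y') := by
  unfold GoodAt at h
  let algF : Algebra (MvPolynomial σ E) (Fr σ Ω) := (toFr σ (algebraMap E Ω)).toAlgebra
  have hst : @IsScalarTower (MvPolynomial σ E) (MvPolynomial σ Ω) (Fr σ Ω)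
      MvPolynomial.algebraMvPolynomial.toSMul Algebra.toSMul algF.toSMul :=
    @IsScalarTower.of_algebraMap_eq (MvPolynomial σ E) (MvPolynomial σ Ω) (Fr σ Ω) _ _ _
      MvPolynomial.algebraMvPolynomial _ algF fun p => rfl
  exact isDomain_aux (σ := σ) (E := E) (Y := Y) (Y' := Y') (Ω := Ω) M (Fr σ Ω) h hnt

/-- Nontriviality of the fibre. -/
theorem nontrivial_fibre {E B₀ Y' Ω : Type u} [CommRing E] [CommRing B₀] [CommRing Y'] [Field Ω]
    [Algebra E B₀] [Algebra E Y'] [Algebra B₀ Y'] [IsScalarTower E B₀ Y'] [Algebra E Ω] (c : B₀)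
    [IsLocalization.Away c Y'] (Q : PrimeSpectrum B₀) (hc : c ∉ Q.asIdeal)
    (hQ : PrimeSpectrum.comap (algebraMap E B₀) Q = pt (algebraMap E Ω)) :
    Nontrivial (Ω ⊗[E] Y') := by
  let φ₂ : E →+* Q.asIdeal.ResidueField := (algebraMap B₀ Q.asIdeal.ResidueField).comp (algebraMap E B₀)
  obtain ⟨F, _, ψ₁, ψ₂, hψ⟩ := exists_common_field (algebraMap E Ω) φ₂ (by
    rw [← hQ, ← comap_pt, pt_residueField])
  let _ : Algebra E F := (ψ₁.comp (algebraMap E Ω)).toAlgebra
  have hunit : IsUnit ((ψ₂.comp (algebraMap B₀ Q.asIdeal.ResidueField)) c) := by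
    rw [isUnit_iff_ne_zero, RingHom.comp_apply, ne_eq, map_eq_zero]
    intro h0
    exact hc (Ideal.algebraMap_residueField_eq_zero.mp h0)
  let l : Y' →+* F := IsLocalization.Away.lift c hunit
  let f1 : Ω →ₐ[E] F := { ψ₁ with commutes' := fun _ => rfl }
  let f2 : Y' →ₐ[E] F :=
    { l with
      commutes' := fun a => by
        change l (algebraMap E Y' a) = (ψ₁.comp (algebraMap E Ω)) a
        rw [IsScalarTower.algebraMap_apply E B₀ Y', IsLocalization.Away.lift_eq, hψ]
        rfl }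
  exact (Algebra.TensorProduct.lift f1 f2 (fun _ _ => Commute.all _ _)).toRingHom.domain_nontrivial

/-- Openness. -/
theorem exists_basicOpen {E B₀ : Type u} [CommRing E] [CommRing B₀] [Algebra E B₀]
    [Module.Flat E B₀] [Algebra.FinitePresentation E B₀] (y' : Ideal B₀) [y'.IsPrime] (p' : Ideal E)
    [p'.IsPrime] [hy' : y'.LiesOver p'] (c : B₀) (hc : c ∉ y') :
    ∃ h : E, h ∉ p' ∧ ∀ q : PrimeSpectrum E, h ∉ q.asIdeal →
      ∃ Q : PrimeSpectrum B₀, c ∉ Q.asIdeal ∧ PrimeSpectrum.comap (algebraMap E B₀) Q = q := by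
  have hopen : IsOpenMap (PrimeSpectrum.comap (algebraMap E B₀)) :=
    PrimeSpectrum.isOpenMap_comap_of_hasGoingDown_of_finitePresentation
  have h1 := hopen _ (PrimeSpectrum.basicOpen c).isOpen
  have h2 : (⟨p', inferInstance⟩ : PrimeSpectrum E) ∈
      (PrimeSpectrum.comap (algebraMap E B₀)) '' (PrimeSpectrum.basicOpen c : Set (PrimeSpectrum B₀)) :=
    ⟨⟨y', inferInstance⟩, hc, PrimeSpectrum.ext hy'.over.symm⟩
  obtain ⟨_, ⟨h, rfl⟩, hx, hsub⟩ :=
    PrimeSpectrum.isTopologicalBasis_basic_opens.exists_subset_of_mem_open h2 h1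
  refine ⟨h, hx, fun q hq => ?_⟩
  obtain ⟨Q, hQ1, hQ2⟩ := hsub (show q ∈ (PrimeSpectrum.basicOpen h : Set (PrimeSpectrum E)) from hq)
  exact ⟨Q, hQ1, hQ2⟩

end Groth.Agent.Flat2B.GINAsm
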