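import Groth.Agent.Flat2B.GINGood
import Groth.Agent.EtpbcA.ConstrTop
import Mathlib.RingTheory.Artinian.Ring

/-!
# From a local ring to an open neighbourhood

Let `D` be standard etale over `A[x]` and `O` the local ring of `D` at a prime `y`, such that
`Ω(x) ⊗[A[x]] O` is a field for all `A → Ω`. Then there is `g ∉ y` such that the same holds for `D_g`.
-/

set_option autoImplicit false

universe u

open scoped TensorProduct
open Groth.Agent.Flat2B.GINPoly Groth.Agent.Flat2B.GINGood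

namespace Groth.Agent.Flat2B.GINCompact

/-- One half of `nonempty_equiv_tensor`. -/
noncomputable def toTensor {P D F G₁ G₂ : Type*} [CommRing P] [CommRing D] [CommRing F] [CommRing G₁]
    [CommRing G₂] [Algebra P D] [Algebra P F] [Algebra D G₁] [Algebra D G₂] [Algebra P G₁]
    [Algebra P G₂] [IsScalarTower P D G₁] [IsScalarTower P D G₂] (M₁ : Submonoid D)
    [IsLocalization M₁ G₁] (h1 : ∀ m ∈ M₁, IsUnit ((1 : F) ⊗ₜ[P] algebraMap D G₂ m)) :
    F ⊗[P] G₁ →ₐ[F] F ⊗[P] G₂ :=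
  Algebra.TensorProduct.lift (Algebra.ofId F _)
    (IsLocalization.liftAlgHom (M := M₁) (S := G₁)
      (f := (Algebra.TensorProduct.includeRight : G₂ →ₐ[P] F ⊗[P] G₂).comp
        (IsScalarTower.toAlgHom P D G₂)) (fun m => h1 m.1 m.2)) (fun _ _ => Commute.all _ _)

theorem toTensor_algebraMap {P D F G₁ G₂ : Type*} [CommRing P] [CommRing D] [CommRing F]
    [CommRing G₁] [CommRing G₂] [Algebra P D] [Algebra P F] [Algebra D G₁] [Algebra D G₂]
    [Algebra P G₁] [Algebra P G₂] [IsScalarTower P D G₁] [IsScalarTower P D G₂] (M₁ : Submonoid D)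
    [IsLocalization M₁ G₁] (h1 : ∀ m ∈ M₁, IsUnit ((1 : F) ⊗ₜ[P] algebraMap D G₂ m)) (d : D) :
    toTensor (F := F) (P := P) M₁ h1 (1 ⊗ₜ algebraMap D G₁ d) = 1 ⊗ₜ algebraMap D G₂ d := by
  rw [toTensor, Algebra.TensorProduct.lift_tmul, map_one, one_mul]
  exact IsLocalization.lift_eq _ d

theorem toTensor_comp {P D F G₁ G₂ : Type*} [CommRing P] [CommRing D] [CommRing F] [CommRing G₁]
    [CommRing G₂] [Algebra P D] [Algebra P F] [Algebra D G₁] [Algebra D G₂] [Algebra P G₁]
    [Algebra P G₂] [IsScalarTower P D G₁] [IsScalarTower P D G₂] (M₁ M₂ : Submonoid D)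
    [IsLocalization M₁ G₁] [IsLocalization M₂ G₂]
    (h1 : ∀ m ∈ M₁, IsUnit ((1 : F) ⊗ₜ[P] algebraMap D G₂ m))
    (h2 : ∀ m ∈ M₂, IsUnit ((1 : F) ⊗ₜ[P] algebraMap D G₁ m)) :
    (toTensor (F := F) (P := P) (G₁ := G₂) (G₂ := G₁) M₂ h2).comp (toTensor M₁ h1) =
      AlgHom.id F (F ⊗[P] G₁) := by
  ext x
  · have key : ∀ z : G₁, toTensor (F := F) (P := P) (G₁ := G₂) (G₂ := G₁) M₂ h2
        (toTensor (F := F) (P := P) M₁ h1 (1 ⊗ₜ z)) = 1 ⊗ₜ z := by
      intro z
      have : ((toTensor (F := F) (P := P) (G₁ := G₂) (G₂ := G₁) M₂ h2).restrictScalars P).comp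
          (((toTensor (F := F) (P := P) M₁ h1).restrictScalars P).comp
            (Algebra.TensorProduct.includeRight : G₁ →ₐ[P] F ⊗[P] G₁)) =
          (Algebra.TensorProduct.includeRight : G₁ →ₐ[P] F ⊗[P] G₁) := by
        apply IsLocalization.algHom_ext M₁
        ext d
        change toTensor (F := F) (P := P) (G₁ := G₂) (G₂ := G₁) M₂ h2
          (toTensor (F := F) (P := P) M₁ h1 (1 ⊗ₜ algebraMap D G₁ d)) = 1 ⊗ₜ algebraMap D G₁ d
        rw [toTensor_algebraMap, toTensor_algebraMap]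
      exact congr($this z)
    simpa using key x

theorem nonempty_equiv_tensor {P D F G₁ G₂ : Type*} [CommRing P] [CommRing D] [CommRing F]
    [CommRing G₁] [CommRing G₂] [Algebra P D] [Algebra P F] [Algebra D G₁] [Algebra D G₂]
    [Algebra P G₁] [Algebra P G₂] [IsScalarTower P D G₁] [IsScalarTower P D G₂]
    (M₁ M₂ : Submonoid D) [IsLocalization M₁ G₁] [IsLocalization M₂ G₂]
    (h1 : ∀ m ∈ M₁, IsUnit ((1 : F) ⊗ₜ[P] algebraMap D G₂ m))
    (h2 : ∀ m ∈ M₂, IsUnit ((1 : F) ⊗ₜ[P] algebraMap D G₁ m)) :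
    Nonempty (F ⊗[P] G₁ ≃ₐ[F] F ⊗[P] G₂) :=
  ⟨AlgEquiv.ofAlgHom (toTensor M₁ h1) (toTensor M₂ h2) (toTensor_comp M₂ M₁ h2 h1)
    (toTensor_comp M₁ M₂ h1 h2)⟩

/-- Localizations of an artinian ring are localizations away from one element. -/
theorem exists_unit_aux {D T : Type*} [CommRing D] [CommRing T] [Algebra D T] [IsArtinianRing T]
    (M : Submonoid D) : ∃ g ∈ M, ∀ m ∈ M, ∃ t : T,
      algebraMap D T g * (algebraMap D T m * t - 1) = 0 := by
  obtain ⟨I, ⟨g, hg, rfl⟩, hmin⟩ := IsArtinian.set_has_minimal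
    ((fun g => Ideal.span {algebraMap D T g}) '' (M : Set D)) ⟨_, 1, M.one_mem, rfl⟩
  refine ⟨g, hg, fun m hm => ?_⟩
  have h1 : Ideal.span {algebraMap D T (g * m)} ≤ Ideal.span {algebraMap D T g} := by
    rw [Ideal.span_singleton_le_span_singleton, map_mul]
    exact dvd_mul_right _ _
  have h2 : ¬ Ideal.span {algebraMap D T (g * m)} < Ideal.span {algebraMap D T g} :=
    hmin _ ⟨g * m, M.mul_mem hg hm, rfl⟩
  have h3 : Ideal.span {algebraMap D T g} ≤ Ideal.span {algebraMap D T (g * m)} := by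
    by_contra hcon
    exact h2 (lt_of_le_not_ge h1 hcon)
  rw [Ideal.span_singleton_le_span_singleton, map_mul] at h3
  obtain ⟨t, ht⟩ := h3
  refine ⟨t, ?_⟩
  rw [mul_sub, mul_one, ← mul_assoc, ← ht, sub_self]

theorem exists_comp_residueField {A Ω : Type u} [CommRing A] [Field Ω] (φ : A →+* Ω)
    (r : PrimeSpectrum A) (h : pt φ = r) :
    ∃ ψ : r.asIdeal.ResidueField →+* Ω, ψ.comp (algebraMap A r.asIdeal.ResidueField) = φ := by
  have h1 : ∀ a, a ∈ r.asIdeal ↔ φ a = 0 := fun a => by rw [← h]; exact mem_pt φ a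
  have hu : r.asIdeal.primeCompl ≤ (IsUnit.submonoid Ω).comap φ := fun x hx =>
    isUnit_iff_ne_zero.mpr (fun h0 => hx ((h1 x).mpr h0))
  refine ⟨Ideal.ResidueField.lift r.asIdeal φ (fun x hx => (h1 x).mp hx) hu, ?_⟩
  ext a
  exact Ideal.ResidueField.lift_algebraMap (hf₂ := hu) ..

variable {σ : Type} {A D : Type u} [CommRing A] [CommRing D] [Algebra (MvPolynomial σ A) D]

attribute [local instance] Algebra.TensorProduct.rightAlgebra in
theorem exists_good_point [Algebra.Etale (MvPolynomial σ A) D] (M : Submonoid D) (O : Type u)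
    [CommRing O] [Algebra D O] [Algebra (MvPolynomial σ A) O] [IsScalarTower (MvPolynomial σ A) D O]
    [IsLocalization M O] (hO : ∀ (Ω : Type u) [Field Ω] (φ : A →+* Ω), GoodAt σ O φ)
    (r : PrimeSpectrum A) :
    ∃ g ∈ M, ∀ (Ω : Type u) [Field Ω] (φ : A →+* Ω), pt φ = r →
      GoodAt σ (Localization.Away g) φ := by
  let φ₀ : A →+* r.asIdeal.ResidueField := algebraMap A _
  let _ := (toFr σ φ₀).toAlgebra
  let T := Fr σ r.asIdeal.ResidueField ⊗[MvPolynomial σ A] D
  have hfin : Module.Finite (Fr σ r.asIdeal.ResidueField) T :=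
    Algebra.FormallyUnramified.finite_of_free (R := Fr σ r.asIdeal.ResidueField) (S := T)
  have hart : IsArtinianRing T := IsArtinianRing.of_finite (Fr σ r.asIdeal.ResidueField) T
  obtain ⟨g, hg, hgm⟩ := exists_unit_aux (D := D) (T := T) M
  refine ⟨g, hg, fun Ω _ φ hφ => ?_⟩
  obtain ⟨ψ, rfl⟩ := exists_comp_residueField φ r hφ
  let _ := (toFr σ (ψ.comp φ₀)).toAlgebra
  let θ : Fr σ r.asIdeal.ResidueField →ₐ[MvPolynomial σ A] Fr σ Ω :=
    { mapFr σ ψ with commutes' := fun p => congr($(mapFr_comp_toFr σ φ₀ ψ) p) }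
  let Θ : T →ₐ[MvPolynomial σ A] Fr σ Ω ⊗[MvPolynomial σ A] Localization.Away g :=
    Algebra.TensorProduct.map θ (IsScalarTower.toAlgHom (MvPolynomial σ A) D (Localization.Away g))
  have hΘ : ∀ d : D, Θ (algebraMap D T d) = 1 ⊗ₜ algebraMap D (Localization.Away g) d := by
    intro d
    change Algebra.TensorProduct.map θ
      (IsScalarTower.toAlgHom (MvPolynomial σ A) D (Localization.Away g)) (1 ⊗ₜ d) = _
    rw [Algebra.TensorProduct.map_tmul, map_one]
    rfl
  obtain ⟨e⟩ := nonempty_equiv_tensor (P := MvPolynomial σ A) (D := D) (F := Fr σ Ω)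
    (G₁ := Localization.Away g) (G₂ := O) (Submonoid.powers g) M (by
      intro m hm
      have h1 : IsUnit (algebraMap D O m) :=
        IsLocalization.map_units O (⟨m, (Submonoid.powers_le.mpr hg) hm⟩ : M)
      exact h1.map (Algebra.TensorProduct.includeRight : O →ₐ[MvPolynomial σ A] _)) (by
      intro m hm
      obtain ⟨t, ht⟩ := hgm m hm
      have h1 := congr(Θ $ht)
      rw [map_mul, map_sub, map_mul, map_one, map_zero, hΘ, hΘ] at h1
      have h2 : IsUnit ((1 : Fr σ Ω) ⊗ₜ[MvPolynomial σ A] algebraMap D (Localization.Away g) g) :=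
        (IsLocalization.Away.algebraMap_isUnit g).map
          (Algebra.TensorProduct.includeRight : Localization.Away g →ₐ[MvPolynomial σ A] _)
      rw [h2.mul_right_eq_zero, sub_eq_zero] at h1
      exact IsUnit.of_mul_eq_one _ h1)
  exact e.toMulEquiv.isField (hO Ω (ψ.comp φ₀))

theorem exists_good [Finite σ] [Algebra.IsStandardEtale (MvPolynomial σ A) D] (M : Submonoid D)
    (O : Type u) [CommRing O] [Algebra D O] [Algebra (MvPolynomial σ A) O]
    [IsScalarTower (MvPolynomial σ A) D O] [IsLocalization M O]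
    (hO : ∀ (Ω : Type u) [Field Ω] (φ : A →+* Ω), GoodAt σ O φ) :
    ∃ g ∈ M, ∀ (Ω : Type u) [Field Ω] (φ : A →+* Ω), GoodAt σ (Localization.Away g) φ := by
  classical
  choose g hg hgood using exists_good_point M O hO
  have hstd : ∀ r, Algebra.IsStandardEtale (MvPolynomial σ A) (Localization.Away (g r)) := fun r =>
    Algebra.IsStandardEtale.of_isLocalizationAway (S := D) (g r)
  choose Z hZ hrZ hZg using fun r => exists_constructible_good (σ := σ) (Localization.Away (g r)) r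
    (hgood r)
  obtain ⟨t, ht⟩ := EtpbcA.ConstrTop.finite_subcover Z hZ
    (Set.eq_univ_of_forall fun r => Set.mem_iUnion.mpr ⟨r, hrZ r⟩)
  refine ⟨∏ r ∈ t, g r, M.prod_mem (fun r _ => hg r), fun Ω _ φ => ?_⟩
  have h1 : pt φ ∈ ⋃ i ∈ t, Z i := by rw [ht]; exact Set.mem_univ _
  obtain ⟨r, hr, hφ⟩ := Set.mem_iUnion₂.mp h1
  have hgr : GoodAt σ (Localization.Away (g r)) φ := hZg r Ω φ hφ
  have hOφ := hO Ω φ
  unfold GoodAt at hgr hOφ ⊢
  let _ := (toFr σ φ).toAlgebra
  have hnt : Nontrivial (Fr σ Ω ⊗[MvPolynomial σ A] O) := hOφ.nontrivial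
  let θ : Localization.Away (g r) →ₐ[MvPolynomial σ A] O :=
    IsLocalization.liftAlgHom (M := Submonoid.powers (g r)) (S := Localization.Away (g r))
      (f := IsScalarTower.toAlgHom (MvPolynomial σ A) D O) (fun m =>
        IsLocalization.map_units O (⟨m.1, (Submonoid.powers_le.mpr (hg r)) m.2⟩ : M))
  have hθ : ∀ d, θ (algebraMap D _ d) = algebraMap D O d := fun d => IsLocalization.lift_eq _ d
  have hfield := hgr
  obtain ⟨e⟩ := nonempty_equiv_tensor (P := MvPolynomial σ A) (D := D) (F := Fr σ Ω)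
    (G₁ := Localization.Away (g r)) (G₂ := Localization.Away (∏ r ∈ t, g r))
    (Submonoid.powers (g r)) (Submonoid.powers (∏ r ∈ t, g r)) (by
      rintro _ ⟨n, rfl⟩
      have h1 : IsUnit (algebraMap D (Localization.Away (∏ r ∈ t, g r)) (g r)) :=
        isUnit_of_dvd_unit (map_dvd _ (Finset.dvd_prod_of_mem g hr))
          (IsLocalization.Away.algebraMap_isUnit (∏ r ∈ t, g r))
      rw [map_pow]
      exact (h1.pow n).map (Algebra.TensorProduct.includeRight :
        Localization.Away (∏ r ∈ t, g r) →ₐ[MvPolynomial σ A] _)) (by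
      intro m hm
      let _ := hfield.toField
      rw [isUnit_iff_ne_zero]
      intro h0
      have h1 := congr(Algebra.TensorProduct.map (AlgHom.id (MvPolynomial σ A) (Fr σ Ω)) θ $h0)
      rw [Algebra.TensorProduct.map_tmul, map_one, map_zero, hθ] at h1
      have hmM : m ∈ M := (Submonoid.powers_le.mpr (M.prod_mem (fun r _ => hg r))) hm
      have h2 : IsUnit ((1 : Fr σ Ω) ⊗ₜ[MvPolynomial σ A] algebraMap D O m) :=
        (IsLocalization.map_units O (⟨m, hmM⟩ : M)).map
          (Algebra.TensorProduct.includeRight : O →ₐ[MvPolynomial σ A] _)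
      exact h2.ne_zero h1)
  exact e.symm.toMulEquiv.isField hfield

end Groth.Agent.Flat2B.GINCompact
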