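import Groth.Agent.Flat2B.GINTensor
import Mathlib.RingTheory.Smooth.IntegralClosure
import Mathlib.RingTheory.Etale.Field
import Mathlib.RingTheory.TensorProduct.MvPolynomial
import Mathlib.RingTheory.Polynomial.UniqueFactorization
import Mathlib.RingTheory.Polynomial.IsIntegral
import Mathlib.RingTheory.Artinian.Ring

/-!
# Fibres of the local ring of a smooth algebra at a point with geometrically irreducible residue field,
over a henselian local ring

`isField_tensor`: for `A` henselian local, `P = A[x_1, …, x_n]`, `D` etale over `P`, `O = D_y` the local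
ring at a prime over the closed point of `A`, for any field `Ω` over `A`, the ring
`O ⊗[P] Ω(x_1, …, x_n)` is a field, as soon as the residue field of `O` stays a field after tensoring with
algebraic extensions of the residue field of `A`.
-/

set_option autoImplicit false

universe u v w

open IsLocalRing TensorProduct

namespace Groth.Agent.Flat2B.GINField

/-- A reduced Artinian nontrivial ring without nontrivial idempotents is a field. -/
theorem isField_of_isArtinianRing {T : Type*} [CommRing T] [Nontrivial T] [IsArtinianRing T]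
    [IsReduced T] (h : ∀ e : T, IsIdempotentElem e → e = 0 ∨ e = 1) : IsField T := by
  refine ⟨⟨0, 1, zero_ne_one⟩, mul_comm, fun {x} hx => ?_⟩
  obtain ⟨n, y, hy⟩ := IsArtinian.exists_pow_succ_smul_dvd x (1 : T)
  simp only [smul_eq_mul, mul_one, Nat.succ_eq_add_one] at hy
  have h1 : (x * (1 - x * y)) ^ (n + 1) = 0 := by
    have : (x * (1 - x * y)) ^ (n + 1) = (x ^ n - x ^ (n + 1) * y) * x * (1 - x * y) ^ n := by
      rw [mul_pow, pow_succ (1 - x * y)]; ring
    rw [this, hy, sub_self, zero_mul, zero_mul]
  have h2 : x * (1 - x * y) = 0 := by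
    have : IsNilpotent (x * (1 - x * y)) := ⟨n + 1, h1⟩
    exact this.eq_zero
  have h3 : IsIdempotentElem (x * y) := by
    unfold IsIdempotentElem
    have : x * y - x * y * (x * y) = x * (1 - x * y) * y := by ring
    rw [h2, zero_mul, sub_eq_zero] at this
    exact this.symm
  rcases h _ h3 with h4 | h4
  · rw [h4, sub_zero, mul_one] at h2
    exact absurd h2 hx
  · exact ⟨y, h4⟩

section IC

variable {σ : Type w} (A : Type u) (Ω : Type v) [CommRing A] [Field Ω] [Algebra A Ω]
  (FF : Type v) [Field FF] [Algebra (MvPolynomial σ Ω) FF] [IsFractionRing (MvPolynomial σ Ω) FF]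
  [Algebra (MvPolynomial σ A) FF]

attribute [local instance] MvPolynomial.algebraMvPolynomial

/-- The integral closure of `A[x]` in `Ω(x)` is `B[x]`, with `B` the integral closure of `A` in `Ω`. -/
noncomputable def toIC [IsScalarTower (MvPolynomial σ A) (MvPolynomial σ Ω) FF] :
    MvPolynomial σ (integralClosure A Ω) →ₐ[MvPolynomial σ A] integralClosure (MvPolynomial σ A) FF :=
  AlgHom.codRestrict
    { ((algebraMap (MvPolynomial σ Ω) FF).comp
        (MvPolynomial.map (algebraMap (integralClosure A Ω) Ω))) with
      commutes' := fun p => by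
        change algebraMap (MvPolynomial σ Ω) FF (MvPolynomial.map (algebraMap (integralClosure A Ω) Ω)
          (MvPolynomial.map (algebraMap A (integralClosure A Ω)) p)) = _
        rw [MvPolynomial.map_map, ← IsScalarTower.algebraMap_eq,
          IsScalarTower.algebraMap_apply (MvPolynomial σ A) (MvPolynomial σ Ω) FF]
        rfl } _ (fun p => by
      change algebraMap (MvPolynomial σ Ω) FF
        (MvPolynomial.map (algebraMap (integralClosure A Ω) Ω) p) ∈ _
      rw [mem_integralClosure_iff]
      have h1 : IsIntegral (MvPolynomial σ A)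
          (MvPolynomial.map (algebraMap (integralClosure A Ω) Ω) p) := by
        rw [MvPolynomial.isIntegral_iff_isIntegral_coeff]
        intro n
        rw [MvPolynomial.coeff_map]
        exact (p.coeff n).2
      exact h1.algebraMap)

theorem toIC_bijective [IsScalarTower (MvPolynomial σ A) (MvPolynomial σ Ω) FF] :
    Function.Bijective (toIC A Ω FF (σ := σ)) := by
  constructor
  · intro p q hpq
    have h1 : algebraMap (MvPolynomial σ Ω) FF (MvPolynomial.map (algebraMap (integralClosure A Ω) Ω) p)
        = algebraMap (MvPolynomial σ Ω) FF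
          (MvPolynomial.map (algebraMap (integralClosure A Ω) Ω) q) := congr_arg Subtype.val hpq
    exact MvPolynomial.map_injective _ Subtype.val_injective (IsFractionRing.injective _ _ h1)
  · rintro ⟨z, hz⟩
    rw [mem_integralClosure_iff] at hz
    obtain ⟨p, rfl⟩ := IsIntegrallyClosed.isIntegral_iff.mp (hz.tower_top (A := MvPolynomial σ Ω))
    have h1 : IsIntegral (MvPolynomial σ A) p := by
      refine (isIntegral_algHom_iff (IsScalarTower.toAlgHom (MvPolynomial σ A) (MvPolynomial σ Ω) FF)
        (IsFractionRing.injective _ _)).mp hz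
    rw [MvPolynomial.isIntegral_iff_isIntegral_coeff] at h1
    have h2 : p ∈ RingHom.range (MvPolynomial.map (σ := σ) (algebraMap (integralClosure A Ω) Ω)) := by
      refine MvPolynomial.mem_range_map_iff_coeffs_subset.mpr ?_
      intro c hc
      obtain ⟨n, -, rfl⟩ := MvPolynomial.mem_coeffs_iff.mp (Finset.mem_coe.mp hc)
      exact ⟨⟨p.coeff n, h1 n⟩, rfl⟩
    obtain ⟨q, hq⟩ := h2
    exact ⟨q, Subtype.ext (congr_arg (algebraMap (MvPolynomial σ Ω) FF) hq)⟩

end IC

section Main

attribute [local instance] MvPolynomial.algebraMvPolynomial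

variable {σ : Type w} {A : Type u} {Ω : Type v} [CommRing A] [HenselianLocalRing A] [Field Ω]
  [Algebra A Ω]

/-- The integral closure of a henselian local ring in a field is local. -/
theorem isLocalRing_integralClosure : IsLocalRing (integralClosure A Ω) :=
  GINLocal.isLocalRing_of_isIntegral_of_isDomain A _

theorem isLocalHom_integralClosure :
    IsLocalHom (algebraMap A (integralClosure A Ω)) := by
  have := isLocalRing_integralClosure (A := A) (Ω := Ω)
  refine ⟨fun a ha => ?_⟩
  by_contra hna
  have h1 : (maximalIdeal (integralClosure A Ω)).comap (algebraMap A (integralClosure A Ω)) =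
      maximalIdeal A :=
    IsLocalRing.eq_maximalIdeal (Ideal.isMaximal_comap_of_isIntegral_of_isMaximal _)
  have h2 : a ∈ maximalIdeal A := (IsLocalRing.mem_maximalIdeal a).mpr hna
  rw [← h1, Ideal.mem_comap] at h2
  exact (IsLocalRing.mem_maximalIdeal _).mp h2 ha

variable (FF : Type v) [Field FF] [Algebra (MvPolynomial σ Ω) FF]
  [IsFractionRing (MvPolynomial σ Ω) FF]
  [Algebra (MvPolynomial σ A) FF] [IsScalarTower (MvPolynomial σ A) (MvPolynomial σ Ω) FF]
  {D : Type v} [CommRing D] [Algebra A D] [Algebra (MvPolynomial σ A) D]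
  [IsScalarTower A (MvPolynomial σ A) D]
  (O : Type v) [CommRing O] [IsLocalRing O] [Algebra D O] [Algebra (MvPolynomial σ A) O]
  [IsScalarTower (MvPolynomial σ A) D O] [Algebra A O] [IsScalarTower A (MvPolynomial σ A) O]

omit [HenselianLocalRing A] [IsLocalRing O] in
/-- `O ⊗[P] (integral closure of P in Ω(x)) ≃ O ⊗[A] (integral closure of A in Ω)`. -/
theorem nonempty_equiv : Nonempty (O ⊗[MvPolynomial σ A] integralClosure (MvPolynomial σ A) FF ≃+*
    O ⊗[A] integralClosure A Ω) := by
  let e1 : MvPolynomial σ (integralClosure A Ω) ≃ₐ[MvPolynomial σ A]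
      integralClosure (MvPolynomial σ A) FF := AlgEquiv.ofBijective _ (toIC_bijective A Ω FF)
  let e2 : MvPolynomial σ A ⊗[A] integralClosure A Ω ≃ₐ[MvPolynomial σ A]
      MvPolynomial σ (integralClosure A Ω) :=
    Algebra.IsPushout.equiv A (MvPolynomial σ A) (integralClosure A Ω) _
  exact ⟨(Algebra.TensorProduct.congr (AlgEquiv.refl : O ≃ₐ[MvPolynomial σ A] O)
    (e2.trans e1).symm).toRingEquiv.trans
    (Algebra.TensorProduct.cancelBaseChange A (MvPolynomial σ A) O O
      (integralClosure A Ω)).toRingEquiv⟩

/-- Idempotents of `O ⊗[P] B` come from `O ⊗[P] (integral closure of P in B)`. -/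
theorem idempotent_trivial {P D : Type*} (O B : Type*) [CommRing P] [CommRing D] [CommRing O]
    [CommRing B] [Algebra P D] [Algebra P O] [Algebra D O] [IsScalarTower P D O] [Algebra P B]
    [Algebra.Smooth P D] (M : Submonoid D) [IsLocalization M O]
    (hloc : IsLocalRing (O ⊗[P] integralClosure P B))
    (e : O ⊗[P] B) (he : IsIdempotentElem e) : e = 0 ∨ e = 1 := by
  have h1 : Function.Bijective (TensorProduct.toIntegralClosure P O B) :=
    TensorProduct.toIntegralClosure_bijective_of_tower
      (TensorProduct.toIntegralClosure_bijective_of_smooth (R := P) (S := D) (B := B))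
      (TensorProduct.toIntegralClosure_bijective_of_isLocalization (R := D) (S := O)
        (B := D ⊗[P] B) M)
  have h2 : IsIntegral O e := by
    refine ⟨Polynomial.X * (Polynomial.X - Polynomial.C 1),
      Polynomial.monic_X.mul (Polynomial.monic_X_sub_C 1), ?_⟩
    rw [Polynomial.eval₂_mul, Polynomial.eval₂_sub, Polynomial.eval₂_X, Polynomial.eval₂_C, map_one,
      mul_sub, he.eq, mul_one, sub_self]
  obtain ⟨e', he'⟩ := h1.2 ⟨e, h2⟩
  have h3 : IsIdempotentElem e' := by
    apply h1.1
    rw [map_mul, he']
    exact Subtype.ext he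
  have h5 : e' = 0 ∨ e' = 1 := by
    have h6 : e' * (1 - e') = 0 := by rw [mul_sub, mul_one, h3.eq, sub_self]
    rcases IsLocalRing.isUnit_or_isUnit_one_sub_self e' with h7 | h7
    · right
      have := (h7.mul_right_eq_zero).mp h6
      exact (sub_eq_zero.mp this).symm
    · left
      exact (h7.mul_left_eq_zero).mp h6
  rcases h5 with h4 | h4
  · left
    rw [h4, map_zero] at he'
    exact (congr_arg Subtype.val he').symm
  · right
    rw [h4, map_one] at he'
    exact (congr_arg Subtype.val he').symm

end Main

section Main2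

attribute [local instance] MvPolynomial.algebraMvPolynomial

theorem isAlgebraic_residueField {A B : Type*} [CommRing A] [IsLocalRing A] [CommRing B]
    [IsLocalRing B] [Algebra A B] [IsLocalHom (algebraMap A B)] [Algebra.IsIntegral A B] :
    Algebra.IsAlgebraic (ResidueField A) (ResidueField B) := by
  refine ⟨fun x => ?_⟩
  obtain ⟨b, rfl⟩ := residue_surjective x
  obtain ⟨f, hf, hfb⟩ := Algebra.IsIntegral.isIntegral (R := A) b
  refine IsIntegral.isAlgebraic ⟨f.map (residue A), hf.map _, ?_⟩
  rw [Polynomial.eval₂_map]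
  have : (algebraMap (ResidueField A) (ResidueField B)).comp (residue A) =
      (residue B).comp (algebraMap A B) := rfl
  rw [this, ← Polynomial.hom_eval₂, hfb, map_zero]

/-- The main point: `O ⊗[P] Ω(x)` is a field. -/
theorem isField_tensor {σ : Type w} {A : Type u} (Ω : Type v) [CommRing A] [HenselianLocalRing A]
    [Field Ω] [Algebra A Ω] (FF : Type v) [Field FF] [Algebra (MvPolynomial σ Ω) FF]
    [IsFractionRing (MvPolynomial σ Ω) FF]
    [Algebra (MvPolynomial σ A) FF] [IsScalarTower (MvPolynomial σ A) (MvPolynomial σ Ω) FF]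
    {D : Type v} [CommRing D] [Algebra A D] [Algebra (MvPolynomial σ A) D]
    [IsScalarTower A (MvPolynomial σ A) D]
    (O : Type v) [CommRing O] [IsLocalRing O] [Algebra D O] [Algebra (MvPolynomial σ A) O]
    [IsScalarTower (MvPolynomial σ A) D O] [Algebra A O] [IsScalarTower A (MvPolynomial σ A) O]
    (y : Ideal D) [y.IsPrime] [IsLocalization.AtPrime O y] [Algebra.Etale (MvPolynomial σ A) D]
    [IsLocalHom (algebraMap A O)]
    (H : ∀ (k' : Type v) [Field k'] [Algebra (ResidueField A) k'] [Algebra.IsAlgebraic (ResidueField A) k'],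
      IsField (ResidueField O ⊗[ResidueField A] k')) :
    IsField (O ⊗[MvPolynomial σ A] FF) := by
  have hBl : IsLocalRing (integralClosure A Ω) := isLocalRing_integralClosure
  have hBh : IsLocalHom (algebraMap A (integralClosure A Ω)) := isLocalHom_integralClosure
  have hloc0 : IsLocalRing (O ⊗[A] integralClosure A Ω) := by
    apply GINTensor.isLocalRing_tensor
    have : Algebra.IsAlgebraic (ResidueField A) (ResidueField (integralClosure A Ω)) :=
      isAlgebraic_residueField
    exact H _
  obtain ⟨e⟩ := nonempty_equiv (A := A) (Ω := Ω) (σ := σ) FF O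
  have hloc : IsLocalRing (O ⊗[MvPolynomial σ A] integralClosure (MvPolynomial σ A) FF) :=
    e.symm.isLocalRing
  have h1 : Function.Bijective (TensorProduct.toIntegralClosure (MvPolynomial σ A) O FF) :=
    TensorProduct.toIntegralClosure_bijective_of_tower
      (TensorProduct.toIntegralClosure_bijective_of_smooth (R := (MvPolynomial σ A)) (S := D) (B := FF))
      (TensorProduct.toIntegralClosure_bijective_of_isLocalization (R := D) (S := O)
        (B := D ⊗[(MvPolynomial σ A)] FF) y.primeCompl)
  have hnt : Nontrivial (O ⊗[MvPolynomial σ A] FF) := by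
    have : Nontrivial (integralClosure O (O ⊗[MvPolynomial σ A] FF)) := h1.1.nontrivial
    exact Subtype.val_injective.nontrivial (α := integralClosure O (O ⊗[MvPolynomial σ A] FF))
  have hetale : Algebra.Etale FF (FF ⊗[MvPolynomial σ A] D) := inferInstance
  have hfin : Module.Finite FF (FF ⊗[MvPolynomial σ A] D) := 
    Algebra.FormallyUnramified.finite_of_free (R := FF) (S := FF ⊗[MvPolynomial σ A] D)
  have hart0 : IsArtinianRing (FF ⊗[MvPolynomial σ A] D) := IsArtinianRing.of_finite FF _
  have hred0 : IsReduced (FF ⊗[MvPolynomial σ A] D) :=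
    Algebra.FormallyUnramified.isReduced_of_field FF (FF ⊗[MvPolynomial σ A] D)
  have hart' : IsArtinianRing (D ⊗[MvPolynomial σ A] FF) :=
    (Algebra.TensorProduct.comm (MvPolynomial σ A) FF D).toRingEquiv.isArtinianRing
  have hred' : IsReduced (D ⊗[MvPolynomial σ A] FF) :=
    isReduced_of_injective (Algebra.TensorProduct.comm (MvPolynomial σ A) D FF)
      (Algebra.TensorProduct.comm (MvPolynomial σ A) D FF).injective
  -- `O ⊗ FF` is a localization of `D ⊗ FF`
  let φ : D ⊗[MvPolynomial σ A] FF →ₐ[D] O ⊗[MvPolynomial σ A] FF :=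
    Algebra.TensorProduct.map (Algebra.ofId D O) (AlgHom.id _ FF)
  let _ : Algebra (D ⊗[MvPolynomial σ A] FF) (O ⊗[MvPolynomial σ A] FF) := φ.toRingHom.toAlgebra
  have : IsScalarTower D (D ⊗[MvPolynomial σ A] FF) (O ⊗[MvPolynomial σ A] FF) :=
    .of_algebraMap_eq' φ.comp_algebraMap.symm
  have hlocz : IsLocalization (Algebra.algebraMapSubmonoid (D ⊗[MvPolynomial σ A] FF) y.primeCompl)
      (O ⊗[MvPolynomial σ A] FF) := by
    refine IsLocalization.tensorProduct_tensorProduct (MvPolynomial σ A) FF y.primeCompl O ?_
    ext x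
    simp [RingHom.algebraMap_toAlgebra, φ]
  have hart : IsArtinianRing (O ⊗[MvPolynomial σ A] FF) :=
    IsArtinianRing.localization_artinian
      (Algebra.algebraMapSubmonoid (D ⊗[MvPolynomial σ A] FF) y.primeCompl) _
  have hred : IsReduced (O ⊗[MvPolynomial σ A] FF) :=
    isReduced_localizationPreserves
      (Algebra.algebraMapSubmonoid (D ⊗[MvPolynomial σ A] FF) y.primeCompl) _ hred'
  exact isField_of_isArtinianRing (fun e he =>
    idempotent_trivial (P := MvPolynomial σ A) (D := D) O FF y.primeCompl hloc e he)

end Main2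

end Groth.Agent.Flat2B.GINField
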