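import Mathlib.RingTheory.Etale.StandardEtale
import Mathlib.RingTheory.Polynomial.GaussLemma
import Mathlib.FieldTheory.Minpoly.Field
import Mathlib.RingTheory.AdjoinRoot

/-!
# Standard etale algebras over a field which are fields
-/

set_option autoImplicit false

universe u v

open Polynomial

namespace Groth.Agent.Flat2B.GINStd

/-- If all irreducible factors of `q` divide `g` then `q` divides a power of `g`. -/
theorem exists_dvd_pow {K : Type*} [Field K] (q g : K[X]) (hq : q ≠ 0)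
    (h : ∀ ρ : K[X], Irreducible ρ → ρ ∣ q → ρ ∣ g) : ∃ m, q ∣ g ^ m := by
  induction q using WfDvdMonoid.induction_on_irreducible with
  | zero => exact absurd rfl hq
  | unit u hu => exact ⟨0, hu.dvd⟩
  | mul a i ha hi ih =>
    obtain ⟨m, hm⟩ := ih ha (fun ρ hρ hρa => h ρ hρ (hρa.mul_left _))
    refine ⟨m + 1, ?_⟩
    rw [pow_succ, mul_comm (g ^ m)]
    exact mul_dvd_mul (h i hi (dvd_mul_right _ _)) hm

variable {K : Type u} {L : Type v} [Field K] [CommRing L] [Algebra K L]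
  (P : StandardEtalePresentation K L)

include P

theorem exists_factorization (h : IsField L) :
    ∃ π q : K[X], π.Monic ∧ q.Monic ∧ P.f = π * q ∧ Irreducible π ∧ ¬ π ∣ P.g ∧
      ∃ m, q ∣ P.g ^ m := by
  let _ : Field L := h.toField
  have hint : IsIntegral K P.x := ⟨P.f, P.monic_f, P.hasMap.1⟩
  let π := minpoly K P.x
  have hπm : π.Monic := minpoly.monic hint
  have hπi : Irreducible π := minpoly.irreducible hint
  obtain ⟨q, hq⟩ := minpoly.dvd K P.x P.hasMap.1
  have hqm : q.Monic := Monic.of_mul_monic_left hπm (hq ▸ P.monic_f)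
  have hπg : ¬ π ∣ P.g := by
    rintro ⟨c, hc⟩
    have h1 : aeval P.x P.g = 0 := by rw [hc, map_mul, minpoly.aeval, zero_mul]
    exact P.hasMap.2.ne_zero h1
  refine ⟨π, q, hπm, hqm, hq, hπi, hπg, exists_dvd_pow q P.g hqm.ne_zero ?_⟩
  intro ρ hρ hρq
  by_contra hρg
  have : Fact (Irreducible ρ) := ⟨hρ⟩
  have hfr : aeval (AdjoinRoot.root ρ) P.f = 0 := by
    rw [hq, map_mul]
    obtain ⟨c, rfl⟩ := hρq
    rw [map_mul, AdjoinRoot.aeval_eq ρ, AdjoinRoot.mk_self, zero_mul, mul_zero]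
  have hgr : aeval (AdjoinRoot.root ρ) P.g ≠ 0 := by
    rw [AdjoinRoot.aeval_eq]
    intro h0
    exact hρg (AdjoinRoot.mk_eq_zero.mp h0)
  have hmap : P.HasMap (AdjoinRoot.root ρ) := ⟨hfr, hgr.isUnit⟩
  let φ : L →ₐ[K] AdjoinRoot ρ := (P.lift _ hmap).comp P.equivRing.toAlgHom
  have hφx : φ P.x = AdjoinRoot.root ρ := by
    simp [φ]
  have hπr : aeval (AdjoinRoot.root ρ) π = 0 := by
    rw [← hφx, aeval_algHom_apply, minpoly.aeval, map_zero]
  have hρπ : ρ ∣ π := by
    rw [AdjoinRoot.aeval_eq] at hπr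
    exact AdjoinRoot.mk_eq_zero.mp hπr
  have hπρ : π ∣ ρ := (hπi.dvd_comm hρ).mpr hρπ
  have hπq : π ∣ q := hπρ.trans hρq
  obtain ⟨c, hc⟩ := hπq
  have hder : aeval P.x P.f.derivative = 0 := by
    rw [hq, hc]
    simp only [derivative_mul, map_add, map_mul]
    rw [minpoly.aeval]
    ring
  exact P.hasMap.isUnit_derivative_f.ne_zero hder

theorem isField_of_factorization (π q : K[X]) (hf : P.f = π * q) (hπ : Irreducible π)
    (hπg : ¬ π ∣ P.g) (m : ℕ) (hq : q ∣ P.g ^ m) : IsField L := by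
  have : Fact (Irreducible π) := ⟨hπ⟩
  have hfr : aeval (AdjoinRoot.root π) P.f = 0 := by
    rw [hf, map_mul, AdjoinRoot.aeval_eq π, AdjoinRoot.mk_self, zero_mul]
  have hgr : aeval (AdjoinRoot.root π) P.g ≠ 0 := by
    rw [AdjoinRoot.aeval_eq]
    intro h0
    exact hπg (AdjoinRoot.mk_eq_zero.mp h0)
  have hmap : P.HasMap (AdjoinRoot.root π) := ⟨hfr, hgr.isUnit⟩
  let φ : L →ₐ[K] AdjoinRoot π := (P.lift _ hmap).comp P.equivRing.toAlgHom
  have hφx : φ P.x = AdjoinRoot.root π := by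
    simp [φ]
  have hinj : Function.Injective φ := by
    rw [injective_iff_map_eq_zero]
    intro z hz
    obtain ⟨p, n, hp⟩ := P.exists_mul_aeval_x_g_pow_eq_aeval_x z
    have h1 : aeval (AdjoinRoot.root π) p = 0 := by
      rw [← hφx, aeval_algHom_apply, ← hp, map_mul, hz, zero_mul]
    rw [AdjoinRoot.aeval_eq] at h1
    obtain ⟨s, hs⟩ := AdjoinRoot.mk_eq_zero.mp h1
    obtain ⟨t, ht⟩ := hq
    have h2 : aeval P.x p * aeval P.x P.g ^ m = 0 := by
      rw [← map_pow, ← map_mul, hs, ht]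
      have : π * s * (q * t) = P.f * (s * t) := by rw [hf]; ring
      rw [this, map_mul, P.hasMap.1, zero_mul]
    rw [← hp] at h2
    have h3 : IsUnit (aeval P.x P.g ^ n * aeval P.x P.g ^ m) :=
      (P.hasMap.2.pow n).mul (P.hasMap.2.pow m)
    rw [mul_assoc] at h2
    exact (h3.mul_left_eq_zero).mp h2
  have hsurj : Function.Surjective φ := by
    intro y
    obtain ⟨p, rfl⟩ := AdjoinRoot.mk_surjective y
    refine ⟨aeval P.x p, ?_⟩
    rw [← aeval_algHom_apply, hφx, AdjoinRoot.aeval_eq]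
  exact (AlgEquiv.ofBijective φ ⟨hinj, hsurj⟩).toMulEquiv.isField (Field.toIsField _)

omit P in
/-- Persistence of the irreducible factor under field extension. -/
theorem irreducible_map {K' : Type u} {L' : Type v} [Field K'] [CommRing L'] [Algebra K' L']
    (P' : StandardEtalePresentation K' L') (ψ : K →+* K') (f g : K[X]) (hf' : P'.f = f.map ψ)
    (hg' : P'.g = g.map ψ) (π q : K[X]) (hf : f = π * q) (hπ : Irreducible π)
    (hπg : ¬ π ∣ g) (m : ℕ) (hq : q ∣ g ^ m) (hL' : IsField L') :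
    Irreducible (π.map ψ) ∧ ¬ π.map ψ ∣ g.map ψ := by
  have hcop : IsCoprime (π.map ψ) (g.map ψ) := by
    have h1 : IsCoprime π g := hπ.coprime_iff_not_dvd.mpr hπg
    exact h1.map (mapRingHom ψ)
  have hnu : ¬ IsUnit (π.map ψ) := by
    intro hu
    have h1 := natDegree_eq_zero_of_isUnit hu
    rw [natDegree_map] at h1
    exact hπ.not_isUnit (isUnit_iff_degree_eq_zero.mpr (by
      rw [degree_eq_natDegree hπ.ne_zero, h1]; rfl))
  have hnd : ¬ π.map ψ ∣ g.map ψ := fun hd => hnu (hcop.isUnit_of_dvd' dvd_rfl hd)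
  refine ⟨?_, hnd⟩
  obtain ⟨π', q', hπ'm, hq'm, hfac, hπ'i, hπ'g, m', hq'⟩ := exists_factorization P' hL'
  rw [hg'] at hπ'g hq'
  have h1 : π' ∣ π.map ψ * q.map ψ := by
    rw [← Polynomial.map_mul, ← hf, ← hf', hfac]
    exact dvd_mul_right _ _
  have h2 : π' ∣ π.map ψ := by
    rcases hπ'i.prime.dvd_or_dvd h1 with h | h
    · exact h
    · exfalso
      apply hπ'g
      have h3 : q.map ψ ∣ (g.map ψ) ^ m := by
        rw [← Polynomial.map_pow]; exact Polynomial.map_dvd ψ hq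
      exact hπ'i.prime.dvd_of_dvd_pow (h.trans h3)
  obtain ⟨s, hs⟩ := h2
  have h4 : q' = s * q.map ψ := by
    have h5 : π' * q' = π' * (s * q.map ψ) := by
      rw [← mul_assoc, ← hs, ← Polynomial.map_mul, ← hf, ← hf', hfac]
    exact mul_left_cancel₀ hπ'i.ne_zero h5
  have h5 : IsUnit s := by
    have h6 : s ∣ (g.map ψ) ^ m' := (Dvd.intro _ h4.symm).trans hq'
    have h7 : s ∣ π.map ψ := ⟨π', by rw [hs, mul_comm]⟩
    exact (hcop.pow_right (n := m')).isUnit_of_dvd' h7 h6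
  rw [hs]
  exact (irreducible_mul_isUnit h5).mpr hπ'i

end Groth.Agent.Flat2B.GINStd
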