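import Groth.Agent.Flat2B.GINPoly
import Groth.Agent.Flat2B.GINStd
import Mathlib.RingTheory.Etale.Field
import Mathlib.RingTheory.Smooth.Flat
import Mathlib.RingTheory.Unramified.Finite
import Mathlib.RingTheory.Polynomial.UniqueFactorization
import Mathlib.RingTheory.Polynomial.RationalRoot
import Mathlib.RingTheory.TensorProduct.MvPolynomial

/-!
# The locus where a standard etale algebra over a polynomial ring is geometrically integral

For `φ : R → Ω` a map to a field and `D` an algebra over `P = R[x]`, `GoodAt D φ` says that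
`Ω(x) ⊗[P] D` is a field. The main result `exists_constructible_good` says that for `D` standard etale
over `P`, if this holds for all `φ` over a point `w` of `Spec R`, then it holds for all `φ` over the
points of a constructible set containing `w`.
-/

set_option autoImplicit false

universe u

open scoped TensorProduct
open Groth.Agent.Flat2B.GINPoly

namespace Groth.Agent.Flat2B.GINGood

variable (σ : Type)

/-- The field of rational functions. -/
abbrev Fr (Ω : Type u) [Field Ω] : Type u := FractionRing (MvPolynomial σ Ω)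

/-- The map `R[x] → Ω(x)`. -/
noncomputable def toFr {R Ω : Type u} [CommRing R] [Field Ω] (φ : R →+* Ω) :
    MvPolynomial σ R →+* Fr σ Ω :=
  (algebraMap (MvPolynomial σ Ω) (Fr σ Ω)).comp (MvPolynomial.map φ)

/-- The map `Ω(x) → Ω'(x)`. -/
noncomputable def mapFr {Ω Ω' : Type u} [Field Ω] [Field Ω'] (ψ : Ω →+* Ω') : Fr σ Ω →+* Fr σ Ω' :=
  IsLocalization.map (Fr σ Ω') (MvPolynomial.map ψ)
    (M := nonZeroDivisors (MvPolynomial σ Ω)) (T := nonZeroDivisors (MvPolynomial σ Ω'))
    (nonZeroDivisors_le_comap_nonZeroDivisors_of_injective _ (MvPolynomial.map_injective _ ψ.injective))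

theorem mapFr_comp_toFr {R Ω Ω' : Type u} [CommRing R] [Field Ω] [Field Ω'] (φ : R →+* Ω)
    (ψ : Ω →+* Ω') : (mapFr σ ψ).comp (toFr σ φ) = toFr σ (ψ.comp φ) := by
  rw [toFr, toFr, ← RingHom.comp_assoc]
  have : (mapFr σ ψ).comp (algebraMap (MvPolynomial σ Ω) (Fr σ Ω)) =
      (algebraMap (MvPolynomial σ Ω') (Fr σ Ω')).comp (MvPolynomial.map ψ) := by
    rw [mapFr]
    exact IsLocalization.map_comp (M := nonZeroDivisors (MvPolynomial σ Ω))
      (T := nonZeroDivisors (MvPolynomial σ Ω')) _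
  rw [this, RingHom.comp_assoc]
  congr 1
  ext <;> simp

/-- `Ω(x) ⊗[R[x]] D` is a field. -/
def GoodAt (σ : Type) {R Ω : Type u} [CommRing R] [Field Ω] (D : Type u) [CommRing D]
    [Algebra (MvPolynomial σ R) D] (φ : R →+* Ω) : Prop :=
  letI := (toFr σ φ).toAlgebra
  IsField (Fr σ Ω ⊗[MvPolynomial σ R] D)

variable {σ}

/-- Descent of `GoodAt` along field extensions. -/
theorem GoodAt.of_comp {R Ω Ω' : Type u} [CommRing R] [Field Ω] [Field Ω'] {D : Type u} [CommRing D]
    [Algebra (MvPolynomial σ R) D] [Algebra.Etale (MvPolynomial σ R) D] (φ : R →+* Ω)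
    (ψ : Ω →+* Ω') (h : GoodAt σ D (ψ.comp φ)) : GoodAt σ D φ := by
  unfold GoodAt at h ⊢
  letI := (toFr σ φ).toAlgebra
  letI := (toFr σ (ψ.comp φ)).toAlgebra
  let θ : Fr σ Ω →ₐ[MvPolynomial σ R] Fr σ Ω' :=
    { mapFr σ ψ with commutes' := fun p => congr($(mapFr_comp_toFr σ φ ψ) p) }
  have hflat : Module.Flat (MvPolynomial σ R) D := inferInstance
  have hinj : Function.Injective (Algebra.TensorProduct.map θ (AlgHom.id _ D)) :=
    Module.Flat.rTensor_preserves_injective_linearMap (M := D) θ.toLinearMap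
      (RingHom.injective (mapFr σ ψ))
  have hdom : IsDomain (Fr σ Ω' ⊗[MvPolynomial σ R] D) := h.isDomain
  have hdom' : IsDomain (Fr σ Ω ⊗[MvPolynomial σ R] D) := hinj.isDomain
  have hfin : Module.Finite (Fr σ Ω) (Fr σ Ω ⊗[MvPolynomial σ R] D) :=
    Algebra.FormallyUnramified.finite_of_free (R := Fr σ Ω) (S := Fr σ Ω ⊗[MvPolynomial σ R] D)
  exact isField_of_isIntegral_of_isField' (Field.toIsField (Fr σ Ω))

section Key

variable [Finite σ] {R : Type u} [CommRing R]

omit [Finite σ] in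
theorem optionEquivLeft_map {A B : Type u} [CommRing A] [CommRing B] (ψ : A →+* B)
    (p : MvPolynomial (Option σ) A) :
    MvPolynomial.optionEquivLeft B σ (MvPolynomial.map ψ p) =
      (MvPolynomial.optionEquivLeft A σ p).map (MvPolynomial.map ψ) := by
  have h : ((MvPolynomial.optionEquivLeft B σ).toRingEquiv.toRingHom.comp (MvPolynomial.map ψ)) =
      (Polynomial.mapRingHom (MvPolynomial.map ψ)).comp
        (MvPolynomial.optionEquivLeft A σ).toRingEquiv.toRingHom := by
    apply MvPolynomial.ringHom_ext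
    · intro a
      simp
    · intro i
      cases i with
      | none => simp
      | some i => simp
  exact congr($h p)


open Polynomial in
/-- The standard etale presentation of `F(x) ⊗[R[x]] D`. -/
theorem exists_pres {D : Type u} [CommRing D] [Algebra (MvPolynomial σ R) D]
    (P : StandardEtalePresentation (MvPolynomial σ R) D) {F : Type u} [Field F] (φ : R →+* F) :
    letI := (toFr σ φ).toAlgebra
    ∃ P' : StandardEtalePresentation (Fr σ F) (Fr σ F ⊗[MvPolynomial σ R] D),
      P'.f = (P.f.map (MvPolynomial.map φ)).map (algebraMap (MvPolynomial σ F) (Fr σ F)) ∧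
      P'.g = (P.g.map (MvPolynomial.map φ)).map (algebraMap (MvPolynomial σ F) (Fr σ F)) := by
  let _ := (toFr σ φ).toAlgebra
  refine ⟨P.baseChange, ?_, ?_⟩
  · rw [Polynomial.map_map]; rfl
  · rw [Polynomial.map_map]; rfl

open Polynomial in
/-- Factorizations from `GoodAt`. -/
theorem factor_of_goodAt {D : Type u} [CommRing D] [Algebra (MvPolynomial σ R) D]
    (P : StandardEtalePresentation (MvPolynomial σ R) D) {F : Type u} [Field F] (φ : R →+* F)
    (h : GoodAt σ D φ) :
    ∃ G Q : (MvPolynomial σ F)[X], G.Monic ∧ Q.Monic ∧ P.f.map (MvPolynomial.map φ) = G * Q ∧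
      (∃ m, Q ∣ P.g.map (MvPolynomial.map φ) ^ m) ∧
      ∀ (F' : Type u) [Field F'] (ψ : F →+* F'), GoodAt σ D (ψ.comp φ) →
        Irreducible (G.map (MvPolynomial.map ψ)) ∧
        ¬ G.map (MvPolynomial.map ψ) ∣ P.g.map (MvPolynomial.map (ψ.comp φ)) := by
  have hinj : ∀ (F : Type u) [Field F], Function.Injective (algebraMap (MvPolynomial σ F) (Fr σ F)) :=
    fun F _ => IsFractionRing.injective _ _
  let _ := (toFr σ φ).toAlgebra
  obtain ⟨P', hP'f, hP'g⟩ := exists_pres P φ
  obtain ⟨π, q, hπ, hq, hfac, hirr, hnd, m, hdv⟩ := GINStd.exists_factorization P' h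
  rw [hP'f] at hfac
  rw [hP'g] at hnd hdv
  have hfm : (P.f.map (MvPolynomial.map φ)).Monic := P.monic_f.map _
  obtain ⟨G, hG⟩ := IsIntegrallyClosed.eq_map_mul_C_of_dvd (Fr σ F) hfm (g := π) ⟨q, hfac⟩
  obtain ⟨Q, hQ⟩ := IsIntegrallyClosed.eq_map_mul_C_of_dvd (Fr σ F) hfm (g := q)
    ⟨π, by rw [hfac, mul_comm]⟩
  rw [hπ.leadingCoeff, map_one, mul_one] at hG
  rw [hq.leadingCoeff, map_one, mul_one] at hQ
  have hGm : G.Monic := by
    rw [← hG] at hπ
    exact (Function.Injective.monic_map_iff (hinj F)).mpr hπ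
  have hQm : Q.Monic := by
    rw [← hQ] at hq
    exact (Function.Injective.monic_map_iff (hinj F)).mpr hq
  have hfac' : P.f.map (MvPolynomial.map φ) = G * Q := by
    apply Polynomial.map_injective _ (hinj F)
    rw [hfac, Polynomial.map_mul, hG, hQ]
  have hdv' : Q ∣ P.g.map (MvPolynomial.map φ) ^ m := by
    rw [← Polynomial.map_dvd_map _ (hinj F) hQm, hQ, Polynomial.map_pow]
    exact hdv
  refine ⟨G, Q, hGm, hQm, hfac', ⟨m, hdv'⟩, ?_⟩
  intro F' _ ψ hgood
  let _ := (toFr σ (ψ.comp φ)).toAlgebra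
  obtain ⟨P'', hP''f, hP''g⟩ := exists_pres P (ψ.comp φ)
  have hcomm : (mapFr σ ψ).comp (algebraMap (MvPolynomial σ F) (Fr σ F)) =
      (algebraMap (MvPolynomial σ F') (Fr σ F')).comp (MvPolynomial.map ψ) := by
    rw [mapFr]
    exact IsLocalization.map_comp (M := nonZeroDivisors (MvPolynomial σ F))
      (T := nonZeroDivisors (MvPolynomial σ F')) _
  have hcc : ∀ p : (MvPolynomial σ R)[X],
      (p.map (MvPolynomial.map (ψ.comp φ))).map (algebraMap (MvPolynomial σ F') (Fr σ F')) =
      ((p.map (MvPolynomial.map φ)).map (algebraMap (MvPolynomial σ F) (Fr σ F))).map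
        (mapFr σ ψ) := by
    intro p
    rw [Polynomial.map_map, Polynomial.map_map, Polynomial.map_map, hcomm, RingHom.comp_assoc]
    congr 2
    ext <;> simp
  have key := GINStd.irreducible_map P'' (mapFr σ ψ)
    ((P.f.map (MvPolynomial.map φ)).map (algebraMap (MvPolynomial σ F) (Fr σ F)))
    ((P.g.map (MvPolynomial.map φ)).map (algebraMap (MvPolynomial σ F) (Fr σ F)))
    (by rw [hP''f, hcc]) (by rw [hP''g, hcc]) π q hfac hirr hnd m hdv hgood
  have hGψ : (G.map (MvPolynomial.map ψ)).map (algebraMap (MvPolynomial σ F') (Fr σ F')) =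
      π.map (mapFr σ ψ) := by
    rw [← hG, Polynomial.map_map, Polynomial.map_map, hcomm]
  have hGψm : (G.map (MvPolynomial.map ψ)).Monic := hGm.map _
  refine ⟨?_, ?_⟩
  · rw [Polynomial.Monic.irreducible_iff_irreducible_map_fraction_map (K := Fr σ F') hGψm, hGψ]
    exact key.1
  · intro hd
    apply key.2
    rw [← hGψ, ← hcc]
    exact Polynomial.map_dvd _ hd

open Polynomial in
/-- `GoodAt` from factorizations. -/
theorem goodAt_of_factor {D : Type u} [CommRing D] [Algebra (MvPolynomial σ R) D]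
    (P : StandardEtalePresentation (MvPolynomial σ R) D) {F : Type u} [Field F] (φ : R →+* F)
    (G Q U : (MvPolynomial σ F)[X]) (m : ℕ) (hf : P.f.map (MvPolynomial.map φ) = G * Q)
    (hg : P.g.map (MvPolynomial.map φ) ^ m = Q * U) (hirr : Irreducible G)
    (hnd : ¬ G ∣ P.g.map (MvPolynomial.map φ)) : GoodAt σ D φ := by
  have hinj : Function.Injective (algebraMap (MvPolynomial σ F) (Fr σ F)) :=
    IsFractionRing.injective _ _
  have hfm : (P.f.map (MvPolynomial.map φ)).Monic := P.monic_f.map _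
  have hlc : G.leadingCoeff * Q.leadingCoeff = 1 := by
    rw [← Polynomial.leadingCoeff_mul, ← hf]
    exact hfm
  let u : (MvPolynomial σ F)ˣ := ⟨G.leadingCoeff, Q.leadingCoeff, hlc, by rw [mul_comm]; exact hlc⟩
  have hCC : (C (Q.leadingCoeff) : (MvPolynomial σ F)[X]) * C G.leadingCoeff = 1 := by
    rw [← Polynomial.C_mul, mul_comm, hlc, Polynomial.C_1]
  let G' : (MvPolynomial σ F)[X] := C Q.leadingCoeff * G
  have hG'm : G'.Monic := by
    change (C Q.leadingCoeff * G).leadingCoeff = 1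
    rw [Polynomial.leadingCoeff_mul, Polynomial.leadingCoeff_C, mul_comm, hlc]
  have hunit : IsUnit (C Q.leadingCoeff : (MvPolynomial σ F)[X]) := IsUnit.of_mul_eq_one _ hCC
  have hG'i : Irreducible G' := (irreducible_isUnit_mul hunit).mpr hirr
  have hG'd : ¬ G' ∣ P.g.map (MvPolynomial.map φ) := by
    intro hd
    apply hnd
    exact (Dvd.intro_left _ rfl).trans hd
  let _ := (toFr σ φ).toAlgebra
  obtain ⟨P', hP'f, hP'g⟩ := exists_pres P φ
  refine GINStd.isField_of_factorization P' (G'.map (algebraMap _ (Fr σ F)))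
    ((C G.leadingCoeff * Q).map (algebraMap _ (Fr σ F))) ?_ ?_ ?_ m ?_
  · rw [hP'f, ← Polynomial.map_mul, hf]
    congr 1
    calc G * Q = (C (Q.leadingCoeff) * C G.leadingCoeff) * (G * Q) := by rw [hCC, one_mul]
      _ = _ := by ring
  · rw [← Polynomial.Monic.irreducible_iff_irreducible_map_fraction_map (K := Fr σ F) hG'm]
    exact hG'i
  · rw [hP'g, Polynomial.map_dvd_map _ hinj hG'm]
    exact hG'd
  · rw [hP'g, ← Polynomial.map_pow]
    apply Polynomial.map_dvd
    rw [hg]
    have hunit' : IsUnit (C G.leadingCoeff : (MvPolynomial σ F)[X]) :=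
      IsUnit.of_mul_eq_one _ (by rw [mul_comm]; exact hCC)
    exact (hunit'.mul_left_dvd).mpr (dvd_mul_right _ _)

theorem exists_constructible_good (D : Type u) [CommRing D] [Algebra (MvPolynomial σ R) D]
    [Algebra.IsStandardEtale (MvPolynomial σ R) D] (w : PrimeSpectrum R)
    (h : ∀ (Ω : Type u) [Field Ω] (φ : R →+* Ω), pt φ = w → GoodAt σ D φ) :
    ∃ Z : Set (PrimeSpectrum R), Topology.IsConstructible Z ∧ w ∈ Z ∧
      ∀ (Ω : Type u) [Field Ω] (φ : R →+* Ω), pt φ ∈ Z → GoodAt σ D φ := by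
  let P : StandardEtalePresentation (MvPolynomial σ R) D := Nonempty.some inferInstance
  -- presentations over fields
  let f : MvPolynomial (Option σ) R := (MvPolynomial.optionEquivLeft R σ).symm P.f
  let g : MvPolynomial (Option σ) R := (MvPolynomial.optionEquivLeft R σ).symm P.g
  have hef : ∀ (F : Type u) [Field F] (φ : R →+* F),
      MvPolynomial.optionEquivLeft F σ (MvPolynomial.map φ f) = P.f.map (MvPolynomial.map φ) := by
    intro F _ φ
    rw [optionEquivLeft_map, AlgEquiv.apply_symm_apply]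
  have heg : ∀ (F : Type u) [Field F] (φ : R →+* F),
      MvPolynomial.optionEquivLeft F σ (MvPolynomial.map φ g) = P.g.map (MvPolynomial.map φ) := by
    intro F _ φ
    rw [optionEquivLeft_map, AlgEquiv.apply_symm_apply]
  have hf0 : ∀ (F : Type u) [Field F] (φ : R →+* F), MvPolynomial.map φ f ≠ 0 := by
    intro F _ φ h0
    have h1 := hef F φ
    rw [h0, map_zero] at h1
    exact (P.monic_f.map (MvPolynomial.map φ)).ne_zero h1.symm
  let Ω := w.asIdeal.ResidueField
  let φ₀ : R →+* Ω := algebraMap R Ω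
  have hφ₀ : pt φ₀ = w := pt_residueField w
  obtain ⟨G, Q, hG, hQ, hfac, ⟨m, U, hU⟩, hper⟩ := factor_of_goodAt P φ₀ (h Ω φ₀ hφ₀)
  let eΩ := MvPolynomial.optionEquivLeft Ω σ
  obtain ⟨Z, hZ, hwZ, hZg⟩ := exists_constructible f g m hf0 Ω φ₀ (eΩ.symm G) (eΩ.symm Q)
    (eΩ.symm U) (by
      apply eΩ.injective
      rw [map_mul, AlgEquiv.apply_symm_apply, AlgEquiv.apply_symm_apply]
      exact (hef Ω φ₀).trans hfac) (by
      apply eΩ.injective
      rw [map_mul, map_pow, AlgEquiv.apply_symm_apply, AlgEquiv.apply_symm_apply]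
      rw [show eΩ (MvPolynomial.map φ₀ g) = _ from heg Ω φ₀]
      exact hU) (by
      intro F _ ψ
      have hgd : GoodAt σ D (ψ.comp φ₀) := h F _ (by rw [pt_comp, hφ₀])
      obtain ⟨h1, h2⟩ := hper F ψ hgd
      have h3 : MvPolynomial.optionEquivLeft F σ (MvPolynomial.map ψ (eΩ.symm G)) =
          G.map (MvPolynomial.map ψ) := by
        rw [optionEquivLeft_map, AlgEquiv.apply_symm_apply]
      refine ⟨?_, ?_⟩
      · rw [← MulEquiv.irreducible_iff (MvPolynomial.optionEquivLeft F σ), h3]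
        exact h1
      · intro hd
        apply h2
        rw [← h3, ← heg]
        exact map_dvd (MvPolynomial.optionEquivLeft F σ) hd)
  refine ⟨Z, hZ, hφ₀ ▸ hwZ, ?_⟩
  intro F _ φ hφ
  obtain ⟨F', _, ψ, G', Q', U', hpat⟩ := hZg F φ hφ
  apply GoodAt.of_comp φ ψ
  let e' := MvPolynomial.optionEquivLeft F' σ
  refine goodAt_of_factor P (ψ.comp φ) (e' G') (e' Q') (e' U') m ?_ ?_ ?_ ?_
  · rw [← hef, hpat.fact, map_mul]
  · rw [← heg, ← map_pow, hpat.pow, map_mul]
  · exact (MulEquiv.irreducible_iff e').mpr hpat.irr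
  · rw [← heg]
    intro hd
    exact hpat.ndvd ((map_dvd_iff e').mp hd)

end Key

end Groth.Agent.Flat2B.GINGood
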