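import Groth.Agent.CalgC.HenselFactor
import Groth.Agent.Fdesc.GeomRed
import Mathlib.RingTheory.Henselian
import Mathlib.RingTheory.LocalRing.ResidueField.Ideal
import Mathlib.RingTheory.Ideal.GoingUp
import Mathlib.RingTheory.AlgebraicIndependent.TranscendenceBasis

/-!
# Integral extensions of henselian local rings, and tensor products with purely transcendental points

* `isLocalRing_of_isIntegral_of_isDomain`: a domain integral over a henselian local ring is local.
* `isField_tensor_of_purelyTranscendental`.
* `isLocalRing_tensor`.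
-/

set_option autoImplicit false

universe u v w

open Polynomial IsLocalRing TensorProduct

namespace Groth.Agent.Flat2B.GINLocal

/-- A domain which is integral over a henselian local ring is local. -/
theorem isLocalRing_of_isIntegral_of_isDomain (A : Type u) (B : Type v) [CommRing A]
    [HenselianLocalRing A] [CommRing B] [IsDomain B] [Algebra A B] [Algebra.IsIntegral A B] :
    IsLocalRing B := by
  classical
  refine IsLocalRing.of_unique_max_ideal ?_
  obtain ⟨M, hM⟩ := Ideal.exists_maximal B
  refine ⟨M, hM, fun N hN => ?_⟩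
  -- every maximal ideal lies over the maximal ideal of `A`
  have hover : ∀ (N : Ideal B), N.IsMaximal → N.comap (algebraMap A B) = maximalIdeal A := by
    intro N hN
    have := Ideal.isMaximal_comap_of_isIntegral_of_isMaximal (R := A) N
    exact IsLocalRing.eq_maximalIdeal this
  by_contra hne
  have hnle : ¬ N ≤ M := fun h => hne (hN.eq_of_le hM.ne_top h)
  obtain ⟨b, hbN, hbM⟩ := SetLike.not_le_iff_exists.mp hnle
  have hb : IsIntegral A b := Algebra.IsIntegral.isIntegral b
  obtain ⟨f, hf, hfb⟩ := hb
  have hfb' : aeval b f = 0 := hfb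
  -- factor the reduction of `f` as `X ^ k * h` with `h(0) ≠ 0`
  let fr := f.map (residue A)
  have hfr : fr.Monic := hf.map _
  obtain ⟨h, hh, hh'⟩ := exists_eq_pow_rootMultiplicity_mul_and_not_dvd fr hfr.ne_zero 0
  set k := rootMultiplicity 0 fr
  rw [C_0, sub_zero] at hh hh'
  have hhm : h.Monic := by
    have : (X ^ k * h).leadingCoeff = 1 := hh ▸ hfr.leadingCoeff
    rw [leadingCoeff_mul, leadingCoeff_X_pow, one_mul] at this
    exact this
  have hcop : IsCoprime (X ^ k) h := by
    rw [← hh] at *
    refine IsCoprime.pow_left ?_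
    exact (prime_X (R := ResidueField A)).irreducible.coprime_iff_not_dvd.mpr hh'
  obtain ⟨g', h', hg'm, hh'm, hfgh, hg'r, hh'r⟩ :=
    Groth.Agent.CalgC.HenselFactor.exists_factor f hf (X ^ k) h (monic_X_pow k) hhm hcop hh
  have hprod : aeval b g' * aeval b h' = 0 := by
    rw [← map_mul, ← hfgh]; exact hfb'
  -- reductions
  have hred : ∀ (N : Ideal B), N.IsMaximal → ∀ (q : A[X]),
      ∀ (φ : ResidueField A →+* B ⧸ N), φ.comp (residue A) =
        (Ideal.Quotient.mk N).comp (algebraMap A B) →
      (Ideal.Quotient.mk N) (aeval b q) = (q.map (residue A)).eval₂ φ (Ideal.Quotient.mk N b) := by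
    intro N _ q φ hφ
    rw [eval₂_map, hφ, aeval_def, hom_eval₂]
  have hlift : ∀ (N : Ideal B), N.IsMaximal → ∃ φ : ResidueField A →+* B ⧸ N,
      φ.comp (residue A) = (Ideal.Quotient.mk N).comp (algebraMap A B) := by
    intro N hN
    refine ⟨Ideal.Quotient.lift _ ((Ideal.Quotient.mk N).comp (algebraMap A B)) ?_, ?_⟩
    · intro a ha
      rw [RingHom.comp_apply, Ideal.Quotient.eq_zero_iff_mem, ← Ideal.mem_comap, hover N hN]
      exact ha
    · exact Ideal.Quotient.lift_comp_mk _ _ _
  rcases mul_eq_zero.mp hprod with h1 | h1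
  · -- `g'(b) = 0`, so `b ^ k ∈ M`
    obtain ⟨φ, hφ⟩ := hlift M hM
    have h2 := hred M hM g' φ hφ
    rw [h1, map_zero, hg'r, eval₂_X_pow] at h2
    have h3 : (Ideal.Quotient.mk M) (b ^ k) = 0 := by rw [map_pow]; exact h2.symm
    exact hbM (hM.isPrime.mem_of_pow_mem k (Ideal.Quotient.eq_zero_iff_mem.mp h3))
  · -- `h'(b) = 0`, so `h(0) = 0`
    obtain ⟨φ, hφ⟩ := hlift N hN
    have h2 := hred N hN h' φ hφ
    have hb0 : (Ideal.Quotient.mk N) b = 0 := Ideal.Quotient.eq_zero_iff_mem.mpr hbN
    rw [h1, map_zero, hh'r, hb0, eval₂_at_zero] at h2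
    have hnt : Nontrivial (B ⧸ N) := Ideal.Quotient.nontrivial_iff.mpr hN.ne_top
    have h3 : h.coeff 0 = 0 := by
      apply φ.injective
      rw [map_zero]; exact h2.symm
    exact hh' (X_dvd_iff.mpr h3)

/-- If `L/k` is purely transcendental (generated by algebraically independent elements) and `K/k` is
algebraic, then `L ⊗ K` is a field. -/
theorem isField_tensor_of_adjoin_eq_top {k : Type u} {L : Type v} {K : Type w} [Field k] [Field L]
    [Field K] [Algebra k L] [Algebra k K] [Algebra.IsAlgebraic k K] {ι : Type*} (x : ι → L)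
    (hx : AlgebraicIndependent k x) (hx' : IntermediateField.adjoin k (Set.range x) = ⊤) :
    IsField (L ⊗[k] K) := by
  have h1 : IsDomain (IntermediateField.adjoin k (Set.range x) ⊗[k] K) :=
    Groth.Agent.Fdesc.GeomRed.isDomain_adjoin_tensor hx.coe_range K
  have e : IntermediateField.adjoin k (Set.range x) ≃ₐ[k] L :=
    (IntermediateField.equivOfEq hx').trans IntermediateField.topEquiv
  have h2 : IsDomain (L ⊗[k] K) :=
    (Algebra.TensorProduct.congr e.symm (AlgEquiv.refl : K ≃ₐ[k] K)).toMulEquiv.isDomain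
  have h3 : Algebra.IsIntegral k K := inferInstance
  have h4 : Algebra.IsIntegral L (L ⊗[k] K) := inferInstance
  exact isField_of_isIntegral_of_isField' (Field.toIsField L)

end Groth.Agent.Flat2B.GINLocal
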