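import Mathlib.RingTheory.Spectrum.Prime.Chevalley
import Mathlib.RingTheory.LocalRing.ResidueField.Ideal
import Mathlib.RingTheory.MvPolynomial.Homogeneous
import Mathlib.RingTheory.Flat.FaithfullyFlat.Basic
import Mathlib.Data.Finsupp.Weight
import Mathlib.Algebra.MvPolynomial.NoZeroDivisors

/-!
# Constructibility of factorization patterns of polynomials with bounded degree

`exists_constructible`: given polynomials `f, g` over a ring `R` and, over a field over a point `w` of
`Spec R`, a factorization `f = G * Q` with `G` geometrically irreducible, `Q ∣ g ^ m`, `G ∤ g`, the same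
kind of factorization exists over some field over each point of a constructible neighbourhood of `w`.
-/

set_option autoImplicit false

universe u

open MvPolynomial
open scoped TensorProduct

namespace Groth.Agent.Flat2B.GINPoly

/-- The point of the spectrum given by a ring homomorphism to a field. -/
def pt {A F : Type u} [CommRing A] [Field F] (φ : A →+* F) : PrimeSpectrum A :=
  ⟨RingHom.ker φ, RingHom.ker_isPrime φ⟩

theorem mem_pt {A F : Type u} [CommRing A] [Field F] (φ : A →+* F) (a : A) :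
    a ∈ (pt φ).asIdeal ↔ φ a = 0 := RingHom.mem_ker

theorem comap_pt {A B F : Type u} [CommRing A] [CommRing B] [Field F] (ψ : A →+* B) (φ : B →+* F) :
    PrimeSpectrum.comap ψ (pt φ) = pt (φ.comp ψ) := by
  apply PrimeSpectrum.ext
  exact RingHom.comap_ker φ ψ

theorem pt_comp {A F F' : Type u} [CommRing A] [Field F] [Field F'] (φ : A →+* F) (ψ : F →+* F') :
    pt (ψ.comp φ) = pt φ := by
  apply PrimeSpectrum.ext
  exact RingHom.ker_comp_of_injective φ ψ.injective

theorem pt_residueField {A : Type u} [CommRing A] (t : PrimeSpectrum A) :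
    pt (algebraMap A t.asIdeal.ResidueField) = t := by
  apply PrimeSpectrum.ext
  exact Ideal.ker_algebraMap_residueField _

/-- Two fields over the same point of `Spec A` have a common extension over `A`. -/
theorem exists_common_field {A F₁ F₂ : Type u} [CommRing A] [Field F₁] [Field F₂] (φ₁ : A →+* F₁)
    (φ₂ : A →+* F₂) (h : pt φ₁ = pt φ₂) :
    ∃ (F : Type u) (_ : Field F) (ψ₁ : F₁ →+* F) (ψ₂ : F₂ →+* F), ψ₁.comp φ₁ = ψ₂.comp φ₂ := by
  let p : Ideal A := RingHom.ker φ₁
  have hp : p.IsPrime := RingHom.ker_isPrime φ₁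
  have hp2 : p = RingHom.ker φ₂ := congr_arg PrimeSpectrum.asIdeal h
  let κ := p.ResidueField
  have hu1 : p.primeCompl ≤ (IsUnit.submonoid F₁).comap φ₁ := fun x hx =>
    isUnit_iff_ne_zero.mpr hx
  have hu2 : p.primeCompl ≤ (IsUnit.submonoid F₂).comap φ₂ := fun x hx =>
    isUnit_iff_ne_zero.mpr (fun hx' => hx (by rw [hp2]; exact hx'))
  let θ₁ : κ →+* F₁ := Ideal.ResidueField.lift p φ₁ le_rfl hu1
  let θ₂ : κ →+* F₂ := Ideal.ResidueField.lift p φ₂ hp2.le hu2
  let _ : Algebra κ F₁ := θ₁.toAlgebra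
  let _ : Algebra κ F₂ := θ₂.toAlgebra
  have hnt : Nontrivial (F₁ ⊗[κ] F₂) := inferInstance
  obtain ⟨M, hM⟩ := Ideal.exists_maximal (F₁ ⊗[κ] F₂)
  let _ : Field ((F₁ ⊗[κ] F₂) ⧸ M) := Ideal.Quotient.field M
  refine ⟨(F₁ ⊗[κ] F₂) ⧸ M, inferInstance,
    (Ideal.Quotient.mk M).comp (algebraMap F₁ (F₁ ⊗[κ] F₂)),
    (Ideal.Quotient.mk M).comp (Algebra.TensorProduct.includeRight : F₂ →ₐ[κ] F₁ ⊗[κ] F₂).toRingHom,
    ?_⟩
  have h1 : ∀ a, θ₁ (algebraMap A κ a) = φ₁ a := fun a => Ideal.ResidueField.lift_algebraMap ..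
  have h2 : ∀ a, θ₂ (algebraMap A κ a) = φ₂ a := fun a => Ideal.ResidueField.lift_algebraMap ..
  ext a
  change Ideal.Quotient.mk M (φ₁ a ⊗ₜ[κ] 1) = Ideal.Quotient.mk M (1 ⊗ₜ[κ] φ₂ a)
  congr 1
  rw [← h1, ← h2]
  change algebraMap κ F₁ (algebraMap A κ a) ⊗ₜ[κ] 1 = 1 ⊗ₜ[κ] algebraMap κ F₂ (algebraMap A κ a)
  generalize algebraMap A κ a = c
  rw [Algebra.algebraMap_eq_smul_one, Algebra.algebraMap_eq_smul_one, TensorProduct.smul_tmul]

variable {τ : Type} {A : Type u} [CommRing A]

/-- The locus where a polynomial vanishes. -/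
def van (E : MvPolynomial τ A) : Set (PrimeSpectrum A) :=
  PrimeSpectrum.zeroLocus (E.coeffs : Set A)

theorem isConstructible_zeroLocus (s : Set A) (hs : s.Finite) :
    Topology.IsConstructible (PrimeSpectrum.zeroLocus s) := by
  rw [← Topology.isConstructible_compl]
  exact (PrimeSpectrum.isRetrocompact_zeroLocus_compl hs).isConstructible
    (PrimeSpectrum.isClosed_zeroLocus _).isOpen_compl

theorem isConstructible_van (E : MvPolynomial τ A) : Topology.IsConstructible (van E) :=
  isConstructible_zeroLocus _ (Finset.finite_toSet _)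

theorem pt_mem_van {F : Type u} [Field F] (φ : A →+* F) (E : MvPolynomial τ A) :
    pt φ ∈ van E ↔ map φ E = 0 := by
  constructor
  · intro h
    ext α
    rw [coeff_map, coeff_zero]
    by_cases hα : coeff α E = 0
    · rw [hα, map_zero]
    · exact h (Finset.mem_coe.mpr (MvPolynomial.mem_coeffs_iff.mpr
        ⟨α, MvPolynomial.mem_support_iff.mpr hα, rfl⟩))
  · intro h a ha
    obtain ⟨α, -, rfl⟩ := MvPolynomial.mem_coeffs_iff.mp (Finset.mem_coe.mp ha)
    change φ (coeff α E) = 0
    rw [← coeff_map, h, coeff_zero]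

/-- The generic polynomial with exponents in `S`. -/
noncomputable def gen (A : Type u) [CommRing A] {ι : Type} (S : Finset (τ →₀ ℕ)) (i : ι) :
    MvPolynomial τ (MvPolynomial (ι × S) A) :=
  ∑ α : S, monomial α.1 (X (i, α))

theorem map_gen {ι : Type} (S : Finset (τ →₀ ℕ)) (i : ι) {B : Type u} [CommRing B]
    (φ : MvPolynomial (ι × S) A →+* B) :
    map φ (gen A S i) = ∑ α : S, monomial α.1 (φ (X (i, α))) := by
  rw [gen, map_sum]
  simp only [map_monomial]

theorem coeff_map_gen {ι : Type} (S : Finset (τ →₀ ℕ)) (i : ι) {B : Type u} [CommRing B]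
    (φ : MvPolynomial (ι × S) A →+* B) (α : S) :
    coeff α.1 (map φ (gen A S i)) = φ (X (i, α)) := by
  classical
  rw [map_gen, coeff_sum, Finset.sum_eq_single α]
  · rw [coeff_monomial, if_pos rfl]
  · intro β _ hβ
    rw [coeff_monomial, if_neg (fun h => hβ (Subtype.ext h))]
  · intro h
    exact absurd (Finset.mem_univ _) h

theorem support_map_gen {ι : Type} (S : Finset (τ →₀ ℕ)) (i : ι) {B : Type u} [CommRing B]
    (φ : MvPolynomial (ι × S) A →+* B) : (map φ (gen A S i)).support ⊆ S := by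
  classical
  intro α hα
  by_contra hS
  rw [MvPolynomial.mem_support_iff, map_gen, coeff_sum] at hα
  apply hα
  apply Finset.sum_eq_zero
  intro β _
  rw [coeff_monomial, if_neg]
  rintro rfl
  exact hS β.2

theorem exists_hom {ι : Type} (S : Finset (τ →₀ ℕ)) {B : Type u} [CommRing B] (ψ : A →+* B)
    (g : ι → MvPolynomial τ B) (hg : ∀ i, (g i).support ⊆ S) :
    ∃ φ : MvPolynomial (ι × S) A →+* B, φ.comp C = ψ ∧ ∀ i, map φ (gen A S i) = g i := by
  classical
  refine ⟨eval₂Hom ψ (fun p => coeff p.2.1 (g p.1)), ?_, fun i => ?_⟩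
  · ext a
    simp
  · rw [map_gen]
    simp only [coe_eval₂Hom, eval₂_X]
    rw [Finset.univ_eq_attach, Finset.sum_attach S (fun α => monomial α (coeff α (g i)))]
    conv_rhs => rw [← (g i).support_sum_monomial_coeff]
    symm
    apply Finset.sum_subset (hg i)
    intro α _ hα
    rw [MvPolynomial.notMem_support_iff.mp hα, map_zero]

/-- The factorization pattern `f = G * Q`, `g ^ m = Q * U` with `G` irreducible and not dividing `g`. -/
structure Pattern (F : Type u) [Field F] (f g G Q U : MvPolynomial τ F) (m : ℕ) : Prop where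
  fact : f = G * Q
  pow : g ^ m = Q * U
  irr : Irreducible G
  ndvd : ¬ G ∣ g

theorem exists_nonconst {F : Type u} [Field F] (p : MvPolynomial τ F) (hp : p ≠ 0)
    (hp' : ¬ IsUnit p) : ∃ α, α ≠ 0 ∧ coeff α p ≠ 0 := by
  classical
  by_contra hcon
  push Not at hcon
  have h1 : p = C (coeff 0 p) := by
    ext α
    rw [coeff_C]
    split_ifs with h
    · rw [h]
    · exact hcon α (fun h' => h h'.symm)
  apply hp'
  rw [h1]
  apply IsUnit.map
  rw [isUnit_iff_ne_zero]
  intro h2
  rw [h2, map_zero] at h1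
  exact hp h1

theorem not_isUnit_of_nonconst {F : Type u} [Field F] (p : MvPolynomial τ F) (α : τ →₀ ℕ)
    (hα : α ≠ 0) (h : coeff α p ≠ 0) : ¬ IsUnit p := by
  intro hu
  obtain ⟨q, hq⟩ := hu.exists_right_inv
  have hp0 : p ≠ 0 := hu.ne_zero
  have hq0 : q ≠ 0 := by
    rintro rfl
    rw [mul_zero] at hq
    exact zero_ne_one hq
  have h1 := totalDegree_mul_of_isDomain hp0 hq0
  rw [hq, totalDegree_one] at h1
  have h2 : p.totalDegree = 0 := by omega
  have h3 := le_totalDegree (MvPolynomial.mem_support_iff.mpr h)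
  rw [h2] at h3
  apply hα
  ext i
  have h4 : α.sum (fun _ e => e) = 0 := Nat.le_zero.mp h3
  by_contra hne
  have h5 : i ∈ α.support := Finsupp.mem_support_iff.mpr hne
  have := (Finset.sum_eq_zero_iff.mp h4) i h5
  exact hne this

theorem totalDegree_map_le' {A B : Type*} [CommRing A] [CommRing B] (φ : A →+* B)
    (p : MvPolynomial τ A) : (map φ p).totalDegree ≤ p.totalDegree :=
  Finset.sup_mono (support_map_subset φ p)

section Main

variable [Finite τ]

/-- exponents of degree at most `M` -/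
noncomputable def expo (τ : Type) [Finite τ] (M : ℕ) : Finset (τ →₀ ℕ) :=
  (Finsupp.finite_of_degree_le (σ := τ) M).toFinset

theorem support_subset_expo {F : Type u} [CommRing F] (p : MvPolynomial τ F) (M : ℕ)
    (h : p.totalDegree ≤ M) : p.support ⊆ expo τ M := by
  intro α hα
  rw [expo, Set.Finite.mem_toFinset, Set.mem_ofPred_eq]
  exact (le_totalDegree hα).trans h

variable {R : Type u} [CommRing R]

theorem exists_constructible (f g : MvPolynomial τ R) (m : ℕ)
    (hf : ∀ (F : Type u) [Field F] (φ : R →+* F), map φ f ≠ 0)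
    (Ω : Type u) [Field Ω] (φ₀ : R →+* Ω) (G Q U : MvPolynomial τ Ω)
    (hfact : map φ₀ f = G * Q) (hpow : map φ₀ g ^ m = Q * U)
    (hirr : ∀ (F : Type u) [Field F] (ψ : Ω →+* F), Irreducible (map ψ G) ∧
      ¬ map ψ G ∣ map (ψ.comp φ₀) g) :
    ∃ Z : Set (PrimeSpectrum R), Topology.IsConstructible Z ∧ pt φ₀ ∈ Z ∧
      ∀ (F : Type u) [Field F] (φ : R →+* F), pt φ ∈ Z →
        ∃ (F' : Type u) (_ : Field F') (ψ : F →+* F') (G' Q' U' : MvPolynomial τ F'),
          Pattern F' (map (ψ.comp φ) f) (map (ψ.comp φ) g) G' Q' U' m := by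
  classical
  have : Fintype τ := Fintype.ofFinite τ
  let S : Finset (τ →₀ ℕ) := G.support ∪ Q.support ∪ U.support
  obtain ⟨M, hM1, hM2⟩ : ∃ M : ℕ, (∀ α ∈ S, α.degree ≤ M) ∧ g.totalDegree ≤ M := by
    refine ⟨max (S.sup Finsupp.degree) g.totalDegree, fun α hα => ?_, le_max_right _ _⟩
    exact (Finset.le_sup (f := Finsupp.degree) hα).trans (le_max_left _ _)
  let T := expo τ M
  let T0 := MvPolynomial (Fin 3 × S) R
  let T1 := MvPolynomial (Fin 2 × T) T0
  let T2 := MvPolynomial (Fin 1 × T) T0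
  let Gu : MvPolynomial τ T0 := gen R S (0 : Fin 3)
  let Qu : MvPolynomial τ T0 := gen R S (1 : Fin 3)
  let Uu : MvPolynomial τ T0 := gen R S (2 : Fin 3)
  let Z1 : Set (PrimeSpectrum T0) := van (map C f - Gu * Qu) ∩ van (map C g ^ m - Qu * Uu)
  let Z2 : Set (PrimeSpectrum T1) := van (map C Gu - gen T0 T (0 : Fin 2) * gen T0 T (1 : Fin 2)) ∩
    ((⋃ α : {α : T // α.1 ≠ 0}, (PrimeSpectrum.basicOpen (X (0, α.1) : T1) : Set (PrimeSpectrum T1))) ∩
     (⋃ α : {α : T // α.1 ≠ 0}, (PrimeSpectrum.basicOpen (X (1, α.1) : T1) : Set (PrimeSpectrum T1))))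
  let Z3 : Set (PrimeSpectrum T2) := van (map C (map C g) - map C Gu * gen T0 T (0 : Fin 1))
  let W : Set (PrimeSpectrum T0) := Z1 \ ((PrimeSpectrum.comap (C : T0 →+* T1)) '' Z2 ∪
    (PrimeSpectrum.comap (C : T0 →+* T2)) '' Z3)
  have hZ1 : Topology.IsConstructible Z1 := (isConstructible_van _).inter (isConstructible_van _)
  have hU : ∀ i : Fin 2, Topology.IsConstructible (⋃ α : {α : T // α.1 ≠ 0},
      (PrimeSpectrum.basicOpen (X (i, α.1) : T1) : Set (PrimeSpectrum T1))) := fun i =>
    Topology.IsConstructible.iUnion fun α => PrimeSpectrum.isConstructible_basicOpen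
  have hZ2 : Topology.IsConstructible Z2 := (isConstructible_van _).inter ((hU 0).inter (hU 1))
  have hZ3 : Topology.IsConstructible Z3 := isConstructible_van _
  have hfp1 : (C : T0 →+* T1).FinitePresentation :=
    RingHom.finitePresentation_algebraMap.mpr (inferInstanceAs (Algebra.FinitePresentation T0 T1))
  have hfp2 : (C : T0 →+* T2).FinitePresentation :=
    RingHom.finitePresentation_algebraMap.mpr (inferInstanceAs (Algebra.FinitePresentation T0 T2))
  have hfp0 : (C : R →+* T0).FinitePresentation :=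
    RingHom.finitePresentation_algebraMap.mpr (inferInstanceAs (Algebra.FinitePresentation R T0))
  have hW : Topology.IsConstructible W :=
    hZ1.sdiff ((PrimeSpectrum.isConstructible_comap_image hfp1 hZ2).union
      (PrimeSpectrum.isConstructible_comap_image hfp2 hZ3))
  refine ⟨(PrimeSpectrum.comap (C : R →+* T0)) '' W,
    PrimeSpectrum.isConstructible_comap_image hfp0 hW, ?_, ?_⟩
  · -- the point `pt φ₀` is in the image
    have hsuppG : G.support ⊆ S := Finset.subset_union_left.trans Finset.subset_union_left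
    have hsuppQ : Q.support ⊆ S := Finset.subset_union_right.trans Finset.subset_union_left
    have hsuppU : U.support ⊆ S := Finset.subset_union_right
    obtain ⟨φ, hφ, hφg⟩ := exists_hom S φ₀ (![G, Q, U] : Fin 3 → MvPolynomial τ Ω) (by
      intro i
      fin_cases i
      · exact hsuppG
      · exact hsuppQ
      · exact hsuppU)
    have hG : map φ Gu = G := hφg 0
    have hQ : map φ Qu = Q := hφg 1
    have hU' : map φ Uu = U := hφg 2
    refine ⟨pt φ, ⟨⟨?_, ?_⟩, ?_⟩, ?_⟩
    · rw [pt_mem_van, map_sub, map_mul, hG, hQ, map_map, hφ, hfact, sub_self]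
    · rw [pt_mem_van, map_sub, map_mul, map_pow, hQ, hU', map_map, hφ, hpow, sub_self]
    · rintro (⟨t, ht, htφ⟩ | ⟨t, ht, htφ⟩)
      · -- a factorization of `G`
        obtain ⟨F, _, ψ₁, ψ₂, hψ⟩ := exists_common_field φ
          ((algebraMap T1 t.asIdeal.ResidueField).comp C) (by
            rw [← comap_pt, pt_residueField, htφ])
        let θ : T1 →+* F := ψ₂.comp (algebraMap T1 t.asIdeal.ResidueField)
        have hθ : pt θ = t := by rw [pt_comp, pt_residueField]
        have hθC : θ.comp C = ψ₁.comp φ := by rw [hψ]; rfl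
        obtain ⟨ht1, ht2, ht3⟩ := ht
        rw [← hθ, pt_mem_van, map_sub, map_mul, sub_eq_zero, map_map, hθC, ← map_map, hG] at ht1
        rw [Set.mem_iUnion] at ht2 ht3
        obtain ⟨α, hα⟩ := ht2
        obtain ⟨β, hβ⟩ := ht3
        have hα' : θ (X (0, α.1)) ≠ 0 := by
          intro h0
          apply hα
          rw [← hθ, mem_pt]
          exact h0
        have hβ' : θ (X (1, β.1)) ≠ 0 := by
          intro h0
          apply hβ
          rw [← hθ, mem_pt]
          exact h0
        rw [← coeff_map_gen T (0 : Fin 2) θ α.1] at hα'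
        rw [← coeff_map_gen T (1 : Fin 2) θ β.1] at hβ'
        have hirr' := (hirr F ψ₁).1
        rcases hirr'.isUnit_or_isUnit ht1 with h | h
        · exact not_isUnit_of_nonconst _ _ α.2 hα' h
        · exact not_isUnit_of_nonconst _ _ β.2 hβ' h
      · obtain ⟨F, _, ψ₁, ψ₂, hψ⟩ := exists_common_field φ
          ((algebraMap T2 t.asIdeal.ResidueField).comp C) (by
            rw [← comap_pt, pt_residueField, htφ])
        let θ : T2 →+* F := ψ₂.comp (algebraMap T2 t.asIdeal.ResidueField)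
        have hθ : pt θ = t := by rw [pt_comp, pt_residueField]
        have hθC : θ.comp C = ψ₁.comp φ := by rw [hψ]; rfl
        have e1 : map θ (map C (map C g)) = map (ψ₁.comp φ₀) g := by
          rw [map_map, map_map, hθC, RingHom.comp_assoc, hφ]
        have e2 : map θ (map C Gu) = map ψ₁ G := by
          rw [map_map, hθC, ← map_map, hG]
        rw [← hθ, pt_mem_van, map_sub, map_mul, sub_eq_zero, e1, e2] at ht
        exact (hirr F ψ₁).2 ⟨_, ht⟩
    · rw [comap_pt, hφ]
  · rintro F _ φ ⟨t, ⟨⟨ht1, ht2⟩, ht3⟩, htφ⟩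
    obtain ⟨F', _, ψ₁, ψ₂, hψ⟩ := exists_common_field φ
      ((algebraMap T0 t.asIdeal.ResidueField).comp C) (by
        rw [← comap_pt, pt_residueField, htφ])
    let θ : T0 →+* F' := ψ₂.comp (algebraMap T0 t.asIdeal.ResidueField)
    have hθ : pt θ = t := by rw [pt_comp, pt_residueField]
    have hθC : θ.comp C = ψ₁.comp φ := by rw [hψ]; rfl
    rw [← hθ, pt_mem_van, map_sub, map_mul, sub_eq_zero, map_map, hθC] at ht1
    rw [← hθ, pt_mem_van, map_sub, map_mul, map_pow, sub_eq_zero, map_map, hθC] at ht2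
    have hG0 : map θ Gu ≠ 0 := by
      intro h0
      apply hf F' (ψ₁.comp φ)
      rw [ht1, h0, zero_mul]
    have hGsupp : (map θ Gu).support ⊆ S := support_map_gen S (0 : Fin 3) θ
    have hGdeg : (map θ Gu).totalDegree ≤ M := by
      apply Finset.sup_le
      intro α hα
      exact hM1 α (hGsupp hα)
    have hgdeg : (map (ψ₁.comp φ) g).totalDegree ≤ M := (totalDegree_map_le' _ _).trans hM2
    have hnd : ¬ map θ Gu ∣ map (ψ₁.comp φ) g := by
      rintro ⟨V, hV⟩
      have hVdeg : V.totalDegree ≤ M := by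
        by_cases hV0 : V = 0
        · rw [hV0, totalDegree_zero]; exact Nat.zero_le _
        · rw [hV, totalDegree_mul_of_isDomain hG0 hV0] at hgdeg
          omega
      obtain ⟨χ, hχ, hχg⟩ := exists_hom T θ (fun _ : Fin 1 => V) (fun _ => support_subset_expo V M hVdeg)
      apply ht3
      right
      refine ⟨pt χ, ?_, ?_⟩
      · have e1 : map χ (map C (map C g)) = map (ψ₁.comp φ) g := by
          rw [map_map, map_map, hχ, hθC]
        have e2 : map χ (map C Gu) = map θ Gu := by
          rw [map_map, hχ]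
        rw [pt_mem_van, map_sub, map_mul, sub_eq_zero, hχg 0, e1, e2, ← hV]
      · rw [comap_pt, hχ, hθ]
    refine ⟨F', inferInstance, ψ₁, map θ Gu, map θ Qu, map θ Uu, ht1, ht2, ?_, hnd⟩
    refine ⟨fun hu => hnd (hu.dvd), fun {h₀ h₁} hh => ?_⟩
    by_contra hcon
    push Not at hcon
    have h00 : h₀ ≠ 0 := by
      rintro rfl
      rw [zero_mul] at hh
      exact hG0 hh
    have h10 : h₁ ≠ 0 := by
      rintro rfl
      rw [mul_zero] at hh
      exact hG0 hh
    have hdeg := hGdeg
    rw [hh, totalDegree_mul_of_isDomain h00 h10] at hdeg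
    obtain ⟨α, hα, hα'⟩ := exists_nonconst h₀ h00 hcon.1
    obtain ⟨β, hβ, hβ'⟩ := exists_nonconst h₁ h10 hcon.2
    have hs0 : h₀.support ⊆ T := support_subset_expo h₀ M (by omega)
    have hs1 : h₁.support ⊆ T := support_subset_expo h₁ M (by omega)
    obtain ⟨χ, hχ, hχg⟩ := exists_hom T θ (![h₀, h₁] : Fin 2 → MvPolynomial τ F') (by
      intro i
      fin_cases i
      · exact hs0
      · exact hs1)
    have h0' : map χ (gen T0 T (0 : Fin 2)) = h₀ := hχg 0
    have h1' : map χ (gen T0 T (1 : Fin 2)) = h₁ := hχg 1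
    apply ht3
    left
    refine ⟨pt χ, ⟨?_, ?_, ?_⟩, ?_⟩
    · rw [pt_mem_van, map_sub, map_mul, sub_eq_zero, h0', h1', map_map, hχ, hh]
    · rw [Set.mem_iUnion]
      refine ⟨⟨⟨α, hs0 (MvPolynomial.mem_support_iff.mpr hα')⟩, hα⟩, fun h0 => ?_⟩
      rw [mem_pt, ← coeff_map_gen T (0 : Fin 2) χ, h0'] at h0
      exact hα' h0
    · rw [Set.mem_iUnion]
      refine ⟨⟨⟨β, hs1 (MvPolynomial.mem_support_iff.mpr hβ')⟩, hβ⟩, fun h0 => ?_⟩
      rw [mem_pt, ← coeff_map_gen T (1 : Fin 2) χ, h1'] at h0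
      exact hβ' h0
    · rw [comap_pt, hχ, hθ]

end Main

end Groth.Agent.Flat2B.GINPoly
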