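import Groth.Agent.Flat2B.GINCompact
import Mathlib.RingTheory.IsTensorProduct
import Mathlib.RingTheory.Localization.BaseChange

/-!
# `GoodAt` and base change
-/

set_option autoImplicit false

universe u

open scoped TensorProduct
open Groth.Agent.Flat2B.GINPoly Groth.Agent.Flat2B.GINGood

attribute [local instance] MvPolynomial.algebraMvPolynomial

namespace Groth.Agent.Flat2B.GINPush

variable {σ : Type} {E A DE DA : Type u} [CommRing E] [CommRing A] [CommRing DE] [CommRing DA]
  [Algebra E A] [Algebra (MvPolynomial σ E) DE] [Algebra (MvPolynomial σ A) DA] [Algebra DE DA]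
  [Algebra (MvPolynomial σ E) DA] [IsScalarTower (MvPolynomial σ E) DE DA]
  [IsScalarTower (MvPolynomial σ E) (MvPolynomial σ A) DA]

theorem goodAt_iff [H : Algebra.IsPushout (MvPolynomial σ E) (MvPolynomial σ A) DE DA]
    {Ω : Type u} [Field Ω] (φ : A →+* Ω) :
    GoodAt σ DA φ ↔ GoodAt σ DE (φ.comp (algebraMap E A)) := by
  unfold GoodAt
  let _ := (toFr σ φ).toAlgebra
  let _ := (toFr σ (φ.comp (algebraMap E A))).toAlgebra
  have hst : IsScalarTower (MvPolynomial σ E) (MvPolynomial σ A) (Fr σ Ω) := by
    refine IsScalarTower.of_algebraMap_eq' ?_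
    change toFr σ (φ.comp (algebraMap E A)) = (toFr σ φ).comp (MvPolynomial.map (algebraMap E A))
    rw [toFr, toFr, RingHom.comp_assoc]
    congr 1
    ext <;> simp
  have H' : Algebra.IsPushout (MvPolynomial σ E) DE (MvPolynomial σ A) DA := H.symm
  let e : DA ⊗[MvPolynomial σ A] Fr σ Ω ≃ₐ[DE] DE ⊗[MvPolynomial σ E] Fr σ Ω :=
    Algebra.IsPushout.cancelBaseChangeAlg (MvPolynomial σ E) DE (MvPolynomial σ A) DA (Fr σ Ω)
  let e1 : Fr σ Ω ⊗[MvPolynomial σ A] DA ≃+* Fr σ Ω ⊗[MvPolynomial σ E] DE :=
    (Algebra.TensorProduct.comm (MvPolynomial σ A) (Fr σ Ω) DA).toRingEquiv.trans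
      (e.toRingEquiv.trans (Algebra.TensorProduct.comm (MvPolynomial σ E) DE (Fr σ Ω)).toRingEquiv)
  exact ⟨fun h => e1.symm.toMulEquiv.isField h, fun h => e1.toMulEquiv.isField h⟩

/-- Pushouts and localizations. -/
theorem isPushout_away [H : Algebra.IsPushout (MvPolynomial σ E) (MvPolynomial σ A) DE DA]
    (g : DE) {B B' : Type u} [CommRing B] [CommRing B'] [Algebra DE B] [IsLocalization.Away g B]
    [Algebra DA B'] [IsLocalization.Away (algebraMap DE DA g) B'] [Algebra (MvPolynomial σ E) B]
    [IsScalarTower (MvPolynomial σ E) DE B] [Algebra (MvPolynomial σ A) B']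
    [IsScalarTower (MvPolynomial σ A) DA B'] [Algebra B B'] [Algebra DE B']
    [IsScalarTower DE B B'] [IsScalarTower DE DA B'] [Algebra (MvPolynomial σ E) B']
    [IsScalarTower (MvPolynomial σ E) B B'] [IsScalarTower (MvPolynomial σ E) (MvPolynomial σ A) B'] :
    Algebra.IsPushout (MvPolynomial σ E) (MvPolynomial σ A) B B' := by
  have h1 : IsLocalization (Algebra.algebraMapSubmonoid DA (Submonoid.powers g)) B' := by
    rw [Algebra.algebraMapSubmonoid, Submonoid.map_powers]
    infer_instance
  have h2 : Algebra.IsPushout DE DA B B' :=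
    Algebra.isPushout_of_isLocalization (Submonoid.powers g) B DA B'
  have h3 : Algebra.IsPushout DE B DA B' := h2.symm
  have h4 : Algebra.IsPushout (MvPolynomial σ E) DE (MvPolynomial σ A) DA := H.symm
  have : IsScalarTower (MvPolynomial σ E) DE B' := IsScalarTower.of_algebraMap_eq fun x => by
    rw [IsScalarTower.algebraMap_apply (MvPolynomial σ E) B B',
      IsScalarTower.algebraMap_apply (MvPolynomial σ E) DE B, ← IsScalarTower.algebraMap_apply DE B B']
  have : IsScalarTower (MvPolynomial σ E) DA B' := IsScalarTower.of_algebraMap_eq fun x => by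
    rw [IsScalarTower.algebraMap_apply (MvPolynomial σ E) DE B',
      IsScalarTower.algebraMap_apply DE DA B', ← IsScalarTower.algebraMap_apply (MvPolynomial σ E) DE DA]
  exact ((Algebra.IsPushout.comp_iff (MvPolynomial σ E) DE (MvPolynomial σ A) (S' := DA) (T := B)
    (T' := B')).mpr h3).symm

theorem goodAt_away_iff [H : Algebra.IsPushout (MvPolynomial σ E) (MvPolynomial σ A) DE DA]
    (g : DE) {Ω : Type u} [Field Ω] (φ : A →+* Ω) :
    GoodAt σ (Localization.Away (algebraMap DE DA g)) φ ↔
      GoodAt σ (Localization.Away g) (φ.comp (algebraMap E A)) := by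
  let f : Localization.Away g →+* Localization.Away (algebraMap DE DA g) :=
    IsLocalization.Away.lift (S := Localization.Away g) g
      (g := (algebraMap DA (Localization.Away (algebraMap DE DA g))).comp (algebraMap DE DA))
      (IsLocalization.Away.algebraMap_isUnit (algebraMap DE DA g))
  let _ : Algebra (Localization.Away g) (Localization.Away (algebraMap DE DA g)) := f.toAlgebra
  have : IsScalarTower DE (Localization.Away g) (Localization.Away (algebraMap DE DA g)) := by
    refine IsScalarTower.of_algebraMap_eq fun x => ?_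
    change _ = f (algebraMap DE (Localization.Away g) x)
    rw [IsLocalization.Away.lift_eq, IsScalarTower.algebraMap_apply DE DA]
    rfl
  have : IsScalarTower (MvPolynomial σ E) (Localization.Away g)
      (Localization.Away (algebraMap DE DA g)) := by
    refine IsScalarTower.of_algebraMap_eq fun x => ?_
    have h1 : algebraMap (MvPolynomial σ E) (Localization.Away (algebraMap DE DA g)) x =
      algebraMap DA _ (algebraMap (MvPolynomial σ E) DA x) :=
        IsScalarTower.algebraMap_apply (MvPolynomial σ E) DA _ x
    have h2 : algebraMap DE (Localization.Away (algebraMap DE DA g))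
        (algebraMap (MvPolynomial σ E) DE x) =
        algebraMap DA _ (algebraMap DE DA (algebraMap (MvPolynomial σ E) DE x)) :=
      IsScalarTower.algebraMap_apply DE DA _ _
    rw [IsScalarTower.algebraMap_apply (MvPolynomial σ E) DE (Localization.Away g),
      ← IsScalarTower.algebraMap_apply DE (Localization.Away g), h2, h1,
      ← IsScalarTower.algebraMap_apply (MvPolynomial σ E) DE DA]
  have : IsScalarTower (MvPolynomial σ E) (MvPolynomial σ A)
      (Localization.Away (algebraMap DE DA g)) := by
    refine IsScalarTower.of_algebraMap_eq fun x => ?_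
    have h1 : algebraMap (MvPolynomial σ E) (Localization.Away (algebraMap DE DA g)) x =
      algebraMap DA _ (algebraMap (MvPolynomial σ E) DA x) :=
        IsScalarTower.algebraMap_apply (MvPolynomial σ E) DA _ x
    rw [IsScalarTower.algebraMap_apply (MvPolynomial σ A) DA, h1,
      ← IsScalarTower.algebraMap_apply (MvPolynomial σ E) (MvPolynomial σ A) DA]
  have hp : Algebra.IsPushout (MvPolynomial σ E) (MvPolynomial σ A) (Localization.Away g)
      (Localization.Away (algebraMap DE DA g)) := isPushout_away (DE := DE) (DA := DA) g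
  exact goodAt_iff φ

end Groth.Agent.Flat2B.GINPush
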