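import Groth.Agent.Flat2B.GINSpread
import Groth.Agent.Flat2B.GINField
import Groth.Agent.Hensel.HullLocal
import Groth.Agent.CalgB.HullFlat

/-!
# Existence of an etale neighbourhood with good fibres: the abstract form
-/

set_option autoImplicit false

universe u

open scoped TensorProduct
open IsLocalRing
open Groth.Agent.Flat2B.GINPoly Groth.Agent.Flat2B.GINGood Groth.Agent.Flat2B.GINSpread

attribute [local instance] MvPolynomial.algebraMvPolynomial

namespace Groth.Agent.Flat2B.GINRes

theorem isField_transfer {K L κA κO : Type u} [Field K] [Field L] [Field κA] [Field κO]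
    [Algebra K L] [Algebra κA κO] (e : κA →+* K) (e' : κO →+* L) (he : Function.Surjective e)
    (he' : Function.Surjective e') (h : ∀ a, e' (algebraMap κA κO a) = algebraMap K L (e a))
    (H : ∀ (k' : Type u) [Field k'] [Algebra K k'] [Algebra.IsAlgebraic K k'], IsField (L ⊗[K] k'))
    (k' : Type u) [Field k'] [Algebra κA k'] [Algebra.IsAlgebraic κA k'] :
    IsField (κO ⊗[κA] k') := by
  let E : κA ≃+* K := RingEquiv.ofBijective e ⟨e.injective, he⟩
  let E' : κO ≃+* L := RingEquiv.ofBijective e' ⟨e'.injective, he'⟩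
  have hEE : ∀ k : K, E'.symm (algebraMap K L k) = algebraMap κA κO (E.symm k) := by
    intro k
    apply E'.injective
    rw [RingEquiv.apply_symm_apply]
    change _ = e' (algebraMap κA κO (E.symm k))
    rw [h]
    change _ = algebraMap K L (E (E.symm k))
    rw [RingEquiv.apply_symm_apply]
  let _ : Algebra K k' := ((algebraMap κA k').comp E.symm.toRingHom).toAlgebra
  have halg : Algebra.IsAlgebraic K k' := by
    refine ⟨fun x => ?_⟩
    obtain ⟨f, hf, hfx⟩ := Algebra.IsAlgebraic.isAlgebraic (R := κA) x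
    refine ⟨f.map E.toRingHom, ?_, ?_⟩
    · intro h0
      apply hf
      apply Polynomial.map_injective E.toRingHom E.injective
      rw [h0, Polynomial.map_zero]
    · rw [Polynomial.aeval_def, Polynomial.eval₂_map]
      have : (algebraMap K k').comp E.toRingHom = algebraMap κA k' := by
        ext a
        change algebraMap κA k' (E.symm (E a)) = _
        rw [RingEquiv.symm_apply_apply]
      rw [this]
      exact hfx
  have hL := H k'
  let _ : Algebra K (κO ⊗[κA] k') :=
    ((algebraMap κA (κO ⊗[κA] k')).comp E.symm.toRingHom).toAlgebra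
  let f1 : L →ₐ[K] κO ⊗[κA] k' :=
    { (Algebra.TensorProduct.includeLeft : κO →ₐ[κA] κO ⊗[κA] k').toRingHom.comp E'.symm.toRingHom with
      commutes' := fun k => by
        change (E'.symm (algebraMap K L k)) ⊗ₜ[κA] (1 : k') = algebraMap κA (κO ⊗[κA] k') (E.symm k)
        rw [hEE]
        rfl }
  let f2 : k' →ₐ[K] κO ⊗[κA] k' :=
    { (Algebra.TensorProduct.includeRight : k' →ₐ[κA] κO ⊗[κA] k').toRingHom with
      commutes' := fun k => by
        change (1 : κO) ⊗ₜ[κA] (algebraMap κA k' (E.symm k)) = algebraMap κA (κO ⊗[κA] k') (E.symm k)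
        exact (Algebra.TensorProduct.includeRight : k' →ₐ[κA] κO ⊗[κA] k').commutes (E.symm k) }
  let F : L ⊗[K] k' →ₐ[K] κO ⊗[κA] k' := Algebra.TensorProduct.lift f1 f2 (fun _ _ => Commute.all _ _)
  have hF : Function.Surjective F := by
    intro z
    induction z with
    | zero => exact ⟨0, map_zero _⟩
    | tmul a b =>
      refine ⟨E' a ⊗ₜ b, ?_⟩
      change Algebra.TensorProduct.lift f1 f2 _ (E' a ⊗ₜ b) = _
      rw [Algebra.TensorProduct.lift_tmul]
      change (E'.symm (E' a) ⊗ₜ[κA] (1 : k')) * (1 ⊗ₜ b) = _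
      rw [RingEquiv.symm_apply_apply, Algebra.TensorProduct.tmul_mul_tmul, mul_one, one_mul]
    | add x y hx hy =>
      obtain ⟨a, ha⟩ := hx
      obtain ⟨b, hb⟩ := hy
      exact ⟨a + b, by rw [map_add, ha, hb]⟩
  have hnt : Nontrivial (κO ⊗[κA] k') := inferInstance
  have hinj : Function.Injective F := by
    let _ := hL.toField
    exact RingHom.injective F.toRingHom
  exact (AlgEquiv.ofBijective F ⟨hinj, hF⟩).symm.toMulEquiv.isField hL

section Ev

variable {σ : Type} {R D K L : Type u} [CommRing R] [CommRing D] [Algebra (MvPolynomial σ R) D]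
  [Field K] [Field L] [Algebra R K] [Algebra K L]

/-- The map `E[x] → L`. -/
noncomputable def evP (ρ : D →+* L) {E : Type u} [CommRing E] [Algebra R E] (τ : E →ₐ[R] K) :
    MvPolynomial σ E →+* L :=
  MvPolynomial.eval₂Hom ((algebraMap K L).comp τ.toRingHom)
    (fun i => ρ (algebraMap (MvPolynomial σ R) D (MvPolynomial.X i)))

/-- The map `E[x] ⊗[R[x]] D → L`. -/
noncomputable def ev (ρ : D →+* L)
    (hρ : ∀ r : R, ρ (algebraMap (MvPolynomial σ R) D (MvPolynomial.C r)) =
      algebraMap K L (algebraMap R K r)) {E : Type u} [CommRing E] [Algebra R E] (τ : E →ₐ[R] K) :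
    MvPolynomial σ E ⊗[MvPolynomial σ R] D →+* L :=
  letI := (ρ.comp (algebraMap (MvPolynomial σ R) D)).toAlgebra
  (Algebra.TensorProduct.lift
    ({ evP ρ τ with
      commutes' := fun p => by
        change (evP ρ τ).comp (algebraMap (MvPolynomial σ R) (MvPolynomial σ E)) p =
          (ρ.comp (algebraMap (MvPolynomial σ R) D)) p
        congr 1
        apply MvPolynomial.ringHom_ext
        · intro r
          rw [RingHom.comp_apply, RingHom.comp_apply, hρ]
          change evP ρ τ (MvPolynomial.map (algebraMap R E) (MvPolynomial.C r)) = _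
          rw [MvPolynomial.map_C, evP, MvPolynomial.coe_eval₂Hom, MvPolynomial.eval₂_C]
          change algebraMap K L (τ (algebraMap R E r)) = _
          rw [τ.commutes]
        · intro i
          rw [RingHom.comp_apply, RingHom.comp_apply]
          change evP ρ τ (MvPolynomial.map (algebraMap R E) (MvPolynomial.X i)) = _
          rw [MvPolynomial.map_X, evP, MvPolynomial.coe_eval₂Hom, MvPolynomial.eval₂_X] } :
      MvPolynomial σ E →ₐ[MvPolynomial σ R] L)
    ({ ρ with commutes' := fun _ => rfl } : D →ₐ[MvPolynomial σ R] L)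
    (fun _ _ => Commute.all _ _)).toRingHom

variable (ρ : D →+* L) (hρ : ∀ r : R, ρ (algebraMap (MvPolynomial σ R) D (MvPolynomial.C r)) =
      algebraMap K L (algebraMap R K r))

theorem ev_tmul {E : Type u} [CommRing E] [Algebra R E] (τ : E →ₐ[R] K) (p : MvPolynomial σ E)
    (d : D) : ev ρ hρ τ (p ⊗ₜ d) = evP ρ τ p * ρ d := by
  let _ := (ρ.comp (algebraMap (MvPolynomial σ R) D)).toAlgebra
  exact Algebra.TensorProduct.lift_tmul _ _ _ _ _

theorem ev_bcMap {E A : Type u} [CommRing E] [Algebra R E] [CommRing A] [Algebra R A]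
    (π : A →ₐ[R] K) (χ : E →ₐ[R] A) (x : MvPolynomial σ E ⊗[MvPolynomial σ R] D) :
    ev ρ hρ π (bcMap D χ x) = ev ρ hρ (π.comp χ) x := by
  induction x with
  | zero => simp
  | tmul p d =>
    rw [bcMap_tmul, ev_tmul, ev_tmul]
    congr 1
    rw [evP, evP, MvPolynomial.coe_eval₂Hom, MvPolynomial.coe_eval₂Hom, MvPolynomial.eval₂_map]
    rfl
  | add x y hx hy => rw [map_add, map_add, map_add, hx, hy]

open Groth.Agent.Hensel.Hull in
/-- The local ring at the point over the hull is good. -/
theorem goodAt_hull [Algebra.Etale (MvPolynomial σ R) D] {A : Type u} [CommRing A] [Algebra R A]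
    {π : A →ₐ[R] K} (hA : IsHull R A K π)
    (hK : ∀ k : K, ∃ a s : R, algebraMap R K s ≠ 0 ∧ k * algebraMap R K s = algebraMap R K a)
    (hL : ∀ l : L, ∃ a s : D, ρ s ≠ 0 ∧ l * ρ s = ρ a)
    (H : ∀ (k' : Type u) [Field k'] [Algebra K k'] [Algebra.IsAlgebraic K k'], IsField (L ⊗[K] k'))
    (y : Ideal (MvPolynomial σ A ⊗[MvPolynomial σ R] D)) [y.IsPrime]
    (hy : ∀ x, x ∈ y ↔ ev ρ hρ π x = 0) {Ω : Type u} [Field Ω] (φ : A →+* Ω) :
    GoodAt σ (Localization.AtPrime y) φ := by
  have hAl : IsLocalRing A := hA.isLocalRing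
  have hAh : HenselianLocalRing A := hA.henselianLocalRing
  let DA := MvPolynomial σ A ⊗[MvPolynomial σ R] D
  let O := Localization.AtPrime y
  have hevA : ∀ a : A, ev ρ hρ π (algebraMap A DA a) = algebraMap K L (π a) := by
    intro a
    change ev ρ hρ π (algebraMap A (MvPolynomial σ A) a ⊗ₜ 1) = _
    rw [ev_tmul, map_one, mul_one, MvPolynomial.algebraMap_eq, evP, MvPolynomial.coe_eval₂Hom,
      MvPolynomial.eval₂_C]
    rfl
  -- the map `O → L`
  have hunit : ∀ x : y.primeCompl, IsUnit (ev ρ hρ π x) := fun x => by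
    rw [isUnit_iff_ne_zero]
    intro h0
    exact x.2 ((hy _).mpr h0)
  let evO : O →+* L := IsLocalization.lift (M := y.primeCompl) (S := O) hunit
  have hevO : ∀ x : DA, evO (algebraMap DA O x) = ev ρ hρ π x := fun x => IsLocalization.lift_eq _ x
  have hevOloc : IsLocalHom evO := by
    refine ⟨fun z hz => ?_⟩
    obtain ⟨x, s, rfl⟩ := IsLocalization.exists_mk'_eq y.primeCompl z
    rw [IsLocalization.lift_mk'] at hz
    have hx : x ∉ y := by
      intro hx
      rw [(hy x).mp hx, zero_mul] at hz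
      exact not_isUnit_zero hz
    rw [IsLocalization.AtPrime.isUnit_mk'_iff O y]
    exact hx
  have hπloc : IsLocalHom π.toRingHom := Hensel.HullLocal.isLocalHom_π hA
  have hAO : ∀ a : A, algebraMap A O a = algebraMap DA O (algebraMap A DA a) := fun a =>
    IsScalarTower.algebraMap_apply A DA O a
  have hloc : IsLocalHom (algebraMap A O) := by
    refine ⟨fun a ha => ?_⟩
    have h1 := ha.map evO
    rw [hAO, hevO, hevA] at h1
    apply hA.isUnit_of_ne_zero
    intro h0
    rw [h0, map_zero] at h1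
    exact not_isUnit_zero h1
  let e : ResidueField A →+* K := ResidueField.lift π.toRingHom
  let e' : ResidueField O →+* L := ResidueField.lift evO
  have he : Function.Surjective e := by
    intro k
    obtain ⟨a, s, hs, hk⟩ := hK k
    have h1 : IsUnit (algebraMap R A s) := hA.isUnit_of_ne_zero _ (by rw [π.commutes]; exact hs)
    obtain ⟨t, ht⟩ := h1.exists_right_inv
    refine ⟨residue A (algebraMap R A a * t), ?_⟩
    change ResidueField.lift π.toRingHom (residue A (algebraMap R A a * t)) = k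
    rw [ResidueField.lift_residue_apply]
    change π (algebraMap R A a * t) = k
    have h2 : algebraMap R K s * π t = 1 := by
      rw [← π.commutes, ← map_mul, ht, map_one]
    rw [map_mul, π.commutes, ← hk, mul_assoc, h2, mul_one]
  have he' : Function.Surjective e' := by
    intro l
    obtain ⟨a, s, hs, hl⟩ := hL l
    have hev1 : ∀ d : D, ev ρ hρ π (1 ⊗ₜ d) = ρ d := fun d => by rw [ev_tmul, map_one, one_mul]
    have h1 : (1 ⊗ₜ s : DA) ∈ y.primeCompl := by
      intro h1
      have h2 := (hy _).mp h1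
      rw [hev1] at h2
      exact hs h2
    refine ⟨residue O (IsLocalization.mk' O (1 ⊗ₜ a : DA) ⟨1 ⊗ₜ s, h1⟩), ?_⟩
    change ResidueField.lift evO (residue O _) = l
    rw [ResidueField.lift_residue_apply]
    apply mul_right_cancel₀ hs
    rw [hl]
    have h3 : (IsLocalization.mk' O (1 ⊗ₜ a : DA) ⟨1 ⊗ₜ s, h1⟩ : O) * algebraMap DA O (1 ⊗ₜ s) =
        algebraMap DA O (1 ⊗ₜ a) := IsLocalization.mk'_spec O _ _
    have h4 := congr(evO $h3)
    rw [map_mul, hevO, hevO, hev1, hev1] at h4
    exact h4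
  have hcomp : ∀ a, e' (algebraMap (ResidueField A) (ResidueField O) a) = algebraMap K L (e a) := by
    intro a
    obtain ⟨a, rfl⟩ := residue_surjective a
    change ResidueField.lift evO (residue O (algebraMap A O a)) =
      algebraMap K L (ResidueField.lift π.toRingHom (residue A a))
    rw [ResidueField.lift_residue_apply, ResidueField.lift_residue_apply, hAO, hevO, hevA]
    rfl
  have H' := isField_transfer e e' he he' hcomp H
  unfold GoodAt
  let _ : Algebra A Ω := φ.toAlgebra
  let algF : Algebra (MvPolynomial σ A) (Fr σ Ω) := (toFr σ φ).toAlgebra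
  have hst : @IsScalarTower (MvPolynomial σ A) (MvPolynomial σ Ω) (Fr σ Ω)
      MvPolynomial.algebraMvPolynomial.toSMul Algebra.toSMul algF.toSMul :=
    @IsScalarTower.of_algebraMap_eq (MvPolynomial σ A) (MvPolynomial σ Ω) (Fr σ Ω) _ _ _
      MvPolynomial.algebraMvPolynomial _ algF fun p => rfl
  have key := GINField.isField_tensor (σ := σ) (A := A) Ω (Fr σ Ω) (D := DA) O y
    (fun k' _ _ _ => H' k')
  exact (Algebra.TensorProduct.comm (MvPolynomial σ A) (Fr σ Ω) O).toMulEquiv.isField key

open Groth.Agent.Hensel.Hull in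
theorem exists_nhd [Finite σ] [Algebra.IsStandardEtale (MvPolynomial σ R) D]
    (hK : ∀ k : K, ∃ a s : R, algebraMap R K s ≠ 0 ∧ k * algebraMap R K s = algebraMap R K a)
    (hL : ∀ l : L, ∃ a s : D, ρ s ≠ 0 ∧ l * ρ s = ρ a)
    (H : ∀ (k' : Type u) [Field k'] [Algebra K k'] [Algebra.IsAlgebraic K k'], IsField (L ⊗[K] k')) :
    ∃ (E : Type u) (_ : CommRing E) (_ : Algebra R E) (_ : Algebra.Etale R E) (τ : E →ₐ[R] K)
      (g : MvPolynomial σ E ⊗[MvPolynomial σ R] D) (f : E), ev ρ hρ τ g ≠ 0 ∧ τ f ≠ 0 ∧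
      ∀ (Ω : Type u) [Field Ω] (φ : E →+* Ω), φ f ≠ 0 → GoodAt σ (Localization.Away g) φ := by
  obtain ⟨A, _, _, π, hA⟩ := exists_isHull R K
  have hAl : IsLocalRing A := hA.isLocalRing
  let y : Ideal (MvPolynomial σ A ⊗[MvPolynomial σ R] D) := RingHom.ker (ev ρ hρ π)
  have hy : y.IsPrime := RingHom.ker_isPrime _
  obtain ⟨E, _, _, _, χ, g, f, hg, hf, hgood⟩ := exists_spread (σ := σ) (D := D) A
    (CalgB.HullFlat.indEt_of_lazard hA.lazard) y (fun Ω _ φ =>
      goodAt_hull ρ hρ hA hK hL H y (fun x => RingHom.mem_ker) φ)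
  refine ⟨E, inferInstance, inferInstance, inferInstance, π.comp χ, g, f, ?_, ?_, hgood⟩
  · intro h0
    apply hg
    rw [RingHom.mem_ker, ev_bcMap]
    exact h0
  · exact (hf.map π).ne_zero

end Ev

end Groth.Agent.Flat2B.GINRes
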