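import Groth.Agent.Flat2B.GINPush
import Groth.Agent.CalgB.IndEt
import Mathlib.RingTheory.Flat.FaithfullyFlat.Algebra
import Mathlib.RingTheory.Spectrum.Prime.RingHom

/-!
# Spreading out from an ind-etale local ring
-/

set_option autoImplicit false

universe u

open scoped TensorProduct
open Groth.Agent.Flat2B.GINPoly Groth.Agent.Flat2B.GINGood

attribute [local instance] MvPolynomial.algebraMvPolynomial

namespace Groth.Agent.Flat2B.GINSpread

variable {σ : Type} {R : Type u} [CommRing R]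

/-- `E[x] → A[x]`. -/
noncomputable def mvMap (σ : Type) {E A : Type u} [CommRing E] [CommRing A] [Algebra R E] [Algebra R A]
    (χ : E →ₐ[R] A) : MvPolynomial σ E →ₐ[MvPolynomial σ R] MvPolynomial σ A :=
  { MvPolynomial.map χ.toRingHom with
    commutes' := fun p => by
      change MvPolynomial.map χ.toRingHom (MvPolynomial.map (algebraMap R E) p) =
        MvPolynomial.map (algebraMap R A) p
      rw [MvPolynomial.map_map]
      congr 2
      exact χ.comp_algebraMap }

variable {D : Type u} [CommRing D] [Algebra (MvPolynomial σ R) D]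

/-- `E[x] ⊗[R[x]] D → A[x] ⊗[R[x]] D`. -/
noncomputable def bcMap (D : Type u) [CommRing D] [Algebra (MvPolynomial σ R) D] {E A : Type u}
    [CommRing E] [CommRing A] [Algebra R E] [Algebra R A]
    (χ : E →ₐ[R] A) : MvPolynomial σ E ⊗[MvPolynomial σ R] D →ₐ[MvPolynomial σ R]
      MvPolynomial σ A ⊗[MvPolynomial σ R] D :=
  Algebra.TensorProduct.map (mvMap σ χ) (AlgHom.id _ _)

theorem bcMap_tmul {E A : Type u} [CommRing E] [CommRing A] [Algebra R E] [Algebra R A]
    (χ : E →ₐ[R] A) (p : MvPolynomial σ E) (d : D) :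
    bcMap D χ (p ⊗ₜ d) = MvPolynomial.map χ.toRingHom p ⊗ₜ d := rfl

theorem goodAt_bcMap {E A : Type u} [CommRing E] [CommRing A] [Algebra R E] [Algebra R A]
    (χ : E →ₐ[R] A) (g : MvPolynomial σ E ⊗[MvPolynomial σ R] D) {Ω : Type u} [Field Ω]
    (φ : A →+* Ω) :
    GoodAt σ (Localization.Away (bcMap D χ g)) φ ↔
      GoodAt σ (Localization.Away g) (φ.comp χ.toRingHom) := by
  let _ : Algebra E A := χ.toRingHom.toAlgebra
  have : IsScalarTower R E A := IsScalarTower.of_algebraMap_eq fun r => (χ.commutes r).symm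
  have hst : IsScalarTower (MvPolynomial σ R) (MvPolynomial σ E) (MvPolynomial σ A) := by
    refine IsScalarTower.of_algebraMap_eq fun p => ?_
    exact ((mvMap σ χ).commutes p).symm
  let _ : Algebra (MvPolynomial σ E ⊗[MvPolynomial σ R] D)
    (MvPolynomial σ A ⊗[MvPolynomial σ R] D) := (bcMap D χ).toRingHom.toAlgebra
  have h1 : IsScalarTower (MvPolynomial σ E) (MvPolynomial σ E ⊗[MvPolynomial σ R] D)
      (MvPolynomial σ A ⊗[MvPolynomial σ R] D) := by
    refine IsScalarTower.of_algebraMap_eq (R := MvPolynomial σ E)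
      (S := MvPolynomial σ E ⊗[MvPolynomial σ R] D)
      (A := MvPolynomial σ A ⊗[MvPolynomial σ R] D) fun p => ?_
    change algebraMap (MvPolynomial σ E) (MvPolynomial σ A) p ⊗ₜ[MvPolynomial σ R] (1 : D) =
      bcMap D χ (p ⊗ₜ 1)
    rw [bcMap_tmul]
    rfl
  have hp : Algebra.IsPushout (MvPolynomial σ E) (MvPolynomial σ A)
      (MvPolynomial σ E ⊗[MvPolynomial σ R] D) (MvPolynomial σ A ⊗[MvPolynomial σ R] D) := by
    refine Algebra.IsPushout.tensorProduct_tensorProduct (MvPolynomial σ R) D (MvPolynomial σ E)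
      (MvPolynomial σ A) ?_
    ext d
    change bcMap D χ (1 ⊗ₜ d) = 1 ⊗ₜ d
    rw [bcMap_tmul, map_one]
  exact GINPush.goodAt_away_iff (E := E) (A := A) g φ

/-- Elements of `A[x] ⊗ D` come from a finite stage. -/
theorem exists_stage {A : Type u} [CommRing A] [Algebra R A]
    (x : MvPolynomial σ A ⊗[MvPolynomial σ R] D) :
    ∃ T : Finset A, ∀ (E : Type u) [CommRing E] [Algebra R E] (χ : E →ₐ[R] A),
      (∀ t ∈ T, t ∈ Set.range χ) → x ∈ Set.range (bcMap D χ) := by
  classical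
  induction x with
  | zero => exact ⟨∅, fun B _ _ φ _ => ⟨0, map_zero _⟩⟩
  | tmul p d =>
    refine ⟨p.coeffs, fun B _ _ χ hχ => ?_⟩
    have : p ∈ RingHom.range (MvPolynomial.map (σ := σ) χ.toRingHom) := by
      refine MvPolynomial.mem_range_map_iff_coeffs_subset.mpr ?_
      intro c hc
      exact hχ c (Finset.mem_coe.mp hc)
    obtain ⟨q, hq⟩ := this
    exact ⟨q ⊗ₜ d, by rw [bcMap_tmul, hq]⟩
  | add x y hx hy =>
    obtain ⟨T, hT⟩ := hx
    obtain ⟨T', hT'⟩ := hy
    refine ⟨T ∪ T', fun B _ _ φ hφ => ?_⟩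
    obtain ⟨a, ha⟩ := hT B φ fun t ht => hφ t (Finset.mem_union_left _ ht)
    obtain ⟨b, hb⟩ := hT' B φ fun t ht => hφ t (Finset.mem_union_right _ ht)
    exact ⟨a + b, by rw [map_add, ha, hb]⟩

open Groth.Agent.CalgB.IndEt in
/-- The main spreading result. -/
theorem exists_spread [Finite σ] [Algebra.IsStandardEtale (MvPolynomial σ R) D] (A : Type u)
    [CommRing A] [Algebra R A] [IsLocalRing A] (hA : IndEt R A)
    (y : Ideal (MvPolynomial σ A ⊗[MvPolynomial σ R] D)) [y.IsPrime]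
    (hO : ∀ (Ω : Type u) [Field Ω] (φ : A →+* Ω), GoodAt σ (Localization.AtPrime y) φ) :
    ∃ (E : Type u) (_ : CommRing E) (_ : Algebra R E) (_ : Algebra.Etale R E) (χ : E →ₐ[R] A)
      (g : MvPolynomial σ E ⊗[MvPolynomial σ R] D) (f : E), bcMap D χ g ∉ y ∧ IsUnit (χ f) ∧
      ∀ (Ω : Type u) [Field Ω] (φ : E →+* Ω), φ f ≠ 0 → GoodAt σ (Localization.Away g) φ := by
  classical
  obtain ⟨gA, hgA, hgood⟩ := GINCompact.exists_good (σ := σ) (A := A) y.primeCompl
    (Localization.AtPrime y) hO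
  obtain ⟨T, hT⟩ := exists_stage (D := D) gA
  obtain ⟨E, _, _, χ, hE, hχ⟩ := hA.exists_etale T
  obtain ⟨g, rfl⟩ := hT E χ hχ
  let p' : Ideal E := (IsLocalRing.maximalIdeal A).comap χ
  have hp' : p'.IsPrime := Ideal.comap_isPrime _ _
  have hgood' : ∀ (Ω : Type u) [Field Ω] (φ : A →+* Ω),
      GoodAt σ (Localization.Away g) (φ.comp χ.toRingHom) := fun Ω _ φ =>
    (goodAt_bcMap χ g φ).mp (hgood Ω φ)
  -- points specializing to `p'`
  have hpt : ∀ w : PrimeSpectrum E, w.asIdeal ≤ p' → ∀ (Ω : Type u) [Field Ω] (φ : E →+* Ω),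
      pt φ = w → GoodAt σ (Localization.Away g) φ := by
    intro w hw Ω _ φ hφ
    let _ : Algebra E A := χ.toRingHom.toAlgebra
    have : IsScalarTower R E A := IsScalarTower.of_algebraMap_eq fun r => (χ.commutes r).symm
    have hflatA : Module.Flat R A := hA.flat
    have hflat : Module.Flat E A := flat_of_etale (R := R) E
    have hgd : Algebra.HasGoingDown E A := inferInstance
    have : (IsLocalRing.maximalIdeal A).LiesOver p' := ⟨rfl⟩
    obtain ⟨Q, hQ, hQp, hQw⟩ := Ideal.exists_ideal_le_liesOver_of_le (p := w.asIdeal) (q := p')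
      (IsLocalRing.maximalIdeal A) hw
    let φQ : A →+* Q.ResidueField := algebraMap A Q.ResidueField
    have hφQ : pt (φQ.comp χ.toRingHom) = w := by
      rw [← comap_pt, pt_residueField ⟨Q, hQp⟩]
      apply PrimeSpectrum.ext
      exact (hQw.over).symm
    obtain ⟨F, _, ψ₁, ψ₂, hψ⟩ := exists_common_field φ (φQ.comp χ.toRingHom) (by rw [hφ, hφQ])
    apply GoodAt.of_comp φ ψ₁
    rw [hψ, ← RingHom.comp_assoc]
    exact hgood' F (ψ₂.comp φQ)
  have hZ : ∀ w : {w : PrimeSpectrum E // w.asIdeal ≤ p'}, ∃ Z : Set (PrimeSpectrum E),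
      Topology.IsConstructible Z ∧ w.1 ∈ Z ∧
      ∀ (Ω : Type u) [Field Ω] (φ : E →+* Ω), pt φ ∈ Z → GoodAt σ (Localization.Away g) φ := by
    intro w
    have : Algebra.IsStandardEtale (MvPolynomial σ E) (Localization.Away g) :=
      Algebra.IsStandardEtale.of_isLocalizationAway
        (S := MvPolynomial σ E ⊗[MvPolynomial σ R] D) g
    exact exists_constructible_good (σ := σ) (Localization.Away g) w.1 (hpt w.1 w.2)
  choose Z hZc hwZ hZg using hZ
  obtain ⟨t, ht⟩ := EtpbcA.ConstrTop.finite_subcover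
    (fun i : {w : PrimeSpectrum E // w.asIdeal ≤ p'} ⊕ {f : E // f ∉ p'} =>
      Sum.elim Z (fun f => PrimeSpectrum.zeroLocus {f.1}) i) (by
      rintro (w | f)
      · exact hZc w
      · exact GINPoly.isConstructible_zeroLocus _ (Set.finite_singleton _)) (by
      refine Set.eq_univ_of_forall fun w => ?_
      by_cases hw : w.asIdeal ≤ p'
      · exact Set.mem_iUnion.mpr ⟨Sum.inl ⟨w, hw⟩, hwZ ⟨w, hw⟩⟩
      · obtain ⟨f, hf, hf'⟩ := Set.not_subset.mp hw
        exact Set.mem_iUnion.mpr ⟨Sum.inr ⟨f, hf'⟩, by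
          simpa [PrimeSpectrum.mem_zeroLocus] using hf⟩)
  let f : E := ∏ i ∈ t, Sum.elim (fun _ => 1) (fun f : {f : E // f ∉ p'} => f.1) i
  refine ⟨E, inferInstance, inferInstance, hE, χ, g, f, hgA, ?_, ?_⟩
  · have hf : f ∈ p'.primeCompl := by
      refine Submonoid.prod_mem _ fun i _ => ?_
      rcases i with i | i
      · exact Submonoid.one_mem _
      · exact i.2
    by_contra hcon
    exact hf ((IsLocalRing.mem_maximalIdeal _).mpr hcon)
  · intro Ω _ φ hφ
    have h1 : pt φ ∈ ⋃ i ∈ t, Sum.elim Z (fun f => PrimeSpectrum.zeroLocus {f.1}) i := by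
      rw [ht]; exact Set.mem_univ _
    obtain ⟨i, hi, hφi⟩ := Set.mem_iUnion₂.mp h1
    rcases i with i | i
    · exact hZg i Ω φ hφi
    · exfalso
      have h2 : φ i.1 = 0 := by
        have : i.1 ∈ (pt φ).asIdeal := by
          simpa [PrimeSpectrum.mem_zeroLocus] using hφi
        exact (mem_pt φ _).mp this
      apply hφ
      have h3 : i.1 ∣ f := Finset.dvd_prod_of_mem
        (fun i => Sum.elim (fun _ => 1) (fun f : {f : E // f ∉ p'} => f.1) i) hi
      obtain ⟨c, hc⟩ := h3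
      rw [hc, map_mul, h2, zero_mul]

end Groth.Agent.Flat2B.GINSpread
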