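import Groth.Agent.Flat2B.GINLocal

/-!
# Localness of tensor products `O ⊗[A] B`, `B` integral over `A`, with geometrically irreducible
residue field extension
-/

set_option autoImplicit false

universe u v w

open IsLocalRing TensorProduct

namespace Groth.Agent.Flat2B.GINTensor

variable {A : Type u} {O : Type v} {B : Type w} [CommRing A] [IsLocalRing A] [CommRing O]
  [IsLocalRing O] [CommRing B] [IsLocalRing B] [Algebra A O] [Algebra A B]
  [IsLocalHom (algebraMap A O)] [IsLocalHom (algebraMap A B)] [Algebra.IsIntegral A B]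

omit [IsLocalRing A] [IsLocalRing B] [IsLocalHom (algebraMap A O)] [IsLocalHom (algebraMap A B)] in
theorem comap_left (n : Ideal (O ⊗[A] B)) [n.IsMaximal] :
    n.comap (algebraMap O (O ⊗[A] B)) = maximalIdeal O :=
  IsLocalRing.eq_maximalIdeal (Ideal.isMaximal_comap_of_isIntegral_of_isMaximal n)

omit [IsLocalHom (algebraMap A B)] in
theorem comap_right (n : Ideal (O ⊗[A] B)) [n.IsMaximal] :
    n.comap (Algebra.TensorProduct.includeRight : B →ₐ[A] O ⊗[A] B).toRingHom =
      maximalIdeal B := by
  have h1 : (n.comap (Algebra.TensorProduct.includeRight : B →ₐ[A] O ⊗[A] B).toRingHom).comap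
      (algebraMap A B) = maximalIdeal A := by
    rw [Ideal.comap_comap]
    have h2 : ((Algebra.TensorProduct.includeRight : B →ₐ[A] O ⊗[A] B).toRingHom).comp
        (algebraMap A B) = (algebraMap O (O ⊗[A] B)).comp (algebraMap A O) := by
      ext a
      simp
    rw [h2, ← Ideal.comap_comap, comap_left n]
    exact IsLocalRing.maximalIdeal_comap (algebraMap A O)
  have h3 : (n.comap (Algebra.TensorProduct.includeRight : B →ₐ[A] O ⊗[A] B).toRingHom).IsMaximal := by
    apply Ideal.isMaximal_of_isIntegral_of_isMaximal_comap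
      (R := A) (n.comap (Algebra.TensorProduct.includeRight : B →ₐ[A] O ⊗[A] B).toRingHom)
    rw [h1]
    infer_instance
  exact IsLocalRing.eq_maximalIdeal h3

/-- If the residue fields of `O` and `B` over that of `A` have a tensor product which is a field, then
`O ⊗[A] B` is local. -/
theorem isLocalRing_tensor (h : IsField (ResidueField O ⊗[ResidueField A] ResidueField B)) :
    IsLocalRing (O ⊗[A] B) := by
  -- the canonical map to the tensor product of the residue fields
  let π : O ⊗[A] B →ₐ[A] ResidueField O ⊗[ResidueField A] ResidueField B :=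
    Algebra.TensorProduct.lift
      ((IsScalarTower.toAlgHom A (ResidueField O) _).comp (IsScalarTower.toAlgHom A O _))
      (((Algebra.TensorProduct.includeRight :
        ResidueField B →ₐ[ResidueField A] _).restrictScalars A).comp (IsScalarTower.toAlgHom A B _))
      (fun _ _ => Commute.all _ _)
  have hπ : ∀ (o : O) (b : B), π (o ⊗ₜ b) = residue O o ⊗ₜ residue B b := by
    intro o b
    simp only [π, Algebra.TensorProduct.lift_tmul]
    change (residue O o ⊗ₜ[ResidueField A] (1 : ResidueField B)) *
      ((1 : ResidueField O) ⊗ₜ[ResidueField A] residue B b) = _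
    rw [Algebra.TensorProduct.tmul_mul_tmul, mul_one, one_mul]
  have hnt : Nontrivial (O ⊗[A] B) := by
    have := h.nontrivial
    exact π.toRingHom.domain_nontrivial
  have key : ∀ (n : Ideal (O ⊗[A] B)), n.IsMaximal → ∀ x, x ∈ n ↔ π x = 0 := by
    intro n hn
    let fO : ResidueField O →+* (O ⊗[A] B) ⧸ n :=
      Ideal.quotientMap n (algebraMap O (O ⊗[A] B)) (comap_left n).ge
    let fB : ResidueField B →+* (O ⊗[A] B) ⧸ n :=
      Ideal.quotientMap n (Algebra.TensorProduct.includeRight : B →ₐ[A] O ⊗[A] B).toRingHom
        (comap_right n).ge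
    let _ : Algebra (ResidueField A) ((O ⊗[A] B) ⧸ n) :=
      (fO.comp (algebraMap (ResidueField A) (ResidueField O))).toAlgebra
    have hres : ∀ a : ResidueField A, algebraMap (ResidueField A) ((O ⊗[A] B) ⧸ n) a =
        fB (algebraMap (ResidueField A) (ResidueField B) a) := by
      intro a
      obtain ⟨a, rfl⟩ := residue_surjective a
      change Ideal.Quotient.mk n (algebraMap O (O ⊗[A] B) (algebraMap A O a)) =
        Ideal.Quotient.mk n ((1 : O) ⊗ₜ[A] algebraMap A B a)
      congr 1
      rw [← Algebra.TensorProduct.algebraMap_apply', ← IsScalarTower.algebraMap_apply]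
    let gO : ResidueField O →ₐ[ResidueField A] (O ⊗[A] B) ⧸ n := { fO with commutes' := fun a => rfl }
    let gB : ResidueField B →ₐ[ResidueField A] (O ⊗[A] B) ⧸ n :=
      { fB with commutes' := fun a => (hres a).symm }
    let ψ : ResidueField O ⊗[ResidueField A] ResidueField B →ₐ[ResidueField A] (O ⊗[A] B) ⧸ n :=
      Algebra.TensorProduct.lift gO gB (fun _ _ => Commute.all _ _)
    have hψ : ∀ x, ψ (π x) = Ideal.Quotient.mk n x := by
      intro x
      induction x with
      | zero => simp
      | add x y hx hy => rw [map_add, map_add, hx, hy, map_add]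
      | tmul o b =>
        rw [hπ]
        simp only [ψ, Algebra.TensorProduct.lift_tmul]
        change Ideal.Quotient.mk n (algebraMap O (O ⊗[A] B) o) *
          Ideal.Quotient.mk n ((1 : O) ⊗ₜ[A] b) = _
        rw [← map_mul, Algebra.TensorProduct.algebraMap_apply, Algebra.TensorProduct.tmul_mul_tmul]
        simp
    have hinj : Function.Injective ψ := by
      let _ := h.toField
      have : Nontrivial ((O ⊗[A] B) ⧸ n) := Ideal.Quotient.nontrivial_iff.mpr hn.ne_top
      exact ψ.toRingHom.injective
    intro x
    rw [← Ideal.Quotient.eq_zero_iff_mem, ← hψ, map_eq_zero_iff ψ hinj]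
  obtain ⟨m, hm⟩ := Ideal.exists_maximal (O ⊗[A] B)
  refine IsLocalRing.of_unique_max_ideal ⟨m, hm, fun n hn => ?_⟩
  ext x
  rw [key n hn, key m hm]

end Groth.Agent.Flat2B.GINTensor
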