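import Groth.Agent.Flat2B.FlatDim
import Groth.Agent.Flat2B.StratLoc
import Groth.Agent.Flat2B.BCTools
import Groth.Agent.Flat2B.CokerTr
import Mathlib.RingTheory.RingHom.StandardSmooth
import Mathlib.RingTheory.Smooth.StandardSmoothOfFree
import Mathlib.RingTheory.Polynomial.Quotient
import Mathlib.RingTheory.Ideal.GoingDown
import Mathlib.RingTheory.QuasiFinite.Basic
import Mathlib.RingTheory.Unramified.LocalStructure

/-!
# Relative transcendence degree of the generic points of the fibres of a smooth algebra
-/

set_option autoImplicit false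
universe u

namespace Groth.Agent.Flat2B.GenDim

open TensorProduct FlatDim Groth.Agent.CycB.TrdegAlg

section Poly

/-- `(A/t)[X] ≃ A[X]/t A[X]`. -/
noncomputable def polyEquiv {A : Type u} [CommRing A] (n : ℕ) (t : Ideal A) :
    MvPolynomial (Fin n) (A ⧸ t) ≃+* MvPolynomial (Fin n) A ⧸ t.map (algebraMap A (MvPolynomial (Fin n) A)) :=
  (MvPolynomial.quotientEquivQuotientMvPolynomial (σ := Fin n) t).toRingEquiv

theorem polyEquiv_C {A : Type u} [CommRing A] (n : ℕ) (t : Ideal A) (a : A) :
    polyEquiv n t (MvPolynomial.C (Ideal.Quotient.mk t a)) =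
      Ideal.Quotient.mk _ (MvPolynomial.C a) :=
  (MvPolynomial.quotientEquivQuotientMvPolynomial (σ := Fin n) t).commutes a

theorem isPrime_map_mvPolynomial {A : Type u} [CommRing A] (n : ℕ) (t : Ideal A) [t.IsPrime] :
    (t.map (algebraMap A (MvPolynomial (Fin n) A))).IsPrime := by
  rw [← Ideal.Quotient.isDomain_iff_prime]
  exact (polyEquiv n t).symm.toMulEquiv.isDomain _

theorem liesOver_map_mvPolynomial {A : Type u} [CommRing A] (n : ℕ) (t : Ideal A) :
    (t.map (algebraMap A (MvPolynomial (Fin n) A))).LiesOver t := by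
  refine ⟨le_antisymm Ideal.le_comap_map ?_⟩
  intro a ha
  have h1 := (MvPolynomial.mem_map_C_iff (I := t) (f := MvPolynomial.C a)).1 ha 0
  simpa using h1

theorem rtd_map_mvPolynomial {A : Type u} [CommRing A] (n : ℕ) (t : Ideal A) [t.IsPrime]
    [(t.map (algebraMap A (MvPolynomial (Fin n) A))).IsPrime]
    [(t.map (algebraMap A (MvPolynomial (Fin n) A))).LiesOver t] :
    rtd t (t.map (algebraMap A (MvPolynomial (Fin n) A))) = n := by
  rw [rtd_eq_trdeg_quotient]
  have h1 : Ideal.quotientMap (t.map (algebraMap A (MvPolynomial (Fin n) A)))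
      (algebraMap A (MvPolynomial (Fin n) A)) (Ideal.over_def (t.map (algebraMap A (MvPolynomial (Fin n) A))) t).le =
      (polyEquiv n t).toRingHom.comp (algebraMap (A ⧸ t) (MvPolynomial (Fin n) (A ⧸ t))) := by
    apply Ideal.Quotient.ringHom_ext
    ext a
    exact (polyEquiv_C n t a).symm
  have hinj : Function.Injective (polyEquiv n t).toRingHom := (polyEquiv n t).injective
  have hinj' : Function.Injective (algebraMap (A ⧸ t) (MvPolynomial (Fin n) (A ⧸ t))) :=
    MvPolynomial.C_injective _ _
  rw [h1, trd_comp' _ _ hinj' hinj,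
    trd_eq_zero_of_surjective _ hinj (polyEquiv n t).surjective, add_zero, trd_algebraMap]
  simp

end Poly

section StdSmooth

/-- For a standard smooth algebra of relative dimension `n`, the minimal primes of the fibres have relative
transcendence degree `n`. -/
theorem rtd_eq_of_isStandardSmooth {A E : Type u} [CommRing A] [CommRing E] [Algebra A E] (n : ℕ)
    (hE : (algebraMap A E).IsStandardSmoothOfRelativeDimension n) (t : Ideal A) [t.IsPrime] (q : Ideal E)
    [q.IsPrime] [q.LiesOver t]
    (hq : ∀ q' : Ideal E, q'.IsPrime → t.map (algebraMap A E) ≤ q' → q' ≤ q → q' = q) : rtd t q = n := by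
  obtain ⟨g, hg, hge⟩ := hE.exists_etale_mvPolynomial
  let _ : Algebra (MvPolynomial (Fin n) A) E := g.toAlgebra
  have hEt : Algebra.Etale (MvPolynomial (Fin n) A) E := hge
  have htow : IsScalarTower A (MvPolynomial (Fin n) A) E := .of_algebraMap_eq' hg.symm
  have := isPrime_map_mvPolynomial n t
  have := liesOver_map_mvPolynomial n t
  set T := t.map (algebraMap A (MvPolynomial (Fin n) A)) with hT
  have hqT : q.under (MvPolynomial (Fin n) A) = T := by
    have hle : T ≤ q.under (MvPolynomial (Fin n) A) := by
      rw [hT, Ideal.map_le_iff_le_comap]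
      intro a ha
      change algebraMap (MvPolynomial (Fin n) A) E (algebraMap A _ a) ∈ q
      rw [← IsScalarTower.algebraMap_apply, ← Ideal.mem_comap]
      have := (Ideal.over_def q t).le ha
      exact this
    obtain ⟨q', hq', hq'p, hq'T⟩ := Ideal.exists_ideal_le_liesOver_of_le (p := T)
      (q := q.under (MvPolynomial (Fin n) A)) q hle
    have h1 : q' = q := by
      refine hq q' hq'p ?_ hq'
      rw [IsScalarTower.algebraMap_eq A (MvPolynomial (Fin n) A) E, ← Ideal.map_map, Ideal.map_le_iff_le_comap]
      exact (Ideal.over_def q' T).le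
    rw [← h1]
    exact (Ideal.over_def q' T).symm
  have hqT' : q.LiesOver T := ⟨hqT.symm⟩
  have hqf : Algebra.QuasiFinite (MvPolynomial (Fin n) A) E := inferInstance
  rw [rtd_add t T q, rtd_map_mvPolynomial, rtd_eq_zero_of_quasiFinite T q, add_zero]

end StdSmooth

section Gen

variable {A D : Type u} [CommRing A] [CommRing D] [Algebra A D]

/-- If `D_g` is standard smooth of relative dimension `n` and `g ∉ t D`, then the generic point `t D` of the
fibre over `t` has relative transcendence degree `n`. -/
theorem rtd_generic [Module.Flat A D] (g : D) (n : ℕ)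
    (hg : (algebraMap A (Localization.Away g)).IsStandardSmoothOfRelativeDimension n)
    (t : Ideal A) [t.IsPrime] (η : Ideal D) [η.IsPrime] [η.LiesOver t] (hη : η = t.map (algebraMap A D))
    (hgt : g ∉ η) : rtd t η = n := by
  let E := Localization.Away g
  let q : Ideal E := η.map (algebraMap D E)
  have hdis : Disjoint (Submonoid.powers g : Set D) (η : Set D) := by
    rw [Set.disjoint_left]
    rintro _ ⟨k, rfl⟩ hk
    exact hgt (Ideal.IsPrime.mem_of_pow_mem inferInstance k hk)
  have hqp : q.IsPrime := IsLocalization.isPrime_of_isPrime_disjoint (Submonoid.powers g) E η inferInstance hdis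
  have hqc : q.comap (algebraMap D E) = η :=
    IsLocalization.under_map_of_isPrime_disjoint (Submonoid.powers g) E inferInstance hdis
  have hqη : q.LiesOver η := ⟨hqc.symm⟩
  have hqt : q.LiesOver t := Ideal.LiesOver.trans q η t
  have hqf : Algebra.QuasiFinite D E := inferInstance
  have h1 : rtd t q = n := by
    refine rtd_eq_of_isStandardSmooth n hg t q ?_
    intro q' hq' hle hle'
    have h2 : q'.under D = η := by
      apply le_antisymm
      · rw [← hqc]; exact Ideal.comap_mono hle'
      · rw [hη, Ideal.map_le_iff_le_comap, Ideal.under_def, Ideal.comap_comap, ← IsScalarTower.algebraMap_eq,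
          ← Ideal.map_le_iff_le_comap]
        exact hle
    rw [← IsLocalization.map_under (Submonoid.powers g) E q', h2]
  rw [rtd_add t η q, rtd_eq_zero_of_quasiFinite η q, add_zero] at h1
  exact h1

/-- Strict inequality away from the generic point. -/
theorem rtd_lt_of_lt [Algebra.FiniteType A D] (t : Ideal A) [t.IsPrime] (Q Q' : Ideal D) [Q.IsPrime] [Q'.IsPrime]
    [Q.LiesOver t] [Q'.LiesOver t] (hlt : Q' < Q) : rtd t Q < rtd t Q' := by
  rw [rtd_eq_trdeg_quotient, rtd_eq_trdeg_quotient]
  exact trd_quotientMap_lt (algebraMap A D) ((RingHom.finiteType_algebraMap).2 inferInstance) t Q Q'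
    (Ideal.over_def Q t) (Ideal.over_def Q' t) hlt

/-- Near `η`, a smooth algebra is standard smooth of some relative dimension. -/
theorem exists_isStandardSmooth [Algebra.Smooth A D] (η : Ideal D) [η.IsPrime] :
    ∃ g ∉ η, ∃ n, (algebraMap A (Localization.Away g)).IsStandardSmoothOfRelativeDimension n := by
  obtain ⟨g, hg, hsm⟩ := Algebra.IsSmoothAt.exists_notMem_isStandardSmooth A η
  obtain ⟨_, _, _, _, ⟨P⟩⟩ := hsm
  refine ⟨g, hg, P.dimension, ?_⟩
  rw [RingHom.isStandardSmoothOfRelativeDimension_algebraMap]
  exact ⟨_, _, _, ‹_›, P, rfl⟩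

variable {A' D' : Type u} [CommRing A'] [CommRing D'] 
  [Algebra A A'] [Algebra D D'] [Algebra A' D'] [Algebra A D'] [IsScalarTower A D D'] [IsScalarTower A A' D']
  [Algebra.IsPushout A D A' D']

theorem isStandardSmooth_baseChange (g : D) (n : ℕ)
    (hg : (algebraMap A (Localization.Away g)).IsStandardSmoothOfRelativeDimension n) :
    (algebraMap A' (Localization.Away (algebraMap D D' g))).IsStandardSmoothOfRelativeDimension n := by
  let E := Localization.Away g
  let E' := Localization.Away (algebraMap D D' g)
  let φ : E →+* E' := IsLocalization.Away.map E E' (algebraMap D D') g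
  let _ : Algebra E E' := φ.toAlgebra
  have t1 : IsScalarTower D E E' := .of_algebraMap_eq fun x => by
    change algebraMap D E' x = φ (algebraMap D E x)
    rw [IsScalarTower.algebraMap_apply D D' E']
    exact (IsLocalization.map_eq _ x).symm
  have t2 : IsScalarTower A E E' := .of_algebraMap_eq fun x => by
    rw [IsScalarTower.algebraMap_apply A D E, ← IsScalarTower.algebraMap_apply D E E',
      IsScalarTower.algebraMap_apply D D' E', ← IsScalarTower.algebraMap_apply A D D']
    rfl
  have p1 : Algebra.IsPushout D E D' E' := by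
    have : IsLocalization (Algebra.algebraMapSubmonoid D' (Submonoid.powers g)) E' := by
      rw [Algebra.algebraMapSubmonoid, Submonoid.map_powers]
      exact inferInstanceAs (IsLocalization.Away (algebraMap D D' g) E')
    exact (Algebra.isPushout_of_isLocalization (Submonoid.powers g) E D' E').symm
  have p2 : Algebra.IsPushout A D A' D' := inferInstance
  have p3 : Algebra.IsPushout A E A' E' :=
    (Algebra.IsPushout.comp_iff (R := A) (S := D) (R' := A') (S' := D') (T := E) (T' := E')).2 p1
  exact RingHom.isStandardSmoothOfRelativeDimension_isStableUnderBaseChange n A E A' E' hg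

end Gen

end Groth.Agent.Flat2B.GenDim
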