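import Mathlib.AlgebraicGeometry.Morphisms.FinitePresentation
import Mathlib.AlgebraicGeometry.Morphisms.QuasiSeparated
import Mathlib.AlgebraicGeometry.Morphisms.OpenImmersion
import Mathlib.AlgebraicGeometry.Cover.Open
import Mathlib.RingTheory.Ideal.IdempotentFG
import Mathlib.RingTheory.FinitePresentation

/-!
# Representability of "a finitely generated ideal becomes idempotent"

For a finitely generated ideal `C` of `R` the functor on `R`-algebras "`C A'` is idempotent" is represented by a
monomorphism of finite presentation `Z ⟶ Spec R` (the disjoint union of `V(C)` and its complement).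
-/

set_option autoImplicit false
universe u

open CategoryTheory CategoryTheory.Limits AlgebraicGeometry Polynomial

namespace Groth.Agent.Flat2B.IdemRep

section Algebra

variable {R : Type u} [CommRing R] (C : Ideal R)

/-- the condition on `a : A` describing maps to `Z` -/
def Good (A : Type u) [CommRing A] [Algebra R A] (a : A) : Prop :=
  a * a = a ∧ (∀ c ∈ C, algebraMap R A c * a = 0) ∧ Ideal.span {a} ⊔ C.map (algebraMap R A) = ⊤

variable {C} {A : Type u} [CommRing A] [Algebra R A]

theorem Good.map_eq {a : A} (h : Good C A a) : C.map (algebraMap R A) = Ideal.span {1 - a} := by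
  obtain ⟨h1, h2, h3⟩ := h
  apply le_antisymm
  · rw [Ideal.map_le_iff_le_comap]
    intro c hc
    rw [Ideal.mem_comap, Ideal.mem_span_singleton]
    refine ⟨algebraMap R A c, ?_⟩
    have := h2 c hc
    linear_combination this
  · rw [Ideal.span_singleton_le_iff_mem]
    obtain ⟨x, hx, y, hy, hxy⟩ := Submodule.mem_sup.1 ((Ideal.eq_top_iff_one _).1 h3)
    obtain ⟨r, rfl⟩ := Ideal.mem_span_singleton.1 hx
    have : 1 - a = (1 - a) * y := by
      have e : (1 - a) * (a * r + y) = 1 - a := by rw [hxy, mul_one]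
      linear_combination -e - r * h1
    rw [this]
    exact Ideal.mul_mem_left _ _ hy

theorem Good.unique {a b : A} (ha : Good C A a) (hb : Good C A b) : a = b := by
  have h1 : Ideal.span {1 - a} = Ideal.span {1 - b} := by rw [← ha.map_eq, ← hb.map_eq]
  obtain ⟨r, hr⟩ := Ideal.mem_span_singleton.1 (h1 ▸ Ideal.mem_span_singleton_self (1 - a))
  obtain ⟨s, hs⟩ := Ideal.mem_span_singleton.1 (h1.symm ▸ Ideal.mem_span_singleton_self (1 - b))
  have e1 := ha.1
  have e2 := hb.1
  -- `(1-b)(1-a) = 1-a` and `(1-a)(1-b) = 1-b`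
  have h2 : (1 - b) * (1 - a) = 1 - a := by
    rw [hr]; linear_combination r * e2
  have h3 : (1 - a) * (1 - b) = 1 - b := by
    rw [hs]; linear_combination s * e1
  linear_combination h2 - h3

theorem exists_good_iff (hC : C.FG) : IsIdempotentElem (C.map (algebraMap R A)) ↔ ∃ a, Good C A a := by
  constructor
  · intro h
    obtain ⟨e, he, heC⟩ := (Ideal.isIdempotentElem_iff_of_fg _ (hC.map _)).1 h
    refine ⟨1 - e, ?_, ?_, ?_⟩
    · have := he.eq
      linear_combination this
    · intro c hc
      have h1 : algebraMap R A c ∈ C.map (algebraMap R A) := Ideal.mem_map_of_mem _ hc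
      rw [heC, Ideal.submodule_span_eq] at h1
      obtain ⟨r, hr⟩ := Ideal.mem_span_singleton.1 h1
      rw [hr]
      have := he.eq
      linear_combination - r * this
    · rw [heC, Ideal.eq_top_iff_one]
      have h1 : (1 - e) ∈ Ideal.span {1 - e} ⊔ Submodule.span A {e} :=
        Ideal.mem_sup_left (Ideal.mem_span_singleton_self _)
      have h2 : e ∈ Ideal.span {1 - e} ⊔ Submodule.span A {e} :=
        Ideal.mem_sup_right (Ideal.mem_span_singleton_self _)
      have := Ideal.add_mem _ h1 h2
      simpa using this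
  · rintro ⟨a, ha⟩
    rw [ha.map_eq]
    have h1 := ha.1
    change Ideal.span {1 - a} * Ideal.span {1 - a} = Ideal.span {1 - a}
    rw [Ideal.span_singleton_mul_span_singleton]
    congr 1
    have : (1 - a) * (1 - a) = 1 - a := by linear_combination h1
    rw [this]

end Algebra

section Ring

variable {R : Type u} [CommRing R] (T : Finset R)

/-- The ideal of relations. -/
noncomputable def relIdeal : Ideal R[X] :=
  Ideal.span (insert (X * X - X) ((fun c => Polynomial.C c * X) '' (T : Set R)))

/-- The ring `R[x]/(x² - x, c x)`. -/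
abbrev E : Type u := R[X] ⧸ relIdeal T

/-- The class of `x`. -/
noncomputable def x : E T := Ideal.Quotient.mk _ X

/-- The open subset of `Spec E`. -/
noncomputable def genSet : Set (E T) := insert (x T) (algebraMap R (E T) '' (T : Set R))

theorem relIdeal_fg : (relIdeal T).FG :=
  Submodule.fg_span (Set.Finite.insert _ (T.finite_toSet.image _))

theorem finitePresentation_E : Algebra.FinitePresentation R (E T) :=
  Algebra.FinitePresentation.quotient (relIdeal_fg T)

theorem x_mul_x : x T * x T = x T := by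
  rw [x, ← map_mul, Ideal.Quotient.eq]
  exact Ideal.subset_span (Set.mem_insert _ _)

theorem mul_x (c : R) (hc : c ∈ T) : algebraMap R (E T) c * x T = 0 := by
  have : algebraMap R (E T) c = Ideal.Quotient.mk _ (Polynomial.C c) := rfl
  rw [this, x, ← map_mul, Ideal.Quotient.eq_zero_iff_mem]
  exact Ideal.subset_span (Set.mem_insert_of_mem _ ⟨c, hc, rfl⟩)

variable {T}

theorem hom_ext {A : Type u} [CommRing A] (φ ψ : E T →+* A)
    (h : φ.comp (algebraMap R (E T)) = ψ.comp (algebraMap R (E T))) (hx : φ (x T) = ψ (x T)) : φ = ψ := by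
  apply Ideal.Quotient.ringHom_ext
  apply Polynomial.ringHom_ext
  · intro r
    exact RingHom.congr_fun h r
  · exact hx

/-- The map defined by an element. -/
noncomputable def lift {A : Type u} [CommRing A] [Algebra R A] (a : A) (h1 : a * a = a)
    (h2 : ∀ c ∈ T, algebraMap R A c * a = 0) : E T →ₐ[R] A :=
  Ideal.Quotient.liftₐ (relIdeal T) (Polynomial.aeval a) (by
    intro p hp
    have : relIdeal T ≤ RingHom.ker (Polynomial.aeval a : R[X] →ₐ[R] A) := by
      rw [relIdeal, Ideal.span_le]
      intro q hq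
      rcases hq with rfl | ⟨c, hc, rfl⟩
      · simp [RingHom.mem_ker, h1]
      · simp [RingHom.mem_ker, h2 c hc]
    exact this hp)

theorem lift_x {A : Type u} [CommRing A] [Algebra R A] (a : A) (h1 : a * a = a)
    (h2 : ∀ c ∈ T, algebraMap R A c * a = 0) : lift a h1 h2 (x T) = a := by
  change Polynomial.aeval a X = a
  simp

theorem good_of_map_eq_top {C : Ideal R} (hT : Ideal.span (T : Set R) = C) {A : Type u} [CommRing A] [Algebra R A]
    (φ : E T →+* A) (hφ : φ.comp (algebraMap R (E T)) = algebraMap R A)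
    (h : Ideal.span (φ '' genSet T) = ⊤) : Good C A (φ (x T)) := by
  refine ⟨?_, ?_, ?_⟩
  · rw [← map_mul, x_mul_x]
  · intro c hc
    rw [← hT] at hc
    induction hc using Submodule.span_induction with
    | mem c hc => rw [← hφ, RingHom.comp_apply, ← map_mul, mul_x T c hc, map_zero]
    | zero => simp
    | add c d _ _ hc hd => rw [map_add, add_mul, hc, hd, add_zero]
    | smul r c _ hc => rw [smul_eq_mul, map_mul, mul_assoc, hc, mul_zero]
  · rw [← h, ← hT, Ideal.map_span, ← Ideal.span_union]
    congr 1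
    rw [genSet, Set.image_insert_eq, Set.singleton_union, Set.image_image]
    congr 1
    apply Set.image_congr
    intro c _
    rw [← hφ]; rfl

theorem span_image_genSet {C : Ideal R} (hT : Ideal.span (T : Set R) = C) {A : Type u} [CommRing A] [Algebra R A]
    (φ : E T →+* A) (hφ : φ.comp (algebraMap R (E T)) = algebraMap R A) (h : Good C A (φ (x T))) :
    Ideal.span (φ '' genSet T) = ⊤ := by
  rw [← h.2.2, ← hT, Ideal.map_span, ← Ideal.span_union]
  congr 1
  rw [genSet, Set.image_insert_eq, Set.singleton_union, Set.image_image]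
  congr 1
  apply Set.image_congr
  intro c _
  rw [← hφ]; rfl

end Ring

section Scheme

variable {R : Type u} [CommRing R] (T : Finset R)

/-- The open subscheme of `Spec E` where `genSet` generates the unit ideal. -/
noncomputable def U : (Spec (CommRingCat.of (E T))).Opens :=
  ⟨(PrimeSpectrum.zeroLocus (genSet T))ᶜ, (PrimeSpectrum.isClosed_zeroLocus _).isOpen_compl⟩

theorem mem_U (q : PrimeSpectrum (E T)) : q ∈ U T ↔ ¬ genSet T ⊆ q.asIdeal := Iff.rfl

/-- The structure morphism. -/
noncomputable def i : (U T).toScheme ⟶ Spec (CommRingCat.of R) :=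
  (U T).ι ≫ Spec.map (CommRingCat.ofHom (algebraMap R (E T)))

instance : CompactSpace (U T).toScheme := by
  classical
  have h : IsCompact ((PrimeSpectrum.zeroLocus (genSet T))ᶜ : Set (PrimeSpectrum (E T))) ∧
      IsOpen ((PrimeSpectrum.zeroLocus (genSet T))ᶜ : Set (PrimeSpectrum (E T))) := by
    rw [PrimeSpectrum.isCompact_isOpen_iff]
    refine ⟨insert (x T) (T.image (algebraMap R (E T))), ?_⟩
    rw [genSet]
    simp
  exact isCompact_iff_compactSpace.1 h.1

instance : LocallyOfFinitePresentation (i T) := by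
  have h1 : LocallyOfFinitePresentation (Spec.map (CommRingCat.ofHom (algebraMap R (E T)))) := by
    rw [HasRingHomProperty.Spec_iff (P := @LocallyOfFinitePresentation)]
    exact RingHom.finitePresentation_algebraMap.2 (finitePresentation_E T)
  exact inferInstanceAs (LocallyOfFinitePresentation (_ ≫ _))

instance : QuasiCompact (i T) := by
  have : CompactSpace (U T).toScheme := inferInstance
  exact (quasiCompact_iff_compactSpace (i T)).2 this

/-- If `Spec.map φ` factors through `U T` then `φ (genSet T)` generates the unit ideal. -/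
theorem span_eq_top_of_factor {A : Type u} [CommRing A] (φ : E T →+* A) (h : Spec (CommRingCat.of A) ⟶ (U T).toScheme)
    (hh : h ≫ (U T).ι = Spec.map (CommRingCat.ofHom φ)) : Ideal.span (φ '' genSet T) = ⊤ := by
  by_contra hne
  obtain ⟨m, hm, hle⟩ := Ideal.exists_le_maximal _ hne
  let q : Spec (CommRingCat.of A) := (⟨m, hm.isPrime⟩ : PrimeSpectrum A)
  have h1 : (h ≫ (U T).ι) q ∈ U T := by
    rw [Scheme.Hom.comp_apply]
    exact (h q).2
  rw [hh] at h1
  have h2 : ¬ genSet T ⊆ m.comap φ := h1
  exact h2 fun y hy => hle (Ideal.subset_span ⟨y, hy, rfl⟩)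

theorem exists_factor {A : Type u} [CommRing A] (φ : E T →+* A) (hφ : Ideal.span (φ '' genSet T) = ⊤) :
    ∃ h : Spec (CommRingCat.of A) ⟶ (U T).toScheme, h ≫ (U T).ι = Spec.map (CommRingCat.ofHom φ) := by
  refine ⟨IsOpenImmersion.lift (U T).ι (Spec.map (CommRingCat.ofHom φ)) ?_, IsOpenImmersion.lift_fac _ _ _⟩
  rintro _ ⟨q, rfl⟩
  rw [Scheme.Opens.range_ι]
  have : ¬ genSet T ⊆ (Ideal.comap φ q.asIdeal : Ideal (E T)) := by
    intro hle
    refine q.isPrime.ne_top ?_
    rw [eq_top_iff, ← hφ, Ideal.span_le]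
    rintro _ ⟨y, hy, rfl⟩
    exact hle hy
  exact this

instance : Mono (i T) := by
  -- uniqueness for affine sources
  have key : ∀ (A : CommRingCat.{u}) (g h : Spec A ⟶ (U T).toScheme), g ≫ i T = h ≫ i T → g = h := by
    intro A g h hgh
    rw [← cancel_mono (U T).ι]
    obtain ⟨φ, hφ⟩ := Spec.map_surjective (g ≫ (U T).ι)
    obtain ⟨ψ, hψ⟩ := Spec.map_surjective (h ≫ (U T).ι)
    have h1 : φ.hom.comp (algebraMap R (E T)) = ψ.hom.comp (algebraMap R (E T)) := by
      have e1 : Spec.map (CommRingCat.ofHom (algebraMap R (E T)) ≫ φ) =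
          Spec.map (CommRingCat.ofHom (algebraMap R (E T)) ≫ ψ) := by
        rw [Spec.map_comp, Spec.map_comp, hφ, hψ, Category.assoc, Category.assoc]
        exact hgh
      have e2 := Spec.map_injective e1
      exact congrArg CommRingCat.Hom.hom e2
    let _ : Algebra R A := (φ.hom.comp (algebraMap R (E T))).toAlgebra
    have g1 : Good (Ideal.span (T : Set R)) A (φ.hom (x T)) :=
      good_of_map_eq_top rfl φ.hom rfl (span_eq_top_of_factor T φ.hom g hφ.symm)
    have g2 : Good (Ideal.span (T : Set R)) A (ψ.hom (x T)) :=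
      good_of_map_eq_top rfl ψ.hom h1.symm (span_eq_top_of_factor T ψ.hom h hψ.symm)
    have e3 : φ.hom = ψ.hom := hom_ext _ _ h1 (g1.unique g2)
    rw [← hφ, ← hψ]
    congr 1
    ext1
    exact e3
  refine ⟨fun {W} g h hgh => ?_⟩
  have key' : ∀ (A : CommRingCat.{u}) (t : Spec A ⟶ W), t ≫ g = t ≫ h := fun A t =>
    key A _ _ (by rw [Category.assoc, Category.assoc, hgh])
  exact Scheme.Cover.hom_ext W.affineCover _ _ fun j => key' _ (W.affineCover.f j)

theorem factor_iff {C : Ideal R} (hT : Ideal.span (T : Set R) = C) (A : Type u) [CommRing A] [Algebra R A] :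
    IsIdempotentElem (C.map (algebraMap R A)) ↔
      ∃ h : Spec (CommRingCat.of A) ⟶ (U T).toScheme, h ≫ i T = Spec.map (CommRingCat.ofHom (algebraMap R A)) := by
  rw [exists_good_iff ⟨T, hT⟩]
  constructor
  · rintro ⟨a, ha⟩
    let φ := lift (T := T) a ha.1 (fun c hc => ha.2.1 c (by rw [← hT]; exact Ideal.subset_span hc))
    have hφ : φ.toRingHom.comp (algebraMap R (E T)) = algebraMap R A := φ.comp_algebraMap
    have hx : φ.toRingHom (x T) = a := lift_x a _ _
    obtain ⟨h, hh⟩ := exists_factor T φ.toRingHom (span_image_genSet hT _ hφ (by rw [hx]; exact ha))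
    refine ⟨h, ?_⟩
    rw [i, ← Category.assoc, hh, ← Spec.map_comp]
    congr 1
    ext1
    exact hφ
  · rintro ⟨h, hh⟩
    obtain ⟨φ, hφ⟩ := Spec.map_surjective (h ≫ (U T).ι)
    have h1 : φ.hom.comp (algebraMap R (E T)) = algebraMap R A := by
      have e1 : Spec.map (CommRingCat.ofHom (algebraMap R (E T)) ≫ φ) =
          Spec.map (CommRingCat.ofHom (algebraMap R A)) := by
        rw [Spec.map_comp, hφ, Category.assoc]
        exact hh
      exact congrArg CommRingCat.Hom.hom (Spec.map_injective e1)
    exact ⟨_, good_of_map_eq_top hT φ.hom h1 (span_eq_top_of_factor T φ.hom h hφ.symm)⟩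

end Scheme

/-- "A finitely generated ideal becomes idempotent" is represented by a monomorphism of finite presentation. -/
theorem exists_rep {R : Type u} [CommRing R] (C : Ideal R) (hC : C.FG) :
    ∃ (Z : Scheme.{u}) (i : Z ⟶ Spec (CommRingCat.of R)), Mono i ∧ LocallyOfFinitePresentation i ∧
      QuasiCompact i ∧ ∀ (A : Type u) [CommRing A] [Algebra R A], IsIdempotentElem (C.map (algebraMap R A)) ↔
        ∃ h : Spec (CommRingCat.of A) ⟶ Z, h ≫ i = Spec.map (CommRingCat.ofHom (algebraMap R A)) := by
  obtain ⟨T, hT⟩ := hC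
  exact ⟨(U T).toScheme, i T, inferInstance, inferInstance, inferInstance, fun A _ _ => factor_iff T hT A⟩

/-- The same for finitely many ideals. -/
theorem exists_rep_fin {R : Type u} [CommRing R] (s : ℕ) (C : Fin s → Ideal R) (hC : ∀ j, (C j).FG) :
    ∃ (Z : Scheme.{u}) (i : Z ⟶ Spec (CommRingCat.of R)), Mono i ∧ LocallyOfFinitePresentation i ∧
      QuasiCompact i ∧ ∀ (A : Type u) [CommRing A] [Algebra R A],
        (∀ j, IsIdempotentElem ((C j).map (algebraMap R A))) ↔
        ∃ h : Spec (CommRingCat.of A) ⟶ Z, h ≫ i = Spec.map (CommRingCat.ofHom (algebraMap R A)) := by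
  induction s with
  | zero =>
    refine ⟨Spec (CommRingCat.of R), 𝟙 _, inferInstance, inferInstance, inferInstance, fun A _ _ => ?_⟩
    exact ⟨fun _ => ⟨_, Category.comp_id _⟩, fun _ j => j.elim0⟩
  | succ s ih =>
    obtain ⟨Z₁, i₁, _, _, _, h₁⟩ := ih (fun j => C j.castSucc) fun j => hC _
    obtain ⟨Z₂, i₂, _, _, _, h₂⟩ := exists_rep (C (Fin.last s)) (hC _)
    refine ⟨pullback i₁ i₂, pullback.fst i₁ i₂ ≫ i₁, inferInstance, inferInstance, inferInstance,
      fun A _ _ => ?_⟩
    rw [Fin.forall_fin_succ', h₁, h₂]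
    constructor
    · rintro ⟨⟨g₁, e₁⟩, ⟨g₂, e₂⟩⟩
      exact ⟨pullback.lift g₁ g₂ (e₁.trans e₂.symm), by rw [pullback.lift_fst_assoc, e₁]⟩
    · rintro ⟨g, hg⟩
      refine ⟨⟨g ≫ pullback.fst i₁ i₂, by rw [Category.assoc, hg]⟩,
        ⟨g ≫ pullback.snd i₁ i₂, by rw [Category.assoc, ← pullback.condition, hg]⟩⟩

end Groth.Agent.Flat2B.IdemRep
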