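import Groth.Agent.Flat2B.MonoRep

/-!
# Predicates on schemes over `S` representable by monomorphisms of finite presentation

* `factor_of_openCover`: factoring through a monomorphism is local on the source.
* `EtSheafPred Q`: `Q` is stable under base change and local for the etale topology.
* `RepOver Q x`: over `x : X ⟶ S` the predicate `Q` is represented by a monomorphism of finite
  presentation `Z ⟶ X`.
* `RepOver.of_local`: representability over `S` of `Q ⊆ Y` is etale local on `Y`.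
-/

set_option autoImplicit false
universe u

open CategoryTheory CategoryTheory.Limits AlgebraicGeometry

namespace Groth.Agent.Flat2B.RepPred

/-- Factoring through a monomorphism is local on the source. -/
theorem factor_of_openCover {Z X T : Scheme.{u}} (i : Z ⟶ X) [Mono i] (h : T ⟶ X)
    (𝒰 : T.OpenCover) (H : ∀ k, ∃ g : 𝒰.X k ⟶ Z, g ≫ i = 𝒰.f k ≫ h) :
    ∃ g : T ⟶ Z, g ≫ i = h := by
  choose g hg using H
  refine ⟨𝒰.glueMorphisms g fun k l => ?_, ?_⟩
  · rw [← cancel_mono i, Category.assoc, Category.assoc, hg, hg, pullback.condition_assoc]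
  · apply Scheme.Cover.hom_ext 𝒰
    intro k
    rw [Scheme.Cover.ι_glueMorphisms_assoc, hg]

/-- A predicate on schemes over `S`, stable under base change and local for the etale topology. -/
structure EtSheafPred {S : Scheme.{u}} (Q : ∀ T : Scheme.{u}, (T ⟶ S) → Prop) : Prop where
  map : ∀ (T T' : Scheme.{u}) (g : T' ⟶ T) (h : T ⟶ S), Q T h → Q T' (g ≫ h)
  desc : ∀ (T : Scheme.{u}) (h : T ⟶ S) (ι : Type u) (U : ι → Scheme.{u}) (g : ∀ i, U i ⟶ T),
    (∀ i, Etale (g i)) → (∀ t : T, ∃ i, t ∈ Set.range (g i)) → (∀ i, Q (U i) (g i ≫ h)) → Q T h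

/-- Over `x : X ⟶ S`, the predicate `Q` is represented by a monomorphism of finite
presentation. -/
def RepOver {S : Scheme.{u}} (Q : ∀ T : Scheme.{u}, (T ⟶ S) → Prop) {X : Scheme.{u}}
    (x : X ⟶ S) : Prop :=
  ∃ (Z : Scheme.{u}) (i : Z ⟶ X), Mono i ∧ LocallyOfFinitePresentation i ∧ QuasiCompact i ∧
    ∀ (T : Scheme.{u}) (h : T ⟶ X), Q T (h ≫ x) ↔ ∃ g, g ≫ i = h

variable {S : Scheme.{u}} {Q : ∀ T : Scheme.{u}, (T ⟶ S) → Prop}

/-- Representability over the source of a composition. -/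
theorem RepOver.comp {X Y : Scheme.{u}} {x : X ⟶ S} (hx : RepOver Q x) (y : Y ⟶ X) :
    RepOver Q (y ≫ x) := by
  obtain ⟨Z, i, _, _, _, hi⟩ := hx
  refine ⟨pullback y i, pullback.fst y i, inferInstance, inferInstance, inferInstance,
    fun T h => ?_⟩
  rw [← Category.assoc, hi]
  exact ⟨fun ⟨g, hg⟩ => ⟨pullback.lift h g hg.symm, pullback.lift_fst _ _ _⟩,
    fun ⟨g, hg⟩ => ⟨g ≫ pullback.snd y i, by rw [← hg, Category.assoc, Category.assoc,
      pullback.condition]⟩⟩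

/-- Representability of a conjunction. -/
theorem RepOver.inter {Q₁ Q₂ : ∀ T : Scheme.{u}, (T ⟶ S) → Prop} {X : Scheme.{u}} {x : X ⟶ S}
    (h₁ : RepOver Q₁ x) (h₂ : RepOver Q₂ x) : RepOver (fun T h => Q₁ T h ∧ Q₂ T h) x := by
  obtain ⟨Z₁, i₁, _, _, _, hi₁⟩ := h₁
  obtain ⟨Z₂, i₂, _, _, _, hi₂⟩ := h₂
  refine ⟨pullback i₁ i₂, pullback.fst i₁ i₂ ≫ i₁, inferInstance, inferInstance, inferInstance,
    fun T h => ?_⟩
  dsimp only
  rw [hi₁, hi₂]
  constructor
  · rintro ⟨⟨g₁, h₁⟩, ⟨g₂, h₂⟩⟩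
    exact ⟨pullback.lift g₁ g₂ (by rw [h₁, h₂]), by rw [← Category.assoc, pullback.lift_fst, h₁]⟩
  · rintro ⟨g, hg⟩
    exact ⟨⟨g ≫ pullback.fst i₁ i₂, by rw [← hg, Category.assoc]⟩,
      ⟨g ≫ pullback.snd i₁ i₂, by rw [← hg, Category.assoc, pullback.condition]⟩⟩

theorem RepOver.congr {Q₁ Q₂ : ∀ T : Scheme.{u}, (T ⟶ S) → Prop} {X : Scheme.{u}} {x : X ⟶ S}
    (h₁ : RepOver Q₁ x)
    (h : ∀ (T : Scheme.{u}) (g : T ⟶ X), Q₂ T (g ≫ x) ↔ Q₁ T (g ≫ x)) : RepOver Q₂ x := by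
  obtain ⟨Z₁, i₁, h1, h2, h3, hi₁⟩ := h₁
  exact ⟨Z₁, i₁, h1, h2, h3, fun T g => (h T g).trans (hi₁ T g)⟩

theorem repOver_true {X : Scheme.{u}} {x : X ⟶ S}
    (h : ∀ (T : Scheme.{u}) (g : T ⟶ X), Q T (g ≫ x)) : RepOver Q x :=
  ⟨X, 𝟙 X, inferInstance, inferInstance, inferInstance, fun T g =>
    ⟨fun _ => ⟨g, Category.comp_id _⟩, fun _ => h T g⟩⟩

/-- Representability of a finite conjunction. -/
theorem repOver_forall_fin {X : Scheme.{u}} {x : X ⟶ S} (k : ℕ)
    (Q : Fin k → ∀ T : Scheme.{u}, (T ⟶ S) → Prop) (h : ∀ i, RepOver (Q i) x) :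
    RepOver (fun T h => ∀ i, Q i T h) x := by
  induction k with
  | zero => exact repOver_true fun T g i => i.elim0
  | succ k ih =>
    refine ((ih (fun i => Q i.castSucc) (fun i => h i.castSucc)).inter (h (Fin.last k))).congr ?_
    intro T g
    rw [Fin.forall_fin_succ']

set_option backward.isDefEq.respectTransparency false in
/-- Representability over a coproduct. -/
theorem RepOver.coprod (hQ : EtSheafPred Q) {X₁ X₂ : Scheme.{u}} {x₁ : X₁ ⟶ S} {x₂ : X₂ ⟶ S}
    (h₁ : RepOver Q x₁) (h₂ : RepOver Q x₂) : RepOver Q (coprod.desc x₁ x₂) := by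
  obtain ⟨Z₁, i₁, m₁, f₁, q₁, hi₁⟩ := h₁
  obtain ⟨Z₂, i₂, m₂, f₂, q₂, hi₂⟩ := h₂
  have m : Mono (coprod.map i₁ i₂) :=
    IsZariskiLocalAtTarget.coprodMap (P := MorphismProperty.monomorphisms Scheme.{u}) i₁ i₂ m₁ m₂
  have f : LocallyOfFinitePresentation (coprod.map i₁ i₂) :=
    IsZariskiLocalAtTarget.coprodMap (P := @LocallyOfFinitePresentation) i₁ i₂ f₁ f₂
  have q : QuasiCompact (coprod.map i₁ i₂) :=
    IsZariskiLocalAtTarget.coprodMap (P := @QuasiCompact) i₁ i₂ q₁ q₂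
  refine ⟨Z₁ ⨿ Z₂, coprod.map i₁ i₂, m, f, q, fun T h => ⟨fun hT => ?_, fun ⟨g, hg⟩ => ?_⟩⟩
  · refine factor_of_openCover _ h ((coprodOpenCover.{u, 0} X₁ X₂).pullback₁ h) ?_
    rintro (⟨⟨⟩⟩ | ⟨⟨⟩⟩)
    · have h1 : Q _ ((pullback.snd h coprod.inl) ≫ x₁) := by
        have := hQ.map _ _ (pullback.fst h coprod.inl) _ hT
        rwa [← Category.assoc, pullback.condition, Category.assoc, coprod.inl_desc] at this
      obtain ⟨g, hg⟩ := (hi₁ _ _).1 h1
      refine ⟨g ≫ coprod.inl, ?_⟩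
      change _ = pullback.fst h coprod.inl ≫ h
      rw [pullback.condition, Category.assoc, coprod.inl_map, ← Category.assoc, hg]
    · have h1 : Q _ ((pullback.snd h coprod.inr) ≫ x₂) := by
        have := hQ.map _ _ (pullback.fst h coprod.inr) _ hT
        rwa [← Category.assoc, pullback.condition, Category.assoc, coprod.inr_desc] at this
      obtain ⟨g, hg⟩ := (hi₂ _ _).1 h1
      refine ⟨g ≫ coprod.inr, ?_⟩
      change _ = pullback.fst h coprod.inr ≫ h
      rw [pullback.condition, Category.assoc, coprod.inr_map, ← Category.assoc, hg]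
  · subst hg
    let 𝒰 : T.OpenCover := ((coprodOpenCover.{u, 0} X₁ X₂).pullback₁ (g ≫ coprod.map i₁ i₂))
    refine hQ.desc T _ (ULift.{u} 𝒰.I₀) (fun i => 𝒰.X i.down) (fun i => 𝒰.f i.down)
      (fun i => inferInstance) (fun t => ?_) ?_
    · obtain ⟨i, y, hy⟩ := Scheme.Cover.exists_eq 𝒰 t
      exact ⟨⟨i⟩, y, hy⟩
    · rintro ⟨⟨⟨⟩⟩ | ⟨⟨⟩⟩⟩
      · change Q _ (pullback.fst (g ≫ coprod.map i₁ i₂) coprod.inl ≫ _)
        rw [← Category.assoc, pullback.condition, Category.assoc, coprod.inl_desc]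
        rw [hi₁]
        have hp := (isPullback_inl_inl_coprodMap i₁ i₂)
        refine ⟨hp.lift (pullback.snd (g ≫ coprod.map i₁ i₂) coprod.inl)
          (pullback.fst (g ≫ coprod.map i₁ i₂) coprod.inl ≫ g) ?_, ?_⟩
        · rw [Category.assoc, pullback.condition]
        · rw [hp.lift_fst]
      · change Q _ (pullback.fst (g ≫ coprod.map i₁ i₂) coprod.inr ≫ _)
        rw [← Category.assoc, pullback.condition, Category.assoc, coprod.inr_desc]
        rw [hi₂]
        have hp := (isPullback_inr_inr_coprodMap i₁ i₂)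
        refine ⟨hp.lift (pullback.snd (g ≫ coprod.map i₁ i₂) coprod.inr)
          (pullback.fst (g ≫ coprod.map i₁ i₂) coprod.inr ≫ g) ?_, ?_⟩
        · rw [Category.assoc, pullback.condition]
        · rw [hp.lift_fst]

/-- Etale morphisms and coproducts. -/
theorem etale_coprod_desc {X₁ X₂ Y : Scheme.{u}} (q₁ : X₁ ⟶ Y) (q₂ : X₂ ⟶ Y) [Etale q₁]
    [Etale q₂] : Etale (coprod.desc q₁ q₂) := by
  refine IsZariskiLocalAtSource.of_openCover (P := @Etale) (coprodOpenCover.{u, 0} X₁ X₂) ?_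
  rintro (⟨⟨⟩⟩ | ⟨⟨⟩⟩)
  · change Etale (coprod.inl ≫ coprod.desc q₁ q₂)
    rw [coprod.inl_desc]
    infer_instance
  · change Etale (coprod.inr ≫ coprod.desc q₁ q₂)
    rw [coprod.inr_desc]
    infer_instance

theorem compactSpace_coprod (X₁ X₂ : Scheme.{u}) [CompactSpace X₁] [CompactSpace X₂] :
    CompactSpace (X₁ ⨿ X₂ : Scheme.{u}) :=
  (coprodMk X₁ X₂).compactSpace

/-- **Representability is etale local.** -/
theorem repOver_of_local (hQ : EtSheafPred Q) [CompactSpace S] [QuasiSeparatedSpace S]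
    {Y : Scheme.{u}} (j : Y ⟶ S) [Mono j] [LocallyOfFinitePresentation j] [QuasiCompact j]
    (hQj : ∀ (T : Scheme.{u}) (h : T ⟶ S), Q T h → ∃ g : T ⟶ Y, g ≫ j = h)
    (hloc : ∀ y : Y, ∃ (X : Scheme.{u}) (q : X ⟶ Y), Etale q ∧ CompactSpace X ∧
      y ∈ Set.range q ∧ RepOver Q (q ≫ j)) :
    RepOver Q (𝟙 S) := by
  classical
  have hY : CompactSpace Y := QuasiCompact.compactSpace_of_compactSpace j
  have hY' : QuasiSeparatedSpace Y := by
    have : QuasiSeparated j := inferInstance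
    exact quasiSeparatedSpace_of_quasiSeparated j
  choose X q he hc hy hr using hloc
  have hopen : ∀ y, IsOpen (Set.range (q y)) := fun y => (q y).isOpenMap.isOpen_range
  obtain ⟨s, hs⟩ := isCompact_univ.elim_finite_subcover (fun y => Set.range (q y)) hopen
    (fun y _ => Set.mem_iUnion.2 ⟨y, hy y⟩)
  have key : ∀ s : Finset Y, ∃ (X' : Scheme.{u}) (q' : X' ⟶ Y), Etale q' ∧ CompactSpace X' ∧
      (∀ y ∈ s, Set.range (q y) ⊆ Set.range q') ∧ RepOver Q (q' ≫ j) := by
    intro s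
    induction s using Finset.induction_on with
    | empty =>
      refine ⟨∅, Scheme.emptyTo Y, ?_, ?_, by simp, ?_⟩
      · infer_instance
      · infer_instance
      · refine repOver_true fun T g => ?_
        refine hQ.desc T _ PEmpty (fun i => i.elim) (fun i => i.elim) (fun i => i.elim)
          (fun t => (PEmpty.elim (g t))) (fun i => i.elim)
    | insert y s _ ih =>
      obtain ⟨X', q', h1, h2, h3, h4⟩ := ih
      have := he y
      have := hc y
      refine ⟨X' ⨿ X y, coprod.desc q' (q y), etale_coprod_desc _ _, compactSpace_coprod _ _,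
        ?_, ?_⟩
      · intro z hz
        rw [Finset.mem_insert] at hz
        rcases hz with rfl | hz
        · rintro _ ⟨a, rfl⟩
          exact ⟨(coprod.inr : _ ⟶ X' ⨿ X z) a, by
            rw [← Scheme.Hom.comp_apply, coprod.inr_desc]⟩
        · refine (h3 z hz).trans ?_
          rintro _ ⟨a, rfl⟩
          exact ⟨(coprod.inl : _ ⟶ X' ⨿ X y) a, by
            rw [← Scheme.Hom.comp_apply, coprod.inl_desc]⟩
      · rw [coprod.desc_comp]
        exact h4.coprod hQ (hr y)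
  obtain ⟨S', p, h1, h2, h3, Z', i', _, _, _, hi'⟩ := key s
  have hsurj : Surjective p := ⟨fun y => by
    obtain ⟨z, hz, hyz⟩ := Set.mem_iUnion₂.1 (hs (Set.mem_univ y))
    exact h3 z hz hyz⟩
  have : Flat p := inferInstance
  have : QuasiCompact p := inferInstance
  obtain ⟨Z, i, a1, a2, a3, a4⟩ := MonoRep.exists_rep_of_cover j p i' (@Etale) h1 Q hQj hQ.map
    (fun T T' g h hg hgs _ hT => hQ.desc T h PUnit (fun _ => T') (fun _ => g) (fun _ => hg)
      (fun t => ⟨⟨⟩, hgs.surj t⟩) (fun _ => hT))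
    (fun T h => by rw [Category.assoc]; exact hi' T h)
  exact ⟨Z, i, a1, a2, a3, fun T h => by rw [Category.comp_id]; exact a4 T h⟩

end Groth.Agent.Flat2B.RepPred
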