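import Mathlib.AlgebraicGeometry.Morphisms.FinitePresentation
import Mathlib.AlgebraicGeometry.Morphisms.QuasiCompact
import Mathlib.AlgebraicGeometry.Limits
import Groth.Agent.Flat2B.RepPred
import Mathlib.RingTheory.Ideal.IdempotentFG
import Mathlib.RingTheory.Spectrum.Prime.Topology

/-!
# The functor "the finitely generated ideal `C` becomes idempotent"

It is represented by `V(C) ⨿ (S ∖ V(C)) → S`, a monomorphism of finite presentation.
-/

set_option autoImplicit false
universe u

open CategoryTheory CategoryTheory.Limits AlgebraicGeometry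

namespace Groth.Agent.Flat2B.IdemRep386

/-- The coproduct of two monomorphisms with disjoint images is a monomorphism. -/
theorem mono_coprod_desc {X Y S : Scheme.{u}} (a : X ⟶ S) (b : Y ⟶ S) [Mono a] [Mono b]
    (hd : Disjoint (Set.range a) (Set.range b)) : Mono (coprod.desc a b) := by
  -- a point of the coproduct
  have hpt : ∀ z : (X ⨿ Y : Scheme.{u}), (∃ x, (coprod.inl : X ⟶ X ⨿ Y) x = z) ∨
      (∃ y, (coprod.inr : Y ⟶ X ⨿ Y) y = z) := by
    intro z
    obtain ⟨x | y, rfl⟩ := (coprodMk X Y).surjective z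
    · exact Or.inl ⟨x, (coprodMk_inl X Y x).symm⟩
    · exact Or.inr ⟨y, (coprodMk_inr X Y y).symm⟩
  have hl : ∀ x : X, (coprod.desc a b) ((coprod.inl : X ⟶ X ⨿ Y) x) = a x := fun x => by
    rw [← Scheme.Hom.comp_apply, coprod.inl_desc]
  have hr : ∀ y : Y, (coprod.desc a b) ((coprod.inr : Y ⟶ X ⨿ Y) y) = b y := fun y => by
    rw [← Scheme.Hom.comp_apply, coprod.inr_desc]
  refine ⟨fun {T} g₁ g₂ h => ?_⟩
  apply Scheme.Cover.hom_ext ((coprodOpenCover.{u, 0} X Y).pullback₁ g₁)
  rintro (⟨⟨⟩⟩ | ⟨⟨⟩⟩)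
  · let u : pullback g₁ (coprod.inl : X ⟶ X ⨿ Y) ⟶ T := pullback.fst g₁ coprod.inl
    let v : pullback g₁ (coprod.inl : X ⟶ X ⨿ Y) ⟶ X := pullback.snd g₁ coprod.inl
    have huv : u ≫ g₁ = v ≫ coprod.inl := pullback.condition
    change u ≫ g₁ = u ≫ g₂
    have hrange : Set.range (u ≫ g₂) ⊆ Set.range (coprod.inl : X ⟶ X ⨿ Y) := by
      rintro _ ⟨t, rfl⟩
      rcases hpt ((u ≫ g₂) t) with ⟨x, hx⟩ | ⟨y, hy⟩
      · exact ⟨x, hx⟩
      · exfalso
        have h1 : (coprod.desc a b) ((u ≫ g₂) t) = (coprod.desc a b) ((u ≫ g₁) t) := by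
          rw [← Scheme.Hom.comp_apply, ← Scheme.Hom.comp_apply, Category.assoc, Category.assoc, h]
        rw [← hy, hr, huv, Scheme.Hom.comp_apply, hl] at h1
        exact Set.disjoint_left.1 hd ⟨_, h1.symm⟩ ⟨y, rfl⟩
    let w := IsOpenImmersion.lift (coprod.inl : X ⟶ X ⨿ Y) (u ≫ g₂) hrange
    have hw : w ≫ coprod.inl = u ≫ g₂ := IsOpenImmersion.lift_fac _ _ _
    have hvw : v = w := by
      rw [← cancel_mono a]
      have h1 : v ≫ coprod.inl ≫ coprod.desc a b = w ≫ coprod.inl ≫ coprod.desc a b := by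
        rw [← Category.assoc, ← huv, ← Category.assoc, hw, Category.assoc, Category.assoc, h]
      rwa [coprod.inl_desc] at h1
    rw [huv, hvw, hw]
  · let u : pullback g₁ (coprod.inr : Y ⟶ X ⨿ Y) ⟶ T := pullback.fst g₁ coprod.inr
    let v : pullback g₁ (coprod.inr : Y ⟶ X ⨿ Y) ⟶ Y := pullback.snd g₁ coprod.inr
    have huv : u ≫ g₁ = v ≫ coprod.inr := pullback.condition
    change u ≫ g₁ = u ≫ g₂
    have hrange : Set.range (u ≫ g₂) ⊆ Set.range (coprod.inr : Y ⟶ X ⨿ Y) := by
      rintro _ ⟨t, rfl⟩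
      rcases hpt ((u ≫ g₂) t) with ⟨x, hx⟩ | ⟨y, hy⟩
      · exfalso
        have h1 : (coprod.desc a b) ((u ≫ g₂) t) = (coprod.desc a b) ((u ≫ g₁) t) := by
          rw [← Scheme.Hom.comp_apply, ← Scheme.Hom.comp_apply, Category.assoc, Category.assoc, h]
        rw [← hx, hl, huv, Scheme.Hom.comp_apply, hr] at h1
        exact Set.disjoint_left.1 hd ⟨x, rfl⟩ ⟨_, h1.symm⟩
      · exact ⟨y, hy⟩
    let w := IsOpenImmersion.lift (coprod.inr : Y ⟶ X ⨿ Y) (u ≫ g₂) hrange
    have hw : w ≫ coprod.inr = u ≫ g₂ := IsOpenImmersion.lift_fac _ _ _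
    have hvw : v = w := by
      rw [← cancel_mono b]
      have h1 : v ≫ coprod.inr ≫ coprod.desc a b = w ≫ coprod.inr ≫ coprod.desc a b := by
        rw [← Category.assoc, ← huv, ← Category.assoc, hw, Category.assoc, Category.assoc, h]
      rwa [coprod.inr_desc] at h1
    rw [huv, hvw, hw]

section Rep

variable {A : Type u} [CommRing A] (C : Ideal A)

/-- The open complement of `V(C)`. -/
noncomputable def U : (Spec (CommRingCat.of A)).Opens :=
  ⟨(PrimeSpectrum.zeroLocus (C : Set A))ᶜ, (PrimeSpectrum.isClosed_zeroLocus _).isOpen_compl⟩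

/-- The closed immersion of `V(C)`. -/
noncomputable def clo : Spec (CommRingCat.of (A ⧸ C)) ⟶ Spec (CommRingCat.of A) :=
  Spec.map (CommRingCat.ofHom (Ideal.Quotient.mk C))

theorem range_clo : Set.range (clo C) = PrimeSpectrum.zeroLocus (C : Set A) := by
  have h := _root_.range_comap_of_surjective (A ⧸ C) (Ideal.Quotient.mk C)
    Ideal.Quotient.mk_surjective
  rw [Ideal.mk_ker] at h
  exact h

theorem range_U : Set.range (U C).ι = (PrimeSpectrum.zeroLocus (C : Set A))ᶜ := by
  rw [Scheme.Opens.range_ι]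
  rfl

instance : IsClosedImmersion (clo C) :=
  IsClosedImmersion.spec_of_surjective _ Ideal.Quotient.mk_surjective

/-- `V(C) ⨿ (S ∖ V(C)) → S`. -/
noncomputable def str : Spec (CommRingCat.of (A ⧸ C)) ⨿ ((U C : Scheme.{u})) ⟶
    Spec (CommRingCat.of A) :=
  coprod.desc (clo C) (U C).ι

instance : Mono (str C) :=
  mono_coprod_desc _ _ (by
    rw [range_clo, range_U]
    exact disjoint_compl_right)

theorem lfp_str (hC : C.FG) : LocallyOfFinitePresentation (str C) := by
  refine IsZariskiLocalAtSource.of_openCover (P := @LocallyOfFinitePresentation)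
    (coprodOpenCover.{u, 0} _ _) ?_
  rintro (⟨⟨⟩⟩ | ⟨⟨⟩⟩)
  · change LocallyOfFinitePresentation (coprod.inl ≫ coprod.desc (clo C) (U C).ι)
    rw [coprod.inl_desc, clo, HasRingHomProperty.Spec_iff (P := @LocallyOfFinitePresentation)]
    exact RingHom.FinitePresentation.of_surjective _ Ideal.Quotient.mk_surjective
      (by simpa [Ideal.mk_ker] using hC)
  · change LocallyOfFinitePresentation (coprod.inr ≫ coprod.desc (clo C) (U C).ι)
    rw [coprod.inr_desc]
    infer_instance

theorem qc_str (hC : C.FG) : QuasiCompact (str C) := by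
  have h1 : CompactSpace (U C : Scheme.{u}) := by
    apply isCompact_iff_compactSpace.mp
    exact (PrimeSpectrum.isCompact_isOpen_iff_ideal.2 ⟨C, hC, rfl⟩).1
  have := RepPred.compactSpace_coprod (Spec (CommRingCat.of (A ⧸ C))) (U C : Scheme.{u})
  infer_instance

theorem factors_of_isIdempotentElem (hC : C.FG) (R : Type u) [CommRing R] [Algebra A R]
    (h : IsIdempotentElem (C.map (algebraMap A R))) :
    ∃ g, g ≫ str C = Spec.map (CommRingCat.ofHom (algebraMap A R)) := by
  obtain ⟨e, he, heC⟩ := (Ideal.isIdempotentElem_iff_of_fg _ (hC.map _)).1 h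
  have hcover : Ideal.span (Set.range ![e, 1 - e]) = ⊤ := by
    rw [Ideal.eq_top_iff_one]
    have h1 : e ∈ Ideal.span (Set.range ![e, 1 - e]) := Ideal.subset_span ⟨0, rfl⟩
    have h2 : 1 - e ∈ Ideal.span (Set.range ![e, 1 - e]) := Ideal.subset_span ⟨1, rfl⟩
    simpa using Ideal.add_mem _ h1 h2
  have hfac : ∀ (R' : Type u) [CommRing R'] [Algebra R R'],
      (IsUnit (algebraMap R R' e) ∨ algebraMap R R' e = 0) →
      ∃ g, g ≫ str C = Spec.map (CommRingCat.ofHom (algebraMap R R')) ≫
        Spec.map (CommRingCat.ofHom (algebraMap A R)) := by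
    intro R' _ _ hor
    rw [← Spec.map_comp, ← CommRingCat.ofHom_comp]
    rcases hor with hu | h0
    · have hrange : Set.range (Spec.map (CommRingCat.ofHom ((algebraMap R R').comp
          (algebraMap A R)))) ⊆ Set.range (U C).ι := by
        rw [range_U]
        rintro _ ⟨t, rfl⟩ ht
        rw [PrimeSpectrum.mem_zeroLocus] at ht
        have h1 : C.map (algebraMap A R) ≤ t.asIdeal.comap (algebraMap R R') := by
          rw [Ideal.map_le_iff_le_comap]
          exact ht
        have h2 : e ∈ t.asIdeal.comap (algebraMap R R') := by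
          apply h1
          rw [heC]
          exact Submodule.mem_span_singleton_self e
        exact t.2.ne_top (Ideal.eq_top_of_isUnit_mem _ h2 hu)
      refine ⟨IsOpenImmersion.lift (U C).ι _ hrange ≫ coprod.inr, ?_⟩
      rw [Category.assoc, str, coprod.inr_desc, IsOpenImmersion.lift_fac]
    · have hk : ∀ c ∈ C, ((algebraMap R R').comp (algebraMap A R)) c = 0 := by
        intro c hc
        have h1 : algebraMap A R c ∈ C.map (algebraMap A R) := Ideal.mem_map_of_mem _ hc
        rw [heC, Submodule.mem_span_singleton] at h1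
        obtain ⟨r, hr⟩ := h1
        rw [RingHom.comp_apply, ← hr, smul_eq_mul, map_mul, h0, mul_zero]
      refine ⟨Spec.map (CommRingCat.ofHom (Ideal.Quotient.lift C _ hk)) ≫ coprod.inl, ?_⟩
      rw [Category.assoc, str, coprod.inl_desc, clo, ← Spec.map_comp, ← CommRingCat.ofHom_comp,
        Ideal.Quotient.lift_comp_mk]
  have hor : ∀ k : Fin 2, IsUnit (algebraMap R (Localization.Away (![e, 1 - e] k)) e) ∨
      algebraMap R (Localization.Away (![e, 1 - e] k)) e = 0 := by
    refine Fin.forall_fin_two.2 ⟨Or.inl ?_, Or.inr ?_⟩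
    · exact IsLocalization.Away.algebraMap_isUnit (S := Localization.Away e) e
    · have hk : IsUnit (algebraMap R (Localization.Away (1 - e)) (1 - e)) :=
        IsLocalization.Away.algebraMap_isUnit _
      have h1 : algebraMap R (Localization.Away (1 - e)) e *
          algebraMap R (Localization.Away (1 - e)) (1 - e) = 0 := by
        rw [← map_mul, mul_sub, mul_one, he.eq, sub_self, map_zero]
      exact (IsUnit.mul_left_eq_zero hk).1 h1
  refine RepPred.factor_of_openCover (str C) _
    (Scheme.affineOpenCoverOfSpanRangeEqTop (R := CommRingCat.of R) ![e, 1 - e] hcover).openCover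
    ?_
  intro k
  exact hfac (Localization.Away (![e, 1 - e] k)) (hor k)

theorem isIdempotentElem_of_factors (R : Type u) [CommRing R] [Algebra A R]
    (h : ∃ g, g ≫ str C = Spec.map (CommRingCat.ofHom (algebraMap A R))) :
    IsIdempotentElem (C.map (algebraMap A R)) := by
  obtain ⟨g, hg⟩ := h
  let I := C.map (algebraMap A R)
  change I * I = I
  refine le_antisymm Ideal.mul_le_right fun x hx => ?_
  -- the conductor
  by_contra hx'
  let J : Ideal R := (I * I).colon {x}
  have hJ : J ≠ ⊤ := by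
    intro h
    apply hx'
    have : (1 : R) ∈ J := by rw [h]; trivial
    rw [Submodule.mem_colon_singleton, smul_eq_mul, one_mul] at this
    exact this
  obtain ⟨m, hm, hJm⟩ := Ideal.exists_le_maximal J hJ
  let t : Spec (CommRingCat.of R) := ⟨m, hm.isPrime⟩
  obtain ⟨x' | y', hz⟩ := (coprodMk (Spec (CommRingCat.of (A ⧸ C))) (U C : Scheme.{u})).surjective (g t)
  · -- near `t` the morphism factors through `V(C)`
    let V : (Spec (CommRingCat.of R)).Opens := g ⁻¹ᵁ (Scheme.Hom.opensRange coprod.inl)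
    have htV : t ∈ V := ⟨x', by rw [← hz]; exact (coprodMk_inl _ _ x').symm⟩
    obtain ⟨_, ⟨b, rfl⟩, htb, hbV⟩ := PrimeSpectrum.isTopologicalBasis_basic_opens.exists_subset_of_mem_open
      htV V.2
    have hrange : Set.range (Spec.map (CommRingCat.ofHom (algebraMap R (Localization.Away b))) ≫ g)
        ⊆ Set.range (coprod.inl : Spec (CommRingCat.of (A ⧸ C)) ⟶ _ ⨿ ((U C : Scheme.{u}))) := by
      rintro _ ⟨s, rfl⟩
      have h1 : (Spec.map (CommRingCat.ofHom (algebraMap R (Localization.Away b)))) s ∈ V := by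
        apply hbV
        have h2 := PrimeSpectrum.localization_away_comap_range (Localization.Away b) b
        exact h2.subset ⟨s, rfl⟩
      rw [Scheme.Hom.comp_apply]
      exact h1
    let w := IsOpenImmersion.lift (coprod.inl : Spec (CommRingCat.of (A ⧸ C)) ⟶ _ ⨿ ((U C : Scheme.{u}))) _ hrange
    have hw : w ≫ coprod.inl = Spec.map (CommRingCat.ofHom (algebraMap R (Localization.Away b))) ≫ g :=
      IsOpenImmersion.lift_fac _ _ _
    have hw2 : w ≫ clo C = Spec.map (CommRingCat.ofHom ((algebraMap R (Localization.Away b)).comp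
        (algebraMap A R))) := by
      rw [CommRingCat.ofHom_comp, Spec.map_comp, ← hg, ← Category.assoc, ← hw, Category.assoc, str,
        coprod.inl_desc]
    obtain ⟨ψ, hψ⟩ := Spec.map_surjective w
    have h3 : (algebraMap R (Localization.Away b)).comp (algebraMap A R) =
        ψ.hom.comp (Ideal.Quotient.mk C) := by
      rw [← hψ, clo, ← Spec.map_comp] at hw2
      have := Spec.map_injective hw2
      exact congrArg CommRingCat.Hom.hom this.symm
    have h4 : I ≤ RingHom.ker (algebraMap R (Localization.Away b)) := by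
      rw [Ideal.map_le_iff_le_comap]
      intro c hc
      rw [Ideal.mem_comap, RingHom.mem_ker]
      have h5 := congrArg (fun f => f c) h3
      simp only [RingHom.comp_apply] at h5
      rw [h5, Ideal.Quotient.eq_zero_iff_mem.2 hc, map_zero]
    have h6 := h4 hx
    rw [RingHom.mem_ker, IsLocalization.map_eq_zero_iff (Submonoid.powers b)] at h6
    obtain ⟨⟨_, n, rfl⟩, hn⟩ := h6
    have h7 : b ^ n ∈ J := by
      rw [Submodule.mem_colon_singleton, smul_eq_mul]
      rw [hn]
      exact Ideal.zero_mem _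
    exact htb (hm.isPrime.mem_of_pow_mem n (hJm h7))
  · -- near `t` the ideal `I` is the unit ideal
    have h1 : (Spec.map (CommRingCat.ofHom (algebraMap A R))) t ∈ Set.range (U C).ι := by
      rw [← hg, Scheme.Hom.comp_apply, ← hz, coprodMk_inr, ← Scheme.Hom.comp_apply, str,
        coprod.inr_desc]
      exact ⟨y', rfl⟩
    rw [range_U] at h1
    have h1' : ¬ ((C : Set A) ⊆ (m.comap (algebraMap A R) : Set A)) := fun hsub => h1 hsub
    rw [Set.not_subset] at h1'
    obtain ⟨c, hc, hct⟩ := h1'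
    have h2 : algebraMap A R c ∈ J := by
      rw [Submodule.mem_colon_singleton, smul_eq_mul]
      exact Ideal.mul_mem_mul (Ideal.mem_map_of_mem _ hc) hx
    exact hct (hJm h2)

theorem exists_rep (hC : C.FG) :
    ∃ (Z : Scheme.{u}) (i : Z ⟶ Spec (CommRingCat.of A)), Mono i ∧
      LocallyOfFinitePresentation i ∧ QuasiCompact i ∧
      ∀ (R : Type u) [CommRing R] [Algebra A R], IsIdempotentElem (C.map (algebraMap A R)) ↔
        ∃ g, g ≫ i = Spec.map (CommRingCat.ofHom (algebraMap A R)) :=
  ⟨_, str C, inferInstance, lfp_str C hC, qc_str C hC, fun R _ _ =>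
    ⟨factors_of_isIdempotentElem C hC R, isIdempotentElem_of_factors C R⟩⟩

end Rep

end Groth.Agent.Flat2B.IdemRep386
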