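import Groth.Agent.Flat2A.Fiber
import Mathlib.RingTheory.Ideal.KrullsHeightTheorem
import Mathlib.RingTheory.ZariskisMainTheorem
import Mathlib.RingTheory.Spectrum.Prime.Jacobson
import Mathlib.RingTheory.Nullstellensatz

/-!
# Quasi-finite slices through a closed point of a fibre

* `eq_of_ne_bot`: in a Noetherian domain, if all nonzero primes contained in `t` contain a fixed `w ≠ 0` then there is no
  prime strictly between `0` and `t`;
* `quasiFiniteAt_of_isolated`: a finite type algebra is quasi-finite at a point isolated among the comparable points of its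
  fibre;
* `exists_slice`: `A'` Noetherian of finite type over `A`, `t' ≤ t` primes with `t` closed in its fibre and `w ∉ t'`,
  `w` in the extension of the prime below `t`: there is a prime `t' ≤ z < t`, `w * g ∉ z` with `A'/z` quasi-finite at `t`.
-/

set_option autoImplicit false
universe u

namespace Groth.Agent.Flat2B.QuasiFiniteSlice

open TensorProduct

theorem eq_of_ne_bot {D : Type u} [CommRing D] [IsDomain D] [IsNoetherianRing D] (t : Ideal D) [t.IsPrime] (w : D)
    (hw0 : w ≠ 0) (hw : ∀ q : Ideal D, q.IsPrime → q ≤ t → q ≠ ⊥ → w ∈ q) (q : Ideal D) (hq : q.IsPrime) (hqt : q ≤ t)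
    (hq0 : q ≠ ⊥) : q = t := by
  by_contra hne
  have hlt : q < t := lt_of_le_of_ne hqt hne
  have h0q : (⊥ : Ideal D) < q := bot_lt_iff_ne_bot.mpr hq0
  -- chains of length two have height at least two
  have hht : ∀ a b : Ideal D, a.IsPrime → b.IsPrime → ⊥ < a → a < b → ¬ b.height ≤ 1 := by
    intro a b ha hb h1 h2 hle
    have hbot : (⊥ : Ideal D).IsPrime := Ideal.isPrime_bot
    have h3 := Ideal.height_add_one_le_of_lt_of_isPrime h1
    have h4 := Ideal.height_add_one_le_of_lt_of_isPrime h2
    have h5 : (1 : ℕ∞) + 1 ≤ 1 := by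
      calc (1 : ℕ∞) + 1 ≤ ((⊥ : Ideal D).height + 1) + 1 := by gcongr; exact le_add_self
        _ ≤ a.height + 1 := by gcongr
        _ ≤ b.height := h4
        _ ≤ 1 := hle
    exact absurd h5 (by decide)
  have hwt : w ∈ t := hqt (hw q hq hqt hq0)
  have hfin : (Ideal.span {w}).minimalPrimes.Finite := Ideal.finite_minimalPrimes_of_isNoetherianRing D _
  by_cases hcov : (t : Set D) ⊆ ⋃ m ∈ (Ideal.span {w}).minimalPrimes, (m : Set D)
  · rw [Ideal.subset_union_prime_finite hfin ⊥ ⊥ (fun m hm _ _ => hm.isPrime)] at hcov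
    obtain ⟨m, hm, htm⟩ := hcov
    have hmp := hm.isPrime
    exact hht q m hq hmp h0q (hlt.trans_le htm) (Ideal.height_le_one_of_isPrincipal_of_mem_minimalPrimes _ _ hm)
  · rw [Set.not_subset] at hcov
    obtain ⟨y, hyt, hy⟩ := hcov
    simp only [Set.mem_iUnion, not_exists] at hy
    obtain ⟨m', hm', hm't⟩ := Ideal.exists_minimalPrimes_le (I := Ideal.span {y}) (J := t)
      ((Ideal.span_singleton_le_iff_mem _).mpr hyt)
    have hm'p := hm'.isPrime
    have hym' : y ∈ m' := hm'.1.2 (Ideal.mem_span_singleton_self y)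
    obtain ⟨m₀, hm₀, hm₀t⟩ := Ideal.exists_minimalPrimes_le (I := Ideal.span {w}) (J := t)
      ((Ideal.span_singleton_le_iff_mem _).mpr hwt)
    have hm'0 : m' ≠ ⊥ := by
      rintro rfl
      rw [Submodule.mem_bot] at hym'
      subst hym'
      exact hy m₀ hm₀ m₀.zero_mem
    have hwm' : w ∈ m' := hw m' hm'p hm't hm'0
    obtain ⟨m, hm, hmm'⟩ := Ideal.exists_minimalPrimes_le (I := Ideal.span {w}) (J := m')
      ((Ideal.span_singleton_le_iff_mem _).mpr hwm')
    have hmp := hm.isPrime
    have hwm : w ∈ m := hm.1.2 (Ideal.mem_span_singleton_self w)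
    have hm0 : ⊥ < m := by
      rw [bot_lt_iff_ne_bot]
      rintro rfl
      exact hw0 (by simpa using hwm)
    rcases hmm'.eq_or_lt with h | h
    · subst h
      exact hy m hm hym'
    · exact hht m m' hmp hm'p hm0 h (Ideal.height_le_one_of_isPrincipal_of_mem_minimalPrimes _ _ hm')

/-- version with a prime `z` in place of `0` -/
theorem eq_of_lt {R : Type u} [CommRing R] [IsNoetherianRing R] (z t : Ideal R) [z.IsPrime] [t.IsPrime] (hzt : z ≤ t) (w : R)
    (hwz : w ∉ z) (hw : ∀ q : Ideal R, q.IsPrime → z ≤ q → q ≤ t → q ≠ z → w ∈ q) (q : Ideal R) (hq : q.IsPrime)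
    (hzq : z < q) (hqt : q ≤ t) : q = t := by
  let π := Ideal.Quotient.mk z
  have hπ : Function.Surjective π := Ideal.Quotient.mk_surjective
  have hker : ∀ a : Ideal R, z ≤ a → (a.map π).comap π = a := fun a ha => by
    rw [Ideal.comap_map_of_surjective _ hπ, ← RingHom.ker_eq_comap_bot, Ideal.mk_ker, sup_eq_left.mpr ha]
  have hprime : ∀ a : Ideal R, a.IsPrime → z ≤ a → (a.map π).IsPrime := fun a ha hza =>
    Ideal.map_isPrime_of_surjective hπ (by rwa [Ideal.mk_ker])
  have htp := hprime t inferInstance hzt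
  have hqp := hprime q hq hzq.le
  have h1 := eq_of_ne_bot (t.map π) (π w) (by
      intro h
      exact hwz (Ideal.Quotient.eq_zero_iff_mem.mp h)) (by
      intro a ha hat ha0
      have h2 : w ∈ a.comap π := by
        apply hw _ inferInstance
        · intro x hx
          rw [Ideal.mem_comap, Ideal.Quotient.eq_zero_iff_mem.mpr hx]
          exact a.zero_mem
        · rw [← hker t hzt]
          exact Ideal.comap_mono hat
        · intro h3
          apply ha0
          rw [← Ideal.map_comap_of_surjective π hπ a, h3, Ideal.map_quotient_self]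
      exact h2) (q.map π) hqp (Ideal.map_mono hqt) (by
      intro h4
      have h5 := hker q hzq.le
      rw [h4, ← RingHom.ker_eq_comap_bot, Ideal.mk_ker] at h5
      exact hzq.ne h5)
  rw [← hker q hzq.le, h1, hker t hzt]

theorem quasiFiniteAt_of_isolated {A V : Type u} [CommRing A] [CommRing V] [Algebra A V] [Algebra.FiniteType A V]
    (v : Ideal V) [v.IsPrime] (h : ∀ q : Ideal V, q.IsPrime → q.under A = v.under A → (q ≤ v ∨ v ≤ q) → q = v) :
    Algebra.QuasiFiniteAt A v := by
  let q : PrimeSpectrum V := ⟨v, inferInstance⟩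
  let p : PrimeSpectrum A := q.comap (algebraMap A V)
  let e := PrimeSpectrum.preimageHomeomorphFiber A V p
  suffices H : IsOpen (X := PrimeSpectrum.comap (algebraMap A V) ⁻¹' {q.comap (algebraMap A V)}) {⟨q, rfl⟩} from
    Algebra.QuasiFiniteAt.of_isOpen_singleton_fiber q H
  rw [← e.isOpen_image, Set.image_singleton]
  let x := e ⟨q, rfl⟩
  have hJ : IsJacobsonRing (p.asIdeal.Fiber V) := isJacobsonRing_of_finiteType (A := p.asIdeal.ResidueField)
  have hN : IsNoetherianRing (p.asIdeal.Fiber V) := Flat2A.Fiber.fiber_isNoetherianRing p.asIdeal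
  have hx : x.asIdeal.comap (Algebra.TensorProduct.includeRight (R := A) (A := p.asIdeal.ResidueField) (B := V)).toRingHom = v :=
    congr($(e.symm_apply_apply ⟨q, rfl⟩).1.asIdeal)
  have hinj : ∀ a b : Ideal (p.asIdeal.Fiber V),
      a.comap (Algebra.TensorProduct.includeRight (R := A) (A := p.asIdeal.ResidueField) (B := V)).toRingHom =
      b.comap (Algebra.TensorProduct.includeRight (R := A) (A := p.asIdeal.ResidueField) (B := V)).toRingHom → a = b := by
    intro a b hab
    rw [← Flat2A.Fiber.fiberIdeal_comap p.asIdeal a, hab, Flat2A.Fiber.fiberIdeal_comap]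
  have hunder : ∀ y : PrimeSpectrum (p.asIdeal.Fiber V),
      (y.asIdeal.comap (Algebra.TensorProduct.includeRight (R := A) (A := p.asIdeal.ResidueField) (B := V)).toRingHom).under A = v.under A := by
    intro y
    exact congr($((e.symm y).2).asIdeal)
  have key : IsClosed {x} ∧ StableUnderGeneralization {x} → IsOpen {x} :=
    ((PrimeSpectrum.isOpen_singleton_tfae_of_isNoetherian_of_isJacobsonRing x).out 0 2).mpr
  apply key
  constructor
  · rw [PrimeSpectrum.isClosed_singleton_iff_isMaximal]
    obtain ⟨m, hm, hle⟩ := Ideal.exists_le_maximal x.asIdeal x.2.ne_top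
    have hmp := hm.isPrime
    have h1 := h _ (inferInstance : (m.comap (Algebra.TensorProduct.includeRight (R := A) (A := p.asIdeal.ResidueField) (B := V)).toRingHom).IsPrime)
      (hunder ⟨m, hmp⟩) (Or.inr (by rw [← hx]; exact Ideal.comap_mono hle))
    have h2 : m = x.asIdeal := hinj _ _ (h1.trans hx.symm)
    rwa [← h2]
  · intro a b hab ha
    rw [Set.mem_singleton_iff] at ha ⊢
    subst ha
    rw [← PrimeSpectrum.le_iff_specializes] at hab
    have h1 := h _ (inferInstance : (b.asIdeal.comap (Algebra.TensorProduct.includeRight (R := A) (A := p.asIdeal.ResidueField) (B := V)).toRingHom).IsPrime)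
      (hunder b) (Or.inl (by rw [← hx]; exact Ideal.comap_mono hab))
    exact PrimeSpectrum.ext (hinj _ _ (h1.trans hx.symm))

theorem under_map_quotient {A A' : Type u} [CommRing A] [CommRing A'] [Algebra A A'] (z t : Ideal A') (hzt : z ≤ t) :
    (t.map (Ideal.Quotient.mk z)).under A = t.under A := by
  have hker : (t.map (Ideal.Quotient.mk z)).comap (Ideal.Quotient.mk z) = t := by
    rw [Ideal.comap_map_of_surjective _ Ideal.Quotient.mk_surjective, ← RingHom.ker_eq_comap_bot, Ideal.mk_ker, sup_eq_left.mpr hzt]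
  rw [Ideal.under_def, Ideal.under_def, IsScalarTower.algebraMap_eq A A' (A' ⧸ z), ← Ideal.comap_comap]
  congr 1

/-- existence of quasi-finite slices through a closed point of a fibre -/
theorem exists_slice {A A' : Type u} [CommRing A] [CommRing A'] [IsNoetherianRing A'] [Algebra A A'] [Algebra.FiniteType A A']
    (p : Ideal A) [p.IsPrime] (t' t : Ideal A') [t'.IsPrime] [t.IsPrime] (hle : t' ≤ t) [t.LiesOver p]
    (hmax : (FlatCA.fiberIdeal p t).IsMaximal) (h : A) (hp : h ∈ p) (hh : algebraMap A A' h ∉ t') (g : A') (hg : g ∉ t') :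
    ∃ z : Ideal A', ∃ _ : z.IsPrime, t' ≤ z ∧ z ≤ t ∧ g ∉ z ∧ ∃ _ : (t.map (Ideal.Quotient.mk z)).IsPrime,
      Algebra.QuasiFiniteAt A (t.map (Ideal.Quotient.mk z)) := by
  let Z : Set (Ideal A') := {z | z.IsPrime ∧ t' ≤ z ∧ z ≤ t ∧ algebraMap A A' h * g ∉ z}
  have hZ : Z.Nonempty := ⟨t', inferInstance, le_rfl, hle, fun hmem =>
    ((inferInstance : t'.IsPrime).mem_or_mem hmem).elim hh hg⟩
  obtain ⟨z, ⟨hzp, hz1, hz2, hz3⟩, hzmax⟩ := set_has_maximal_iff_noetherian.mpr (inferInstance : IsNoetherian A' A') Z hZ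
  have hgz : g ∉ z := fun hgz => hz3 (Ideal.mul_mem_left _ _ hgz)
  have hhz : algebraMap A A' h ∉ z := fun hhz => hz3 (Ideal.mul_mem_right _ _ hhz)
  have hslice : ∀ q : Ideal A', q.IsPrime → z < q → q ≤ t → q = t := by
    intro q hq hzq hqt
    refine eq_of_lt z t hz2 _ hz3 ?_ q hq hzq hqt
    intro a ha hza hat hne
    by_contra hcon
    exact hzmax a ⟨ha, hz1.trans hza, hat, hcon⟩ (lt_of_le_of_ne hza (Ne.symm hne))
  have hπ : Function.Surjective (Ideal.Quotient.mk z) := Ideal.Quotient.mk_surjective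
  have htp : (t.map (Ideal.Quotient.mk z)).IsPrime :=
    Ideal.map_isPrime_of_surjective hπ (by rwa [Ideal.mk_ker])
  have hker : (t.map (Ideal.Quotient.mk z)).comap (Ideal.Quotient.mk z) = t := by
    rw [Ideal.comap_map_of_surjective _ hπ, ← RingHom.ker_eq_comap_bot, Ideal.mk_ker, sup_eq_left.mpr hz2]
  refine ⟨z, hzp, hz1, hz2, hgz, htp, ?_⟩
  apply quasiFiniteAt_of_isolated
  intro q hq hunder hcomp
  rw [under_map_quotient z t hz2] at hunder
  have hzq : z ≤ q.comap (Ideal.Quotient.mk z) := by
    intro x hx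
    rw [Ideal.mem_comap, Ideal.Quotient.eq_zero_iff_mem.mpr hx]
    exact q.zero_mem
  have hover : (q.comap (Ideal.Quotient.mk z)).LiesOver p := by
    refine ⟨?_⟩
    rw [Ideal.LiesOver.over (P := t) (p := p), ← hunder, Ideal.under_def, Ideal.under_def,
      IsScalarTower.algebraMap_eq A A' (A' ⧸ z), ← Ideal.comap_comap]
    rfl
  have key : q.comap (Ideal.Quotient.mk z) = t := by
    rcases hcomp with hqt | htq
    · refine hslice _ inferInstance (lt_of_le_of_ne hzq ?_) ?_
      · intro heq
        apply hhz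
        rw [heq]
        have : h ∈ (q.comap (Ideal.Quotient.mk z)).under A := by
          rw [← hover.over]
          exact hp
        exact this
      · rw [← hker]
        exact Ideal.comap_mono hqt
    · have h1 : t ≤ q.comap (Ideal.Quotient.mk z) := by
        rw [← hker]
        exact Ideal.comap_mono htq
      have h2 : FlatCA.fiberIdeal p t ≤ FlatCA.fiberIdeal p (q.comap (Ideal.Quotient.mk z)) := Ideal.map_mono h1
      have h3 := hmax.eq_of_le (Flat2A.Fiber.fiberIdeal_isPrime p (q.comap (Ideal.Quotient.mk z))).ne_top h2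
      rw [← Flat2A.Fiber.comap_fiberIdeal p t, h3, Flat2A.Fiber.comap_fiberIdeal]
  rw [← Ideal.map_comap_of_surjective _ hπ q, key]

end Groth.Agent.Flat2B.QuasiFiniteSlice
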