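import Groth.Agent.Flat2B.FibreSpread
import Groth.Agent.Flat2B.QuasiFiniteSlice
import Groth.Agent.S0389

set_option autoImplicit false
universe u

namespace Groth.Agent.Flat2B.ImpurityNoeth

open TensorProduct

attribute [local instance] Algebra.TensorProduct.rightAlgebra

/-- a module finitely induced from `A` is free over any `κ(p)`-algebra -/
theorem free_of_residueField_algebra {A B A' B' N N' C : Type u} [CommRing A] [CommRing B] [Algebra A B] [AddCommGroup N]
    [Module B N] (p : Ideal A) [p.IsPrime] [CommRing A'] [CommRing B'] [Algebra A A'] [Algebra B B']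
    [Algebra A' B'] [Algebra A B'] [IsScalarTower A B B'] [IsScalarTower A A' B']
    [AddCommGroup N'] [Module B' N'] [Module B N'] [IsScalarTower B B' N'] [Module A' N']
    [IsScalarTower A' B' N'] (f : N →ₗ[B] N') [Algebra.IsPushout A B A' B'] (hf : IsBaseChange B' f)
    [CommRing C] [Algebra A' C] [Algebra A C] [IsScalarTower A A' C] [Algebra p.ResidueField C] [IsScalarTower A p.ResidueField C] :
    Module.Free C (C ⊗[A'] N') := by
  let _ : Module A N := Module.compHom N (algebraMap A B)
  have _ : IsScalarTower A B N := ⟨fun c s x => by rw [Algebra.smul_def, mul_smul]; rfl⟩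
  have hpo : Algebra.IsPushout A A' B B' := Algebra.IsPushout.symm inferInstance
  let e₁ : A' ⊗[A] N ≃ₗ[A'] N' :=
    (Algebra.IsPushout.cancelBaseChange A A' B B' N).symm ≪≫ₗ hf.equiv.restrictScalars A'
  let e₂ : C ⊗[A'] (A' ⊗[A] N) ≃ₗ[C] C ⊗[A'] N' := LinearEquiv.baseChange A' C _ _ e₁
  let e₃ : C ⊗[A'] (A' ⊗[A] N) ≃ₗ[C] C ⊗[A] N := TensorProduct.AlgebraTensorModule.cancelBaseChange A A' C C N
  let e₄ : C ⊗[p.ResidueField] (p.ResidueField ⊗[A] N) ≃ₗ[C] C ⊗[A] N :=
    TensorProduct.AlgebraTensorModule.cancelBaseChange A p.ResidueField C C N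
  have : Module.Free C (C ⊗[p.ResidueField] (p.ResidueField ⊗[A] N)) := inferInstance
  exact Module.Free.of_equiv (e₄ ≪≫ₗ e₃.symm ≪≫ₗ e₂)

/-- `A'/t'` localized at a prime maps injectively to `κ(t')` -/
theorem exists_not_mem_of_misses {A B A' B' N N' : Type u} [CommRing A] [CommRing B] [Algebra A B] [AddCommGroup N]
    [Module B N] (p : Ideal A) [p.IsPrime] [CommRing A'] [CommRing B'] [Algebra A A'] [Algebra B B']
    [Algebra A' B'] [Algebra A B'] [IsScalarTower A B B'] [IsScalarTower A A' B']
    [AddCommGroup N'] [Module B' N'] [Module B N'] [IsScalarTower B B' N'] [Module A' N']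
    [IsScalarTower A' B' N'] (f : N →ₗ[B] N') [Algebra.IsPushout A B A' B'] (hf : IsBaseChange B' f)
    [IsNoetherianRing A'] (t' t : Ideal A') [t'.IsPrime] [t.IsPrime] (hle : t' ≤ t) [ht : t.LiesOver p]
    (P : Ideal B') [P.IsPrime] [P.LiesOver t'] [IsNoetherianRing (t'.Fiber B')]
    (hP : FlatCA.fiberIdeal t' P ∈ associatedPrimes (t'.Fiber B') (FlatCA.fiberMod t' B' N'))
    (hcl : ∀ (P' : Ideal B') [P'.IsPrime], P ≤ P' → ¬ P'.LiesOver t) :
    ∃ h ∈ p, algebraMap A A' h ∉ t' := by
  by_contra hcon
  push Not at hcon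
  let D := A' ⧸ t'
  let π := Ideal.Quotient.mk t'
  have hπ : Function.Surjective π := Ideal.Quotient.mk_surjective
  let 𝔱 : Ideal D := t.map π
  have h𝔱 : 𝔱.IsPrime := Ideal.map_isPrime_of_surjective hπ (by rwa [Ideal.mk_ker])
  have hker : 𝔱.comap π = t := by
    rw [Ideal.comap_map_of_surjective _ hπ, ← RingHom.ker_eq_comap_bot, Ideal.mk_ker, sup_eq_left.mpr hle]
  let C := Localization.AtPrime 𝔱
  have hDinj : Function.Injective (algebraMap D t'.ResidueField) := IsFractionRing.injective D t'.ResidueField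
  have hunit : ∀ y : 𝔱.primeCompl, IsUnit (algebraMap D t'.ResidueField y) := by
    rintro ⟨y, hy⟩
    apply IsUnit.mk0
    intro h0
    apply hy
    have : y = 0 := hDinj (by rw [h0, map_zero])
    rw [this]
    exact 𝔱.zero_mem
  let j : C →+* t'.ResidueField := IsLocalization.lift (M := 𝔱.primeCompl) hunit
  have hjinj : Function.Injective j := by
    rw [injective_iff_map_eq_zero]
    intro c hc
    obtain ⟨a, s, rfl⟩ := IsLocalization.exists_mk'_eq 𝔱.primeCompl c
    rw [IsLocalization.lift_mk', Units.mul_left_eq_zero] at hc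
    have ha : a = 0 := hDinj (by rw [hc, map_zero])
    rw [ha, IsLocalization.mk'_zero]
  let _ : Algebra C t'.ResidueField := j.toAlgebra
  have _ : IsScalarTower A' C t'.ResidueField := IsScalarTower.of_algebraMap_eq fun x => by
    rw [IsScalarTower.algebraMap_apply A' D C]
    change _ = j (algebraMap D C (π x))
    rw [IsLocalization.lift_eq]
    rfl
  have htm : (IsLocalRing.maximalIdeal C).comap (algebraMap A' C) = t := by
    rw [IsScalarTower.algebraMap_eq A' D C, ← Ideal.comap_comap]
    have : (IsLocalRing.maximalIdeal C).comap (algebraMap D C) = 𝔱 := Localization.AtPrime.under_maximalIdeal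
    rw [this]
    exact hker
  -- C is a κ(p)-algebra
  have hz : p ≤ RingHom.ker (algebraMap A C) := by
    intro a ha
    rw [RingHom.mem_ker, IsScalarTower.algebraMap_apply A D C, IsScalarTower.algebraMap_apply A A' D]
    have : algebraMap A' D (algebraMap A A' a) = 0 := Ideal.Quotient.eq_zero_iff_mem.mpr (hcon a ha)
    rw [this, map_zero]
  have hu : p.primeCompl ≤ (IsUnit.submonoid C).comap (algebraMap A C) := by
    intro a ha
    rw [Submonoid.mem_comap, IsUnit.mem_submonoid_iff]
    by_contra hnu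
    have h1 : algebraMap A C a ∈ IsLocalRing.maximalIdeal C := (IsLocalRing.mem_maximalIdeal _).mpr hnu
    have h2 : algebraMap A A' a ∈ t := by
      rw [← htm, Ideal.mem_comap, ← IsScalarTower.algebraMap_apply A A' C]
      exact h1
    apply ha
    rw [ht.over]
    exact h2
  let _ : Algebra p.ResidueField C := (Ideal.ResidueField.lift p (algebraMap A C) hz hu).toAlgebra
  have _ : IsScalarTower A p.ResidueField C := IsScalarTower.of_algebraMap_eq fun x =>
    (Ideal.ResidueField.lift_algebraMap p (algebraMap A C) hz hu x).symm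
  have hfree : Module.Free C (C ⊗[A'] N') := free_of_residueField_algebra p f hf
  exact FibreSpread.not_misses_of_free t' t P hP hcl C hjinj htm

/-- spreading out a relatively associated point to a neighbourhood of the generic point of `V(t')` -/
theorem exists_generic_relAss {A' B' N' : Type u} [CommRing A'] [CommRing B'] [Algebra A' B'] [Algebra.FiniteType A' B']
    [AddCommGroup N'] [Module B' N'] [Module A' N'] [IsScalarTower A' B' N'] [Module.Finite B' N']
    (t' : Ideal A') [t'.IsPrime] (P : Ideal B') [P.IsPrime] [P.LiesOver t']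
    (hP : FlatCA.fiberIdeal t' P ∈ associatedPrimes (t'.Fiber B') (FlatCA.fiberMod t' B' N')) :
    ∃ g : A', g ∉ t' ∧ ∀ (z : Ideal A') [z.IsPrime], t' ≤ z → g ∉ z →
      ∃ ξ : Ideal B', ξ.IsPrime ∧ P ≤ ξ ∧ ξ.LiesOver z ∧
      FlatCA.fiberIdeal z ξ ∈ associatedPrimes (z.Fiber B') (FlatCA.fiberMod z B' N') := by
  have hN : IsNoetherianRing (t'.Fiber B') := Flat2A.Fiber.fiber_isNoetherianRing t'
  obtain ⟨n, hn⟩ := FibreSpread.exists_elem_of_relAss t' N' P hP
  let D := A' ⧸ t'
  let π := Ideal.Quotient.mk t'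
  have hπ : Function.Surjective π := Ideal.Quotient.mk_surjective
  let S := D ⊗[A'] B'
  let _ : Algebra B' S := Algebra.TensorProduct.rightAlgebra
  let M := S ⊗[B'] N'
  have hS : Algebra.FiniteType D S := inferInstance
  let _ : Module D M := inferInstance
  have _ : IsScalarTower D S M := inferInstance
  obtain ⟨f₀, hf₀, hfree, -⟩ := S0389.result (R := D) (S := S) (M := M)
  let C := Localization.Away f₀
  let e₁ : C ⊗[D] M ≃ₗ[C] C ⊗[D] (D ⊗[A'] N') :=
    LinearEquiv.baseChange D C _ _ (Algebra.IsPushout.cancelBaseChange A' D B' S N')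
  let e₂ : C ⊗[D] (D ⊗[A'] N') ≃ₗ[C] C ⊗[A'] N' := TensorProduct.AlgebraTensorModule.cancelBaseChange A' D C C N'
  have hfreeC : Module.Free C (C ⊗[A'] N') := Module.Free.of_equiv (e₁ ≪≫ₗ e₂)
  have hDinj : Function.Injective (algebraMap D t'.ResidueField) := IsFractionRing.injective D t'.ResidueField
  have hf₀u : IsUnit (algebraMap D t'.ResidueField f₀) := by
    apply IsUnit.mk0
    intro h0
    exact hf₀ (hDinj (by rw [h0, map_zero]))
  let j : C →+* t'.ResidueField := IsLocalization.Away.lift (S := C) f₀ hf₀u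
  have hjinj : Function.Injective j := by
    rw [injective_iff_map_eq_zero]
    intro c hc
    obtain ⟨a, s, rfl⟩ := IsLocalization.exists_mk'_eq (Submonoid.powers f₀) c
    have h1 : j (algebraMap D C a) = 0 := by
      rw [← IsLocalization.mk'_spec' C a s, map_mul, hc, mul_zero]
    have h2 : j (algebraMap D C a) = algebraMap D t'.ResidueField a := IsLocalization.Away.lift_eq f₀ hf₀u a
    have ha : a = 0 := hDinj (by rw [← h2, h1, map_zero])
    rw [ha, IsLocalization.mk'_zero]
  let _ : Algebra C t'.ResidueField := j.toAlgebra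
  have _ : IsScalarTower A' C t'.ResidueField := IsScalarTower.of_algebraMap_eq fun x => by
    rw [IsScalarTower.algebraMap_apply A' D C]
    exact (IsLocalization.Away.lift_eq f₀ hf₀u (π x)).symm
  -- the element 1 ⊗ n is nonzero
  have hne : (1 : C) ⊗ₜ[A'] n ≠ 0 := by
    intro h0
    have h1 : (1 : B') ∈ P := by
      rw [hn, one_smul]
      exact FibreSpread.one_tmul_eq_zero_of_map n h0
    exact (inferInstance : P.IsPrime).ne_top (P.eq_top_of_isUnit_mem h1 isUnit_one)
  let bas := Module.Free.chooseBasis C (C ⊗[A'] N')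
  obtain ⟨i, hi⟩ : ∃ i, bas.repr ((1 : C) ⊗ₜ[A'] n) i ≠ 0 := by
    by_contra hcon
    push Not at hcon
    apply hne
    apply bas.repr.injective
    rw [map_zero]
    ext i
    exact hcon i
  obtain ⟨a, s, hs⟩ := IsLocalization.exists_mk'_eq (Submonoid.powers f₀) (bas.repr ((1 : C) ⊗ₜ[A'] n) i)
  have ha : a ≠ 0 := by
    rintro rfl
    apply hi
    rw [← hs, IsLocalization.mk'_zero]
  obtain ⟨g, hg⟩ := hπ (f₀ * a)
  refine ⟨g, ?_, ?_⟩
  · intro hgt
    have : π g = 0 := Ideal.Quotient.eq_zero_iff_mem.mpr hgt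
    rw [hg] at this
    exact (mul_ne_zero hf₀ ha) this
  · intro z _ hz hgz
    -- D → κ(z)
    let k : D →+* z.ResidueField := Ideal.Quotient.lift t' (algebraMap A' z.ResidueField) (fun x hx => by
      rw [Ideal.algebraMap_residueField_eq_zero]
      exact hz hx)
    have hk : ∀ x, k (π x) = algebraMap A' z.ResidueField x := fun x => Ideal.Quotient.lift_mk _ _ _
    have hkg : k (f₀ * a) ≠ 0 := by
      rw [← hg, hk, Ne, Ideal.algebraMap_residueField_eq_zero]
      exact hgz
    rw [map_mul] at hkg
    have hkf : IsUnit (k f₀) := IsUnit.mk0 _ (left_ne_zero_of_mul hkg)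
    have hka : k a ≠ 0 := right_ne_zero_of_mul hkg
    let j' : C →+* z.ResidueField := IsLocalization.Away.lift (S := C) f₀ hkf
    let _ : Algebra C z.ResidueField := j'.toAlgebra
    have _ : IsScalarTower A' C z.ResidueField := IsScalarTower.of_algebraMap_eq fun x => by
      rw [IsScalarTower.algebraMap_apply A' D C]
      exact ((IsLocalization.Away.lift_eq f₀ hkf (π x)).trans (hk x)).symm
    have hNz : IsNoetherianRing (z.Fiber B') := Flat2A.Fiber.fiber_isNoetherianRing z
    refine FibreSpread.exists_relAss_over t' P n (fun b hb => (hn b).mp hb) C hjinj z (bas.coord i) ?_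
    change j' (bas.repr ((1 : C) ⊗ₜ[A'] n) i) ≠ 0
    intro h0
    apply hka
    have h1 : j' (algebraMap D C a) = k a := IsLocalization.Away.lift_eq f₀ hkf a
    rw [← h1, ← IsLocalization.mk'_spec' C a s, map_mul, hs, h0, mul_zero]

end Groth.Agent.Flat2B.ImpurityNoeth
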