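import Groth.Agent.Flat2B.TensorAss
import Groth.Agent.Flat2C.UnivInjMod
import Mathlib.RingTheory.IsTensorProduct
import Mathlib.RingTheory.Flat.FaithfullyFlat.Basic
import Mathlib.LinearAlgebra.Basis.VectorSpace

set_option autoImplicit false
universe u

namespace Groth.Agent.Flat2B.InjTransfer

open TensorProduct

section

variable {R : Type u} [CommRing R] {X Y : Type u} [AddCommGroup X] [Module R X] [AddCommGroup Y] [Module R Y]

/-- injectivity over `k` passes to a flat `k`-algebra `K`. -/
theorem lTensor_injective_of_tower (k K : Type u) [CommRing k] [CommRing K] [Algebra R k] [Algebra R K] [Algebra k K]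
    [IsScalarTower R k K] [Module.Flat k K] (v : X →ₗ[R] Y) (h : Function.Injective (v.lTensor k)) :
    Function.Injective (v.lTensor K) := by
  let e := TensorProduct.AlgebraTensorModule.cancelBaseChange R k k K X
  let e' := TensorProduct.AlgebraTensorModule.cancelBaseChange R k k K Y
  have hv : Function.Injective ((v.baseChange k).lTensor K) :=
    Module.Flat.lTensor_preserves_injective_linearMap _ h
  have hcomm : ∀ x, v.lTensor K (e x) = e' ((v.baseChange k).lTensor K x) := by
    intro x
    induction x using TensorProduct.induction_on with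
    | zero => simp
    | tmul a x =>
      induction x using TensorProduct.induction_on with
      | zero => simp
      | tmul b x => simp [e, e']
      | add x y hx hy => rw [TensorProduct.tmul_add, map_add, map_add, map_add, map_add, hx, hy]
    | add x y hx hy => rw [map_add, map_add, map_add, map_add, hx, hy]
  intro x y hxy
  apply e.symm.injective
  apply hv
  apply e'.injective
  rw [← hcomm, ← hcomm]
  simpa using hxy

/-- injectivity of `v ⊗ K` from `R` to the base change over `A`. -/
theorem baseChange_lTensor_injective (A K : Type u) [CommRing A] [CommRing K] [Algebra R A] [Algebra R K] [Algebra A K]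
    [IsScalarTower R A K] (v : X →ₗ[R] Y) (h : Function.Injective (v.lTensor K)) :
    Function.Injective ((v.baseChange A).lTensor K) := by
  let e := TensorProduct.AlgebraTensorModule.cancelBaseChange R A A K X
  let e' := TensorProduct.AlgebraTensorModule.cancelBaseChange R A A K Y
  have hcomm : ∀ x, v.lTensor K (e x) = e' ((v.baseChange A).lTensor K x) := by
    intro x
    induction x using TensorProduct.induction_on with
    | zero => simp
    | tmul a x =>
      induction x using TensorProduct.induction_on with
      | zero => simp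
      | tmul b x => simp [e, e']
      | add x y hx hy => rw [TensorProduct.tmul_add, map_add, map_add, map_add, map_add, hx, hy]
    | add x y hx hy => rw [map_add, map_add, map_add, map_add, hx, hy]
  intro x y hxy
  apply e.injective
  apply h
  rw [hcomm, hcomm, hxy]

/-- injectivity modulo the prime `p` passes to injectivity modulo the maximal ideal of a local `R`-algebra
with maximal ideal over `p` -/
theorem lTensor_quot_injective (p : Ideal R) [p.IsPrime] (A : Type u) [CommRing A] [Algebra R A]
    (m : Ideal A) [m.IsMaximal] [m.LiesOver p] (v : X →ₗ[R] Y) (h : Function.Injective (v.lTensor p.ResidueField)) :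
    Function.Injective (v.lTensor (A ⧸ m)) := by
  let _ : Field (A ⧸ m) := Ideal.Quotient.field m
  let f : p.ResidueField →+* (A ⧸ m) := Ideal.ResidueField.lift p (algebraMap R (A ⧸ m)) (by
      intro r hr
      rw [RingHom.mem_ker, IsScalarTower.algebraMap_apply R A (A ⧸ m)]
      change Ideal.Quotient.mk m (algebraMap R A r) = 0
      rw [Ideal.Quotient.eq_zero_iff_mem]
      rw [Ideal.over_def m p] at hr
      exact hr) (by
      intro r hr
      rw [Submonoid.mem_comap]
      apply IsUnit.mk0
      rw [IsScalarTower.algebraMap_apply R A (A ⧸ m)]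
      change Ideal.Quotient.mk m (algebraMap R A r) ≠ 0
      rw [Ne, Ideal.Quotient.eq_zero_iff_mem]
      intro h
      apply hr
      rw [Ideal.over_def m p]
      exact h)
  let _ : Algebra p.ResidueField (A ⧸ m) := f.toAlgebra
  have : IsScalarTower R p.ResidueField (A ⧸ m) := IsScalarTower.of_algebraMap_eq' (by
    ext r
    change _ = f (algebraMap R p.ResidueField r)
    rw [Ideal.ResidueField.lift_algebraMap])
  exact lTensor_injective_of_tower p.ResidueField (A ⧸ m) v h

end

section

/-- multiplication by an element of an `A`-algebra, as an `A`-linear map -/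
noncomputable def mulBy (A : Type u) {C : Type u} [CommRing A] [CommRing C] [Algebra A C] (F : Type u) [AddCommGroup F]
    [Module C F] [Module A F] [IsScalarTower A C F] (t : C) : F →ₗ[A] F :=
  (LinearMap.lsmul C F t).restrictScalars A

theorem mulBy_apply {A : Type u} {C : Type u} [CommRing A] [CommRing C] [Algebra A C] {F : Type u} [AddCommGroup F]
    [Module C F] [Module A F] [IsScalarTower A C F] (t : C) (x : F) : mulBy A F t x = t • x := rfl

theorem rTensor_mulBy {A : Type u} {C : Type u} [CommRing A] [CommRing C] [Algebra A C] {F : Type u} [AddCommGroup F]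
    [Module C F] [Module A F] [IsScalarTower A C F] (Q : Type u) [AddCommGroup Q] [Module A Q] (t : C) (x : F ⊗[A] Q) :
    (mulBy A F t).rTensor Q x = t • x := by
  induction x using TensorProduct.induction_on with
  | zero => simp
  | tmul a b => rw [LinearMap.rTensor_tmul, mulBy_apply, TensorProduct.smul_tmul']
  | add x y hx hy => rw [map_add, hx, hy, smul_add]

/-- `t` acts injectively on the `C`-module `F` -/
def Reg {C : Type u} [CommRing C] (F : Type u) [AddCommGroup F] [Module C F] (t : C) : Prop :=
  Function.Injective (fun x : F => t • x)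

theorem lTensor_injective_iff_reg {A : Type u} {C : Type u} [CommRing A] [CommRing C] [Algebra A C]
    {F : Type u} [AddCommGroup F]
    [Module C F] [Module A F] [IsScalarTower A C F] (Q : Type u) [AddCommGroup Q] [Module A Q] (t : C) :
    Function.Injective ((mulBy A F t).lTensor Q) ↔ Reg (F ⊗[A] Q) t := by
  rw [LinearMap.lTensor_inj_iff_rTensor_inj]
  have : ((mulBy A F t).rTensor Q : F ⊗[A] Q → F ⊗[A] Q) = fun x => t • x := by
    funext x
    exact rTensor_mulBy Q t x
  rw [this]
  rfl

theorem reg_of_equiv {C : Type u} [CommRing C] {F G : Type u} [AddCommGroup F] [AddCommGroup G]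
    [Module C F] [Module C G] (e : F ≃ₗ[C] G) {t : C} (h : Reg F t) : Reg G t := by
  intro x y hxy
  apply e.symm.injective
  apply h
  change t • e.symm x = t • e.symm y
  rw [← map_smul, ← map_smul]
  exact congrArg e.symm hxy

variable {R : Type u} [CommRing R] {S₀ A SA : Type u} [CommRing S₀] [CommRing A] [CommRing SA]
  [Algebra R S₀] [Algebra R A] [Algebra R SA] [Algebra S₀ SA] [Algebra A SA] [IsScalarTower R S₀ SA]
  [IsScalarTower R A SA] [Algebra.IsPushout R S₀ A SA]
  {N₀ : Type u} [AddCommGroup N₀] [Module S₀ N₀] [Module R N₀] [IsScalarTower R S₀ N₀]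

theorem reg_baseChange (Q : Type u) [CommRing Q] [Algebra R Q] [Algebra A Q] [IsScalarTower R A Q] (t : S₀)
    (h : Function.Injective ((mulBy R N₀ t).lTensor Q)) :
    Reg ((SA ⊗[S₀] N₀) ⊗[A] Q) (algebraMap S₀ SA t) := by
  have : Algebra.IsPushout R A S₀ SA := Algebra.IsPushout.symm inferInstance
  let e : SA ⊗[S₀] N₀ ≃ₗ[A] A ⊗[R] N₀ := Algebra.IsPushout.cancelBaseChange R A S₀ SA N₀
  have hcomm : ∀ y : A ⊗[R] N₀, e.symm ((mulBy R N₀ t).baseChange A y) =
      mulBy A (SA ⊗[S₀] N₀) (algebraMap S₀ SA t) (e.symm y) := by
    intro y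
    induction y using TensorProduct.induction_on with
    | zero => simp
    | tmul a n =>
      rw [LinearMap.baseChange_tmul]
      simp only [e, Algebra.IsPushout.cancelBaseChange_symm_tmul]
      rw [mulBy_apply, mulBy_apply, TensorProduct.tmul_smul, TensorProduct.smul_tmul', TensorProduct.smul_tmul',
        Algebra.smul_def, smul_eq_mul]
    | add x y hx hy => rw [map_add, map_add, hx, hy, map_add, map_add]
  have hinj := baseChange_lTensor_injective A Q (mulBy R N₀ t) h
  rw [← lTensor_injective_iff_reg (A := A)]
  have hcomp : (mulBy A (SA ⊗[S₀] N₀) (algebraMap S₀ SA t)) =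
      e.symm.toLinearMap ∘ₗ ((mulBy R N₀ t).baseChange A) ∘ₗ e.toLinearMap := by
    ext y
    change mulBy A (SA ⊗[S₀] N₀) (algebraMap S₀ SA t) y = e.symm ((mulBy R N₀ t).baseChange A (e y))
    rw [hcomm, LinearEquiv.symm_apply_apply]
  rw [hcomp, LinearMap.lTensor_comp, LinearMap.lTensor_comp]
  rw [LinearMap.coe_comp, LinearMap.coe_comp]
  exact ((LinearEquiv.lTensor Q e.symm).injective).comp (hinj.comp (LinearEquiv.lTensor Q e).injective)

variable {C : Type u} [CommRing C] [Algebra SA C] [Algebra A C] [IsScalarTower A SA C] [Module.Flat SA C]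

theorem reg_flat (Q : Type u) [AddCommGroup Q] [Module A Q] {NA : Type u} [AddCommGroup NA] [Module SA NA]
    [Module A NA] [IsScalarTower A SA NA] (t : SA)
    (h : Reg (NA ⊗[A] Q) t) : Reg ((C ⊗[SA] NA) ⊗[A] Q) (algebraMap SA C t) := by
  let e : (C ⊗[SA] NA) ⊗[A] Q ≃ₗ[C] C ⊗[SA] (NA ⊗[A] Q) := TensorProduct.AlgebraTensorModule.assoc A SA C C NA Q
  apply reg_of_equiv e.symm
  have h1 : Function.Injective ((LinearMap.lsmul SA (NA ⊗[A] Q) t).lTensor C) :=
    Module.Flat.lTensor_preserves_injective_linearMap _ h
  intro x y hxy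
  apply h1
  have : ∀ x : C ⊗[SA] (NA ⊗[A] Q), (LinearMap.lsmul SA (NA ⊗[A] Q) t).lTensor C x = algebraMap SA C t • x := by
    intro x
    induction x using TensorProduct.induction_on with
    | zero => simp
    | tmul a b =>
      rw [LinearMap.lTensor_tmul, LinearMap.lsmul_apply, TensorProduct.tmul_smul, TensorProduct.smul_tmul',
        TensorProduct.smul_tmul', Algebra.smul_def, smul_eq_mul]
    | add x y hx hy => rw [map_add, hx, hy, smul_add]
  rw [this, this]
  exact hxy

/-- Main transfer: an element of `S₀` acting injectively on the fibre of `N₀` over `p` acts injectively on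
`(C ⊗ (SA ⊗ N₀)) ⊗_R M` whenever `C ⊗ (SA ⊗ N₀)` is free over the local ring `A`. -/
theorem reg_of_free [IsLocalRing A] (p : Ideal R) [p.IsPrime] [(IsLocalRing.maximalIdeal A).LiesOver p]
    [Algebra R C] [IsScalarTower R A C]
    [Module.Free A (C ⊗[SA] (SA ⊗[S₀] N₀))] (t : S₀)
    (h : Function.Injective ((mulBy R N₀ t).lTensor p.ResidueField)) (M : Type u) [AddCommGroup M] [Module R M] :
    Reg ((C ⊗[SA] (SA ⊗[S₀] N₀)) ⊗[R] M) (algebraMap SA C (algebraMap S₀ SA t)) := by
  let F := C ⊗[SA] (SA ⊗[S₀] N₀)
  let c := algebraMap SA C (algebraMap S₀ SA t)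
  have hu : FlatCA.UnivInj A (mulBy A F c) := by
    apply Flat2C.UnivInjMod.univInj_of_projective
    intro m hm
    have hmm : m = IsLocalRing.maximalIdeal A := IsLocalRing.eq_maximalIdeal hm
    subst hmm
    rw [lTensor_injective_iff_reg]
    apply reg_flat
    refine reg_baseChange (R := R) (A ⧸ IsLocalRing.maximalIdeal A) t ?_
    exact lTensor_quot_injective p A _ _ h
  have h2 := hu (A ⊗[R] M)
  rw [lTensor_injective_iff_reg] at h2
  let e : F ⊗[A] (A ⊗[R] M) ≃ₗ[C] F ⊗[R] M := TensorProduct.AlgebraTensorModule.cancelBaseChange R A C F M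
  exact reg_of_equiv e h2

end

end Groth.Agent.Flat2B.InjTransfer
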