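import Mathlib.RingTheory.NoetherNormalization
import Mathlib.RingTheory.ZariskisMainTheorem
import Mathlib.RingTheory.RingHom.QuasiFinite
import Mathlib.RingTheory.MvPolynomial.Ideal
import Mathlib.RingTheory.AlgebraicIndependent.AlgebraicClosure
import Mathlib.RingTheory.KrullDimension.Polynomial
import Mathlib.RingTheory.KrullDimension.Field
import Groth.Prelude.Def_FlatCA
import Groth.Agent.Ega4B.DimFT
import Groth.Agent.VarietyB.DimTop
import Groth.Agent.S2100

/-!
# Quasi-finite maps to affine space adapted to a point (refined 00QE)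

For `R → S` of finite type and a prime `q` of `S` over `p` where the fibre has local dimension `n`,
there are `g ∉ q` and `R[x_1, …, x_n] → S_g` quasi-finite at `q` such that the preimage of `q` is
`(p, x_{r+1}, …, x_n)`.
-/

set_option autoImplicit false

universe u v

namespace Groth.Agent.Flat2B.LST1

open TensorProduct MvPolynomial TopologicalSpace Topology

/-- If `k[t_1..t_s] → A` is finite and injective then `dim A = s`. -/
theorem ringKrullDim_eq_of_finite_inj {k : Type u} {A : Type v} [Field k] [CommRing A] [Algebra k A]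
    (s : ℕ) (g : MvPolynomial (Fin s) k →ₐ[k] A) (hg : Function.Injective g)
    (hf : g.Finite) : ringKrullDim A = s := by
  have : Nontrivial A := hg.nontrivial
  algebraize [g.toRingHom]
  have hfin : Module.Finite (MvPolynomial (Fin s) k) A := hf
  have : FaithfulSMul (MvPolynomial (Fin s) k) A :=
    (faithfulSMul_iff_algebraMap_injective _ _).mpr hg
  have hst : IsScalarTower k (MvPolynomial (Fin s) k) A := .of_algebraMap_eq' (by
    ext x; simp [RingHom.algebraMap_toAlgebra])
  apply le_antisymm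
  · have h1 : ringKrullDim (MvPolynomial (Fin s) k) = s := by
      rw [MvPolynomial.ringKrullDim_of_isNoetherianRing, ringKrullDim_eq_zero_of_field]
      simp
    rw [← h1]
    refine Order.krullDim_le_of_strictMono (PrimeSpectrum.comap (algebraMap (MvPolynomial (Fin s) k) A)) ?_
    intro P Q hPQ
    exact Ideal.IsIntegral.comap_lt_comap hPQ
  · obtain ⟨P, -, hP, hP2⟩ := Ideal.exists_ideal_over_prime_of_isIntegral (S := A)
      (⊥ : Ideal (MvPolynomial (Fin s) k)) ⊥ (by
        rw [← RingHom.ker_eq_comap_bot, (RingHom.injective_iff_ker_eq_bot _).mp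
          (FaithfulSMul.algebraMap_injective (MvPolynomial (Fin s) k) A)])
    have hinj : Function.Injective (algebraMap (MvPolynomial (Fin s) k) (A ⧸ P)) := by
      rw [RingHom.injective_iff_ker_eq_bot, IsScalarTower.algebraMap_eq _ A (A ⧸ P),
        ← RingHom.comap_ker, Ideal.Quotient.algebraMap_eq, Ideal.mk_ker, hP2]
    have : FaithfulSMul (MvPolynomial (Fin s) k) (A ⧸ P) :=
      (faithfulSMul_iff_algebraMap_injective _ _).mpr hinj
    have : Algebra.FiniteType k A :=
      Algebra.FiniteType.trans (S := MvPolynomial (Fin s) k) inferInstance inferInstance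
    obtain ⟨m, hm1, hm2⟩ := Groth.Agent.Ega4B.DimFT.exists_dim k (A ⧸ P)
    have h := lift_trdeg_add_eq k (MvPolynomial (Fin s) k) (A ⧸ P)
    rw [trdeg_eq_zero (R := MvPolynomial (Fin s) k) (A := A ⧸ P), MvPolynomial.trdeg_of_isDomain,
      hm1] at h
    simp at h
    subst h
    rw [← hm2]
    exact ringKrullDim_quotient_le P


/-- The prime `(p, x_i : i ∈ s)` of `R[x]` is the preimage of `(x_i : i ∈ s) ⊂ κ(p)[x]`. -/
theorem comap_span_X {R : Type u} [CommRing R] (p : Ideal R) [p.IsPrime] {σ : Type v} (s : Set σ) :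
    (Ideal.span (X '' s : Set (MvPolynomial σ p.ResidueField))).comap
      (MvPolynomial.map (algebraMap R p.ResidueField)) = p.map C ⊔ Ideal.span (X '' s) := by
  apply le_antisymm
  · intro f hf
    rw [Ideal.mem_comap, mem_ideal_span_X_image] at hf
    rw [f.as_sum]
    refine Ideal.sum_mem _ fun m hm ↦ ?_
    by_cases h : coeff m f ∈ p
    · refine Ideal.mem_sup_left ?_
      rw [show monomial m (coeff m f) = monomial m 1 * C (coeff m f) by
        rw [mul_comm, C_mul_monomial, mul_one]]
      exact Ideal.mul_mem_left _ _ (Ideal.mem_map_of_mem _ h)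
    · refine Ideal.mem_sup_right ?_
      have h2 : m ∈ (MvPolynomial.map (algebraMap R p.ResidueField) f).support := by
        rw [mem_support_iff, coeff_map]
        simpa using h
      obtain ⟨i, hi, hmi⟩ := hf m h2
      rw [mem_ideal_span_X_image]
      intro m' hm'
      have : m' = m := by
        have := support_monomial_subset hm'
        simpa using this
      subst this
      exact ⟨i, hi, hmi⟩
  · rw [sup_le_iff, Ideal.map_le_iff_le_comap, Ideal.span_le]
    constructor
    · intro a ha
      simp only [Ideal.mem_comap, map_C]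
      rw [Ideal.algebraMap_residueField_eq_zero.mpr ha, C_0]
      exact zero_mem _
    · rintro _ ⟨i, hi, rfl⟩
      simp only [SetLike.mem_coe, Ideal.mem_comap, map_X]
      exact Ideal.subset_span ⟨i, hi, rfl⟩


/-- The localization of the fibre is the fibre of the localization. -/
theorem exists_isOpenEmbedding_fiber {R S : Type u} [CommRing R] [CommRing S] [Algebra R S]
    (p : Ideal R) [p.IsPrime] (g : S) :
    ∃ f : PrimeSpectrum (p.Fiber (Localization.Away g)) → PrimeSpectrum (p.Fiber S),
      IsOpenEmbedding f ∧ Set.range f = PrimeSpectrum.basicOpen (1 ⊗ₜ g : p.Fiber S) ∧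
      (∀ Q, (f Q).asIdeal = Q.asIdeal.comap (Algebra.TensorProduct.map (AlgHom.id R p.ResidueField)
        (IsScalarTower.toAlgHom R S (Localization.Away g)))) := by
  let : Algebra (p.Fiber S) (p.Fiber (Localization.Away g)) :=
    (Algebra.TensorProduct.map (AlgHom.id R p.ResidueField)
      (IsScalarTower.toAlgHom R S (Localization.Away g))).toAlgebra
  have : IsScalarTower p.ResidueField (p.Fiber S) (p.Fiber (Localization.Away g)) :=
    IsScalarTower.of_algebraMap_eq (R := p.ResidueField) (S := p.Fiber S)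
      (A := p.Fiber (Localization.Away g)) fun x ↦ by
      change x ⊗ₜ[R] (1 : Localization.Away g) = (Algebra.TensorProduct.map (AlgHom.id R p.ResidueField)
        (IsScalarTower.toAlgHom R S (Localization.Away g))) (x ⊗ₜ[R] 1)
      simp
  have H := IsLocalization.tensorProduct_tensorProduct_right R p.ResidueField
    (Submonoid.powers g) (Localization.Away g)
    (by ext; simp [RingHom.algebraMap_toAlgebra])
  have : IsLocalization.Away (1 ⊗ₜ g : p.Fiber S) (p.Fiber (Localization.Away g)) := by
    have : Submonoid.map (Algebra.TensorProduct.includeRight (R := R) (A := p.ResidueField))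
      (Submonoid.powers g) = Submonoid.powers (1 ⊗ₜ g : p.Fiber S) := by
      simp [Submonoid.map_powers]
    rw [this] at H
    exact H
  refine ⟨PrimeSpectrum.comap (algebraMap (p.Fiber S) (p.Fiber (Localization.Away g))), ?_, ?_, ?_⟩
  · exact PrimeSpectrum.localization_away_isOpenEmbedding _ (1 ⊗ₜ g : p.Fiber S)
  · exact PrimeSpectrum.localization_away_comap_range _ (1 ⊗ₜ g : p.Fiber S)
  · intro Q
    rfl

theorem comap_fiberIdeal {R S : Type u} [CommRing R] [CommRing S] [Algebra R S]
    (p : Ideal R) [p.IsPrime] (q : Ideal S) [q.IsPrime] [q.LiesOver p] :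
    (FlatCA.fiberIdeal p q).comap
      (Algebra.TensorProduct.includeRight (R := R) (A := p.ResidueField) (B := S)).toRingHom = q := by
  apply le_antisymm
  · let e := PrimeSpectrum.preimageHomeomorphFiber R S ⟨p, inferInstance⟩
    let qF : PrimeSpectrum (p.Fiber S) := e ⟨⟨q, ‹_›⟩, PrimeSpectrum.ext (q.over_def p).symm⟩
    have h1 : qF.asIdeal.comap
      (Algebra.TensorProduct.includeRight (R := R) (A := p.ResidueField) (B := S)).toRingHom = q :=
      congr($(e.symm_apply_apply ⟨⟨q, ‹_›⟩, PrimeSpectrum.ext (q.over_def p).symm⟩).1.1)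
    have h2 : FlatCA.fiberIdeal p q ≤ qF.asIdeal := by
      rw [FlatCA.fiberIdeal, Ideal.map_le_iff_le_comap, h1]
    exact (Ideal.comap_mono h2).trans h1.le
  · exact Ideal.le_comap_map

theorem exists_away {R S : Type u} [CommRing R] [CommRing S] [Algebra R S]
    (p : Ideal R) [p.IsPrime] (q : Ideal S) [q.IsPrime] [q.LiesOver p] (n : ℕ)
    (x : PrimeSpectrum (p.Fiber S)) (hxq : x.asIdeal = FlatCA.fiberIdeal p q)
    (hn : FlatMor.localDim (PrimeSpectrum (p.Fiber S)) x = n) :
    ∃ g : S, g ∉ q ∧ (1 ⊗ₜ g : p.Fiber S) ∉ x.asIdeal ∧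
      ringKrullDim (p.Fiber (Localization.Away g)) = n := by
  obtain ⟨⟨U, hxU⟩, hU⟩ : ∃ U : {U : Opens (PrimeSpectrum (p.Fiber S)) // x ∈ U},
      topologicalKrullDim (U.1 : Set (PrimeSpectrum (p.Fiber S))) = n := by
    have := csInf_mem (s := Set.range fun U : {U : Opens (PrimeSpectrum (p.Fiber S)) // x ∈ U} ↦
      topologicalKrullDim (U.1 : Set (PrimeSpectrum (p.Fiber S)))) ⟨_, ⟨⟨⊤, trivial⟩, rfl⟩⟩
    obtain ⟨U, hU⟩ := this
    exact ⟨U, hU.trans hn⟩
  obtain ⟨_, ⟨_, ⟨a, rfl⟩, rfl⟩, hxa, haU⟩ := PrimeSpectrum.isBasis_basic_opens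
    |>.exists_subset_of_mem_open hxU U.isOpen
  obtain ⟨r, hr, g, hg⟩ := Ideal.Fiber.exists_smul_eq_one_tmul p a
  have hru : IsUnit (algebraMap R (p.Fiber S) r) := by
    rw [IsScalarTower.algebraMap_apply R p.ResidueField (p.Fiber S)]
    refine IsUnit.map _ ?_
    rw [isUnit_iff_ne_zero, Ne, Ideal.algebraMap_residueField_eq_zero]
    exact hr
  have hD : PrimeSpectrum.basicOpen (1 ⊗ₜ g : p.Fiber S) = PrimeSpectrum.basicOpen a := by
    ext y
    simp only [SetLike.mem_coe, PrimeSpectrum.mem_basicOpen]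
    rw [← hg, Algebra.smul_def, y.isPrime.mul_mem_iff_mem_or_mem]
    have : algebraMap R (p.Fiber S) r ∉ y.asIdeal := fun h ↦
      y.isPrime.ne_top (Ideal.eq_top_of_isUnit_mem _ h hru)
    tauto
  have hgx : (1 ⊗ₜ g : p.Fiber S) ∉ x.asIdeal := by
    have : x ∈ PrimeSpectrum.basicOpen (1 ⊗ₜ g : p.Fiber S) := by rw [hD]; exact hxa
    exact this
  refine ⟨g, ?_, hgx, ?_⟩
  · intro hgq
    apply hgx
    rw [hxq]
    exact Ideal.mem_map_of_mem _ hgq
  · obtain ⟨f, hf, hfr, -⟩ := exists_isOpenEmbedding_fiber p g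
    rw [← PrimeSpectrum.topologicalKrullDim_eq_ringKrullDim]
    apply le_antisymm
    · rw [← hU]
      have h1 : topologicalKrullDim (PrimeSpectrum (p.Fiber (Localization.Away g))) =
        topologicalKrullDim (Set.univ : Set (PrimeSpectrum (p.Fiber (Localization.Away g)))) :=
        (IsHomeomorph.topologicalKrullDim_eq _ (Homeomorph.Set.univ _).isHomeomorph).symm
      rw [h1]
      refine VarietyB.DimTop.topologicalKrullDim_le_of_isEmbedding hf.isInducing _ _ fun y _ ↦ ?_
      apply haU
      rw [← hD, ← hfr]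
      exact ⟨y, rfl⟩
    · have hx' : x ∈ Set.range f := by
        rw [hfr]; exact hgx
      obtain ⟨y, rfl⟩ := hx'
      rw [← hn, ← VarietyB.DimTop.localDim_eq_of_isOpenEmbedding hf y]
      exact VarietyB.DimTop.localDim_le_dim y


/-- Finiteness of the fibre over the point `y` of affine space. -/
theorem finite_fiber {R S₁ : Type u} [CommRing R] [CommRing S₁] [Algebra R S₁] (p : Ideal R)
    [p.IsPrime] (n : ℕ) [Algebra (MvPolynomial (Fin n) R) S₁] [IsScalarTower R (MvPolynomial (Fin n) R) S₁]
    (ψ : MvPolynomial (Fin n) p.ResidueField →ₐ[p.ResidueField] p.Fiber S₁) (hfin : ψ.Finite)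
    (c : Fin n → p.ResidueField)
    (hc : ∀ i, ψ (X i) = c i • (1 ⊗ₜ algebraMap (MvPolynomial (Fin n) R) S₁ (X i) : p.Fiber S₁))
    (y : Ideal (MvPolynomial (Fin n) R)) [y.IsPrime] [y.LiesOver p] :
    Module.Finite y.ResidueField (y.Fiber S₁) := by
  classical
  have hyp : p = y.comap (algebraMap R (MvPolynomial (Fin n) R)) := Ideal.over_def y p
  let κ : p.ResidueField →ₐ[R] y.ResidueField := Ideal.ResidueField.mapₐ p y (Algebra.ofId R _) hyp
  -- the map `p.Fiber S₁ → y.Fiber S₁`
  let ρ : p.Fiber S₁ →ₐ[R] y.Fiber S₁ := Algebra.TensorProduct.lift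
    (((Algebra.ofId y.ResidueField (y.Fiber S₁)).restrictScalars R).comp κ)
    ((Algebra.TensorProduct.includeRight (R := MvPolynomial (Fin n) R) (A := y.ResidueField)
      (B := S₁)).restrictScalars R) (fun _ _ ↦ Commute.all _ _)
  -- evaluation `κ(p)[x] → κ(y)`
  let ev : MvPolynomial (Fin n) p.ResidueField →+* y.ResidueField := MvPolynomial.eval₂Hom κ.toRingHom
    (fun i ↦ κ (c i) * algebraMap (MvPolynomial (Fin n) R) y.ResidueField (X i))
  have hρ : ∀ f, ρ (ψ f) = algebraMap y.ResidueField (y.Fiber S₁) (ev f) := by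
    have : ρ.toRingHom.comp ψ.toRingHom = (algebraMap y.ResidueField (y.Fiber S₁)).comp ev := by
      apply MvPolynomial.ringHom_ext
      · intro a
        have : ψ (C a) = a ⊗ₜ 1 := by
          rw [← MvPolynomial.algebraMap_eq, AlgHom.commutes]; rfl
        simp only [AlgHom.toRingHom_eq_coe, RingHom.coe_comp, RingHom.coe_coe, Function.comp_apply,
          this, ev, MvPolynomial.coe_eval₂Hom, MvPolynomial.eval₂_C]
        simp [ρ, Algebra.ofId_apply]
      · intro i
        simp only [AlgHom.toRingHom_eq_coe, RingHom.coe_comp, RingHom.coe_coe, Function.comp_apply,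
          hc, ev, MvPolynomial.coe_eval₂Hom, MvPolynomial.eval₂_X, map_mul]
        rw [TensorProduct.smul_tmul', smul_eq_mul, mul_one]
        simp only [ρ, Algebra.TensorProduct.lift_tmul, AlgHom.coe_comp, Function.comp_apply,
          AlgHom.coe_restrictScalars', Algebra.ofId_apply, Algebra.TensorProduct.includeRight_apply]
        congr 1
        rw [← Algebra.TensorProduct.includeRight_apply, AlgHom.commutes]
        rfl
    intro f
    exact congr($this f)
  obtain ⟨s, hs⟩ : ∃ s : Finset (p.Fiber S₁), ∀ a : p.Fiber S₁, ∃ l : p.Fiber S₁ → MvPolynomial (Fin n) p.ResidueField,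
      a = ∑ b ∈ s, ψ (l b) * b := by
    algebraize [ψ.toRingHom]
    have : Module.Finite (MvPolynomial (Fin n) p.ResidueField) (p.Fiber S₁) := hfin
    obtain ⟨s, hs⟩ := this.fg_top
    refine ⟨s, fun a ↦ ?_⟩
    have : a ∈ Submodule.span (MvPolynomial (Fin n) p.ResidueField) (s : Set (p.Fiber S₁)) := by
      rw [hs]; trivial
    rw [Submodule.mem_span_finset] at this
    obtain ⟨l, -, hl⟩ := this
    refine ⟨l, ?_⟩
    rw [← hl]
    rfl
  refine ⟨⟨s.image ρ, ?_⟩⟩
  rw [eq_top_iff]
  rintro z -
  induction z using TensorProduct.induction_on with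
  | zero => exact zero_mem _
  | add a b ha hb => exact add_mem ha hb
  | tmul k b =>
    rw [show k ⊗ₜ[MvPolynomial (Fin n) R] b = k • (1 ⊗ₜ[MvPolynomial (Fin n) R] b) by
      rw [TensorProduct.smul_tmul', smul_eq_mul, mul_one]]
    refine Submodule.smul_mem _ _ ?_
    have h1 : (1 ⊗ₜ[MvPolynomial (Fin n) R] b : y.Fiber S₁) = ρ (1 ⊗ₜ b) := by
      simp [ρ]
    rw [h1]
    obtain ⟨l, hl⟩ := hs (1 ⊗ₜ b)
    rw [hl, map_sum]
    refine Submodule.sum_mem _ fun b' hb' ↦ ?_
    rw [map_mul, hρ, ← Algebra.smul_def]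
    refine Submodule.smul_mem _ _ (Submodule.subset_span ?_)
    simp only [Finset.coe_image, Set.mem_image, SetLike.mem_coe]
    exact ⟨b', hb', rfl⟩

/-- Scaling the variables by units. -/
theorem comap_scale {k : Type u} [Field k] {σ : Type v} (a : σ → k) (ha : ∀ i, a i ≠ 0) (T : Set σ) :
    (Ideal.span (X '' T) : Ideal (MvPolynomial σ k)).comap
      (MvPolynomial.aeval (fun i ↦ a i • (X i : MvPolynomial σ k)) :
        MvPolynomial σ k →ₐ[k] MvPolynomial σ k) =
      Ideal.span (X '' T) := by
  have key : ∀ (a : σ → k), (Ideal.span (X '' T) : Ideal (MvPolynomial σ k)) ≤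
      (Ideal.span (X '' T)).comap (MvPolynomial.aeval (fun i ↦ a i • (X i : MvPolynomial σ k)) :
        MvPolynomial σ k →ₐ[k] MvPolynomial σ k) := by
    intro a
    rw [Ideal.span_le]
    rintro _ ⟨i, hi, rfl⟩
    simp only [Ideal.coe_comap, Set.mem_preimage, MvPolynomial.aeval_X, SetLike.mem_coe]
    exact Submodule.smul_of_tower_mem _ _ (Ideal.subset_span ⟨i, hi, rfl⟩)
  apply le_antisymm
  · intro f hf
    have h1 := key (fun i ↦ (a i)⁻¹) hf
    rw [Ideal.mem_comap, ← AlgHom.comp_apply] at h1
    have h2 : (MvPolynomial.aeval (fun i ↦ (a i)⁻¹ • (X i : MvPolynomial σ k)) :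
        MvPolynomial σ k →ₐ[k] MvPolynomial σ k).comp (MvPolynomial.aeval (fun i ↦ a i • (X i : MvPolynomial σ k)) :
        MvPolynomial σ k →ₐ[k] MvPolynomial σ k) = AlgHom.id k _ := by
      ext1 i
      simp only [AlgHom.coe_comp, Function.comp_apply, MvPolynomial.aeval_X, map_smul,
        smul_smul, AlgHom.coe_id, id_eq]
      rw [mul_inv_cancel₀ (ha i), one_smul]
    rw [h2] at h1
    exact h1
  · exact key a

theorem quasiFiniteAt_of_finite_fiber {P S₁ : Type u} [CommRing P] [CommRing S₁] [Algebra P S₁]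
    [Algebra.FiniteType P S₁] (Q : Ideal S₁) [Q.IsPrime] (y : Ideal P) [y.IsPrime] [Q.LiesOver y]
    [Module.Finite y.ResidueField (y.Fiber S₁)] : Algebra.QuasiFiniteAt P Q := by
  let e := PrimeSpectrum.preimageHomeomorphFiber P S₁ ⟨y, inferInstance⟩
  let qF : PrimeSpectrum (y.Fiber S₁) := e ⟨⟨Q, ‹_›⟩, PrimeSpectrum.ext (Q.over_def y).symm⟩
  have h1 : qF.asIdeal.comap
    (Algebra.TensorProduct.includeRight (R := P) (A := y.ResidueField) (B := S₁)).toRingHom = Q :=
    congr($(e.symm_apply_apply ⟨⟨Q, ‹_›⟩, PrimeSpectrum.ext (Q.over_def y).symm⟩).1.1)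
  exact Algebra.QuasiFiniteAt.of_quasiFiniteAt_residueField y Q qF.asIdeal h1

theorem comap_algebraMap_of_fiber {R S₁ : Type u} [CommRing R] [CommRing S₁] [Algebra R S₁]
    (p : Ideal R) [p.IsPrime] (QA : Ideal (p.Fiber S₁)) [QA.IsPrime] :
    (QA.comap (Algebra.TensorProduct.includeRight (R := R) (A := p.ResidueField)
      (B := S₁)).toRingHom).comap (algebraMap R S₁) = p := by
  rw [Ideal.comap_comap]
  have : (Algebra.TensorProduct.includeRight (R := R) (A := p.ResidueField)
    (B := S₁)).toRingHom.comp (algebraMap R S₁) = (algebraMap p.ResidueField (p.Fiber S₁)).comp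
      (algebraMap R p.ResidueField) := by
    ext x
    simp only [AlgHom.toRingHom_eq_coe, RingHom.coe_comp, RingHom.coe_coe, Function.comp_apply,
      AlgHom.commutes]
    rfl
  rw [this, ← Ideal.comap_comap]
  have hbot : QA.comap (algebraMap p.ResidueField (p.Fiber S₁)) = ⊥ := by
    have := Ideal.comap_isPrime (algebraMap p.ResidueField (p.Fiber S₁)) QA
    exact (Ideal.eq_bot_or_top _).resolve_right this.ne_top
  rw [hbot, ← RingHom.ker_eq_comap_bot, Ideal.ker_algebraMap_residueField]

theorem comm_square {R S₁ : Type u} [CommRing R] [CommRing S₁] [Algebra R S₁] (p : Ideal R)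
    [p.IsPrime] (n : ℕ)
    (ψ : MvPolynomial (Fin n) p.ResidueField →ₐ[p.ResidueField] p.Fiber S₁)
    (b : Fin n → S₁) (hb : ∀ i, ψ (X i) = 1 ⊗ₜ b i) :
    (Algebra.TensorProduct.includeRight (R := R) (A := p.ResidueField)
      (B := S₁)).toRingHom.comp (MvPolynomial.aeval b : MvPolynomial (Fin n) R →ₐ[R] S₁).toRingHom =
      ψ.toRingHom.comp (MvPolynomial.map (algebraMap R p.ResidueField)) := by
  apply MvPolynomial.ringHom_ext
  · intro a
    simp only [AlgHom.toRingHom_eq_coe, RingHom.coe_comp, RingHom.coe_coe, Function.comp_apply,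
      MvPolynomial.map_C, MvPolynomial.aeval_C, AlgHom.commutes]
    rw [← MvPolynomial.algebraMap_eq, AlgHom.commutes]
    exact IsScalarTower.algebraMap_apply R p.ResidueField (p.Fiber S₁) a
  · intro i
    simp only [AlgHom.toRingHom_eq_coe, RingHom.coe_comp, RingHom.coe_coe, Function.comp_apply,
      MvPolynomial.map_X, hb, MvPolynomial.aeval_X, Algebra.TensorProduct.includeRight_apply]

theorem comap_aeval {R S₁ : Type u} [CommRing R] [CommRing S₁] [Algebra R S₁] (p : Ideal R)
    [p.IsPrime] (n : ℕ)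
    (ψ : MvPolynomial (Fin n) p.ResidueField →ₐ[p.ResidueField] p.Fiber S₁)
    (b : Fin n → S₁) (hb : ∀ i, ψ (X i) = 1 ⊗ₜ b i)
    (QA : Ideal (p.Fiber S₁)) (T : Set (Fin n)) (hT : QA.comap ψ = Ideal.span (X '' T)) :
    (QA.comap (Algebra.TensorProduct.includeRight (R := R) (A := p.ResidueField)
      (B := S₁)).toRingHom).comap (MvPolynomial.aeval b : MvPolynomial (Fin n) R →ₐ[R] S₁).toRingHom =
      p.map C ⊔ Ideal.span (X '' T) := by
  rw [Ideal.comap_comap, comm_square p n ψ b hb, ← Ideal.comap_comap, ← comap_span_X, ← hT]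
  rfl

theorem quasiFiniteAt_aeval {R S₁ : Type u} [CommRing R] [CommRing S₁] [Algebra R S₁]
    [Algebra.FiniteType R S₁] (p : Ideal R)
    [p.IsPrime] (n : ℕ)
    (ψ : MvPolynomial (Fin n) p.ResidueField →ₐ[p.ResidueField] p.Fiber S₁) (hfin : ψ.Finite)
    (b : Fin n → S₁) (hb : ∀ i, ψ (X i) = 1 ⊗ₜ b i) (Q : Ideal S₁) [Q.IsPrime] [Q.LiesOver p] :
    (MvPolynomial.aeval b : MvPolynomial (Fin n) R →ₐ[R] S₁).toRingHom.QuasiFiniteAt Q := by
  algebraize [(MvPolynomial.aeval b : MvPolynomial (Fin n) R →ₐ[R] S₁).toRingHom]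
  have hst : IsScalarTower R (MvPolynomial (Fin n) R) S₁ := .of_algebraMap_eq' (by
    ext x
    simp [RingHom.algebraMap_toAlgebra])
  have hft : Algebra.FiniteType (MvPolynomial (Fin n) R) S₁ :=
    .of_restrictScalars_finiteType R _ _
  let y : Ideal (MvPolynomial (Fin n) R) := Q.comap (algebraMap (MvPolynomial (Fin n) R) S₁)
  have hQy : Q.LiesOver y := ⟨rfl⟩
  have hyp : y.LiesOver p := by
    constructor
    rw [Ideal.over_def Q p, Ideal.under, IsScalarTower.algebraMap_eq R (MvPolynomial (Fin n) R) S₁,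
      ← Ideal.comap_comap]
  have hfib : Module.Finite y.ResidueField (y.Fiber S₁) := by
    refine finite_fiber p n ψ hfin (fun i ↦ 1) (fun i ↦ ?_) y
    have h1 : algebraMap (MvPolynomial (Fin n) R) S₁ (X i) = b i := by
      simp [RingHom.algebraMap_toAlgebra]
    rw [h1, hb, one_smul]
  exact quasiFiniteAt_of_finite_fiber Q y

/-- Lifting a finite map from affine space over the residue field to a quasi-finite one. -/
theorem lift_quasiFinite {R S₁ : Type u} [CommRing R] [CommRing S₁] [Algebra R S₁]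
    [Algebra.FiniteType R S₁] (p : Ideal R)
    [p.IsPrime] (n : ℕ)
    (ψ : MvPolynomial (Fin n) p.ResidueField →ₐ[p.ResidueField] p.Fiber S₁) (hfin : ψ.Finite)
    (QA : Ideal (p.Fiber S₁)) [QA.IsPrime] (T : Set (Fin n)) (hT : QA.comap ψ = Ideal.span (X '' T))
    (Q : Ideal S₁) [Q.IsPrime]
    (hQ : QA.comap (Algebra.TensorProduct.includeRight (R := R) (A := p.ResidueField)
      (B := S₁)).toRingHom = Q) :
    ∃ φ : MvPolynomial (Fin n) R →ₐ[R] S₁, Q.comap φ.toRingHom = p.map C ⊔ Ideal.span (X '' T) ∧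
      φ.toRingHom.QuasiFiniteAt Q := by
  choose r hr b hb using fun i ↦ Ideal.Fiber.exists_smul_eq_one_tmul p (ψ (X i))
  have hr0 : ∀ i, algebraMap R p.ResidueField (r i) ≠ 0 := fun i ↦ by
    rw [Ne, Ideal.algebraMap_residueField_eq_zero]; exact hr i
  -- the scaled map
  let σ : MvPolynomial (Fin n) p.ResidueField →ₐ[p.ResidueField] MvPolynomial (Fin n) p.ResidueField :=
    MvPolynomial.aeval (fun i ↦ algebraMap R p.ResidueField (r i) • X i)
  let ψ' := ψ.comp σ
  have hb' : ∀ i, ψ' (X i) = 1 ⊗ₜ b i := by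
    intro i
    rw [← hb i]
    simp only [ψ', σ, AlgHom.comp_apply, MvPolynomial.aeval_X, map_smul]
    rw [algebraMap_smul]
  have hσsurj : Function.Surjective σ := by
    rw [← AlgHom.range_eq_top, eq_top_iff, ← MvPolynomial.adjoin_range_X, Algebra.adjoin_le_iff]
    rintro _ ⟨i, rfl⟩
    refine ⟨(algebraMap R p.ResidueField (r i))⁻¹ • X i, ?_⟩
    simp only [σ, AlgHom.toRingHom_eq_coe, RingHom.coe_coe, map_smul, MvPolynomial.aeval_X]
    rw [smul_smul, inv_mul_cancel₀ (hr0 i), one_smul]
  have hfin' : ψ'.Finite := hfin.comp (AlgHom.Finite.of_surjective _ hσsurj)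
  have hT' : QA.comap ψ' = Ideal.span (X '' T) := by
    have : QA.comap ψ' = (QA.comap ψ).comap σ := rfl
    rw [this, hT]
    exact comap_scale _ hr0 T
  have hQp : Q.LiesOver p := ⟨by
    rw [← hQ]
    exact (comap_algebraMap_of_fiber p QA).symm⟩
  refine ⟨MvPolynomial.aeval b, ?_, quasiFiniteAt_aeval p n ψ' hfin' b hb' Q⟩
  rw [← hQ]
  exact comap_aeval p n ψ' b hb' QA T hT'

/-- The transcendence degree of the residue field of a prime of a finite type algebra is finite. -/
theorem exists_trdeg_residueField {k : Type u} [Field k] {A : Type u} [CommRing A] [Algebra k A]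
    [Algebra.FiniteType k A] (q : Ideal A) [q.IsPrime] :
    ∃ r : ℕ, Algebra.trdeg k q.ResidueField = r := by
  obtain ⟨m, hm1, -⟩ := Groth.Agent.Ega4B.DimFT.exists_dim k (A ⧸ q)
  refine ⟨m, ?_⟩
  have : Algebra.IsAlgebraic (A ⧸ q) q.ResidueField := IsLocalization.isAlgebraic _ (nonZeroDivisors (A ⧸ q))
  have h := lift_trdeg_add_eq k (A ⧸ q) q.ResidueField
  rw [trdeg_eq_zero (R := A ⧸ q) (A := q.ResidueField), hm1] at h
  simpa using h.symm

/-- Refined 00QE. -/
theorem exists_quasiFinite_affineSpace {R S : Type u} [CommRing R] [CommRing S] [Algebra R S]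
    [Algebra.FiniteType R S]
    (p : Ideal R) [p.IsPrime] (q : Ideal S) [q.IsPrime] [q.LiesOver p] (n : ℕ)
    (x : PrimeSpectrum (p.Fiber S)) (hxq : x.asIdeal = FlatCA.fiberIdeal p q)
    (hn : FlatMor.localDim (PrimeSpectrum (p.Fiber S)) x = n) :
    ∃ (g : S) (φ : MvPolynomial (Fin n) R →ₐ[R] Localization.Away g)
      (Q : Ideal (Localization.Away g)) (_ : Q.IsPrime) (r : ℕ), g ∉ q ∧
      Q.comap (algebraMap S (Localization.Away g)) = q ∧
      Q.comap φ.toRingHom = p.map C ⊔ Ideal.span (X '' {i : Fin n | r ≤ (i : ℕ)}) ∧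
      φ.toRingHom.QuasiFiniteAt Q := by
  obtain ⟨g, hgq, hgx, hdim⟩ := exists_away p q n x hxq hn
  obtain ⟨f, hf, hfr, hfi⟩ := exists_isOpenEmbedding_fiber p g
  obtain ⟨QA, hQA⟩ : x ∈ Set.range f := by rw [hfr]; exact hgx
  have : Nontrivial (p.Fiber (Localization.Away g)) := ⟨0, 1, fun h ↦ QA.isPrime.ne_top
    ((Ideal.eq_top_iff_one _).mpr (by rw [← h]; exact zero_mem _))⟩
  obtain ⟨s, ψ, hψ, hψf⟩ := exists_finite_inj_algHom_of_fg p.ResidueField (p.Fiber (Localization.Away g))
  have hs : s = n := by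
    have := ringKrullDim_eq_of_finite_inj s ψ hψ hψf
    rw [hdim] at this
    exact_mod_cast this.symm
  subst hs
  obtain ⟨r, hr⟩ := exists_trdeg_residueField (k := p.ResidueField) (QA.asIdeal.comap ψ)
  obtain ⟨φ₀, hφ₀, hφ₀q⟩ := Groth.Agent.S2100.result s r (QA.asIdeal.comap ψ) hr
  let Q : Ideal (Localization.Away g) := QA.asIdeal.comap (Algebra.TensorProduct.includeRight (R := R)
    (A := p.ResidueField) (B := Localization.Away g)).toRingHom
  obtain ⟨φ, hφ, hφQ⟩ := lift_quasiFinite p s (ψ.comp φ₀) (AlgHom.Finite.comp hψf hφ₀) QA.asIdeal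
    {i : Fin s | r ≤ (i : ℕ)} (by
      have : QA.asIdeal.comap (ψ.comp φ₀) = (QA.asIdeal.comap ψ).comap φ₀ := rfl
      rw [this, hφ₀q]
      congr 1
      ext y
      simp) Q rfl
  refine ⟨g, φ, Q, inferInstance, r, hgq, ?_, hφ, hφQ⟩
  rw [← comap_fiberIdeal p q, ← hxq, ← hQA, hfi]
  ext s
  simp only [Q, Ideal.mem_comap, AlgHom.toRingHom_eq_coe, RingHom.coe_coe,
    Algebra.TensorProduct.includeRight_apply, Algebra.TensorProduct.map_tmul, AlgHom.id_apply]
  rfl

/-- The prime `(p, x_i : i ∈ T)` of `R[x]` has residue field purely transcendental over `κ(p)`. -/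
theorem purelyTranscendental {R : Type u} [CommRing R] (p : Ideal R) [p.IsPrime] (n : ℕ)
    (T : Set (Fin n)) (y : Ideal (MvPolynomial (Fin n) R)) [y.IsPrime] [hy : y.LiesOver p]
    (h : y = p.map C ⊔ Ideal.span (X '' T)) : FlatCA.PurelyTranscendental p y := by
  unfold FlatCA.PurelyTranscendental
  let iA : Algebra p.ResidueField y.ResidueField :=
    (Ideal.ResidueField.mapₐ p y (Algebra.ofId R (MvPolynomial (Fin n) R)) hy.over).toRingHom.toAlgebra
  have hst : IsScalarTower R p.ResidueField y.ResidueField := .of_algebraMap_eq fun r ↦ by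
    change _ = (Ideal.ResidueField.mapₐ p y (Algebra.ofId R (MvPolynomial (Fin n) R)) hy.over) (algebraMap R p.ResidueField r)
    rw [AlgHom.commutes]
  let iB : Algebra (R ⧸ p) y.ResidueField :=
    ((algebraMap p.ResidueField y.ResidueField).comp (algebraMap (R ⧸ p) p.ResidueField)).toAlgebra
  have hst2 : IsScalarTower (R ⧸ p) p.ResidueField y.ResidueField := .of_algebraMap_eq fun r ↦ rfl
  have hst3 : IsScalarTower R (R ⧸ p) y.ResidueField := .of_algebraMap_eq fun r ↦ by
    rw [IsScalarTower.algebraMap_apply (R ⧸ p) p.ResidueField y.ResidueField,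
      ← IsScalarTower.algebraMap_apply R (R ⧸ p) p.ResidueField,
      ← IsScalarTower.algebraMap_apply R p.ResidueField y.ResidueField]
  let x : ULift.{u} {i : Fin n // i ∉ T} → y.ResidueField := fun i ↦
    algebraMap (MvPolynomial (Fin n) R) y.ResidueField (X i.down.1)
  -- membership in `y`
  have hmem : ∀ f : MvPolynomial (Fin n) R, f ∈ y ↔
      ∀ m, (∀ i ∈ T, m i = 0) → coeff m f ∈ p := by
    intro f
    rw [h, ← comap_span_X, Ideal.mem_comap, mem_ideal_span_X_image]
    constructor
    · intro H m hm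
      by_contra hc
      obtain ⟨i, hi, him⟩ := H m (by rw [mem_support_iff, coeff_map]; simpa using hc)
      exact him (hm i hi)
    · intro H m hm
      by_contra! hc
      have := H m hc
      rw [mem_support_iff, coeff_map] at hm
      exact hm (by simpa using this)
  have hind : AlgebraicIndependent (R ⧸ p) x := by
    rw [algebraicIndependent_iff]
    intro F hF
    obtain ⟨G, rfl⟩ := MvPolynomial.map_surjective (Ideal.Quotient.mk p) Ideal.Quotient.mk_surjective F
    have h1 : aeval x (MvPolynomial.map (Ideal.Quotient.mk p) G) =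
        algebraMap (MvPolynomial (Fin n) R) y.ResidueField (rename (fun i ↦ i.down.1) G) := by
      have : (aeval x : MvPolynomial _ (R ⧸ p) →ₐ[R ⧸ p] y.ResidueField).toRingHom.comp
          (MvPolynomial.map (Ideal.Quotient.mk p)) =
          (algebraMap (MvPolynomial (Fin n) R) y.ResidueField).comp
            (rename (fun i : ULift.{u} {i : Fin n // i ∉ T} ↦ i.down.1)).toRingHom := by
        apply MvPolynomial.ringHom_ext
        · intro r
          simp only [AlgHom.toRingHom_eq_coe, RingHom.coe_comp, RingHom.coe_coe, Function.comp_apply,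
            map_C, aeval_C, rename_C]
          rw [← Ideal.Quotient.algebraMap_eq, ← IsScalarTower.algebraMap_apply R (R ⧸ p),
            ← MvPolynomial.algebraMap_eq, ← IsScalarTower.algebraMap_apply R (MvPolynomial (Fin n) R)]
        · intro i
          simp [x]
      exact congr($this G)
    rw [h1, Ideal.algebraMap_residueField_eq_zero, hmem] at hF
    ext m
    rw [coeff_map, coeff_zero, Ideal.Quotient.eq_zero_iff_mem]
    have hinj : Function.Injective (fun i : ULift.{u} {i : Fin n // i ∉ T} ↦ i.down.1) := by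
      intro a b hab
      exact ULift.ext _ _ (Subtype.ext hab)
    rw [← coeff_rename_mapDomain _ hinj]
    apply hF
    intro i hi
    apply Finsupp.mapDomain_of_notMem_range
    rintro ⟨j, rfl⟩
    exact j.down.2 hi
  have halg : Algebra.IsAlgebraic (R ⧸ p) p.ResidueField :=
    IsLocalization.isAlgebraic _ (nonZeroDivisors (R ⧸ p))
  have hind' : AlgebraicIndependent p.ResidueField x := hind.extendScalars p.ResidueField
  have key : ∀ a : MvPolynomial (Fin n) R, algebraMap (MvPolynomial (Fin n) R) y.ResidueField a ∈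
      Algebra.adjoin p.ResidueField (Set.range x) := by
    intro a
    induction a using MvPolynomial.induction_on with
    | C r =>
      rw [← MvPolynomial.algebraMap_eq, ← IsScalarTower.algebraMap_apply,
        IsScalarTower.algebraMap_apply R p.ResidueField y.ResidueField]
      exact Subalgebra.algebraMap_mem _ _
    | add f g hf hg => rw [map_add]; exact add_mem hf hg
    | mul_X f i hf =>
      rw [map_mul]
      refine mul_mem hf ?_
      by_cases hi : i ∈ T
      · have : algebraMap (MvPolynomial (Fin n) R) y.ResidueField (X i) = 0 := by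
          rw [Ideal.algebraMap_residueField_eq_zero, h]
          exact Ideal.mem_sup_right (Ideal.subset_span ⟨i, hi, rfl⟩)
        rw [this]
        exact zero_mem _
      · exact Algebra.subset_adjoin ⟨⟨i, hi⟩, rfl⟩
  have key' : ∀ a : MvPolynomial (Fin n) R ⧸ y, algebraMap _ y.ResidueField a ∈
      Algebra.adjoin p.ResidueField (Set.range x) := by
    intro a
    obtain ⟨a, rfl⟩ := Ideal.Quotient.mk_surjective a
    exact key a
  refine ⟨_, x, ?_, ?_⟩
  · rw [hind'.isTranscendenceBasis_iff_isAlgebraic]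
    refine ⟨fun z ↦ ?_⟩
    obtain ⟨a, b, hb, rfl⟩ := IsFractionRing.div_surjective (A := MvPolynomial (Fin n) R ⧸ y) z
    rw [div_eq_mul_inv]
    exact (isAlgebraic_algebraMap (⟨_, key' a⟩ : Algebra.adjoin p.ResidueField (Set.range x))).mul
      (isAlgebraic_algebraMap (⟨_, key' b⟩ : Algebra.adjoin p.ResidueField (Set.range x))).inv
  · rw [eq_top_iff]
    rintro z -
    obtain ⟨a, b, hb, rfl⟩ := IsFractionRing.div_surjective (A := MvPolynomial (Fin n) R ⧸ y) z
    exact div_mem (IntermediateField.algebra_adjoin_le_adjoin _ _ (key' a))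
      (IntermediateField.algebra_adjoin_le_adjoin _ _ (key' b))

/-- Pure transcendence of `κ(y)/κ(p)` only depends on the residue fields. -/
theorem purelyTranscendental_of_bijective {R R' S S' : Type u} [CommRing R] [CommRing R']
    [CommRing S] [CommRing S'] [Algebra R R'] [Algebra R S] [Algebra R' S'] [Algebra S S']
    [Algebra R S'] [IsScalarTower R R' S'] [IsScalarTower R S S']
    (p : Ideal R) [p.IsPrime] (p' : Ideal R') [p'.IsPrime] (y : Ideal S) [y.IsPrime]
    (y' : Ideal S') [y'.IsPrime] [hp : p'.LiesOver p] [hyp : y.LiesOver p] [hyy : y'.LiesOver y]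
    [hyp' : y'.LiesOver p']
    (h₁ : Function.Bijective (Ideal.ResidueField.mapₐ p p' (Algebra.ofId R R') hp.over))
    (h₂ : Function.Bijective (Ideal.ResidueField.mapₐ y y' (Algebra.ofId S S') hyy.over))
    (h : FlatCA.PurelyTranscendental p y) : FlatCA.PurelyTranscendental p' y' := by
  unfold FlatCA.PurelyTranscendental at h ⊢
  let i1 : Algebra p.ResidueField y.ResidueField :=
    (Ideal.ResidueField.mapₐ p y (Algebra.ofId R S) hyp.over).toRingHom.toAlgebra
  let i2 : Algebra p'.ResidueField y'.ResidueField :=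
    (Ideal.ResidueField.mapₐ p' y' (Algebra.ofId R' S') hyp'.over).toRingHom.toAlgebra
  let i3 : Algebra p.ResidueField p'.ResidueField :=
    (Ideal.ResidueField.mapₐ p p' (Algebra.ofId R R') hp.over).toRingHom.toAlgebra
  let i4 : Algebra y.ResidueField y'.ResidueField :=
    (Ideal.ResidueField.mapₐ y y' (Algebra.ofId S S') hyy.over).toRingHom.toAlgebra
  let i5 : Algebra p.ResidueField y'.ResidueField :=
    ((algebraMap p'.ResidueField y'.ResidueField).comp (algebraMap p.ResidueField p'.ResidueField)).toAlgebra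
  have t1 : IsScalarTower p.ResidueField p'.ResidueField y'.ResidueField := .of_algebraMap_eq fun _ ↦ rfl
  have t2 : IsScalarTower p.ResidueField y.ResidueField y'.ResidueField := by
    apply IsScalarTower.of_algebraMap_eq'
    apply Ideal.ResidueField.ringHom_ext
    ext r
    simp only [RingHom.coe_comp, Function.comp_apply]
    change (Ideal.ResidueField.mapₐ p' y' (Algebra.ofId R' S') hyp'.over)
      ((Ideal.ResidueField.mapₐ p p' (Algebra.ofId R R') hp.over) (algebraMap R p.ResidueField r)) =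
      (Ideal.ResidueField.mapₐ y y' (Algebra.ofId S S') hyy.over)
      ((Ideal.ResidueField.mapₐ p y (Algebra.ofId R S) hyp.over) (algebraMap R p.ResidueField r))
    rw [AlgHom.commutes, AlgHom.commutes, IsScalarTower.algebraMap_apply R R' p'.ResidueField,
      AlgHom.commutes, IsScalarTower.algebraMap_apply R S y.ResidueField, AlgHom.commutes,
      IsScalarTower.algebraMap_apply R' S' y'.ResidueField, IsScalarTower.algebraMap_apply S S' y'.ResidueField,
      ← IsScalarTower.algebraMap_apply R R' S', ← IsScalarTower.algebraMap_apply R S S']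
  obtain ⟨ι, x, hx, hx2⟩ := h
  let e : y.ResidueField ≃ₐ[p.ResidueField] y'.ResidueField :=
    AlgEquiv.ofBijective (IsScalarTower.toAlgHom p.ResidueField y.ResidueField y'.ResidueField) h₂
  have halg : Algebra.IsAlgebraic p.ResidueField p'.ResidueField := by
    refine ⟨fun z ↦ ?_⟩
    obtain ⟨z, rfl⟩ := h₁.2 z
    exact isAlgebraic_algebraMap z
  refine ⟨ι, e ∘ x, ?_, ?_⟩
  · rw [← Algebra.IsAlgebraic.isTranscendenceBasis_iff p.ResidueField p'.ResidueField]
    refine e.symm.isTranscendenceBasis_iff.mp ?_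
    convert hx
    ext i
    simp
  · rw [eq_top_iff]
    rintro z -
    obtain ⟨z, rfl⟩ := e.surjective z
    have hz : z ∈ IntermediateField.adjoin p.ResidueField (Set.range x) := by
      rw [hx2]; trivial
    induction hz using IntermediateField.adjoin_induction with
    | mem z hz =>
      obtain ⟨i, rfl⟩ := hz
      exact IntermediateField.subset_adjoin _ _ ⟨i, rfl⟩
    | algebraMap a =>
      rw [AlgEquiv.commutes, IsScalarTower.algebraMap_apply p.ResidueField p'.ResidueField]
      exact IntermediateField.algebraMap_mem _ _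
    | add a b _ _ ha hb => rw [map_add]; exact add_mem ha hb
    | mul a b _ _ ha hb => rw [map_mul]; exact mul_mem ha hb
    | inv a _ ha => rw [map_inv₀]; exact inv_mem ha

/-- Refined 00QE together with pure transcendence of the residue field of the image point. -/
theorem exists_quasiFinite_purelyTranscendental {R S : Type u} [CommRing R] [CommRing S]
    [Algebra R S] [Algebra.FiniteType R S]
    (p : Ideal R) [p.IsPrime] (q : Ideal S) [q.IsPrime] [q.LiesOver p] (n : ℕ)
    (x : PrimeSpectrum (p.Fiber S)) (hxq : x.asIdeal = FlatCA.fiberIdeal p q)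
    (hn : FlatMor.localDim (PrimeSpectrum (p.Fiber S)) x = n) :
    ∃ (g : S) (φ : MvPolynomial (Fin n) R →ₐ[R] Localization.Away g)
      (Q : Ideal (Localization.Away g)) (_ : Q.IsPrime) (_ : Q.LiesOver q)
      (y : Ideal (MvPolynomial (Fin n) R)) (_ : y.IsPrime) (_ : y.LiesOver p), g ∉ q ∧
      Q.comap φ.toRingHom = y ∧ φ.toRingHom.QuasiFiniteAt Q ∧ FlatCA.PurelyTranscendental p y := by
  obtain ⟨g, φ, Q, hQ, r, hg, hQq, hQφ, hqf⟩ := exists_quasiFinite_affineSpace p q n x hxq hn
  have hlo : Q.LiesOver q := ⟨hQq.symm⟩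
  let y : Ideal (MvPolynomial (Fin n) R) := Q.comap φ.toRingHom
  have hyp : y.LiesOver p := ⟨by
    have h1 : Q.comap (algebraMap R (Localization.Away g)) = p := by
      rw [IsScalarTower.algebraMap_eq R S (Localization.Away g), ← Ideal.comap_comap, hQq]
      exact (Ideal.over_def q p).symm
    rw [← h1, Ideal.under, Ideal.comap_comap]
    congr 1
    ext r
    simp⟩
  exact ⟨g, φ, Q, hQ, hlo, y, inferInstance, hyp, hg, rfl, hqf,
    purelyTranscendental p n _ y hQφ⟩

end Groth.Agent.Flat2B.LST1
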