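import Groth.Agent.Flat2B.LST1
import Groth.Agent.Flat2B.EtaleNhd
import Groth.Agent.Flat2B.NhdBasic
import Groth.Agent.Flat2B.BCTools
import Groth.Agent.FlatB.AffSpaceSmooth
import Mathlib.RingTheory.Etale.QuasiFinite
import Mathlib.AlgebraicGeometry.Morphisms.Etale

/-!
# The local structure theorem, ring form: the part before geometric integrality

`exists_step1`: for `R → S` of finite type and a prime `q` over `p` where the fibre has local dimension
`n`, there is an étale algebra `P'` over `R[x_1, …, x_n]`, an étale neighbourhood `(C, q₁)` of `(S, q)`,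
finite over `P'`, with `q₁` the only prime over its image `y₁` in `P'`, and `κ(y₁)/κ(p)` purely transcendental.
-/

set_option autoImplicit false
universe u

namespace Groth.Agent.Flat2B.LSTCore

open TensorProduct FlatCA Groth.Agent.Flat2B

/-- étale algebras over polynomial rings are smooth of the right relative dimension -/
theorem smoothRelDim_of_etale (n : ℕ) (R D : Type u) [CommRing R] [CommRing D]
    [Algebra (MvPolynomial (Fin n) R) D] [Algebra R D] [IsScalarTower R (MvPolynomial (Fin n) R) D]
    [Algebra.Etale (MvPolynomial (Fin n) R) D] : SmoothRelDim n R D := by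
  have h0 := FlatB.AffSpaceSmooth.isStandardSmoothOfRelativeDimension R n
  have h1 : Algebra.IsStandardSmoothOfRelativeDimension 0 (MvPolynomial (Fin n) R) D :=
    Algebra.Etale.iff_isStandardSmoothOfRelativeDimension_zero.mp inferInstance
  have h2 : Algebra.IsStandardSmoothOfRelativeDimension (0 + n) R D :=
    Algebra.IsStandardSmoothOfRelativeDimension.trans n 0 R (MvPolynomial (Fin n) R) D
  rw [zero_add] at h2
  have h : (algebraMap R D).IsStandardSmoothOfRelativeDimension n := by
    rw [RingHom.isStandardSmoothOfRelativeDimension_algebraMap]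
    exact h2
  unfold SmoothRelDim
  rw [AlgebraicGeometry.HasRingHomProperty.Spec_iff
    (P := @AlgebraicGeometry.SmoothOfRelativeDimension n)]
  exact RingHom.locally_of RingHom.isStandardSmoothOfRelativeDimension_respectsIso _ h

/-- restriction of smoothness of relative dimension `n` to a basic open of the source -/
theorem smoothRelDim_away (n : ℕ) (R D D' : Type u) [CommRing R] [CommRing D] [CommRing D']
    [Algebra R D] [Algebra D D'] [Algebra R D'] [IsScalarTower R D D'] (h : SmoothRelDim n R D)
    (f : D) [IsLocalization.Away f D'] : SmoothRelDim n R D' := by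
  unfold SmoothRelDim at h ⊢
  have h1 : AlgebraicGeometry.IsOpenImmersion
    (AlgebraicGeometry.Spec.map (CommRingCat.ofHom (algebraMap D D'))) :=
    AlgebraicGeometry.IsOpenImmersion.of_isLocalization f
  have h2 : AlgebraicGeometry.Spec.map (CommRingCat.ofHom (algebraMap R D')) =
      CategoryTheory.CategoryStruct.comp
        (AlgebraicGeometry.Spec.map (CommRingCat.ofHom (algebraMap D D')))
        (AlgebraicGeometry.Spec.map (CommRingCat.ofHom (algebraMap R D))) := by
    rw [← AlgebraicGeometry.Spec.map_comp, ← CommRingCat.ofHom_comp, ← IsScalarTower.algebraMap_eq]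
  rw [h2]
  have h3 := AlgebraicGeometry.smoothOfRelativeDimension_comp 0 n
    (AlgebraicGeometry.Spec.map (CommRingCat.ofHom (algebraMap D D')))
    (AlgebraicGeometry.Spec.map (CommRingCat.ofHom (algebraMap R D)))
  rwa [zero_add] at h3

theorem exists_step1 {R S : Type u} [CommRing R] [CommRing S] [Algebra R S]
    [Algebra.FiniteType R S] (p : Ideal R) [p.IsPrime] (q : Ideal S) [q.IsPrime] [q.LiesOver p] (n : ℕ)
    (x : PrimeSpectrum (p.Fiber S)) (hxq : x.asIdeal = fiberIdeal p q)
    (hn : FlatMor.localDim (PrimeSpectrum (p.Fiber S)) x = n) :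
    ∃ (P' C : Type u) (_ : CommRing P') (_ : CommRing C) (_ : Algebra (MvPolynomial (Fin n) R) P')
      (_ : Algebra R P') (_ : IsScalarTower R (MvPolynomial (Fin n) R) P') (_ : Algebra S C)
      (_ : Algebra P' C) (_ : Algebra R C) (_ : IsScalarTower R P' C) (_ : IsScalarTower R S C)
      (y₁ : Ideal P') (q₁ : Ideal C) (_ : y₁.IsPrime) (_ : q₁.IsPrime) (_ : y₁.LiesOver p)
      (_ : q₁.LiesOver y₁),
      Algebra.Etale (MvPolynomial (Fin n) R) P' ∧ IsEtaleNhd S C q q₁ ∧ Module.Finite P' C ∧
      (∀ (z : Ideal C) [z.IsPrime], z.LiesOver y₁ → z = q₁) ∧ PurelyTranscendental p y₁ := by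
  obtain ⟨g, φ, Q, hQ, hQq, y₀, hy₀, hy₀p, hg, hQy, hqf, hpt⟩ :=
    LST1.exists_quasiFinite_purelyTranscendental p q n x hxq hn
  let P := MvPolynomial (Fin n) R
  let T := Localization.Away g
  let : Algebra P T := φ.toRingHom.toAlgebra
  have : IsScalarTower R P T := .of_algebraMap_eq' φ.comp_algebraMap.symm
  have : Algebra.FiniteType R T := inferInstance
  have : Algebra.FiniteType P T := Algebra.FiniteType.of_restrictScalars_finiteType R P T
  have hQy' : Q.LiesOver y₀ := ⟨hQy.symm⟩
  have : Algebra.QuasiFiniteAt P Q := hqf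
  obtain ⟨P', _, _, het, y₁, hy₁, hy₁₀, e, he, Q₁, hQ₁, hQ₁y, hQ₁Q, heQ, hbij, hfin, huniq⟩ :=
    Algebra.exists_etale_isIdempotentElem_forall_liesOver_eq y₀ Q
  let T₁ := P' ⊗[P] T
  let : Algebra T T₁ := Algebra.TensorProduct.rightAlgebra
  have hpo : Algebra.IsPushout P T P' T₁ := (TensorProduct.isPushout (R := P) (S := P') (T := T)).symm
  have hQ₁Q' : Q₁.LiesOver Q := ⟨hQ₁Q.symm⟩
  -- the étale neighbourhoods
  have e1 : IsEtaleNhd P P' y₀ y₁ := ⟨het, hy₁₀, hbij⟩
  have e2 : IsEtaleNhd T T₁ Q Q₁ := EtaleNhd.isEtaleNhd_pushout (R := P) (R' := P') e1 hQy' Q₁ hQ₁Q' hQ₁y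
  have e3 : IsEtaleNhd S T q Q := NhdBasic.of_away g q T Q
  let C := Localization.Away e
  obtain ⟨hq₁, e4⟩ := NhdBasic.map_away e Q₁ heQ C
  let q₁ : Ideal C := Q₁.map (algebraMap T₁ C)
  let : Algebra S T₁ := ((algebraMap T T₁).comp (algebraMap S T)).toAlgebra
  have : IsScalarTower S T T₁ := .of_algebraMap_eq' rfl
  have : IsScalarTower S T₁ C := inferInstance
  have e5 : IsEtaleNhd S C q q₁ := NhdBasic.trans (NhdBasic.trans e3 e2) e4
  let : Algebra R P' := ((algebraMap P P').comp (algebraMap R P)).toAlgebra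
  have : IsScalarTower R P P' := .of_algebraMap_eq' rfl
  have : IsScalarTower R P' T₁ := inferInstance
  have : IsScalarTower R T₁ C := inferInstance
  have : IsScalarTower P' T₁ C := inferInstance
  have : IsScalarTower R P' C := inferInstance
  have : IsScalarTower R S C := by
    refine .of_algebraMap_eq fun r => ?_
    rw [IsScalarTower.algebraMap_apply R T₁ C, IsScalarTower.algebraMap_apply S T₁ C,
      IsScalarTower.algebraMap_apply R P' T₁, IsScalarTower.algebraMap_apply R P P',
      ← IsScalarTower.algebraMap_apply P P' T₁, IsScalarTower.algebraMap_apply S T T₁,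
      ← IsScalarTower.algebraMap_apply R S T, IsScalarTower.algebraMap_apply R P T,
      ← IsScalarTower.algebraMap_apply P T T₁]
  have hy₁p : y₁.LiesOver p := Ideal.LiesOver.trans y₁ y₀ p
  have hq₁Q₁ : q₁.LiesOver Q₁ := e4.2.1
  have hq₁y : q₁.LiesOver y₁ := Ideal.LiesOver.trans q₁ Q₁ y₁
  refine ⟨P', C, inferInstance, inferInstance, inferInstance, inferInstance, inferInstance,
    inferInstance, inferInstance, inferInstance, inferInstance, inferInstance, y₁, q₁, hy₁, hq₁, hy₁p,
    hq₁y, het, e5, hfin, ?_, ?_⟩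
  · intro z hz hzy
    have hz1 : (z.comap (algebraMap T₁ C)).LiesOver y₁ := ⟨by
      rw [hzy.over, Ideal.under_def, Ideal.under_def, Ideal.comap_comap,
        ← IsScalarTower.algebraMap_eq P' T₁ C]⟩
    have hz2 : e ∉ z.comap (algebraMap T₁ C) := fun h =>
      hz.ne_top (Ideal.eq_top_of_isUnit_mem _ h (IsLocalization.Away.algebraMap_isUnit e))
    have hz3 := huniq _ inferInstance hz1 hz2
    change z = Q₁.map (algebraMap T₁ C)
    rw [← hz3]
    exact (IsLocalization.map_under (Submonoid.powers e) C z).symm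
  · have hpp : p.LiesOver p := ⟨rfl⟩
    exact LST1.purelyTranscendental_of_bijective (R := R) (R' := R) (S := P) (S' := P') p p y₀ y₁
      (NhdBasic.refl p).2.2 hbij hpt

end Groth.Agent.Flat2B.LSTCore
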