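import Groth.Prelude.Def_FlatCA

/-!
# Base change along a point with trivial residue field extension

`R → R₁`, `p₁` a prime of `R₁` over the prime `p` of `R` with `κ(p) → κ(p₁)` bijective
(`ResTriv p p₁`), `X` an `R`-algebra and `X₁` a pushout `R₁ ⊗_R X` (any model).
* `exists_point`: over a prime `q` of `X` lying over `p` there is exactly one prime `q₁` of `X₁` over
  `q` and `p₁`, and `κ(q) → κ(q₁)` is bijective.
-/

set_option autoImplicit false
universe u

namespace Groth.Agent.Flat2B.PointBC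

open FlatCA TensorProduct

section Res

variable {R R₁ : Type u} [CommRing R] [CommRing R₁] [Algebra R R₁]

/-- The residue field extension at `p₁` over `p` is trivial. -/
def ResTriv (p : Ideal R) [p.IsPrime] (p₁ : Ideal R₁) [p₁.IsPrime] : Prop :=
  ∃ h : p₁.LiesOver p,
    Function.Bijective (Ideal.ResidueField.mapₐ p p₁ (Algebra.ofId R R₁) h.over)

theorem ResTriv.liesOver {p : Ideal R} [p.IsPrime] {p₁ : Ideal R₁} [p₁.IsPrime]
    (h : ResTriv p p₁) : p₁.LiesOver p := h.1

/-- criterion: every element of `κ(p₁)` comes from `κ(p)` -/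
theorem resTriv_of_surjective {p : Ideal R} [p.IsPrime] {p₁ : Ideal R₁} [p₁.IsPrime]
    [h : p₁.LiesOver p]
    (hs : Function.Surjective (Ideal.ResidueField.mapₐ p p₁ (Algebra.ofId R R₁) h.over)) :
    ResTriv p p₁ :=
  ⟨h, RingHom.injective _, hs⟩

/-- The residue extension is trivial if there is a ring map `κ(p₁) → κ(p)` over `R`. -/
theorem resTriv_of_algHom {p : Ideal R} [p.IsPrime] {p₁ : Ideal R₁} [p₁.IsPrime]
    [h : p₁.LiesOver p] (g : p₁.ResidueField →ₐ[R] p.ResidueField) : ResTriv p p₁ := by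
  refine resTriv_of_surjective fun y => ⟨g y, ?_⟩
  apply (g : p₁.ResidueField →+* p.ResidueField).injective
  have : (g.comp (Ideal.ResidueField.mapₐ p p₁ (Algebra.ofId R R₁) h.over)) =
      AlgHom.id R _ := by
    apply Ideal.ResidueField.algHom_ext
    ext
  exact DFunLike.congr_fun this (g y)

variable {R₂ : Type u} [CommRing R₂] [Algebra R₁ R₂] [Algebra R R₂] [IsScalarTower R R₁ R₂]

theorem mapₐ_comp {p : Ideal R} [p.IsPrime] {p₁ : Ideal R₁} [p₁.IsPrime] {p₂ : Ideal R₂}
    [p₂.IsPrime] [h₁ : p₁.LiesOver p] [h₂ : p₂.LiesOver p₁] [h : p₂.LiesOver p] (x : p.ResidueField) :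
    Ideal.ResidueField.mapₐ p p₂ (Algebra.ofId R R₂) h.over x =
      Ideal.ResidueField.mapₐ p₁ p₂ (Algebra.ofId R₁ R₂) h₂.over
        (Ideal.ResidueField.mapₐ p p₁ (Algebra.ofId R R₁) h₁.over x) := by
  have : Ideal.ResidueField.mapₐ p p₂ (Algebra.ofId R R₂) h.over =
      ((Ideal.ResidueField.mapₐ p₁ p₂ (Algebra.ofId R₁ R₂) h₂.over).restrictScalars R).comp
        (Ideal.ResidueField.mapₐ p p₁ (Algebra.ofId R R₁) h₁.over) := by
    apply Ideal.ResidueField.algHom_ext
    ext
  exact DFunLike.congr_fun this x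

theorem ResTriv.trans {p : Ideal R} [p.IsPrime] {p₁ : Ideal R₁} [p₁.IsPrime] {p₂ : Ideal R₂}
    [p₂.IsPrime] (h₁ : ResTriv p p₁) (h₂ : ResTriv p₁ p₂) : ResTriv p p₂ := by
  have := h₁.1
  have := h₂.1
  have h : p₂.LiesOver p := Ideal.LiesOver.trans p₂ p₁ p
  refine ⟨h, ?_⟩
  have : (⇑(Ideal.ResidueField.mapₐ p p₂ (Algebra.ofId R R₂) h.over)) =
      ⇑(Ideal.ResidueField.mapₐ p₁ p₂ (Algebra.ofId R₁ R₂) h₂.1.over) ∘
        ⇑(Ideal.ResidueField.mapₐ p p₁ (Algebra.ofId R R₁) h₁.1.over) := by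
    ext x; exact mapₐ_comp x
  rw [this]
  exact h₂.2.comp h₁.2

/-- localization at the prime has trivial residue extension -/
theorem resTriv_localization (p : Ideal R) [p.IsPrime] (A : Type u) [CommRing A] [Algebra R A]
    [IsLocalRing A] [IsLocalization.AtPrime A p] :
    ResTriv p (IsLocalRing.maximalIdeal A) := by
  have h : (IsLocalRing.maximalIdeal A).LiesOver p :=
    ⟨(IsLocalization.AtPrime.under_maximalIdeal A p).symm⟩
  refine ⟨h, ?_⟩
  exact (RingHom.surjectiveOnStalks_of_isLocalization p.primeCompl A).residueFieldMap_bijective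
    _ _ _

end Res

section Point

variable {R R₁ X X₁ : Type u} [CommRing R] [CommRing R₁] [Algebra R R₁]
  [CommRing X] [Algebra R X] [CommRing X₁] [Algebra X X₁] [Algebra R₁ X₁] [Algebra R X₁]
  [IsScalarTower R X X₁] [IsScalarTower R R₁ X₁] [Algebra.IsPushout R X R₁ X₁]

theorem exists_point {p : Ideal R} [p.IsPrime] {p₁ : Ideal R₁} [p₁.IsPrime] (hp : ResTriv p p₁)
    (q : Ideal X) [q.IsPrime] [hq : q.LiesOver p] :
    ∃ q₁ : Ideal X₁, ∃ _ : q₁.IsPrime, ResTriv q q₁ ∧ q₁.LiesOver p₁ ∧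
      ∀ (q' : Ideal X₁) [q'.IsPrime], q'.LiesOver q → q'.LiesOver p₁ → q' = q₁ := by
  obtain ⟨hp1, hbij⟩ := hp
  let j := Ideal.ResidueField.mapₐ p p₁ (Algebra.ofId R R₁) hp1.over
  let e : p.ResidueField ≃ₐ[R] p₁.ResidueField := AlgEquiv.ofBijective j hbij
  let kq : p.ResidueField →ₐ[R] q.ResidueField :=
    Ideal.ResidueField.mapₐ p q (Algebra.ofId R X) hq.over
  let ψ : R₁ →ₐ[R] q.ResidueField :=
    (kq.comp e.symm.toAlgHom).comp (IsScalarTower.toAlgHom R R₁ p₁.ResidueField)
  let φ : X₁ →ₐ[R] q.ResidueField :=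
    Algebra.pushoutDesc X₁ (IsScalarTower.toAlgHom R X q.ResidueField) ψ (fun _ _ => mul_comm _ _)
  have hφX : ∀ x : X, φ (algebraMap X X₁ x) = algebraMap X q.ResidueField x := fun x =>
    Algebra.pushoutDesc_left X₁ _ _ _ x
  have hφR : ∀ x : R₁, φ (algebraMap R₁ X₁ x) = ψ x := fun x =>
    Algebra.pushoutDesc_right X₁ _ _ _ x
  have hψ : ∀ x : R₁, ψ x = 0 ↔ x ∈ p₁ := by
    intro x
    have : ψ x = kq (e.symm (algebraMap R₁ p₁.ResidueField x)) := rfl
    rw [this, map_eq_zero, map_eq_zero, Ideal.algebraMap_residueField_eq_zero]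
  let q₁ : Ideal X₁ := RingHom.ker (φ : X₁ →+* q.ResidueField)
  have hq1 : q₁.IsPrime := RingHom.ker_isPrime _
  have hmem : ∀ x : X₁, x ∈ q₁ ↔ φ x = 0 := fun x => RingHom.mem_ker
  have hq1q : q₁.LiesOver q := ⟨by
    ext x
    rw [Ideal.under_def, Ideal.mem_comap, hmem, hφX, Ideal.algebraMap_residueField_eq_zero]⟩
  have hq1p : q₁.LiesOver p₁ := ⟨by
    ext x
    rw [Ideal.under_def, Ideal.mem_comap, hmem, hφR, hψ]⟩
  refine ⟨q₁, hq1, ?_, hq1p, ?_⟩
  · -- residue field
    let φ' : X₁ →ₐ[X] q.ResidueField := { φ with commutes' := hφX }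
    let g : q₁.ResidueField →ₐ[X] q.ResidueField :=
      Ideal.ResidueField.liftₐ q₁ φ' (fun x hx => (hmem x).1 hx) (fun x hx => by
        have : φ x ≠ 0 := fun h => hx ((hmem x).2 h)
        exact (isUnit_iff_ne_zero (a := φ x)).2 this)
    exact resTriv_of_algHom g
  · intro q' _ hq'q hq'p
    have hq'pp : q'.LiesOver p := Ideal.LiesOver.trans q' q p
    have hq'p1 : Function.Injective (Ideal.ResidueField.mapₐ q q' (Algebra.ofId X X₁) hq'q.over) :=
      RingHom.injective _
    have key : ∀ x : X₁, algebraMap X₁ q'.ResidueField x =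
        Ideal.ResidueField.mapₐ q q' (Algebra.ofId X X₁) hq'q.over (φ x) := by
      have : (IsScalarTower.toAlgHom R X₁ q'.ResidueField) =
          ((Ideal.ResidueField.mapₐ q q' (Algebra.ofId X X₁) hq'q.over).restrictScalars R).comp φ := by
        apply Algebra.IsPushout.algHom_ext (R := R) (S := X) (R' := R₁) (S' := X₁)
        · ext x
          change algebraMap X₁ q'.ResidueField (algebraMap R₁ X₁ x) =
            Ideal.ResidueField.mapₐ q q' (Algebra.ofId X X₁) hq'q.over (φ (algebraMap R₁ X₁ x))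
          rw [hφR]
          have h1 : e (e.symm (algebraMap R₁ p₁.ResidueField x)) =
            algebraMap R₁ p₁.ResidueField x := e.apply_symm_apply _
          have h2 : ∀ y : p.ResidueField,
              Ideal.ResidueField.mapₐ q q' (Algebra.ofId X X₁) hq'q.over (kq y) =
              Ideal.ResidueField.mapₐ p₁ q' (Algebra.ofId R₁ X₁) hq'p.over (e y) := by
            intro y
            refine (mapₐ_comp (h₁ := hq) (h₂ := hq'q) (h := hq'pp) y).symm.trans ?_
            exact (mapₐ_comp (h₁ := hp1) (h₂ := hq'p) (h := hq'pp) y)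
          change _ = Ideal.ResidueField.mapₐ q q' (Algebra.ofId X X₁) hq'q.over
            (kq (e.symm (algebraMap R₁ p₁.ResidueField x)))
          rw [h2, h1]
          exact (Ideal.ResidueField.map_algebraMap _ _ _ _ x).symm
        · ext x
          change algebraMap X₁ q'.ResidueField (algebraMap X X₁ x) =
            Ideal.ResidueField.mapₐ q q' (Algebra.ofId X X₁) hq'q.over (φ (algebraMap X X₁ x))
          rw [hφX]
          exact (Ideal.ResidueField.map_algebraMap _ _ _ _ x).symm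
      exact fun x => DFunLike.congr_fun this x
    ext x
    rw [hmem, ← Ideal.algebraMap_residueField_eq_zero (I := q'), key,
      map_eq_zero_iff _ hq'p1]

end Point

section Trans

open Set in
/-- Transport of "purely transcendental" along isomorphisms of fields. -/
theorem exists_transcendence_of_ringEquiv {K K₁ L L₁ : Type u} [Field K] [Field K₁] [Field L]
    [Field L₁] [Algebra K L] [Algebra K₁ L₁] (i : K ≃+* K₁) (j : L ≃+* L₁)
    (hij : ∀ k, j (algebraMap K L k) = algebraMap K₁ L₁ (i k))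
    (h : ∃ (ι : Type u) (x : ι → L), IsTranscendenceBasis K x ∧
      IntermediateField.adjoin K (Set.range x) = ⊤) :
    ∃ (ι : Type u) (x : ι → L₁), IsTranscendenceBasis K₁ x ∧
      IntermediateField.adjoin K₁ (Set.range x) = ⊤ := by
  obtain ⟨ι, x, ⟨hx1, hx2⟩, hx3⟩ := h
  have hcomp : RingHom.comp (algebraMap K₁ L₁) (i : K →+* K₁) =
      RingHom.comp (j : L →+* L₁) (algebraMap K L) := by
    ext k; exact (hij k).symm
  refine ⟨ι, j ∘ x, ⟨?_, ?_⟩, ?_⟩
  · exact hx1.ringHom_of_comp_eq (i : K →+* K₁) (j : L →+* L₁) i.surjective j.injective hcomp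
  · intro s hs hxs
    have h1 : AlgebraicIndependent K (fun y : (j ⁻¹' s : Set L) => (y : L)) := by
      have h2 : AlgebraicIndependent K₁ ((j : L →+* L₁) ∘ (fun y : (j ⁻¹' s : Set L) => (y : L))) := by
        have h3 : ((j : L →+* L₁) ∘ (fun y : (j ⁻¹' s : Set L) => (y : L))) =
            (fun y : s => (y : L₁)) ∘ (fun y : (j ⁻¹' s : Set L) => (⟨j y.1, y.2⟩ : s)) := rfl
        rw [h3]
        exact hs.comp _ (fun a b hab => Subtype.ext (j.injective (congrArg Subtype.val hab)))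
      exact h2.of_ringHom_of_comp_eq (i : K →+* K₁) (j : L →+* L₁) i.injective hcomp
    have h4 : range x ⊆ j ⁻¹' s := by
      rintro _ ⟨a, rfl⟩
      exact hxs ⟨a, rfl⟩
    have h5 := hx2 (j ⁻¹' s) h1 h4
    rw [Set.range_comp, h5]
    exact Set.image_preimage_eq s j.surjective
  · rw [eq_top_iff]
    rintro y -
    obtain ⟨l, rfl⟩ := j.surjective y
    have hl : l ∈ IntermediateField.adjoin K (Set.range x) := by rw [hx3]; trivial
    induction hl using IntermediateField.adjoin_induction with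
    | mem z hz =>
      obtain ⟨a, rfl⟩ := hz
      exact IntermediateField.subset_adjoin K₁ _ ⟨a, rfl⟩
    | algebraMap z =>
      rw [hij]
      exact IntermediateField.algebraMap_mem _ _
    | add a b _ _ ha hb => rw [map_add]; exact add_mem ha hb
    | mul a b _ _ ha hb => rw [map_mul]; exact mul_mem ha hb
    | inv a _ ha => rw [map_inv₀]; exact inv_mem ha

variable {R R₁ X X₁ : Type u} [CommRing R] [CommRing R₁] [Algebra R R₁]
  [CommRing X] [Algebra R X] [CommRing X₁] [Algebra X X₁] [Algebra R₁ X₁] [Algebra R X₁]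
  [IsScalarTower R X X₁] [IsScalarTower R R₁ X₁]

theorem purelyTranscendental_of_resTriv {p : Ideal R} [p.IsPrime] {p₁ : Ideal R₁} [p₁.IsPrime]
    (hp : ResTriv p p₁) {q : Ideal X} [q.IsPrime] [hq : q.LiesOver p] {q₁ : Ideal X₁} [q₁.IsPrime]
    (hqq : ResTriv q q₁) [hq₁ : q₁.LiesOver p₁] (h : PurelyTranscendental p q) :
    PurelyTranscendental p₁ q₁ := by
  obtain ⟨hp1, hpb⟩ := hp
  obtain ⟨hq1, hqb⟩ := hqq
  have hq1p : q₁.LiesOver p := Ideal.LiesOver.trans q₁ q p
  let a1 : Algebra p.ResidueField q.ResidueField :=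
    (Ideal.ResidueField.mapₐ p q (Algebra.ofId R X) hq.over).toRingHom.toAlgebra
  let a2 : Algebra p₁.ResidueField q₁.ResidueField :=
    (Ideal.ResidueField.mapₐ p₁ q₁ (Algebra.ofId R₁ X₁) hq₁.over).toRingHom.toAlgebra
  let i : p.ResidueField ≃+* p₁.ResidueField :=
    RingEquiv.ofBijective (Ideal.ResidueField.mapₐ p p₁ (Algebra.ofId R R₁) hp1.over) hpb
  let j : q.ResidueField ≃+* q₁.ResidueField :=
    RingEquiv.ofBijective (Ideal.ResidueField.mapₐ q q₁ (Algebra.ofId X X₁) hq1.over) hqb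
  refine exists_transcendence_of_ringEquiv i j ?_ h
  intro k
  refine (mapₐ_comp (h₁ := hq) (h₂ := hq1) (h := hq1p) k).symm.trans ?_
  exact (mapₐ_comp (h₁ := hp1) (h₂ := hq₁) (h := hq1p) k)

end Trans

section LocalDim

open TopologicalSpace

theorem localDim_homeomorph {X Y : Type u} [TopologicalSpace X] [TopologicalSpace Y] (e : X ≃ₜ Y)
    (x : X) : FlatMor.localDim X x = FlatMor.localDim Y (e x) := by
  unfold FlatMor.localDim
  refine Equiv.iInf_congr
    (⟨fun U => ⟨U.1.comap ⟨e.symm, e.symm.continuous⟩, by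
        change e.symm (e x) ∈ U.1; simpa using U.2⟩,
      fun U => ⟨U.1.comap ⟨e, e.continuous⟩, U.2⟩,
      fun U => by ext y; change e.symm (e y) ∈ U.1 ↔ _; simp,
      fun U => by ext y; change e (e.symm y) ∈ U.1 ↔ _; simp⟩ :
      {U : Opens X // x ∈ U} ≃ {U : Opens Y // e x ∈ U}) ?_
  intro U
  let f : ((U.1.comap ⟨e.symm, e.symm.continuous⟩ : Opens Y) : Set Y) → (U.1 : Set X) :=
    fun y => ⟨e.symm y.1, y.2⟩
  have hf : IsHomeomorph f := by
    refine ((Homeomorph.subtype (p := fun y => y ∈ (U.1.comap ⟨e.symm, e.symm.continuous⟩ : Opens Y))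
      (q := fun y => y ∈ U.1) e.symm (fun y => Iff.rfl)).isHomeomorph)
  exact hf.topologicalKrullDim_eq f

end LocalDim

end Groth.Agent.Flat2B.PointBC
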