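import Groth.Agent.Flat2B.LSTCore
import Groth.Agent.Flat2B.PointBC

/-!
# The local structure theorem (Stacks 052E, 057K, 057L), ring form, from geometric integrality

`GINStatement` is the statement of `Groth.Agent.Flat2B.GIN.exists_geomIntegral`.
-/

set_option autoImplicit false
universe u

namespace Groth.Agent.Flat2B.LSTOf

open TensorProduct FlatCA Groth.Agent.Flat2B

/-- the statement of `Groth.Agent.Flat2B.GIN.exists_geomIntegral` -/
def GINStatement : Prop :=
  ∀ (R D : Type u) [CommRing R] [CommRing D] [Algebra R D] [Algebra.Smooth R D]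
    (p : Ideal R) [p.IsPrime] (y : Ideal D) [y.IsPrime] [y.LiesOver p],
    FlatCA.PurelyTranscendental p y →
    ∃ (R' : Type u) (_ : CommRing R') (_ : Algebra R R') (p' : Ideal R') (_ : p'.IsPrime)
      (y' : Ideal (R' ⊗[R] D)) (_ : y'.IsPrime) (b : R' ⊗[R] D),
      FlatCA.IsEtaleNhd R R' p p' ∧ y'.LiesOver p' ∧
      y'.comap (Algebra.TensorProduct.includeRight : D →ₐ[R] R' ⊗[R] D).toRingHom = y ∧ b ∉ y' ∧
      ∀ c : R' ⊗[R] D, c ∉ y' → b ∣ c → ∃ h : R', h ∉ p' ∧ ∀ h' : R', h ∣ h' → h' ∉ p' →
        ∀ (Rh : Type u) [CommRing Rh] [Algebra R' Rh] [IsLocalization.Away h' Rh]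
          (Dh : Type u) [CommRing Dh] [Algebra (R' ⊗[R] D) Dh]
          [IsLocalization.Away (algebraMap R' (R' ⊗[R] D) h' * c) Dh]
          [Algebra Rh Dh] [Algebra R' Dh] [IsScalarTower R' (R' ⊗[R] D) Dh] [IsScalarTower R' Rh Dh],
          FlatCA.GeomIntegralFibres Rh Dh

/-- Étale localization of a geometrically integral spreading: the middle part. -/
theorem exists_step2 (GIN : GINStatement.{u}) {R P' : Type u} [CommRing R] [CommRing P'] [Algebra R P'] (n : ℕ)
    [Algebra (MvPolynomial (Fin n) R) P'] [IsScalarTower R (MvPolynomial (Fin n) R) P']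
    [Algebra.Etale (MvPolynomial (Fin n) R) P'] (p : Ideal R) [p.IsPrime] (y₁ : Ideal P') [y₁.IsPrime]
    [y₁.LiesOver p] (hpt : PurelyTranscendental p y₁) :
    ∃ (R' D : Type u) (_ : CommRing R') (_ : CommRing D) (_ : Algebra R R') (_ : Algebra R' D)
      (_ : Algebra P' D) (_ : Algebra R D) (_ : IsScalarTower R R' D) (_ : IsScalarTower R P' D)
      (p' : Ideal R') (y : Ideal D) (_ : p'.IsPrime) (_ : y.IsPrime) (_ : y.LiesOver p')
      (_ : y.LiesOver y₁),
      IsEtaleNhd R R' p p' ∧ IsEtaleNhd P' D y₁ y ∧ PurelyTranscendental p' y ∧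
      SmoothRelDim n R' D ∧ GeomIntegralFibres R' D := by
  have hsm : Algebra.Smooth R P' := by
    have : Algebra.Smooth R (MvPolynomial (Fin n) R) := ⟨inferInstance, inferInstance⟩
    have : Algebra.Smooth (MvPolynomial (Fin n) R) P' := inferInstance
    exact Algebra.Smooth.comp R (MvPolynomial (Fin n) R) P'
  obtain ⟨R', _, _, p', hp', y', hy', b, h1, h2, h3, hb, H⟩ := GIN R P' p y₁ hpt
  obtain ⟨h, hh, H⟩ := H b hb dvd_rfl
  let E := R' ⊗[R] P'
  let : Algebra P' E := Algebra.TensorProduct.rightAlgebra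
  let R'' := Localization.Away h
  let c : E := algebraMap R' E h * b
  let D := Localization.Away c
  have hy'p : y'.LiesOver p' := h2
  have hy'y : y'.LiesOver y₁ := ⟨h3.symm⟩
  have hc : c ∉ y' := fun hc => (hy'.mem_or_mem hc).elim
    (fun hc => hh (by rw [hy'p.over]; exact hc)) hb
  have hpo : Algebra.IsPushout R P' R' E := TensorProduct.isPushout'
  have e1 : IsEtaleNhd P' E y₁ y' :=
    EtaleNhd.isEtaleNhd_pushout (R := R) (R' := R') (p := p) (p' := p') h1 ‹_› y' hy'y hy'p
  obtain ⟨hy, e2⟩ := NhdBasic.map_away c y' hc D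
  let y : Ideal D := y'.map (algebraMap E D)
  have e3 : IsEtaleNhd P' D y₁ y := NhdBasic.trans e1 e2
  have hcu : IsUnit (algebraMap E D c) := IsLocalization.Away.algebraMap_isUnit c
  have hu : IsUnit (algebraMap R' D h) := by
    rw [IsScalarTower.algebraMap_apply R' E D]
    rw [map_mul] at hcu
    exact isUnit_of_mul_isUnit_left hcu
  let : Algebra R'' D := (IsLocalization.Away.lift h (g := algebraMap R' D) hu).toAlgebra
  have : IsScalarTower R' R'' D :=
    .of_algebraMap_eq' (IsLocalization.Away.lift_comp h hu).symm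
  have : IsScalarTower R R'' D := by
    refine .of_algebraMap_eq fun r => ?_
    rw [IsScalarTower.algebraMap_apply R R' R'', ← IsScalarTower.algebraMap_apply R' R'' D,
      ← IsScalarTower.algebraMap_apply R R' D]
  have : IsScalarTower R P' D := by
    refine .of_algebraMap_eq fun r => ?_
    rw [IsScalarTower.algebraMap_apply R E D, IsScalarTower.algebraMap_apply P' E D,
      ← IsScalarTower.algebraMap_apply R P' E]
  let p'' : Ideal R'' := p'.map (algebraMap R' R'')
  obtain ⟨hp'', e4⟩ := NhdBasic.map_away h p' hh R''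
  have e5 : IsEtaleNhd R R'' p p'' := NhdBasic.trans h1 e4
  have hyy' : y.LiesOver y' := e2.2.1
  have hyy₁ : y.LiesOver y₁ := e3.2.1
  have hyp' : y.LiesOver p' := Ideal.LiesOver.trans y y' p'
  have hyp'' : y.LiesOver p'' := ⟨by
    rw [← IsLocalization.map_under (Submonoid.powers h) R'' (y.under R'')]
    change p'.map _ = _
    congr 1
    rw [hyp'.over, Ideal.under_under]⟩
  have hp''p : p''.LiesOver p := e5.2.1
  refine ⟨R'', D, inferInstance, inferInstance, inferInstance, inferInstance, inferInstance,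
    inferInstance, inferInstance, inferInstance, p'', y, hp'', hy, hyp'', hyy₁, e5, e3, ?_, ?_, ?_⟩
  · exact LST1.purelyTranscendental_of_bijective (R := R) (R' := R'') (S := P') (S' := D) p p'' y₁ y
      e5.2.2 e3.2.2 hpt
  · have s1 : SmoothRelDim n R P' := LSTCore.smoothRelDim_of_etale n R P'
    have s2 : SmoothRelDim n R' E := BCTools.smoothRelDim_of_isPushout R P' R' E n s1
    have s3 : SmoothRelDim n R' D := LSTCore.smoothRelDim_away n R' E D s2 c
    have hloc : IsLocalization (Algebra.algebraMapSubmonoid D (Submonoid.powers h)) D := by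
      refine IsLocalization.self ?_
      rintro _ ⟨_, ⟨k, rfl⟩, rfl⟩
      rw [map_pow]
      exact hu.pow k
    have hpo2 : Algebra.IsPushout R' D R'' D :=
      Algebra.isPushout_of_isLocalization (Submonoid.powers h) R'' D D
    exact BCTools.smoothRelDim_of_isPushout R' D R'' D n s3
  · exact H h dvd_rfl hh R'' D

/-- Local structure theorem (Stacks 052E/057K/057L) in ring form, with pure transcendence and geometrically
integral fibres. -/
theorem exists_localStructure_of (GIN : GINStatement.{u}) {R S : Type u} [CommRing R] [CommRing S] [Algebra R S]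
    [Algebra.FiniteType R S] (p : Ideal R) [p.IsPrime] (q : Ideal S) [q.IsPrime] [q.LiesOver p] (n : ℕ)
    (x : PrimeSpectrum (p.Fiber S)) (hxq : x.asIdeal = FlatCA.fiberIdeal p q)
    (hn : FlatMor.localDim (PrimeSpectrum (p.Fiber S)) x = n) :
    ∃ (R' S' D : Type u) (_ : CommRing R') (_ : CommRing S') (_ : CommRing D) (_ : Algebra R R')
      (_ : Algebra S S') (_ : Algebra R' S') (_ : Algebra R S') (_ : IsScalarTower R R' S')
      (_ : IsScalarTower R S S') (_ : Algebra R' D) (_ : Algebra D S') (_ : IsScalarTower R' D S')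
      (p' : Ideal R') (q' : Ideal S') (y : Ideal D) (_ : p'.IsPrime) (_ : q'.IsPrime) (_ : y.IsPrime)
      (_ : q'.LiesOver p') (_ : q'.LiesOver y) (_ : y.LiesOver p'),
      FlatCA.IsEtaleNhd R R' p p' ∧ FlatCA.IsEtaleNhd S S' q q' ∧ Module.Finite D S' ∧
      (∀ (z₁ : Ideal S') [z₁.IsPrime], z₁.LiesOver y → z₁ = q') ∧ FlatCA.PurelyTranscendental p' y ∧
      FlatCA.SmoothRelDim n R' D ∧ FlatCA.GeomIntegralFibres R' D := by
  obtain ⟨P', C, _, _, _, _, _, _, _, _, _, _, y₁, q₁, hy₁, hq₁, hy₁p, hq₁y, het, e1, hfin, huniq, hpt⟩ :=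
    LSTCore.exists_step1 p q n x hxq hn
  obtain ⟨R', D, _, _, _, _, _, _, _, _, p', y, hp', hy, hyp', hyy₁, e2, e3, hpt', hsm, hgi⟩ :=
    exists_step2 GIN n p y₁ hpt
  obtain ⟨S', _, _, _, _, _, _, hpo⟩ : ∃ (S' : Type u) (_ : CommRing S') (_ : Algebra C S')
      (_ : Algebra D S') (_ : Algebra P' S') (_ : IsScalarTower P' C S') (_ : IsScalarTower P' D S'),
      Algebra.IsPushout P' C D S' := by
    let : Algebra D (C ⊗[P'] D) := Algebra.TensorProduct.rightAlgebra
    exact ⟨C ⊗[P'] D, inferInstance, inferInstance, inferInstance, inferInstance, inferInstance,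
      inferInstance, TensorProduct.isPushout⟩
  obtain ⟨q', hq', hq'q₁, hq'y, e4, huniq'⟩ := EtaleNhd.exists_isEtaleNhd_pushout (R := P') (R' := D)
    (S := C) (S' := S') (p := y₁) (p' := y) (q := q₁) e3 hq₁y
  let iSS' : Algebra S S' := ((algebraMap C S').comp (algebraMap S C)).toAlgebra
  have : IsScalarTower S C S' := .of_algebraMap_eq' rfl
  let iRS' : Algebra R S' := ((algebraMap S S').comp (algebraMap R S)).toAlgebra
  have : IsScalarTower R S S' := .of_algebraMap_eq' rfl
  let iR'S' : Algebra R' S' := ((algebraMap D S').comp (algebraMap R' D)).toAlgebra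
  have : IsScalarTower R' D S' := .of_algebraMap_eq' rfl
  have : IsScalarTower R R' S' := by
    refine .of_algebraMap_eq fun r => ?_
    rw [IsScalarTower.algebraMap_apply R S S', IsScalarTower.algebraMap_apply S C S',
      ← IsScalarTower.algebraMap_apply R S C, IsScalarTower.algebraMap_apply R P' C,
      ← IsScalarTower.algebraMap_apply P' C S', IsScalarTower.algebraMap_apply R' D S',
      ← IsScalarTower.algebraMap_apply R R' D, IsScalarTower.algebraMap_apply R P' D,
      ← IsScalarTower.algebraMap_apply P' D S']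
  have hq'p' : q'.LiesOver p' := Ideal.LiesOver.trans q' y p'
  refine ⟨R', S', D, inferInstance, inferInstance, inferInstance, inferInstance, inferInstance,
    inferInstance, inferInstance, inferInstance, inferInstance, inferInstance, inferInstance,
    inferInstance, p', q', y, hp', hq', hy, hq'p', hq'y, hyp', e2, NhdBasic.trans e1 e4, ?_, ?_, hpt',
    hsm, hgi⟩
  · exact BCTools.finite_of_isPushout P' C D S'
  · intro z hz hzy
    have h1 : z.LiesOver y₁ := Ideal.LiesOver.trans z y y₁
    have h2 : (z.under C).LiesOver y₁ := ⟨by rw [Ideal.under_under]; exact h1.over⟩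
    have h3 : z.under C = q₁ := huniq _ h2
    exact huniq' z ⟨h3.symm⟩ hzy

end Groth.Agent.Flat2B.LSTOf
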