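import Mathlib.RingTheory.Flat.Basic
import Mathlib.LinearAlgebra.TensorProduct.RightExactness
import Mathlib.LinearAlgebra.TensorProduct.Tower
import Mathlib.RingTheory.Finiteness.Basic
import Mathlib.LinearAlgebra.TensorProduct.Submodule
import Mathlib.RingTheory.TensorProduct.Finite

/-!
Dévissage for injectivity of `u.lTensor Q` as `Q` varies.
-/

universe u v

namespace Groth.Agent.Flat2B.LTensorDev

open TensorProduct Function

variable {A : Type u} [CommRing A] {N M : Type u} [AddCommGroup N] [Module A N]
  [AddCommGroup M] [Module A M] (u : N →ₗ[A] M)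

/-- If `0 → Q₁ → Q₂ → Q₃ → 0` is exact, `M` is flat and `Q₁ ⊗ u`, `Q₃ ⊗ u` are injective then
`Q₂ ⊗ u` is injective. -/
theorem injective_of_exact [Module.Flat A M] {Q₁ Q₂ Q₃ : Type v} [AddCommGroup Q₁] [Module A Q₁]
    [AddCommGroup Q₂] [Module A Q₂] [AddCommGroup Q₃] [Module A Q₃]
    (f : Q₁ →ₗ[A] Q₂) (g : Q₂ →ₗ[A] Q₃) (hf : Injective f) (hfg : Exact f g) (hg : Surjective g)
    (h₁ : Injective (u.lTensor Q₁)) (h₃ : Injective (u.lTensor Q₃)) :
    Injective (u.lTensor Q₂) := by
  rw [injective_iff_map_eq_zero]
  intro x hx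
  have h1 : (u.lTensor Q₃) (g.rTensor N x) = 0 := by
    have : (u.lTensor Q₃) (g.rTensor N x) = (g.rTensor M) (u.lTensor Q₂ x) := by
      rw [← LinearMap.comp_apply, ← LinearMap.comp_apply, LinearMap.lTensor_comp_rTensor,
        LinearMap.rTensor_comp_lTensor]
    rw [this, hx, map_zero]
  have h2 : g.rTensor N x = 0 := by
    apply h₃
    rw [h1, map_zero]
  obtain ⟨y, rfl⟩ := (rTensor_exact N hfg hg x).mp h2
  have h3 : (f.rTensor M) (u.lTensor Q₁ y) = 0 := by
    rw [← hx, ← LinearMap.comp_apply, ← LinearMap.comp_apply, LinearMap.lTensor_comp_rTensor,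
        LinearMap.rTensor_comp_lTensor]
  have h4 : u.lTensor Q₁ y = 0 := by
    apply Module.Flat.rTensor_preserves_injective_linearMap (M := M) f hf
    rw [h3, map_zero]
  have h5 : y = 0 := by
    apply h₁
    rw [h4, map_zero]
  rw [h5, map_zero]

/-- Transport along an isomorphism of the test module. -/
theorem injective_of_equiv {Q Q' : Type*} [AddCommGroup Q] [Module A Q] [AddCommGroup Q']
    [Module A Q'] (e : Q ≃ₗ[A] Q') (h : Injective (u.lTensor Q)) : Injective (u.lTensor Q') := by
  have : u.lTensor Q' = (e.toLinearMap.rTensor M) ∘ₗ (u.lTensor Q) ∘ₗ (e.symm.toLinearMap.rTensor N) := by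
    ext x y
    simp
  rw [this]
  have h1 : Injective (e.toLinearMap.rTensor M) := (e.rTensor M).injective
  have h2 : Injective (e.symm.toLinearMap.rTensor N) := (e.symm.rTensor N).injective
  simp only [LinearMap.coe_comp]
  exact h1.comp (h.comp h2)

/-- To check that `Q ⊗ u` is injective for all `Q` it is enough to check it for cyclic `Q`, if the
target of `u` is flat. -/
theorem injective_of_cyclic_aux [Module.Flat A M]
    (h : ∀ I : Ideal A, Injective (u.lTensor (A ⧸ I))) (n : ℕ) :
    ∀ (Q : Type u) [AddCommGroup Q] [Module A Q] (s : Fin n → Q),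
      Submodule.span A (Set.range s) = ⊤ → Injective (u.lTensor Q) := by
  induction n with
  | zero =>
    intro Q _ _ s hs
    have hQ : Subsingleton Q := by
      rw [← Submodule.subsingleton_iff A, ← subsingleton_iff_bot_eq_top, ← hs]
      simp [Set.range_eq_empty]
    haveI : Subsingleton (Q ⊗[A] N) := by
      refine subsingleton_of_forall_eq 0 (fun x => ?_)
      induction x using TensorProduct.induction_on with
      | zero => rfl
      | tmul q n => rw [Subsingleton.elim q 0, TensorProduct.zero_tmul]
      | add x y hx hy => rw [hx, hy, add_zero]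
    exact Function.injective_of_subsingleton _
  | succ n ih =>
    intro Q _ _ s hs
    let Q' : Submodule A Q := Submodule.span A {s 0}
    refine injective_of_exact u Q'.subtype Q'.mkQ Q'.injective_subtype
      (LinearMap.exact_subtype_mkQ Q') Q'.mkQ_surjective ?_ ?_
    · exact injective_of_equiv u (LinearMap.quotKerEquivRange (LinearMap.toSpanSingleton A Q (s 0)) |>.trans
        (LinearEquiv.ofEq _ _ (LinearMap.range_toSpanSingleton (s 0)))) (h _)
    · refine ih (Q ⧸ Q') (fun i => Q'.mkQ (s i.succ)) ?_
      have h1 : Submodule.map Q'.mkQ (Submodule.span A (Set.range s)) = ⊤ := by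
        rw [hs, Submodule.map_top, LinearMap.range_eq_top]
        exact Q'.mkQ_surjective
      rw [Submodule.map_span] at h1
      rw [eq_top_iff, ← h1, Submodule.span_le]
      rintro _ ⟨_, ⟨i, rfl⟩, rfl⟩
      refine Fin.cases ?_ (fun j => ?_) i
      · have : Q'.mkQ (s 0) = 0 := by
          simp only [Submodule.mkQ_apply, Submodule.Quotient.mk_eq_zero]
          exact Submodule.mem_span_singleton_self _
        rw [this]
        exact Submodule.zero_mem _
      · exact Submodule.subset_span ⟨j, rfl⟩

/-- To check that `Q ⊗ u` is injective for all `Q` it is enough to check it for cyclic `Q`, if the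
target of `u` is flat. -/
theorem injective_of_cyclic [Module.Flat A M]
    (h : ∀ I : Ideal A, Injective (u.lTensor (A ⧸ I)))
    (Q : Type u) [AddCommGroup Q] [Module A Q] : Injective (u.lTensor Q) := by
  rw [injective_iff_map_eq_zero]
  intro x hx
  obtain ⟨Q', hQ', hy⟩ := TensorProduct.exists_finite_submodule_left_of_setFinite {x}
    (Set.finite_singleton x)
  obtain ⟨y, rfl⟩ := hy (Set.mem_singleton x)
  obtain ⟨n, s, hs⟩ := Submodule.fg_iff_exists_fin_generating_family.mp hQ'.fg_top
  have h3 : (Q'.subtype.rTensor M) (u.lTensor Q' y) = 0 := by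
    rw [← hx, ← LinearMap.comp_apply, ← LinearMap.comp_apply, LinearMap.lTensor_comp_rTensor,
        LinearMap.rTensor_comp_lTensor]
  have h4 : u.lTensor Q' y = 0 := by
    apply Module.Flat.rTensor_preserves_injective_linearMap (M := M) Q'.subtype
      Q'.injective_subtype
    rw [h3, map_zero]
  have h5 : y = 0 := by
    apply injective_of_cyclic_aux u h n Q' s hs
    rw [h4, map_zero]
  rw [h5, map_zero]

/-- Dévissage along powers of an ideal of an `A`-algebra `R`: if `Q ⊗ u` is injective for
every `R`-module killed by `I` then also for every `R`-module killed by a power of `I`. -/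
theorem injective_of_pow [Module.Flat A M] {R : Type u} [CommRing R] [Algebra A R] (I : Ideal R)
    (h : ∀ (Q : Type u) [AddCommGroup Q] [Module A Q] [Module R Q] [IsScalarTower A R Q],
      (∀ a ∈ I, ∀ q : Q, a • q = 0) → Injective (u.lTensor Q)) (n : ℕ) :
    ∀ (Q : Type u) [AddCommGroup Q] [Module A Q] [Module R Q] [IsScalarTower A R Q],
      (∀ a ∈ I ^ n, ∀ q : Q, a • q = 0) → Injective (u.lTensor Q) := by
  induction n with
  | zero =>
    intro Q _ _ _ _ hQ
    have hQ0 : ∀ q : Q, q = 0 := fun q => by
      simpa using hQ 1 (by simp) q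
    haveI : Subsingleton (Q ⊗[A] N) := by
      refine subsingleton_of_forall_eq 0 (fun x => ?_)
      induction x using TensorProduct.induction_on with
      | zero => rfl
      | tmul q n => rw [hQ0 q, TensorProduct.zero_tmul]
      | add x y hx hy => rw [hx, hy, add_zero]
    exact Function.injective_of_subsingleton _
  | succ n ih =>
    intro Q _ _ _ _ hQ
    let Q' : Submodule R Q := I • ⊤
    refine injective_of_exact u (Q'.subtype.restrictScalars A) (Q'.mkQ.restrictScalars A)
      Q'.injective_subtype
      (LinearMap.exact_subtype_mkQ Q') Q'.mkQ_surjective ?_ ?_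
    · refine ih Q' (fun a ha q => ?_)
      obtain ⟨q, hq⟩ := q
      ext
      change a • q = 0
      refine Submodule.smul_induction_on (p := fun q => a • q = 0) hq (fun r hr m _ => ?_)
        (fun x y hx hy => ?_)
      · rw [← mul_smul]
        exact hQ _ (by rw [pow_succ]; exact Ideal.mul_mem_mul ha hr) m
      · rw [smul_add, hx, hy, add_zero]
    · refine h (Q ⧸ Q') (fun a ha q => ?_)
      obtain ⟨q, rfl⟩ := Q'.mkQ_surjective q
      rw [← map_smul]
      simp only [Submodule.mkQ_apply, Submodule.Quotient.mk_eq_zero]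
      exact Submodule.smul_mem_smul ha Submodule.mem_top

end Groth.Agent.Flat2B.LTensorDev
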