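import Groth.Agent.Flat2B.LTensorDev
import Mathlib.RingTheory.Localization.BaseChange
import Mathlib.RingTheory.Ideal.MinimalPrime.Localization
import Mathlib.RingTheory.Localization.AtPrime.Basic
import Mathlib.RingTheory.Finiteness.Ideal
import Mathlib.LinearAlgebra.TensorProduct.Pi

/-!
Universal injectivity of a map of flat modules can be checked, prime by prime, on modules
killed by a finitely generated ideal of the local ring.
-/

universe u v

namespace Groth.Agent.Flat2B.LTensorLocal

open TensorProduct Function IsLocalRing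

variable {A : Type u} [CommRing A] {N M : Type u} [AddCommGroup N] [Module A N]
  [AddCommGroup M] [Module A M] (u : N →ₗ[A] M)

/-- `J`-torsion of `P ⊗ N`, for `N` flat and `J` finitely generated: it comes from
the `J`-torsion of `P`. -/
theorem mem_range_of_smul_eq_zero [Module.Flat A N] {R : Type u} [CommRing R] [Algebra A R]
    (P : Type u) [AddCommGroup P] [Module A P] [Module R P] [IsScalarTower A R P]
    {k : ℕ} (g : Fin k → R) (y : P ⊗[A] N) (hy : ∀ i, g i • y = 0) :
    ∃ P' : Submodule R P, (∀ a ∈ Ideal.span (Set.range g), ∀ q : P', a • q = 0) ∧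
      y ∈ LinearMap.range ((P'.subtype.restrictScalars A).rTensor N) := by
  let m : P →ₗ[R] (Fin k → P) := LinearMap.pi (fun i => LinearMap.lsmul R P (g i))
  refine ⟨LinearMap.ker m, fun a ha q => ?_, ?_⟩
  · obtain ⟨q, hq⟩ := q
    ext
    change a • q = 0
    have hq' : ∀ i, g i • q = 0 := fun i => by
      have := congrFun (LinearMap.mem_ker.mp hq) i
      simpa [m] using this
    refine Submodule.span_induction (p := fun a _ => a • q = 0) ?_ (zero_smul _ _) ?_ ?_ ha
    · rintro _ ⟨i, rfl⟩
      exact hq' i
    · intro x z _ _ hx hz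
      rw [add_smul, hx, hz, add_zero]
    · intro c x _ hx
      rw [smul_assoc, hx, smul_zero]
  · have hex : Exact ((LinearMap.ker m).subtype.restrictScalars A) (m.restrictScalars A) :=
      LinearMap.exact_subtype_ker_map m
    have hex' := Module.Flat.rTensor_exact N hex
    rw [LinearMap.mem_range]
    refine (hex' y).mp ?_
    -- the image of `y` in `(Fin k → P) ⊗ N` vanishes
    have key : ∀ z : P ⊗[A] N, (∀ i, g i • z = 0) → ((m.restrictScalars A).rTensor N) z = 0 := by
      intro z hz
      let e : (Fin k → P) ⊗[A] N ≃ₗ[A] (Fin k → P ⊗[A] N) :=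
        (TensorProduct.comm A _ _) ≪≫ₗ (TensorProduct.piRight A A N (fun _ : Fin k => P)) ≪≫ₗ
          LinearEquiv.piCongrRight (fun _ => TensorProduct.comm A _ _)
      apply e.injective
      rw [map_zero]
      ext i
      have h2 : (LinearMap.proj i ∘ₗ e.toLinearMap ∘ₗ (m.restrictScalars A).rTensor N) =
          ((LinearMap.lsmul R (P ⊗[A] N) (g i)).restrictScalars A) := by
        ext q n
        simp [e, m, TensorProduct.smul_tmul']
      have h3 := LinearMap.congr_fun h2 z
      simp only [LinearMap.comp_apply, LinearMap.proj_apply, LinearEquiv.coe_coe,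
        LinearMap.restrictScalars_apply, LinearMap.lsmul_apply] at h3
      rw [h3, hz i]
      rfl
    exact key y hy

/-- Local criterion for universal injectivity of a map of flat modules. -/
theorem injective_of_local [Module.Flat A N] [Module.Flat A M]
    (H : ∀ (p : Ideal A) [p.IsPrime], ∃ I : Ideal (Localization.AtPrime p), I.FG ∧
      I ≤ maximalIdeal (Localization.AtPrime p) ∧
      ∀ (Q : Type u) [AddCommGroup Q] [Module A Q] [Module (Localization.AtPrime p) Q]
        [IsScalarTower A (Localization.AtPrime p) Q],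
        (∀ a ∈ I, ∀ q : Q, a • q = 0) → Injective (u.lTensor Q))
    (Q : Type u) [AddCommGroup Q] [Module A Q] : Injective (u.lTensor Q) := by
  rw [injective_iff_map_eq_zero]
  intro x hx
  by_contra hx0
  set J : Ideal A := (Submodule.span A {x}).annihilator with hJ
  have hJmem : ∀ a : A, a ∈ J ↔ a • x = 0 := fun a => by
    rw [hJ, Submodule.mem_annihilator_span_singleton]
  have hJ1 : J ≠ ⊤ := by
    intro h
    have : (1 : A) ∈ J := by rw [h]; trivial
    rw [hJmem, one_smul] at this
    exact hx0 this
  obtain ⟨⟨p, hp⟩⟩ := Ideal.nonempty_minimalPrimes hJ1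
  haveI hpp : p.IsPrime := hp.1.1
  obtain ⟨I, hIfg, hIm, hI⟩ := H p
  let R := Localization.AtPrime p
  let P := LocalizedModule p.primeCompl Q
  let loc : Q →ₗ[A] P := LocalizedModule.mkLinearMap p.primeCompl Q
  let φ : Q ⊗[A] N →ₗ[A] P ⊗[A] N := loc.rTensor N
  haveI hφ : IsLocalizedModule p.primeCompl φ :=
    inferInstanceAs (IsLocalizedModule p.primeCompl (AlgebraTensorModule.rTensor A N loc))
  -- `φ x ≠ 0`
  have hφx : φ x ≠ 0 := by
    intro h0
    rw [IsLocalizedModule.eq_zero_iff p.primeCompl] at h0
    obtain ⟨s, hs⟩ := h0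
    exact s.2 (hp.1.2 ((hJmem _).mpr hs))
  -- every element of the maximal ideal of `R` is nilpotent on `φ x`
  have hnil : ∀ c ∈ maximalIdeal R, ∃ n : ℕ, c ^ n • φ x = 0 := by
    intro c hc
    have h1 : c ∈ (J.map (algebraMap A R)).radical := by
      rw [IsLocalization.AtPrime.radical_map_of_mem_minimalPrimes (A := R) p J hp]
      rwa [Localization.AtPrime.map_eq_maximalIdeal]
    obtain ⟨n, hn⟩ := h1
    refine ⟨n, ?_⟩
    refine Submodule.span_induction (p := fun a _ => a • φ x = 0) ?_ (zero_smul _ _) ?_ ?_ hn
    · rintro _ ⟨a, ha, rfl⟩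
      have : a • x = 0 := (hJmem a).mp ha
      change algebraMap A R a • φ x = 0
      rw [algebraMap_smul, ← map_smul, this, map_zero]
    · intro x z _ _ hx hz
      rw [add_smul, hx, hz, add_zero]
    · intro c x _ hx
      rw [smul_assoc, hx, smul_zero]
  -- hence a power of `I` kills `φ x`
  let J' : Ideal R := (Submodule.span R {φ x}).annihilator
  have hIJ : I ≤ J'.radical := by
    intro c hc
    obtain ⟨n, hn⟩ := hnil c (hIm hc)
    exact ⟨n, by rw [Submodule.mem_annihilator_span_singleton]; exact hn⟩
  obtain ⟨n, hn⟩ := Ideal.exists_pow_le_of_le_radical_of_fg hIJ hIfg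
  obtain ⟨k, g, hg⟩ := Submodule.fg_iff_exists_fin_generating_family.mp (Ideal.FG.pow (n := n) hIfg)
  obtain ⟨P', hP', ⟨z, hz⟩⟩ := mem_range_of_smul_eq_zero (R := R) P g (φ x) (fun i => by
    have : g i ∈ J' := hn (by rw [← hg]; exact Submodule.subset_span ⟨i, rfl⟩)
    rwa [Submodule.mem_annihilator_span_singleton] at this)
  have hinj : Injective (u.lTensor P') := by
    refine LTensorDev.injective_of_pow u I (fun Q _ _ _ _ h => hI Q h) n P' ?_
    intro a ha q
    refine hP' a ?_ q
    rw [← Ideal.submodule_span_eq, hg]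
    exact ha
  have h3 : ((P'.subtype.restrictScalars A).rTensor M) (u.lTensor P' z) = 0 := by
    have h4 : ((P'.subtype.restrictScalars A).rTensor M) (u.lTensor P' z) =
        (u.lTensor P) (((P'.subtype.restrictScalars A).rTensor N) z) := by
      rw [← LinearMap.comp_apply, ← LinearMap.comp_apply, LinearMap.lTensor_comp_rTensor,
        LinearMap.rTensor_comp_lTensor]
    have h5 : (u.lTensor P) (φ x) = (loc.rTensor M) (u.lTensor Q x) := by
      rw [← LinearMap.comp_apply, ← LinearMap.comp_apply, LinearMap.lTensor_comp_rTensor,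
        LinearMap.rTensor_comp_lTensor]
    rw [h4, hz, h5, hx, map_zero]
  have h4 : u.lTensor P' z = 0 := by
    apply Module.Flat.rTensor_preserves_injective_linearMap (M := M)
      (P'.subtype.restrictScalars A) P'.injective_subtype
    rw [h3, map_zero]
  have h5 : z = 0 := by
    apply hinj
    rw [h4, map_zero]
  apply hφx
  rw [← hz, h5, map_zero]

end Groth.Agent.Flat2B.LTensorLocal
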