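import Groth.Agent.Flat2B.FlatAssembly
import Groth.Agent.Flat2B.CutDev
import Groth.Agent.Flat2B.IdemRep386

/-!
# The local case of Stacks 05UG
-/

set_option autoImplicit false
universe u

open CategoryTheory CategoryTheory.Limits AlgebraicGeometry

namespace Groth.Agent.Flat2B.LocalRep386

open FlatAssembly FlatFun

theorem algRep_idem {A : Type u} [CommRing A] (C : Ideal A) (hC : C.FG) (A₁ : Type u) [CommRing A₁]
    [Algebra A A₁] :
    AlgRep (fun (R : Type u) [CommRing R] [Algebra A R] =>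
      IsIdempotentElem (C.map (algebraMap A R))) A₁ := by
  obtain ⟨Z, i, h1, h2, h3, h4⟩ := IdemRep386.exists_rep (C.map (algebraMap A A₁)) (hC.map _)
  refine ⟨Z, i, h1, h2, h3, fun R _ _ _ _ => ?_⟩
  rw [← h4, Ideal.map_map, ← IsScalarTower.algebraMap_eq]

theorem localRep : LocalRep.{u} := by
  intro n A B N _ _ _ _ _ _ _ _ _ p _ D hfl
  obtain ⟨f, hf, s, C, hC, hiff⟩ := CutDev.exists_ideals D n hfl
  refine ⟨f, hf, fun A₁ _ _ hu => ?_⟩
  refine (algRep_forall_fin s (fun j (R : Type u) [CommRing R] [Algebra A R] =>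
    IsIdempotentElem ((C j).map (algebraMap A R))) (fun j => algRep_idem (C j) (hC j) A₁)).congr ?_
  intro R _ _ _ _
  refine hiff R ?_
  rw [IsScalarTower.algebraMap_apply A A₁ R]
  exact hu.map (algebraMap A₁ R)

end Groth.Agent.Flat2B.LocalRep386
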