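import Groth.Agent.Books.Minors
import Groth.Agent.MiscA.MinorProj
import Mathlib.RingTheory.LocalRing.Module
import Mathlib.LinearAlgebra.Alternating.Basic
import Mathlib.RingTheory.Finiteness.Basic
import Mathlib.RingTheory.Finiteness.Projective

/-!
# Ideals of minors: finite generation, base change, and freeness over local rings

`minorsIdeal K s` (from `Books.Minors`) is the ideal generated by the `s × s` minors of matrices with
rows in `K ≤ R^ι`.
-/

set_option autoImplicit false

universe u v w

namespace Groth.Agent.Flat2B.MinorLoc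

open Matrix Groth.Agent.Books.Minors

section Basic

variable {R : Type u} [CommRing R] {ι : Type v}

theorem minorsIdeal_span (T : Set (ι → R)) (s : ℕ) :
    minorsIdeal (Submodule.span R T) s =
      Ideal.span {d | ∃ (x : Fin s → ι → R) (c : Fin s → ι), (∀ l, x l ∈ T) ∧ d = (rowMat x c).det} := by
  classical
  apply le_antisymm
  · refine Ideal.span_le.2 ?_
    rintro _ ⟨x, c, hx, rfl⟩
    set J : Ideal R := Ideal.span {d | ∃ (x : Fin s → ι → R) (c : Fin s → ι), (∀ l, x l ∈ T) ∧
      d = (rowMat x c).det} with hJ
    suffices H : ∀ (F : Finset (Fin s)) (y : Fin s → ι → R), (∀ l ∈ F, y l ∈ Submodule.span R T) →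
        (∀ l ∉ F, y l ∈ T) → (rowMat y c).det ∈ J from
      H Finset.univ x (fun l _ => hx l) (fun l hl => absurd (Finset.mem_univ l) hl)
    intro F
    induction F using Finset.induction_on with
    | empty =>
      intro y _ h2
      exact Ideal.subset_span ⟨y, c, fun l => h2 l (Finset.notMem_empty l), rfl⟩
    | insert a F haF ih =>
      intro y h1 h2
      have hrow : ∀ z : ι → R, rowMat (Function.update y a z) c =
          (rowMat y c).updateRow a (fun m => z (c m)) := by
        intro z
        ext l m
        by_cases hl : l = a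
        · subst hl; simp [rowMat]
        · simp [rowMat, hl]
      have key : ∀ z ∈ Submodule.span R T, (rowMat (Function.update y a z) c).det ∈ J := by
        intro z hz
        induction hz using Submodule.span_induction with
        | mem z hz =>
          apply ih
          · intro l hl
            have : l ≠ a := fun h => haF (h ▸ hl)
            rw [Function.update_of_ne this]
            exact h1 l (Finset.mem_insert_of_mem hl)
          · intro l hl
            by_cases hla : l = a
            · subst hla
              simpa using hz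
            · rw [Function.update_of_ne hla]
              exact h2 l (by simp [hla, hl])
        | zero =>
          rw [hrow]
          have : (fun m => (0 : ι → R) (c m)) = (0 : R) • (fun m => (0 : ι → R) (c m)) := by
            ext; simp
          rw [this, Matrix.det_updateRow_smul]
          simp
        | add z w _ _ hz hw =>
          rw [hrow] at hz hw ⊢
          have : (fun m => (z + w) (c m)) = (fun m => z (c m)) + fun m => w (c m) := rfl
          rw [this, Matrix.det_updateRow_add]
          exact Ideal.add_mem _ hz hw
        | smul r z _ hz =>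
          rw [hrow] at hz ⊢
          have : (fun m => (r • z) (c m)) = r • (fun m => z (c m)) := rfl
          rw [this, Matrix.det_updateRow_smul]
          exact Ideal.mul_mem_left _ _ hz
      have := key (y a) (h1 a (Finset.mem_insert_self a F))
      rwa [Function.update_eq_self] at this
  · refine Ideal.span_le.2 ?_
    rintro _ ⟨x, c, hx, rfl⟩
    exact det_mem_minorsIdeal _ x c fun l => Submodule.subset_span (hx l)

theorem fg_minorsIdeal [Finite ι] (K : Submodule R (ι → R)) (hK : K.FG) (s : ℕ) :
    (minorsIdeal K s).FG := by
  obtain ⟨T, rfl⟩ := hK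
  rw [minorsIdeal_span]
  let g : ((Fin s → (T : Set (ι → R))) × (Fin s → ι)) → R := fun p => (rowMat (fun l => (p.1 l : ι → R)) p.2).det
  have : {d | ∃ (x : Fin s → ι → R) (c : Fin s → ι), (∀ l, x l ∈ (T : Set (ι → R))) ∧
      d = (rowMat x c).det} = Set.range g := by
    ext d
    constructor
    · rintro ⟨x, c, hx, rfl⟩
      exact ⟨⟨fun l => ⟨x l, hx l⟩, c⟩, rfl⟩
    · rintro ⟨⟨x, c⟩, rfl⟩
      exact ⟨fun l => x l, c, fun l => (x l).2, rfl⟩
  rw [this]
  exact Submodule.fg_span (Set.finite_range g)

theorem map_minorsIdeal {S : Type w} [CommRing S] (f : R →+* S) (K : Submodule R (ι → R)) (s : ℕ) :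
    minorsIdeal (Submodule.span S ((fun x : ι → R => (f ∘ x : ι → S)) '' (K : Set (ι → R)))) s =
      (minorsIdeal K s).map f := by
  apply le_antisymm
  · refine Ideal.span_le.2 ?_
    rintro _ ⟨y, c, hy, rfl⟩
    exact det_mem_map_of_mem_span f K y hy c
  · rw [Ideal.map_le_iff_le_comap]
    refine Ideal.span_le.2 ?_
    rintro _ ⟨x, c, hx, rfl⟩
    change f (rowMat x c).det ∈ minorsIdeal (Submodule.span S
      ((fun x : ι → R => (f ∘ x : ι → S)) '' (K : Set (ι → R)))) s
    rw [RingHom.map_det, RingHom.mapMatrix_apply]
    exact det_mem_minorsIdeal _ (fun l => f ∘ x l) c fun l => Submodule.subset_span ⟨x l, hx l, rfl⟩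

/-- Expansion of the determinant of a product `Y * D` along columns, rectangular version. -/
theorem det_mul_mem [Fintype ι] (K : Submodule R (ι → R)) {s : ℕ}
    (y : Fin s → ι → R) (hy : ∀ l, y l ∈ K) (D : Matrix ι (Fin s) R) :
    (Matrix.of y * D).det ∈ minorsIdeal K s := by
  classical
  have key : (Matrix.of y * D).det =
      ∑ t : Fin s → ι, (∏ m, D (t m) m) * (rowMat y t).det := by
    rw [← Matrix.det_transpose]
    have h1 : (Matrix.of y * D)ᵀ =
        Matrix.of (fun m => ∑ t : ι, D t m • (fun l => y l t)) := by
      ext m l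
      simp [Matrix.mul_apply, Matrix.transpose_apply, Finset.sum_apply, mul_comm]
    rw [h1]
    change (Matrix.detRowAlternating (R := R) (n := Fin s)).toMultilinearMap
      (fun m => ∑ t : ι, D t m • (fun l => y l t)) = _
    rw [MultilinearMap.map_sum]
    refine Finset.sum_congr rfl fun t _ => ?_
    rw [MultilinearMap.map_smul_univ, smul_eq_mul]
    congr 1
    rw [← Matrix.det_transpose]
    rfl
  rw [key]
  exact sum_mem fun t _ => Ideal.mul_mem_left _ _ (det_mem_minorsIdeal K y t hy)

/-- The alternating map of the minor with columns `c`, on rows in `K`. -/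
noncomputable def minorAlt (K : Submodule R (ι → R)) {s : ℕ} (c : Fin s → ι) : K [⋀^Fin s]→ₗ[R] R :=
  (Matrix.detRowAlternating (R := R) (n := Fin s)).compLinearMap
    ((LinearMap.funLeft R R c) ∘ₗ K.subtype)

theorem minorAlt_apply (K : Submodule R (ι → R)) {s : ℕ} (c : Fin s → ι) (x : Fin s → K) :
    minorAlt K c x = (rowMat (fun l => (x l : ι → R)) c).det := rfl

end Basic

section Local

variable {L : Type u} [CommRing L] {m : ℕ}

/-- If `L^m / K` is projective over the local ring `L` then every ideal of minors of `K` is `0` or `L`. -/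
theorem dichotomy_of_projective [IsLocalRing L] (K : Submodule L (Fin m → L))
    [Module.Projective L ((Fin m → L) ⧸ K)] (s : ℕ) :
    minorsIdeal K s = ⊥ ∨ minorsIdeal K s = ⊤ := by
  classical
  -- a retraction onto `K`
  obtain ⟨σ, hσ⟩ := Module.projective_lifting_property K.mkQ LinearMap.id K.mkQ_surjective
  have hmem : ∀ y, y - σ (K.mkQ y) ∈ K := by
    intro y
    rw [← Submodule.Quotient.mk_eq_zero, ← Submodule.mkQ_apply, map_sub, sub_eq_zero]
    exact (LinearMap.congr_fun hσ (K.mkQ y)).symm
  let ρ : (Fin m → L) →ₗ[L] K := LinearMap.codRestrict K (LinearMap.id - σ ∘ₗ K.mkQ) (by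
    intro y; exact hmem y)
  have hρ : ∀ x : K, ρ x = x := by
    intro x
    apply Subtype.ext
    change (x : Fin m → L) - σ (K.mkQ x) = x
    have : K.mkQ (x : Fin m → L) = 0 := by
      rw [Submodule.mkQ_apply, Submodule.Quotient.mk_eq_zero]; exact x.2
    rw [this, map_zero, sub_zero]
  have hρs : Function.Surjective ρ := fun x => ⟨x, hρ x⟩
  have hfin : Module.Finite L K := Module.Finite.of_surjective ρ hρs
  have hproj : Module.Projective L K :=
    Module.Projective.of_split K.subtype ρ (LinearMap.ext hρ)
  have hfree : Module.Free L K := Module.free_of_flat_of_isLocalRing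
  let b := Module.finBasis L K
  set r := Module.finrank L K with hr
  by_cases hs : s ≤ r
  · right
    rw [Ideal.eq_top_iff_one]
    let y : Fin s → Fin m → L := fun l => (b (Fin.castLE hs l) : Fin m → L)
    let D : Matrix (Fin m) (Fin s) L := Matrix.of fun t k => b.repr (ρ (Pi.single t 1)) (Fin.castLE hs k)
    have h1 : Matrix.of y * D = 1 := by
      ext l k
      have h2 : (Matrix.of y * D) l k = b.repr (ρ (y l)) (Fin.castLE hs k) := by
        conv_rhs => rw [← Finset.univ_sum_single (y l)]
        rw [map_sum, map_sum, Finset.sum_apply', Matrix.mul_apply]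
        refine Finset.sum_congr rfl fun t _ => ?_
        have : (Pi.single t (y l t) : Fin m → L) = (y l t) • Pi.single t 1 := by
          rw [← Pi.single_smul, smul_eq_mul, mul_one]
        rw [this, map_smul, map_smul]
        rfl
      rw [h2, hρ, Module.Basis.repr_self, Matrix.one_apply, Finsupp.single_apply]
      congr 1
      exact propext ⟨fun h => Fin.castLE_injective hs h, fun h => h ▸ rfl⟩
    have h3 := det_mul_mem K y (fun l => (b (Fin.castLE hs l)).2) D
    rwa [h1, Matrix.det_one] at h3
  · left
    rw [eq_bot_iff]
    refine Ideal.span_le.2 ?_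
    rintro _ ⟨x, c, hx, rfl⟩
    have h0 : minorAlt K c = 0 := by
      refine Module.Basis.ext_alternating b fun v hv => ?_
      exact absurd (by simpa using Fintype.card_le_of_injective v hv) hs
    have := minorAlt_apply K c (fun l => ⟨x l, hx l⟩)
    rw [h0] at this
    exact this.symm

theorem minorsIdeal_eq_minorIdeal (K : Submodule L (Fin m → L)) (s : ℕ) :
    minorsIdeal K s = Groth.Agent.MiscA.MinorProj.minorIdeal K s := by
  rfl

theorem projective_of_dichotomy (K : Submodule L (Fin m → L))
    (h : ∀ s, minorsIdeal K s = ⊥ ∨ minorsIdeal K s = ⊤) :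
    Module.Projective L ((Fin m → L) ⧸ K) :=
  Groth.Agent.MiscA.MinorProj.projective_of_dichotomy K fun r => by
    rw [← minorsIdeal_eq_minorIdeal]; exact h r

theorem projective_iff_dichotomy [IsLocalRing L] (K : Submodule L (Fin m → L)) :
    Module.Projective L ((Fin m → L) ⧸ K) ↔ ∀ s, minorsIdeal K s = ⊥ ∨ minorsIdeal K s = ⊤ :=
  ⟨fun _ s => dichotomy_of_projective K s, projective_of_dichotomy K⟩

end Local

end Groth.Agent.Flat2B.MinorLoc
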