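import Groth.Agent.S1134
import Groth.Agent.S0079
import Groth.Agent.Desc.LqfQAff
import Mathlib.AlgebraicGeometry.Morphisms.LocalFlatDescent
import Mathlib.AlgebraicGeometry.Morphisms.IsIso
import Mathlib.AlgebraicGeometry.EffectiveEpi

/-!
# Descent of monomorphisms of finite presentation representing a subfunctor
-/

set_option autoImplicit false
universe u

open CategoryTheory CategoryTheory.Limits AlgebraicGeometry

namespace Groth.Agent.Flat2B.MonoRep

/-- A monomorphism of finite presentation is quasi-affine. -/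
theorem isQuasiAffine_of_mono {X Y : Scheme.{u}} (f : X ⟶ Y) [Mono f] [LocallyOfFiniteType f]
    [QuasiCompact f] : Mor2.IsQuasiAffine f := by
  have : IsSeparated f := inferInstance
  have : LocallyQuasiFinite f := inferInstance
  exact Groth.Agent.Desc.LqfQAff.isQuasiAffine_of_locallyQuasiFinite f

/-- A monomorphism which becomes surjective on points after a flat surjective quasi-compact base
change: a mono `m : U ⟶ T` such that a faithfully flat quasi-compact `q : T' ⟶ T` factors through it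
is an isomorphism. -/
theorem isIso_of_factor {U T T' : Scheme.{u}} (m : U ⟶ T) [Mono m] (q : T' ⟶ T) [Flat q]
    [Surjective q] [QuasiCompact q] (w : T' ⟶ U) (hw : w ≫ m = q) : IsIso m := by
  have h1 : IsIso (pullback.fst q m) := by
    have : Mono (pullback.fst q m) := inferInstance
    let s : T' ⟶ pullback q m := pullback.lift (𝟙 _) w (by simp [hw])
    have hs : s ≫ pullback.fst q m = 𝟙 _ := pullback.lift_fst _ _ _
    exact ⟨s, by rw [← cancel_mono (pullback.fst q m), Category.assoc, hs]; simp, hs⟩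
  exact MorphismProperty.of_pullback_fst_of_descendsAlong (P := MorphismProperty.isomorphisms Scheme.{u})
    (Q := @Surjective ⊓ @Flat ⊓ @QuasiCompact) (f := q) (g := m)
    ⟨⟨‹_›, ‹_›⟩, ‹_›⟩ h1

section

variable {S Y S' Z' : Scheme.{u}} (j : Y ⟶ S) (p : S' ⟶ Y) (i' : Z' ⟶ S') [Mono i']

theorem lifts_subsingleton {T : Scheme.{u}} (x : T ⟶ S') :
    Subsingleton (Desc.Lifts (Over.mk i') x) :=
  ⟨fun v w => Subtype.ext ((cancel_mono i').1 (v.2.trans w.2.symm))⟩

/-- The transport of points. -/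
noncomputable def tr (Q : ∀ T : Scheme.{u}, (T ⟶ S) → Prop)
    (hi' : ∀ (T : Scheme.{u}) (h : T ⟶ S'), Q T ((h ≫ p) ≫ j) ↔ ∃ g, g ≫ i' = h)
    {T : Scheme.{u}} (x₀ x₁ : T ⟶ S') (h : x₀ ≫ p = x₁ ≫ p) (v : Desc.Lifts (Over.mk i') x₀) :
    Desc.Lifts (Over.mk i') x₁ :=
  have H : ∃ g, g ≫ i' = x₁ := (hi' T x₁).1 (by rw [← h]; exact (hi' T x₀).2 ⟨v.1, v.2⟩)
  ⟨H.choose, H.choose_spec⟩

/-- The descent datum on a subobject `Z'` of `S'` whose points are defined by a predicate over
`S`. -/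
noncomputable def dd (Q : ∀ T : Scheme.{u}, (T ⟶ S) → Prop)
    (hi' : ∀ (T : Scheme.{u}) (h : T ⟶ S'), Q T ((h ≫ p) ≫ j) ↔ ∃ g, g ≫ i' = h) :
    Desc.SchDD p where
  obj := Over.mk i'
  φ T x₀ x₁ h :=
    { toFun := tr j p i' Q hi' x₀ x₁ h
      invFun := tr j p i' Q hi' x₁ x₀ h.symm
      left_inv := fun v => (lifts_subsingleton i' x₀).elim _ _
      right_inv := fun v => (lifts_subsingleton i' x₁).elim _ _ }
  φ_natural T T' g x₀ x₁ h h' v v' hv' := (cancel_mono i').1 <| by
    have h1 : (tr j p i' Q hi' (g ≫ x₀) (g ≫ x₁) h' v').1 ≫ i' = g ≫ x₁ :=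
      (tr j p i' Q hi' (g ≫ x₀) (g ≫ x₁) h' v').2
    have h2 : (tr j p i' Q hi' x₀ x₁ h v).1 ≫ i' = x₁ := (tr j p i' Q hi' x₀ x₁ h v).2
    change (tr j p i' Q hi' (g ≫ x₀) (g ≫ x₁) h' v').1 ≫ i' =
      (g ≫ (tr j p i' Q hi' x₀ x₁ h v).1) ≫ i'
    rw [h1, Category.assoc, h2]
  φ_self T x v := (lifts_subsingleton i' x).elim _ _
  φ_comp T x₀ x₁ x₂ h₀₁ h₁₂ v := (lifts_subsingleton i' x₂).elim _ _

/-- **Representability of a subfunctor is local for faithfully flat quasi-compact maps**, for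
monomorphisms of finite presentation. -/
theorem exists_rep_of_cover [Mono j] [LocallyOfFinitePresentation j] [QuasiCompact j]
    [Surjective p] [Flat p] [QuasiCompact p] [LocallyOfFinitePresentation i'] [QuasiCompact i']
    (W : MorphismProperty Scheme.{u}) [W.IsStableUnderBaseChange] (hW : W p)
    (Q : ∀ T : Scheme.{u}, (T ⟶ S) → Prop)
    (hQj : ∀ (T : Scheme.{u}) (h : T ⟶ S), Q T h → ∃ g : T ⟶ Y, g ≫ j = h)
    (hmap : ∀ (T T' : Scheme.{u}) (g : T' ⟶ T) (h : T ⟶ S), Q T h → Q T' (g ≫ h))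
    (hdesc : ∀ (T T' : Scheme.{u}) (g : T' ⟶ T) (h : T ⟶ S), W g → Surjective g → Flat g →
      Q T' (g ≫ h) → Q T h)
    (hi' : ∀ (T : Scheme.{u}) (h : T ⟶ S'), Q T ((h ≫ p) ≫ j) ↔ ∃ g, g ≫ i' = h) :
    ∃ (Z : Scheme.{u}) (i : Z ⟶ S), Mono i ∧ LocallyOfFinitePresentation i ∧ QuasiCompact i ∧
      ∀ (T : Scheme.{u}) (h : T ⟶ S), Q T h ↔ ∃ g, g ≫ i = h := by
  obtain ⟨U, ⟨e⟩⟩ := Groth.Agent.S1134.result p (dd j p i' Q hi') (isQuasiAffine_of_mono i')
  -- the isomorphism over `S'`
  let a : pullback p U.hom ⟶ Z' := e.hom.hom.left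
  let b : Z' ⟶ pullback p U.hom := e.inv.hom.left
  have hab : a ≫ b = 𝟙 _ := by
    have := congrArg (fun f => f.hom.left) e.hom_inv_id
    exact this
  have hba : b ≫ a = 𝟙 _ := by
    have := congrArg (fun f => f.hom.left) e.inv_hom_id
    exact this
  have ha : a ≫ i' = pullback.fst p U.hom := Over.w e.hom.hom
  have hb : b ≫ pullback.fst p U.hom = i' := Over.w e.inv.hom
  have : IsIso a := ⟨b, hab, hba⟩
  have hp : (@Surjective ⊓ @Flat ⊓ @QuasiCompact : MorphismProperty Scheme.{u}) p :=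
    ⟨⟨‹_›, ‹_›⟩, ‹_›⟩
  have m1 : Mono (pullback.fst p U.hom) := by rw [← ha]; infer_instance
  have m2 : LocallyOfFinitePresentation (pullback.fst p U.hom) := by rw [← ha]; infer_instance
  have m3 : QuasiCompact (pullback.fst p U.hom) := by rw [← ha]; infer_instance
  have n1 : Mono U.hom := by
    have : (MorphismProperty.monomorphisms Scheme.{u}).DescendsAlong
        (@Surjective ⊓ @Flat ⊓ @QuasiCompact) := by
      rw [← MorphismProperty.diagonal_isomorphisms]; infer_instance
    exact MorphismProperty.of_pullback_fst_of_descendsAlong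
      (P := MorphismProperty.monomorphisms Scheme.{u}) hp m1
  have n2 : LocallyOfFinitePresentation U.hom :=
    MorphismProperty.of_pullback_fst_of_descendsAlong (P := @LocallyOfFinitePresentation) hp m2
  have n3 : QuasiCompact U.hom := by
    have := Groth.Agent.S0079.result
    exact MorphismProperty.of_pullback_fst_of_descendsAlong (P := @QuasiCompact) hp m3
  refine ⟨U.left, U.hom ≫ j, inferInstance, inferInstance, inferInstance, fun T h => ⟨fun hQ => ?_,
    fun ⟨g, hg⟩ => ?_⟩⟩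
  · obtain ⟨g₀, rfl⟩ := hQj T h hQ
    let q := pullback.fst g₀ p
    let r := pullback.snd g₀ p
    have hqr : q ≫ g₀ = r ≫ p := pullback.condition
    have h1 : Q _ ((r ≫ p) ≫ j) := by
      rw [← hqr, Category.assoc]; exact hmap _ _ q _ hQ
    obtain ⟨v, hv⟩ := (hi' _ r).1 h1
    let w : pullback g₀ p ⟶ U.left := (v ≫ b) ≫ pullback.snd p U.hom
    have hw : w ≫ U.hom = q ≫ g₀ := by
      change ((v ≫ b) ≫ pullback.snd p U.hom) ≫ U.hom = _
      rw [Category.assoc, ← pullback.condition, ← Category.assoc, Category.assoc v b, hb, hv, hqr]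
    have h2 : IsIso (pullback.fst g₀ U.hom) :=
      isIso_of_factor (pullback.fst g₀ U.hom) q (pullback.lift q w hw.symm)
        (pullback.lift_fst _ _ _)
    refine ⟨inv (pullback.fst g₀ U.hom) ≫ pullback.snd g₀ U.hom, ?_⟩
    rw [← Category.assoc, Category.assoc _ _ U.hom, ← pullback.condition, ← Category.assoc,
      IsIso.inv_hom_id, Category.id_comp]
  · subst hg
    let q := pullback.fst (g ≫ U.hom) p
    let r := pullback.snd (g ≫ U.hom) p
    have hqr : q ≫ (g ≫ U.hom) = r ≫ p := pullback.condition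
    refine hdesc _ _ q _ (W.pullback_fst _ _ hW) inferInstance inferInstance ?_
    rw [← Category.assoc g, ← Category.assoc q, hqr]
    refine (hi' _ r).2 ⟨pullback.lift r (q ≫ g) (by rw [← hqr, Category.assoc]) ≫ a, ?_⟩
    rw [Category.assoc, ha, pullback.lift_fst]

end

end Groth.Agent.Flat2B.MonoRep
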