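import Mathlib.RingTheory.Flat.Basic
import Mathlib.RingTheory.Flat.Tensor
import Mathlib.RingTheory.Flat.Stability
import Mathlib.LinearAlgebra.TensorProduct.Quotient
import Mathlib.LinearAlgebra.TensorProduct.Tower
import Mathlib.LinearAlgebra.TensorProduct.RightExactness
import Mathlib.RingTheory.TensorProduct.Quotient
import Mathlib.Algebra.Module.Torsion.Basic

/-!
# Flatness over a ring modulo a square-zero ideal (elementary forms)

* `cancelBaseChange_rTensor`: naturality of `AlgebraTensorModule.cancelBaseChange`.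
* `rTensor_injective_of_killed`: if `M/IM` is flat over `A/I` then tensoring with `M` over `A`
  keeps injective maps between modules killed by `I` injective.
* `rTensor_injective_of_filtered`: if moreover `J ≤ N` is a submodule with `I N ≤ J`, `I J = 0` and
  `J ⊗ M → N ⊗ M` is injective, then every injective map into `N` stays injective.
* `flat_quotient_of_killed`: local criterion for `A/I₂` with `I² ≤ I₂ ≤ I`.
-/

set_option autoImplicit false
universe u

namespace Groth.Agent.Flat2B.NilpFlat

open TensorProduct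

variable {A : Type u} [CommRing A]

/-- Naturality of `cancelBaseChange` in the first variable. -/
theorem cancelBaseChange_rTensor {B : Type u} [CommRing B] [Algebra A B] (M : Type u)
    [AddCommGroup M] [Module A M] {P Q : Type u} [AddCommGroup P] [AddCommGroup Q] [Module A P]
    [Module A Q] [Module B P] [Module B Q] [IsScalarTower A B P] [IsScalarTower A B Q]
    (f : P →ₗ[B] Q) (z : P ⊗[B] (B ⊗[A] M)) :
    AlgebraTensorModule.cancelBaseChange A B B Q M (f.rTensor _ z) =
      (f.restrictScalars A).rTensor M (AlgebraTensorModule.cancelBaseChange A B B P M z) := by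
  induction z using TensorProduct.induction_on with
  | zero => simp
  | add x y hx hy => simp only [map_add, hx, hy]
  | tmul p w =>
    induction w using TensorProduct.induction_on with
    | zero => simp
    | add x y hx hy => simp only [TensorProduct.tmul_add, map_add, hx, hy]
    | tmul a m =>
      simp only [LinearMap.rTensor_tmul, AlgebraTensorModule.cancelBaseChange_tmul,
        LinearMap.coe_restrictScalars, map_smul]

theorem rTensor_injective_iff {B : Type u} [CommRing B] [Algebra A B] (M : Type u)
    [AddCommGroup M] [Module A M] {P Q : Type u} [AddCommGroup P] [AddCommGroup Q] [Module A P]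
    [Module A Q] [Module B P] [Module B Q] [IsScalarTower A B P] [IsScalarTower A B Q]
    (f : P →ₗ[B] Q) :
    Function.Injective (f.rTensor (B ⊗[A] M)) ↔
      Function.Injective ((f.restrictScalars A).rTensor M) := by
  constructor
  · intro h x y hxy
    obtain ⟨x, rfl⟩ := (AlgebraTensorModule.cancelBaseChange A B B P M).surjective x
    obtain ⟨y, rfl⟩ := (AlgebraTensorModule.cancelBaseChange A B B P M).surjective y
    rw [← cancelBaseChange_rTensor, ← cancelBaseChange_rTensor] at hxy
    exact congrArg _ (h ((AlgebraTensorModule.cancelBaseChange A B B Q M).injective hxy))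
  · intro h x y hxy
    have hxy' := congrArg (AlgebraTensorModule.cancelBaseChange A B B Q M) hxy
    rw [cancelBaseChange_rTensor, cancelBaseChange_rTensor] at hxy'
    exact (AlgebraTensorModule.cancelBaseChange A B B P M).injective (h hxy')

theorem rTensor_injective_of_killed (I : Ideal A) (M : Type u) [AddCommGroup M] [Module A M]
    [Module.Flat (A ⧸ I) (M ⧸ (I • ⊤ : Submodule A M))] {P Q : Type u} [AddCommGroup P]
    [AddCommGroup Q] [Module A P] [Module A Q] (hP : ∀ a ∈ I, ∀ x : P, a • x = 0)
    (hQ : ∀ a ∈ I, ∀ x : Q, a • x = 0) (f : P →ₗ[A] Q) (hf : Function.Injective f) :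
    Function.Injective (f.rTensor M) := by
  have hP' : Module.IsTorsionBySet A P (I : Set A) := fun x a => hP a a.2 x
  have hQ' : Module.IsTorsionBySet A Q (I : Set A) := fun x a => hQ a a.2 x
  let _ : Module (A ⧸ I) P := hP'.module
  let _ : Module (A ⧸ I) Q := hQ'.module
  have : IsScalarTower A (A ⧸ I) P := hP'.isScalarTower
  have : IsScalarTower A (A ⧸ I) Q := hQ'.isScalarTower
  let e : ((A ⧸ I) ⊗[A] M) ≃ₗ[A ⧸ I] (M ⧸ (I • ⊤ : Submodule A M)) :=
    (quotTensorEquivQuotSMul M I).extendScalarsOfSurjective Ideal.Quotient.mk_surjective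
  have : Module.Flat (A ⧸ I) ((A ⧸ I) ⊗[A] M) := Module.Flat.of_linearEquiv e
  let f' : P →ₗ[A ⧸ I] Q := f.extendScalarsOfSurjective Ideal.Quotient.mk_surjective
  have h1 : Function.Injective (f'.rTensor ((A ⧸ I) ⊗[A] M)) :=
    Module.Flat.rTensor_preserves_injective_linearMap f' hf
  exact (rTensor_injective_iff M f').mp h1

theorem rTensor_injective_of_filtered (I : Ideal A) (M : Type u) [AddCommGroup M]
    [Module A M] [Module.Flat (A ⧸ I) (M ⧸ (I • ⊤ : Submodule A M))] {N : Type u}
    [AddCommGroup N] [Module A N] (J : Submodule A N) (hJ1 : ∀ a ∈ I, ∀ x : N, a • x ∈ J)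
    (hJ2 : ∀ a ∈ I, ∀ x ∈ J, a • x = 0) (hJ : Function.Injective (J.subtype.rTensor M))
    {K : Type u} [AddCommGroup K] [Module A K] (f : K →ₗ[A] N) (hf : Function.Injective f) :
    Function.Injective (f.rTensor M) := by
  -- the exact sequence `0 → J ∩ K → K → K / (J ∩ K) → 0`
  let L : Submodule A K := J.comap f
  let g : (K ⧸ L) →ₗ[A] (N ⧸ J) := Submodule.mapQ L J f le_rfl
  have hg : Function.Injective g := by
    rw [← LinearMap.ker_eq_bot, Submodule.ker_mapQ]
    simp [L]
  have hg' : Function.Injective (g.rTensor M) := by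
    refine rTensor_injective_of_killed I M ?_ ?_ g hg
    · intro a ha x
      obtain ⟨x, rfl⟩ := L.mkQ_surjective x
      rw [← map_smul, Submodule.mkQ_apply, Submodule.Quotient.mk_eq_zero]
      change f (a • x) ∈ J
      rw [map_smul]
      exact hJ1 a ha (f x)
    · intro a ha x
      obtain ⟨x, rfl⟩ := J.mkQ_surjective x
      rw [← map_smul, Submodule.mkQ_apply, Submodule.Quotient.mk_eq_zero]
      exact hJ1 a ha x
  let k : L →ₗ[A] J := (f.restrict (p := L) (q := J) fun x hx => hx)
  have hk : Function.Injective k := by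
    intro x y hxy
    have := congrArg Subtype.val hxy
    exact Subtype.ext (hf this)
  have hk' : Function.Injective (k.rTensor M) := by
    refine rTensor_injective_of_killed I M ?_ ?_ k hk
    · intro a ha x
      apply Subtype.ext
      apply hf
      change f (a • x) = f 0
      rw [map_smul, map_zero]
      exact hJ2 a ha _ x.2
    · intro a ha x
      exact Subtype.ext (hJ2 a ha _ x.2)
  rw [injective_iff_map_eq_zero]
  intro x hx
  have hx1 : (L.mkQ.rTensor M) x = 0 := by
    apply hg'
    rw [map_zero, ← LinearMap.comp_apply, ← LinearMap.rTensor_comp]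
    have : g ∘ₗ L.mkQ = J.mkQ ∘ₗ f := by
      ext; rfl
    rw [this, LinearMap.rTensor_comp, LinearMap.comp_apply, hx, map_zero]
  obtain ⟨y, hy⟩ := (rTensor_exact M (LinearMap.exact_subtype_mkQ L) L.mkQ_surjective x).mp hx1
  have hz : (k.rTensor M) y = 0 := by
    apply hJ
    rw [map_zero, ← LinearMap.comp_apply, ← LinearMap.rTensor_comp]
    have : J.subtype ∘ₗ k = f ∘ₗ L.subtype := by
      ext; rfl
    rw [this, LinearMap.rTensor_comp, LinearMap.comp_apply, hy, hx]
  have hy0 : y = 0 := hk' (by rw [hz, map_zero])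
  rw [← hy, hy0, map_zero]

/-- Local criterion of flatness over `A/I₂`, for `I² ≤ I₂ ≤ I`. -/
theorem flat_quotient_of_killed (I I₂ : Ideal A) (h₂ : ∀ a ∈ I, ∀ b ∈ I, a * b ∈ I₂)
    (M : Type u) [AddCommGroup M] [Module A M]
    [Module.Flat (A ⧸ I) (M ⧸ (I • ⊤ : Submodule A M))]
    (hJ : Function.Injective
      ((((I.map (Ideal.Quotient.mk I₂)).restrictScalars A).subtype).rTensor M)) :
    Module.Flat (A ⧸ I₂) (M ⧸ (I₂ • ⊤ : Submodule A M)) := by
  let e : ((A ⧸ I₂) ⊗[A] M) ≃ₗ[A ⧸ I₂] (M ⧸ (I₂ • ⊤ : Submodule A M)) :=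
    (quotTensorEquivQuotSMul M I₂).extendScalarsOfSurjective Ideal.Quotient.mk_surjective
  suffices Module.Flat (A ⧸ I₂) ((A ⧸ I₂) ⊗[A] M) from Module.Flat.of_linearEquiv e.symm
  rw [Module.Flat.iff_rTensor_injective']
  intro K
  have hmem : ∀ x ∈ I.map (Ideal.Quotient.mk I₂), ∃ a ∈ I, Ideal.Quotient.mk I₂ a = x := by
    intro x hx
    exact (Ideal.mem_map_iff_of_surjective _ Ideal.Quotient.mk_surjective).mp hx
  rw [rTensor_injective_iff]
  refine rTensor_injective_of_filtered I M
    ((I.map (Ideal.Quotient.mk I₂)).restrictScalars A) ?_ ?_ hJ _ (Subtype.val_injective)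
  · intro a ha x
    have : a • x = Ideal.Quotient.mk I₂ a * x := by
      rw [Algebra.smul_def]; rfl
    rw [this]
    exact Ideal.mul_mem_right _ _ (Ideal.mem_map_of_mem _ ha)
  · intro a ha x hx
    obtain ⟨b, hb, rfl⟩ := hmem x hx
    have : a • Ideal.Quotient.mk I₂ b = Ideal.Quotient.mk I₂ (a * b) := by
      rw [Algebra.smul_def, map_mul]; rfl
    rw [this]
    exact Ideal.Quotient.eq_zero_iff_mem.mpr (h₂ a ha b hb)

end Groth.Agent.Flat2B.NilpFlat
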