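import Groth.Agent.Flat2B.EtAss
import Groth.Agent.Flat2B.EtaleNhd
import Groth.Agent.Flat2B.PushModel
import Groth.Agent.Flat2B.FlatLocusAux
import Groth.Agent.Flat2C.PushoutPrimes
import Groth.Agent.Flat2A.ImpurityBC
import Groth.Agent.Flat2A.ProjPure
import Groth.Agent.S1221
import Mathlib.RingTheory.Localization.BaseChange

set_option autoImplicit false
universe u

/-!
# Purity from an étale cover on which the module is projective over the base
-/

namespace Groth.Agent.Flat2B.PurCover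

open TensorProduct Flat2A.Fiber Flat2A.FiberAss Flat2A.AssBaseChange Flat2A.ImpurityBC

/-- primes of a localization away from an element -/
theorem exists_prime_away {B Bh : Type u} [CommRing B] [CommRing Bh] [Algebra B Bh] (M : Submonoid B)
    [IsLocalization M Bh] (P : Ideal Bh) [P.IsPrime] (Q₀ : Ideal B) [Q₀.IsPrime]
    (hle : P.comap (algebraMap B Bh) ≤ Q₀) (hd : Disjoint (M : Set B) (Q₀ : Set B)) :
    ∃ Q : Ideal Bh, Q.IsPrime ∧ P ≤ Q ∧ Q.comap (algebraMap B Bh) = Q₀ := by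
  refine ⟨Q₀.map (algebraMap B Bh), IsLocalization.isPrime_of_isPrime_disjoint M Bh Q₀ inferInstance hd, ?_,
    IsLocalization.comap_map_of_isPrime_disjoint M Bh inferInstance hd⟩
  rw [← IsLocalization.map_comap M Bh P]
  exact Ideal.map_mono hle

/-- the geometric core: all models given -/
theorem core {A B : Type u} [CommRing A] [CommRing B] [Algebra A B] [Algebra.FiniteType A B]
    (N : Type u) [AddCommGroup N] [Module B N] [Module A N] [IsScalarTower A B N] [Module.Finite B N]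
    -- the cover
    (S' M : Type u) [CommRing S'] [Algebra A S'] [Algebra B S'] [IsScalarTower A B S'] [Algebra.Etale B S']
    [AddCommGroup M] [Module S' M] [Module B M] [IsScalarTower B S' M] [Module A M] [IsScalarTower A S' M]
    (k : N →ₗ[B] M) (hk : IsBaseChange S' k) [Module.Projective A M]
    (t' t : Ideal A) [t'.IsPrime] [t.IsPrime] (htt : t' ≤ t) 
    (P₀ : Ideal B) (hP₀ : P₀ ∈ associatedPrimes B (FlatCA.fiberMod t' B N))
    (P' : Ideal S') [P'.IsPrime] (hP' : P'.comap (algebraMap B S') = P₀) :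
    ∃ Q₀ ∈ associatedPrimes B (FlatCA.fiberMod t B N), P₀ ≤ Q₀ := by
  have hft3 : Algebra.FiniteType A S' := Algebra.FiniteType.trans (S := B) inferInstance inferInstance
  have hfin : Module.Finite S' M := Module.Finite.of_surjective hk.equiv.toLinearMap hk.equiv.surjective
  subst hP'
  have h1 := EtAss.mem_of_etale (A := A) t' k hk hP₀
  obtain ⟨-, hover, hQ⟩ := (mem_associatedPrimes_fiberMod_iff t' M P').mp h1
  obtain ⟨P'', hp1, hp2, hp3⟩ := Flat2A.ProjPure.exists_prime_over (A := A) (B := S') (LinearMap.id : M →ₗ[S'] M) t' t htt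
    (by
      have : (LinearMap.id : M →ₗ[S'] M).restrictScalars A = LinearMap.id := rfl
      rw [this, LinearMap.rTensor_id]
      exact Function.injective_id) P' hQ
  obtain ⟨Q, hq1, hq2, hq3, hq4⟩ := S1221.result (A := A) (B := S') M t (by
      intro q _ _
      exact FlatLocusAux.flatAt_of_flat q M) t' htt P' hQ ⟨P'', hp1, hp2, hp3⟩
  have h2 : Q ∈ associatedPrimes S' (FlatCA.fiberMod t S' M) :=
    (mem_associatedPrimes_fiberMod_iff t M Q).mpr ⟨hq1, hq3, hq4⟩
  exact ⟨_, EtAss.comap_mem_of_flat (A := A) t k hk h2, Ideal.comap_mono hq2⟩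

/-- Base change preserves projectivity. -/
theorem projective_of_isBaseChange {R S M N : Type u} [CommRing R] [CommRing S] [Algebra R S] [AddCommGroup M]
    [Module R M] [AddCommGroup N] [Module R N] [Module S N] [IsScalarTower R S N] (f : M →ₗ[R] N)
    (hf : IsBaseChange S f) [Module.Projective R M] : Module.Projective S N :=
  Module.Projective.of_equiv hf.equiv

set_option maxHeartbeats 1000000 in
/-- A finite type algebra `B` over `A`, a finite `B`-module `N`, an étale `B`-algebra `S'` whose image contains `D(h)`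
and such that `S' ⊗ N` is projective over `A`; if no associated prime of the fibre module over `p` contains `h`
then `N_h` is universally pure along the fibre over `p`. -/
theorem isUnivPureAlong_of_cover {A B : Type u} [CommRing A] [CommRing B] [Algebra A B] [Algebra.FiniteType A B]
    (N : Type u) [AddCommGroup N] [Module B N] [Module A N] [IsScalarTower A B N] [Module.Finite B N]
    (S' : Type u) [CommRing S'] [Algebra A S'] [Algebra B S'] [IsScalarTower A B S'] [Algebra.Etale B S']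
    (hproj : Module.Projective A (S' ⊗[B] N))
    (p : Ideal A) [p.IsPrime] (h : B)
    (hcov : ∀ (P : Ideal B) [P.IsPrime], h ∉ P → ∃ P' : Ideal S', P'.IsPrime ∧ P'.comap (algebraMap B S') = P)
    (hass : ∀ Q ∈ associatedPrimes B (FlatCA.fiberMod p B N), h ∉ Q)
    (Bh Nh : Type u) [CommRing Bh] [Algebra B Bh] [Algebra A Bh] [IsScalarTower A B Bh] [IsLocalization.Away h Bh]
    [AddCommGroup Nh] [Module Bh Nh] [Module B Nh] [IsScalarTower B Bh Nh] (g : N →ₗ[B] Nh) (hg : IsBaseChange Bh g) :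
    FlatCA.IsUnivPureAlong A Bh Nh p := by
  have hft : Algebra.FiniteType B Bh := IsLocalization.finiteType_of_monoid_fg (.powers h) Bh
  have hft2 : Algebra.FiniteType A Bh := Algebra.FiniteType.trans (S := B) inferInstance inferInstance
  rw [isUnivPureAlong_iff]
  intro A₂ _ _ t' t _ _ htp himp
  -- models
  obtain ⟨B₂, N₂, _, _, _, _, _, _, hB₂, _, _, _, _, _, _, f₂, hf₂⟩ :=
    PushModel.exists_models (R := A) (S := B) (A := A₂) N
  obtain ⟨Bh₂, Nh₂, _, _, _, _, _, _, hBh₂, _, _, _, _, _, _, fh₂, hfh₂⟩ :=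
    PushModel.exists_models (R := B) (S := B₂) (A := Bh) N₂
  obtain ⟨S₂, M₂, _, _, _, _, _, _, hS₂, _, _, _, _, _, _, k₂, hk₂⟩ :=
    PushModel.exists_models (R := B) (S := B₂) (A := S') N₂
  -- algebra structures
  let _ : Algebra A₂ Bh₂ := ((algebraMap B₂ Bh₂).comp (algebraMap A₂ B₂)).toAlgebra
  let _ : Algebra A Bh₂ := ((algebraMap B Bh₂).comp (algebraMap A B)).toAlgebra
  have : IsScalarTower A₂ B₂ Bh₂ := IsScalarTower.of_algebraMap_eq' rfl
  have : IsScalarTower A B Bh₂ := IsScalarTower.of_algebraMap_eq' rfl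
  have : IsScalarTower A B₂ Bh₂ := IsScalarTower.of_algebraMap_eq' (by
    rw [IsScalarTower.algebraMap_eq A B B₂, ← RingHom.comp_assoc, ← IsScalarTower.algebraMap_eq B B₂ Bh₂]; rfl)
  have : IsScalarTower A A₂ Bh₂ := IsScalarTower.of_algebraMap_eq' (by
    rw [IsScalarTower.algebraMap_eq A B₂ Bh₂, IsScalarTower.algebraMap_eq A A₂ B₂, ← RingHom.comp_assoc]; rfl)
  have : IsScalarTower A Bh Bh₂ := IsScalarTower.of_algebraMap_eq' (by
    rw [IsScalarTower.algebraMap_eq A B Bh, ← RingHom.comp_assoc, ← IsScalarTower.algebraMap_eq B Bh Bh₂]; rfl)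
  let _ : Algebra A₂ S₂ := ((algebraMap B₂ S₂).comp (algebraMap A₂ B₂)).toAlgebra
  let _ : Algebra A S₂ := ((algebraMap B S₂).comp (algebraMap A B)).toAlgebra
  have : IsScalarTower A₂ B₂ S₂ := IsScalarTower.of_algebraMap_eq' rfl
  have : IsScalarTower A B S₂ := IsScalarTower.of_algebraMap_eq' rfl
  have : IsScalarTower A B₂ S₂ := IsScalarTower.of_algebraMap_eq' (by
    rw [IsScalarTower.algebraMap_eq A B B₂, ← RingHom.comp_assoc, ← IsScalarTower.algebraMap_eq B B₂ S₂]; rfl)
  have : IsScalarTower A A₂ S₂ := IsScalarTower.of_algebraMap_eq' (by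
    rw [IsScalarTower.algebraMap_eq A B₂ S₂, IsScalarTower.algebraMap_eq A A₂ B₂, ← RingHom.comp_assoc]; rfl)
  have : IsScalarTower A S' S₂ := IsScalarTower.of_algebraMap_eq' (by
    rw [IsScalarTower.algebraMap_eq A B S', ← RingHom.comp_assoc, ← IsScalarTower.algebraMap_eq B S' S₂]; rfl)
  -- pushouts
  have hpo1 : Algebra.IsPushout A Bh A₂ Bh₂ := by
    rw [Algebra.IsPushout.comp_iff A B A₂ (S' := B₂) (T := Bh) (T' := Bh₂)]
    exact hBh₂.symm
  have hpo2 : Algebra.IsPushout A S' A₂ S₂ := by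
    rw [Algebra.IsPushout.comp_iff A B A₂ (S' := B₂) (T := S') (T' := S₂)]
    exact hS₂.symm
  -- module structures
  let _ : Module A₂ Nh₂ := Module.compHom _ (algebraMap A₂ Bh₂)
  have : IsScalarTower A₂ Bh₂ Nh₂ := IsScalarTower.of_algebraMap_smul fun r x => rfl
  let _ : Module B Nh₂ := Module.compHom _ (algebraMap B Bh₂)
  have : IsScalarTower B Bh₂ Nh₂ := IsScalarTower.of_algebraMap_smul fun r x => rfl
  have : IsScalarTower B B₂ Nh₂ := IsScalarTower.to₁₂₄ B B₂ Bh₂ Nh₂
  have : IsScalarTower B Bh Nh₂ := IsScalarTower.to₁₂₄ B Bh Bh₂ Nh₂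
  obtain ⟨gh₂, hgh₂⟩ := exists_isBaseChange_square (B₁ := B) (B₂ := B₂) (F₁ := Bh) (F₂ := Bh₂) hf₂ hg hfh₂
  -- the impurity
  rw [imp_iff_of_model hpo1 gh₂ hgh₂] at himp
  obtain ⟨htt, P, hP, hPmiss⟩ := himp
  have hPp : P.IsPrime := hP.1
  -- finiteness
  have : Algebra.FiniteType A₂ B₂ := RelAss.finiteType_of_isPushout (A₁ := A) (B₁ := B)
  have : Algebra.FiniteType A₂ Bh₂ := RelAss.finiteType_of_isPushout (A₁ := A) (B₁ := Bh)
  have hloc : IsLocalization (Algebra.algebraMapSubmonoid B₂ (Submonoid.powers h)) Bh₂ := by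
    rw [Algebra.isLocalization_iff_isPushout _ Bh]
    exact hBh₂
  have : Module.Flat B₂ Bh₂ := IsLocalization.flat Bh₂ (Algebra.algebraMapSubmonoid B₂ (Submonoid.powers h))
  have hP₀ := EtAss.comap_mem_of_flat (A := A₂) t' fh₂ hfh₂ hP
  have hPr₀ : (P.comap (algebraMap B₂ Bh₂)).IsPrime := inferInstance
  -- `h` is not in the contraction
  have hnot : ∀ (Q : Ideal Bh₂) [Q.IsPrime], h ∉ (Q.comap (algebraMap B₂ Bh₂)).comap (algebraMap B B₂) := by
    intro Q _ hh
    rw [Ideal.comap_comap, ← IsScalarTower.algebraMap_eq B B₂ Bh₂, IsScalarTower.algebraMap_eq B Bh Bh₂,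
      ← Ideal.comap_comap, Ideal.mem_comap] at hh
    exact (Ideal.IsPrime.ne_top' : Q.comap (algebraMap Bh Bh₂) ≠ ⊤)
      (Ideal.eq_top_of_isUnit_mem _ hh (IsLocalization.Away.algebraMap_isUnit h))
  obtain ⟨P', hP'pr, hP'⟩ := hcov ((P.comap (algebraMap B₂ Bh₂)).comap (algebraMap B B₂)) (hnot P)
  obtain ⟨W, hWpr, hW1, hW2⟩ := Flat2C.PushoutPrimes.exists_prime_of_isPushout (R := B) (S := B₂) (T := S') (U := S₂)
    (P.comap (algebraMap B₂ Bh₂)) P' hP'.symm
  -- the cover
  have : Algebra.IsPushout B S' B₂ S₂ := hS₂.symm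
  have : Algebra.Etale B₂ S₂ := BCTools.etale_of_isPushout B S' B₂ S₂
  let _ : Module A₂ M₂ := Module.compHom _ (algebraMap A₂ S₂)
  have : IsScalarTower A₂ S₂ M₂ := IsScalarTower.of_algebraMap_smul fun r x => rfl
  let _ : Module A M₂ := Module.compHom _ (algebraMap A S₂)
  have : IsScalarTower A S₂ M₂ := IsScalarTower.of_algebraMap_smul fun r x => rfl
  let _ : Module B M₂ := Module.compHom _ (algebraMap B S₂)
  have : IsScalarTower B S₂ M₂ := IsScalarTower.of_algebraMap_smul fun r x => rfl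
  have : IsScalarTower B B₂ M₂ := IsScalarTower.to₁₂₄ B B₂ S₂ M₂
  have : IsScalarTower B S' M₂ := IsScalarTower.to₁₂₄ B S' S₂ M₂
  have : IsScalarTower A A₂ M₂ := IsScalarTower.to₁₂₄ A A₂ S₂ M₂
  have : IsScalarTower A S' M₂ := IsScalarTower.to₁₂₄ A S' S₂ M₂
  obtain ⟨gM, hgM⟩ := exists_isBaseChange_square (B₁ := B) (B₂ := B₂) (F₁ := S') (F₂ := S₂) hf₂
    (TensorProduct.isBaseChange B N S') hk₂
  have hprojM : Module.Projective A₂ M₂ := projective_of_isBaseChange _
    (BCTools.isBaseChange_of_isPushout (S := A) (A := S') (S₁ := A₂) (A₁ := S₂) gM hgM)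
  have hfinN₂ : Module.Finite B₂ N₂ := Module.Finite.of_surjective hf₂.equiv.toLinearMap hf₂.equiv.surjective
  obtain ⟨Q₀, hQ₀, hle⟩ := core (A := A₂) (B := B₂) N₂ S₂ M₂ k₂ hk₂ t' t htt _ hP₀ W hW1
  have hQpr : Q₀.IsPrime := hQ₀.1
  have hhQ : h ∉ Q₀.comap (algebraMap B B₂) :=
    hass _ (RelAss.relAss_comap (A₁ := A) (A₂ := A₂) (B₁ := B) (B₂ := B₂) f₂ hf₂ p t hQ₀)
  obtain ⟨Q, hQ1, hQ2, hQ3⟩ := exists_prime_away (Algebra.algebraMapSubmonoid B₂ (Submonoid.powers h)) P Q₀ hle (by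
    rw [Set.disjoint_left]
    rintro _ ⟨_, ⟨n, rfl⟩, rfl⟩ hx
    apply hhQ
    rw [Ideal.mem_comap]
    rw [SetLike.mem_coe, map_pow] at hx
    exact hQpr.mem_of_pow_mem n hx)
  refine hPmiss Q hQ2 ?_
  obtain ⟨-, hover, -⟩ := (mem_associatedPrimes_fiberMod_iff t N₂ Q₀).mp hQ₀
  constructor
  rw [hover.over, ← hQ3, Ideal.under, Ideal.under, Ideal.comap_comap, ← IsScalarTower.algebraMap_eq A₂ B₂ Bh₂]

end Groth.Agent.Flat2B.PurCover
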