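import Groth.Agent.Flat2B.PurCover
import Groth.Agent.Flat2B.FlatEt
import Groth.Agent.Flat2B.NhdBasic
import Groth.Agent.Flat2A.Impurity
import Groth.Agent.S1219
import Groth.Agent.S1220
import Mathlib.RingTheory.Spectrum.Prime.Chevalley

set_option autoImplicit false
universe u

/-!
# Projectivity on an affine open after shrinking the base, from an étale cover
-/

namespace Groth.Agent.Flat2B.PurOpen

open TensorProduct Flat2A.Fiber Flat2A.FiberAss Flat2A.AssBaseChange Flat2A.ImpurityBC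

/-- `X ⊗[S] N → Y ⊗[S] N` is a base change along `X → Y`. -/
theorem exists_isBaseChange_tensor (S X Y N : Type u) [CommRing S] [CommRing X] [CommRing Y] [Algebra S X] [Algebra X Y]
    [Algebra S Y] [IsScalarTower S X Y] [AddCommGroup N] [Module S N] :
    ∃ φ : X ⊗[S] N →ₗ[X] Y ⊗[S] N, IsBaseChange Y φ ∧ ∀ (x : X) (n : N), φ (x ⊗ₜ n) = algebraMap X Y x ⊗ₜ n := by
  have h1 := TensorProduct.isBaseChange S N X
  have h2 := TensorProduct.isBaseChange S N Y
  refine ⟨h1.lift (TensorProduct.mk S Y N 1), ?_, ?_⟩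
  · rw [← h1.comp_iff, IsBaseChange.lift_comp]
    exact h2
  · intro x n
    have : x ⊗ₜ[S] n = x • (TensorProduct.mk S X N 1 n) := by
      simp [TensorProduct.smul_tmul']
    rw [this, map_smul, IsBaseChange.lift_eq]
    simp [TensorProduct.smul_tmul', Algebra.smul_def]

/-- purity passes to étale neighbourhoods of the base -/
theorem isPureAlong_baseChange {A B N A₁ B₁ N₁ : Type u} [CommRing A] [CommRing B] [Algebra A B]
    [Algebra.FiniteType A B] [AddCommGroup N] [Module B N]
    [CommRing A₁] [CommRing B₁] [Algebra A A₁] [Algebra A B₁] [Algebra A₁ B₁] [Algebra B B₁]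
    [IsScalarTower A A₁ B₁] [IsScalarTower A B B₁] [Algebra.IsPushout A B A₁ B₁]
    [AddCommGroup N₁] [Module B₁ N₁] [Module B N₁] [IsScalarTower B B₁ N₁] (f : N →ₗ[B] N₁) (hf : IsBaseChange B₁ f)
    (p : Ideal A) (p₁ : Ideal A₁) [p.IsPrime] [p₁.IsPrime] (h : FlatCA.IsEtaleNhd A A₁ p p₁)
    (hp : FlatCA.IsPureAlong A B N p) : FlatCA.IsPureAlong A₁ B₁ N₁ p₁ := by
  have : Algebra.FiniteType A₁ B₁ := RelAss.finiteType_of_isPushout (A₁ := A) (B₁ := B)
  rw [isPureAlong_iff] at hp ⊢
  intro A₂ _ _ t' t _ _ hnhd himp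
  let _ : Algebra A A₂ := ((algebraMap A₁ A₂).comp (algebraMap A A₁)).toAlgebra
  have : IsScalarTower A A₁ A₂ := IsScalarTower.of_algebraMap_eq' rfl
  rw [imp_baseChange_iff (A := A) (B := B) (N := N) inferInstance f hf] at himp
  exact hp A₂ t' t (NhdBasic.trans h hnhd) himp

set_option maxHeartbeats 1000000 in
theorem exists_projective {A B : Type u} [CommRing A] [CommRing B] [Algebra A B] [Algebra.FinitePresentation A B]
    (N : Type u) [AddCommGroup N] [Module B N] [Module A N] [IsScalarTower A B N] [Module.FinitePresentation B N]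
    (S' : Type u) [CommRing S'] [Algebra A S'] [Algebra B S'] [IsScalarTower A B S'] [Algebra.Etale B S']
    (hproj : Module.Projective A (S' ⊗[B] N))
    (p : Ideal A) [p.IsPrime] (q : Ideal B) [q.IsPrime]
    (q' : Ideal S') [q'.IsPrime] (hq' : q'.comap (algebraMap B S') = q)
    (hass : ∀ Q ∈ associatedPrimes B (FlatCA.fiberMod p B N), Q ≤ q) :
    ∃ (h : B) (f : A) (Bh : Type u) (_ : CommRing Bh) (_ : Algebra B Bh) (_ : IsLocalization.Away h Bh)
      (_ : Algebra A Bh) (_ : IsScalarTower A B Bh), h ∉ q ∧ f ∉ p ∧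
      ∀ (A₁ C : Type u) [CommRing A₁] [CommRing C] [Algebra A A₁] [IsLocalization.Away f A₁]
        [Algebra Bh C] [Algebra A₁ C] [Algebra A C] [IsScalarTower A Bh C] [IsScalarTower A A₁ C]
        [Algebra.IsPushout A Bh A₁ C] [Algebra B C] [IsScalarTower B Bh C],
        Module.Projective A₁ (C ⊗[B] N) := by
  -- the image of the cover
  have hopen : IsOpen (Set.range (PrimeSpectrum.comap (algebraMap B S'))) := by
    rw [← Set.image_univ]
    exact PrimeSpectrum.isOpenMap_comap_of_hasGoingDown_of_finitePresentation _ isOpen_univ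
  obtain ⟨_, ⟨h, rfl⟩, hmem, hsub⟩ := PrimeSpectrum.isTopologicalBasis_basic_opens.exists_subset_of_mem_open
    (show (⟨q, inferInstance⟩ : PrimeSpectrum B) ∈ Set.range (PrimeSpectrum.comap (algebraMap B S')) from
      ⟨⟨q', inferInstance⟩, PrimeSpectrum.ext hq'⟩) hopen
  have hhq : h ∉ q := hmem
  have hcov : ∀ (P : Ideal B) [P.IsPrime], h ∉ P → ∃ P' : Ideal S', P'.IsPrime ∧ P'.comap (algebraMap B S') = P := by
    intro P _ hP
    obtain ⟨P', hP'⟩ := hsub (show (⟨P, inferInstance⟩ : PrimeSpectrum B) ∈ _ from hP)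
    exact ⟨P'.asIdeal, P'.isPrime, congrArg PrimeSpectrum.asIdeal hP'⟩
  -- flatness on `D(h)`
  have hflat : ∀ (P : Ideal B) [P.IsPrime], h ∉ P → FlatCA.FlatAt A P N := by
    intro P _ hP
    obtain ⟨P', hP'1, hP'2⟩ := hcov P hP
    rw [FlatEt.flatAt_tensor_iff P P' hP'2 N]
    exact FlatLocusAux.flatAt_of_flat P' _
  -- the model
  obtain ⟨Bh, _, _, _, _, _, hflat2⟩ : ∃ (Bh : Type u) (_ : CommRing Bh) (_ : Algebra B Bh) (_ : IsLocalization.Away h Bh)
      (_ : Algebra A Bh) (_ : IsScalarTower A B Bh), Module.Flat A (Bh ⊗[B] N) := by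
    refine ⟨Localization.Away h, inferInstance, inferInstance, inferInstance, inferInstance, inferInstance, ?_⟩
    have h1 := FlatLocusAux.flat_away_of_flatAt N h hflat
    have h2 : IsBaseChange (Localization.Away h) (LocalizedModule.mkLinearMap (Submonoid.powers h) N) :=
      (isLocalizedModule_iff_isBaseChange (Submonoid.powers h) (Localization.Away h) _).mp inferInstance
    let e : (Localization.Away h ⊗[B] N) ≃ₗ[B] LocalizedModule (Submonoid.powers h) N :=
      h2.equiv.restrictScalars B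
    exact Module.Flat.of_linearEquiv (e.restrictScalars A)
  have : Algebra.FinitePresentation B Bh := IsLocalization.Away.finitePresentation h
  have : Algebra.FinitePresentation A Bh := Algebra.FinitePresentation.trans A B Bh
  have hpur : FlatCA.IsPureAlong A Bh (Bh ⊗[B] N) p := by
    apply Flat2A.Impurity.isPureAlong_of_isUnivPureAlong
    exact PurCover.isUnivPureAlong_of_cover N S' hproj p h hcov (fun Q hQ hh => hhq (hass Q hQ hh)) Bh (Bh ⊗[B] N)
      (TensorProduct.mk B Bh N 1) (TensorProduct.isBaseChange B N Bh)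
  have hop := S1220.result (A := A) (B := Bh) (Bh ⊗[B] N)
  obtain ⟨_, ⟨f, rfl⟩, hmem2, hsub2⟩ := PrimeSpectrum.isTopologicalBasis_basic_opens.exists_subset_of_mem_open
    (show (⟨p, inferInstance⟩ : PrimeSpectrum A) ∈ {p : PrimeSpectrum A | FlatCA.IsPureAlong A Bh (Bh ⊗[B] N) p.asIdeal}
      from hpur) hop
  refine ⟨h, f, Bh, inferInstance, inferInstance, inferInstance, inferInstance, inferInstance, hhq, hmem2, ?_⟩
  intro A₁ C _ _ _ _ _ _ _ _ _ _ _ _
  obtain ⟨φ, hφ, -⟩ := exists_isBaseChange_tensor B Bh C N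
  have hfpC : Algebra.FinitePresentation A₁ C := BCTools.finitePresentation_of_isPushout A Bh A₁ C
  have hbc := BCTools.isBaseChange_of_isPushout (S := A) (A := Bh) (S₁ := A₁) (A₁ := C) φ hφ
  have hflC : Module.Flat A₁ (C ⊗[B] N) := Module.Flat.isBaseChange A A₁ _ _ hbc
  rw [S1219.result (A := A₁) (B := C) (C ⊗[B] N)]
  intro p₁ _
  have : (p₁.comap (algebraMap A A₁)).IsPrime := inferInstance
  have : p₁.LiesOver (p₁.comap (algebraMap A A₁)) := ⟨rfl⟩
  refine isPureAlong_baseChange φ hφ (p₁.comap (algebraMap A A₁)) p₁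
    (NhdBasic.of_away f (p₁.comap (algebraMap A A₁)) A₁ p₁) ?_
  refine hsub2 (show (⟨p₁.comap (algebraMap A A₁), inferInstance⟩ : PrimeSpectrum A) ∈ PrimeSpectrum.basicOpen f from ?_)
  intro hf
  exact (Ideal.IsPrime.ne_top' : p₁ ≠ ⊤) (Ideal.eq_top_of_isUnit_mem _ hf (IsLocalization.Away.algebraMap_isUnit f))

end Groth.Agent.Flat2B.PurOpen
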