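import Groth.Agent.Flat2B.FibInj3
import Groth.Agent.Flat2A.FiberEquiv
import Groth.Agent.Flat2A.FiberAss
import Groth.Agent.Flat2B.EtaleNhd
import Mathlib.RingTheory.Spectrum.Prime.Chevalley
import Mathlib.RingTheory.Etale.Basic
import Mathlib.RingTheory.Flat.Equalizer

/-!
# Purity and covers of the relative associated primes near `p`
-/

set_option autoImplicit false
universe u

namespace Groth.Agent.Flat2B.PureCover

open TensorProduct FibInj

section Psi

variable {A B : Type u} [CommRing A] [CommRing B] [Algebra A B] {N : Type u} [AddCommGroup N]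
  [Module B N] [Module A N] [IsScalarTower A B N] {m : ℕ} (g : Fin m → B)

/-- Injectivity of `psi` on `K ⊗ N` in terms of elements of `N ⊗ K`. -/
theorem psi_injective_iff (K : Type u) [CommRing K] [Algebra A K] :
    Function.Injective (((psi N g).restrictScalars A).lTensor K) ↔
      ∀ z : N ⊗[A] K, (∀ j, g j • z = 0) → z = 0 := by
  have key : ∀ (z : K ⊗[A] N) (j : Fin m),
      TensorProduct.comm A K N ((LinearMap.lTensor K ((LinearMap.proj j).comp
        ((psi N g).restrictScalars A) : N →ₗ[A] N)) z) = g j • TensorProduct.comm A K N z := by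
    intro z j
    induction z using TensorProduct.induction_on with
    | zero => simp
    | tmul x n =>
      rw [LinearMap.lTensor_tmul, TensorProduct.comm_tmul, TensorProduct.comm_tmul,
        TensorProduct.smul_tmul']
      rfl
    | add x y hx hy => simp only [map_add, hx, hy, smul_add]
  have hzero : ∀ w : K ⊗[A] (Fin m → N), (∀ j, (LinearMap.lTensor K
      (LinearMap.proj j : (Fin m → N) →ₗ[A] N)) w = 0) → w = 0 := by
    intro w hw
    have h1 : TensorProduct.piRight A A K (fun _ : Fin m => N) w = 0 := by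
      ext j
      rw [TensorProduct.piRight_apply]
      have h2 : ∀ w : K ⊗[A] (Fin m → N), TensorProduct.piRightHom A A K (fun _ : Fin m => N) w j =
          (LinearMap.lTensor K (LinearMap.proj j : (Fin m → N) →ₗ[A] N)) w := by
        intro w
        induction w using TensorProduct.induction_on with
        | zero => simp
        | tmul x n => rfl
        | add x y hx hy => simp only [map_add, Pi.add_apply, hx, hy]
      rw [h2, hw]
      rfl
    exact (LinearEquiv.map_eq_zero_iff _).1 h1
  rw [injective_iff_map_eq_zero]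
  constructor
  · intro h z hz
    have h1 : ((psi N g).restrictScalars A).lTensor K ((TensorProduct.comm A K N).symm z) = 0 := by
      apply hzero
      intro j
      apply (TensorProduct.comm A K N).injective
      rw [← LinearMap.comp_apply, ← LinearMap.lTensor_comp, key, LinearEquiv.apply_symm_apply,
        hz, map_zero]
    exact (LinearEquiv.map_eq_zero_iff _).1 (h _ h1)
  · intro h z hz
    refine (LinearEquiv.map_eq_zero_iff (TensorProduct.comm A K N)).1 (h _ fun j => ?_)
    rw [← key, LinearMap.lTensor_comp, LinearMap.comp_apply, hz, map_zero, map_zero]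

/-- No element of the fibre is killed by all `g j` iff no relative associated prime contains all
`g j`. -/
theorem psi_injective_iff_ass [Algebra.FiniteType A B] (t : Ideal A) [t.IsPrime] :
    Function.Injective (((psi N g).restrictScalars A).lTensor t.ResidueField) ↔
      ∀ (Q : Ideal B) [Q.IsPrime] [Q.LiesOver t],
        FlatCA.fiberIdeal t Q ∈ associatedPrimes (t.Fiber B) (FlatCA.fiberMod t B N) →
          ∃ j, g j ∉ Q := by
  have : IsNoetherianRing (t.Fiber B) := Flat2A.Fiber.fiber_isNoetherianRing t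
  rw [psi_injective_iff]
  constructor
  · intro h Q _ _ hQ
    by_contra hj
    push Not at hj
    obtain ⟨z, hz⟩ := Flat2A.FiberEquiv.exists_annihilator t N Q hQ
    have h1 := h z fun j => (hz _).1 (hj j)
    exact (inferInstance : Q.IsPrime).ne_top ((Ideal.eq_top_iff_one _).2 ((hz 1).2 (by
      rw [h1, smul_zero])))
  · intro h z hz
    by_contra hne
    let y : FlatCA.fiberMod t B N := (Flat2A.FiberEquiv.fiberModEquiv B t N).symm z
    have hy : y ≠ 0 := by
      rw [Ne, LinearEquiv.map_eq_zero_iff]
      exact hne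
    have hgy : ∀ j, g j • y = 0 := fun j => by
      rw [← map_smul, hz, map_zero]
    obtain ⟨P, hP, hle⟩ := exists_le_isAssociatedPrime_of_isNoetherianRing (R := t.Fiber B) y hy
    have hPp : P.IsPrime := hP.isPrime
    let Q : Ideal B := P.comap (Flat2A.FiberAss.toFiber t B)
    have hQp : Q.IsPrime := Ideal.IsPrime.comap _
    have hQt : Q.LiesOver t := Flat2A.FiberAss.liesOver_of_comap t P hPp.ne_top
    have hPQ : FlatCA.fiberIdeal t Q = P := Flat2A.Fiber.fiberIdeal_comap t P
    obtain ⟨j, hj⟩ := h Q (by rw [hPQ]; exact hP)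
    refine hj (hle ?_)
    rw [Submodule.mem_colon_singleton, Submodule.mem_bot]
    have := hgy j
    rwa [Flat2A.FiberAss.smul_fiberMod] at this

end Psi

/-- The relative associated primes over `t` lie in the image of some `Spec (C i)`. -/
def CoveredAt (A B N : Type u) [CommRing A] [CommRing B] [Algebra A B] [AddCommGroup N]
    [Module B N] [Module A N] [IsScalarTower A B N] {ι : Type*} (C : ι → Type u)
    [∀ i, CommRing (C i)] [∀ i, Algebra B (C i)] (t : Ideal A) [t.IsPrime] : Prop :=
  ∀ (Q : Ideal B) [Q.IsPrime] [Q.LiesOver t],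
    FlatCA.fiberIdeal t Q ∈ associatedPrimes (t.Fiber B) (FlatCA.fiberMod t B N) →
      ∃ (i : ι) (Q' : Ideal (C i)), Q'.IsPrime ∧ Q'.LiesOver Q

section Cover

variable {A B : Type u} [CommRing A] [CommRing B] [Algebra A B] {N : Type u} [AddCommGroup N]
  [Module B N] [Module A N] [IsScalarTower A B N] {k : ℕ} (C : Fin k → Type u)
  [∀ i, CommRing (C i)] [∀ i, Algebra B (C i)]

/-- The union of the images of finitely many etale algebras is a finite union of principal
opens. -/
theorem exists_basicOpens [∀ i, Algebra.Etale B (C i)] :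
    ∃ (m : ℕ) (g : Fin m → B), ∀ (Q : Ideal B) [Q.IsPrime],
      (∃ (i : Fin k) (Q' : Ideal (C i)), Q'.IsPrime ∧ Q'.LiesOver Q) ↔ ∃ j, g j ∉ Q := by
  let W : Set (PrimeSpectrum B) := ⋃ i, Set.range (PrimeSpectrum.comap (algebraMap B (C i)))
  have h1 : IsOpen W := isOpen_iUnion fun i =>
    (PrimeSpectrum.isOpenMap_comap_of_hasGoingDown_of_finitePresentation (R := B)
      (S := C i)).isOpen_range
  have h2 : IsCompact W := isCompact_iUnion fun i =>
    isCompact_range (PrimeSpectrum.continuous_comap (algebraMap B (C i)))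
  obtain ⟨I, ⟨s, hs⟩, hI⟩ := PrimeSpectrum.isCompact_isOpen_iff_ideal.1 ⟨h2, h1⟩
  let e := s.equivFin
  refine ⟨s.card, fun j => (e.symm j : B), fun Q hQ => ?_⟩
  have h3 : (∃ (i : Fin k) (Q' : Ideal (C i)), Q'.IsPrime ∧ Q'.LiesOver Q) ↔
      (⟨Q, hQ⟩ : PrimeSpectrum B) ∈ W := by
    rw [Set.mem_iUnion]
    constructor
    · rintro ⟨i, Q', hQ', h⟩
      exact ⟨i, ⟨Q', hQ'⟩, PrimeSpectrum.ext h.over.symm⟩
    · rintro ⟨i, x, hx⟩
      exact ⟨i, x.asIdeal, x.2, ⟨(congrArg PrimeSpectrum.asIdeal hx).symm⟩⟩
  rw [h3, ← hI, Set.mem_compl_iff, PrimeSpectrum.mem_zeroLocus, ← hs]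
  change ¬ ((Ideal.span (s : Set B) : Set B) ⊆ Q) ↔ _
  rw [← not_forall_not (p := fun j => (e.symm j : B) ∉ Q)]
  simp only [not_not]
  refine not_congr ⟨fun h j => h (Ideal.subset_span (e.symm j).2), fun h => ?_⟩
  change Ideal.span (s : Set B) ≤ Q
  rw [Ideal.span_le]
  intro x hx
  have := h (e ⟨x, hx⟩)
  rwa [Equiv.symm_apply_apply] at this

/-- **Purity along `p`** and a cover of the fibre over `p` give a cover of the relative associated
primes over an open neighbourhood of `p`. -/
theorem exists_notMem_forall_coveredAt [Algebra.FinitePresentation A B]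
    [Module.FinitePresentation B N] [∀ i, Algebra.Etale B (C i)] (p : Ideal A) [p.IsPrime]
    (hpure : FlatCA.IsPureAlong A B N p)
    (hcov : ∀ (Q : Ideal B) [Q.IsPrime], Q.LiesOver p →
      ∃ (i : Fin k) (Q' : Ideal (C i)), Q'.IsPrime ∧ Q'.LiesOver Q) :
    ∃ f ∉ p, ∀ (t : Ideal A) [t.IsPrime], f ∉ t → CoveredAt A B N C t := by
  obtain ⟨m, g, hg⟩ := exists_basicOpens (B := B) C
  have key : ∀ (t : Ideal A) [t.IsPrime], CoveredAt A B N C t ↔
      Function.Injective (((psi N g).restrictScalars A).lTensor t.ResidueField) := by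
    intro t _
    rw [psi_injective_iff_ass]
    exact forall_congr' fun Q => forall_congr' fun _ => forall_congr' fun _ =>
      forall_congr' fun _ => hg Q
  have h1 : ∀ (t : Ideal A) [t.IsPrime], t ≤ p → CoveredAt A B N C t := by
    intro t _ htp Q _ _ hQ
    have h2 : ¬ FlatCA.IsImpurity A B N p A B N LinearMap.id t p Q :=
      hpure A B N LinearMap.id t p Q (EtaleNhd.isEtaleNhd_refl A p)
    have hbc : IsBaseChange B (LinearMap.id : N →ₗ[B] N) :=
      IsBaseChange.of_equiv (TensorProduct.lid B N) fun x => by simp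
    have h3 : ∃ (P' : Ideal B), P'.IsPrime ∧ Q ≤ P' ∧ P'.LiesOver p := by
      by_contra hc
      push Not at hc
      exact h2 ⟨inferInstance, hbc, htp, ⟨rfl⟩, inferInstance, hQ, fun P' hP' hle => hc P' hP' hle⟩
    obtain ⟨P', _, hle, hP'⟩ := h3
    obtain ⟨i, Q'', _, _⟩ := hcov P' hP'
    obtain ⟨Q', _, hQ', hQ''⟩ := Ideal.exists_ideal_le_liesOver_of_le (p := Q) (q := P') Q'' hle
    exact ⟨i, Q', hQ', hQ''⟩
  obtain ⟨f, hf, hf'⟩ := exists_notMem_forall_psi g p fun t _ ht => (key t).1 (h1 t ht)
  exact ⟨f, hf, fun t _ ht => (key t).2 (hf' t ht)⟩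

end Cover

end Groth.Agent.Flat2B.PureCover
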