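import Groth.Agent.Flat2B.DevissageRec
import Groth.Agent.Flat2B.FibreBC
import Groth.Agent.Flat2B.BCTools

/-!
# Base change of one step of a complete dévissage
-/

set_option autoImplicit false
universe u

namespace Groth.Agent.Flat2B.StepBC

open FlatCA TensorProduct
open Groth.Agent.Flat2B.PointBC Groth.Agent.Flat2B.FibreBC Groth.Agent.Flat2B.BCTools
open Groth.Agent.Flat2B.DevissageRec

/-- right hand square of two pushout squares -/
theorem pushout_right (R B A R₁ B₁ A₁ : Type u) [CommRing R] [CommRing B] [CommRing A]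
    [CommRing R₁] [CommRing B₁] [CommRing A₁]
    [Algebra R B] [Algebra R A] [Algebra B A] [IsScalarTower R B A] [Algebra R R₁]
    [Algebra R₁ A₁] [Algebra R₁ B₁] [Algebra B₁ A₁] [IsScalarTower R₁ B₁ A₁]
    [Algebra R B₁] [Algebra B B₁] [IsScalarTower R B B₁] [IsScalarTower R R₁ B₁]
    [Algebra.IsPushout R B R₁ B₁]
    [Algebra R A₁] [Algebra A A₁] [IsScalarTower R A A₁] [IsScalarTower R R₁ A₁]
    [Algebra.IsPushout R A R₁ A₁]
    [Algebra B A₁] [IsScalarTower B A A₁] [IsScalarTower B B₁ A₁] :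
    Algebra.IsPushout B A B₁ A₁ := by
  have : IsScalarTower R B₁ A₁ := by
    refine IsScalarTower.of_algebraMap_eq fun x => ?_
    rw [IsScalarTower.algebraMap_apply R R₁ A₁, IsScalarTower.algebraMap_apply R₁ B₁ A₁,
      ← IsScalarTower.algebraMap_apply R R₁ B₁]
  exact (Algebra.IsPushout.comp_iff (T := A) (T' := A₁) R B R₁ (S' := B₁)).1 inferInstance

/-- The extended prime in the smooth algebra is prime. -/
theorem isPrime_map_of_resTriv {R B R₁ B₁ : Type u} [CommRing R] [CommRing B]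
    [CommRing R₁] [CommRing B₁] [Algebra R B] [Algebra R R₁] [Algebra R₁ B₁]
    [Algebra R B₁] [Algebra B B₁] [IsScalarTower R B B₁] [IsScalarTower R R₁ B₁]
    [Algebra.IsPushout R B R₁ B₁] {p : Ideal R} [p.IsPrime] {p₁ : Ideal R₁} [p₁.IsPrime]
    (hp : ResTriv p p₁) [Module.Flat R B] (hB : (p.map (algebraMap R B)).IsPrime)
    (hne : ∃ q : Ideal B, q.IsPrime ∧ q.LiesOver p) : (p₁.map (algebraMap R₁ B₁)).IsPrime := by
  have := hp.liesOver
  have h1 : IsDomain (p.Fiber B) := isDomain_fiber_of_isPrime p hB hne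
  let e : p.Fiber B ≃+* p₁.Fiber B₁ :=
    RingEquiv.ofBijective (fibMap (X₁ := B₁) (X := B) p p₁) (fibMap_bijective p p₁ hp)
  have h2 : IsDomain (p₁.Fiber B₁) := MulEquiv.isDomain (p.Fiber B) e.symm.toMulEquiv
  have : Module.Flat R₁ B₁ := flat_of_isPushout R B R₁ B₁
  exact isPrime_of_isDomain_fiber p₁

/-- If `pB` is prime and the fibre over `p` is nonempty then `pB` lies over `p` -/
theorem map_liesOver {R B : Type u} [CommRing R] [CommRing B] [Algebra R B] (p : Ideal R)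
    [p.IsPrime] (hne : ∃ q : Ideal B, q.IsPrime ∧ q.LiesOver p) :
    (p.map (algebraMap R B)).LiesOver p := by
  obtain ⟨q, hq, hqp⟩ := hne
  refine ⟨le_antisymm Ideal.le_comap_map ?_⟩
  intro a ha
  have : algebraMap R B a ∈ q := by
    refine (Ideal.map_le_iff_le_comap.2 ?_) ha
    exact hqp.over.le
  rw [hqp.over]; exact this

/-- `p₁ B₁` lies over `p B`. -/
theorem map_liesOver_map {R B R₁ B₁ : Type u} [CommRing R] [CommRing B]
    [CommRing R₁] [CommRing B₁] [Algebra R B] [Algebra R R₁] [Algebra R₁ B₁]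
    [Algebra R B₁] [Algebra B B₁] [IsScalarTower R B B₁] [IsScalarTower R R₁ B₁]
    [Algebra.IsPushout R B R₁ B₁] {p : Ideal R} [p.IsPrime] {p₁ : Ideal R₁} [p₁.IsPrime]
    (hp : ResTriv p p₁) [Module.Flat R B] :
    (p₁.map (algebraMap R₁ B₁)).LiesOver (p.map (algebraMap R B)) := by
  have := hp.liesOver
  have : Module.Flat R₁ B₁ := flat_of_isPushout R B R₁ B₁
  refine ⟨?_⟩
  rw [← comap_bot_incl_of_flat p, ← comap_bot_incl_of_flat p₁, Ideal.under_def,
    Ideal.comap_comap, ← fibMap_comp_incl p p₁, ← Ideal.comap_comap]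
  congr 1
  exact ((RingHom.injective_iff_ker_eq_bot _).1 (fibMap_bijective (X₁ := B₁) (X := B) p p₁ hp).1).symm

theorem fibreIso_aux {B B₁ M M₁ : Type u} [CommRing B] [CommRing B₁] [Algebra B B₁]
    [AddCommGroup M] [Module B M] [AddCommGroup M₁] [Module B₁ M₁] [Module B M₁]
    [IsScalarTower B B₁ M₁] (P : Ideal B) [P.IsPrime] (P₁ : Ideal B₁) [P₁.IsPrime]
    [hPP : P₁.LiesOver P] {r : ℕ} (α : (Fin r → B) →ₗ[B] M) (g : M →ₗ[B] M₁)
    (hg : IsBaseChange B₁ g)
    (hβ : IsBaseChange B₁ ((Algebra.linearMap B B₁).compLeft (Fin r)))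
    (h : Function.Bijective (α.baseChange P.ResidueField)) :
    Function.Bijective ((hβ.lift (g.comp α)).baseChange P₁.ResidueField) := by
  let _ : Algebra P.ResidueField P₁.ResidueField :=
    (Ideal.ResidueField.mapₐ P P₁ (Algebra.ofId B B₁) hPP.over).toRingHom.toAlgebra
  have : IsScalarTower B P.ResidueField P₁.ResidueField := by
    refine IsScalarTower.of_algebraMap_eq fun x => ?_
    exact ((Ideal.ResidueField.mapₐ P P₁ (Algebra.ofId B B₁) hPP.over).commutes x).symm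
  have h1 : Function.Bijective (α.baseChange P₁.ResidueField) :=
    bijective_baseChange_trans (K := P.ResidueField) α h
  have hu : IsBaseChange P₁.ResidueField
      (((TensorProduct.mk B₁ P₁.ResidueField (Fin r → B₁) 1).restrictScalars B).comp
        ((Algebra.linearMap B B₁).compLeft (Fin r))) :=
    hβ.comp (TensorProduct.isBaseChange B₁ (Fin r → B₁) P₁.ResidueField)
  have hv : IsBaseChange P₁.ResidueField
      (((TensorProduct.mk B₁ P₁.ResidueField M₁ 1).restrictScalars B).comp g) :=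
    hg.comp (TensorProduct.isBaseChange B₁ M₁ P₁.ResidueField)
  refine (bijective_iff_of_isBaseChange α hu hv _ ?_).2 h1
  intro x
  change (1 : P₁.ResidueField) ⊗ₜ[B₁] ((hβ.lift (g.comp α))
    (((Algebra.linearMap B B₁).compLeft (Fin r)) x)) = (1 : P₁.ResidueField) ⊗ₜ[B₁] (g (α x))
  rw [hβ.lift_eq]
  rfl

/-- The base change of a step. -/
noncomputable def mkStep {R S : Type u} [CommRing R] [CommRing S] [Algebra R S] {N : Type u}
    [AddCommGroup N] [Module S N] {rr : Ideal R} [rr.IsPrime] (st : Step R S N rr)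
    {R₁ : Type u} [CommRing R₁] [Algebra R R₁] (p₁ : Ideal R₁) [p₁.IsPrime] (hp : ResTriv rr p₁)
    {S₁ : Type u} [CommRing S₁] [Algebra S S₁] [Algebra R₁ S₁] [Algebra R S₁]
    [IsScalarTower R S S₁] [IsScalarTower R R₁ S₁] [Algebra.IsPushout R S R₁ S₁]
    {N₁ : Type u} [AddCommGroup N₁] [Module S₁ N₁] [Module S N₁] [IsScalarTower S S₁ N₁]
    (f : N →ₗ[S] N₁) (hf : IsBaseChange S₁ f)
    (A₁ B₁ M₁ : Type u) [CommRing A₁] [CommRing B₁] [Algebra R₁ A₁] [Algebra R₁ B₁]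
    [Algebra B₁ A₁] [IsScalarTower R₁ B₁ A₁] [Algebra S₁ A₁] [IsScalarTower R₁ S₁ A₁]
    [Algebra R B₁] [Algebra st.B B₁] [IsScalarTower R st.B B₁] [IsScalarTower R R₁ B₁]
    [Algebra.IsPushout R st.B R₁ B₁]
    [Algebra R A₁] [Algebra st.A A₁] [IsScalarTower R st.A A₁] [IsScalarTower R R₁ A₁]
    [Algebra.IsPushout R st.A R₁ A₁]
    [Algebra S A₁] [IsScalarTower S st.A A₁] [IsScalarTower S S₁ A₁]
    [Algebra st.B A₁] [IsScalarTower st.B st.A A₁] [IsScalarTower st.B B₁ A₁]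
    [AddCommGroup M₁] [Module A₁ M₁] [Module B₁ M₁] [IsScalarTower B₁ A₁ M₁]
    [Module R₁ M₁] [IsScalarTower R₁ B₁ M₁] [Module S₁ M₁] [IsScalarTower S₁ A₁ M₁]
    [Module st.A M₁] [IsScalarTower st.A A₁ M₁] [Module st.B M₁] [IsScalarTower st.B st.A M₁]
    [IsScalarTower st.B B₁ M₁] [Module S M₁] [IsScalarTower S st.A M₁] [IsScalarTower S S₁ M₁]
    (g : st.M →ₗ[st.A] M₁) (hg : IsBaseChange A₁ g) : Step R₁ S₁ N₁ p₁ :=
  have hsm := st.smooth
  have hfl : Module.Flat R st.B := inferInstance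
  have hne := exists_prime_liesOver_of_geomIrredFibres R st.B st.geomIrred rr
  have hBA : Algebra.IsPushout st.B st.A B₁ A₁ := pushout_right R st.B st.A R₁ B₁ A₁
  have hSA : Algebra.IsPushout S st.A S₁ A₁ := pushout_right R S st.A R₁ S₁ A₁
  have hgB : IsBaseChange B₁ (g.restrictScalars st.B) := isBaseChange_of_isPushout g hg
  have hgS : IsBaseChange S₁ (g.restrictScalars S) := isBaseChange_of_isPushout g hg
  have hβ : IsBaseChange B₁ ((Algebra.linearMap st.B B₁).compLeft (Fin st.r)) :=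
    IsBaseChange.finitePow (Fin st.r) (IsBaseChange.linearMap st.B B₁)
  { A := A₁
    B := B₁
    M := M₁
    r := st.r
    hp := isPrime_map_of_resTriv hp st.hp hne
    α := hβ.lift ((g.restrictScalars st.B).comp st.α)
    surjSA := surjective_of_isPushout S st.A S₁ A₁ st.surjSA
    fpSA := have := st.fpSA; finitePresentation_of_isPushout S st.A S₁ A₁
    finiteBA := have := st.finiteBA; finite_of_isPushout st.B st.A B₁ A₁
    smooth := smooth_of_isPushout R st.B R₁ B₁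
    geomIrred := geomIrredFibres_of_isPushout R st.B R₁ B₁ st.geomIrred
    finiteM := have := st.finiteM; Module.Finite.equiv hg.equiv
    isoN := hf.equiv.symm ≪≫ₗ (LinearEquiv.baseChange S S₁ _ _ st.isoN) ≪≫ₗ hgS.equiv
    fibreIso := by
      have := st.hp
      have h1 : (p₁.map (algebraMap R₁ B₁)).IsPrime := isPrime_map_of_resTriv hp st.hp hne
      have h2 : (p₁.map (algebraMap R₁ B₁)).LiesOver (rr.map (algebraMap R st.B)) :=
        map_liesOver_map hp
      exact fibreIso_aux (rr.map (algebraMap R st.B)) (p₁.map (algebraMap R₁ B₁)) st.α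
        (g.restrictScalars st.B) hgB hβ st.fibreIso }


section LocDim

variable {R R₁ X X₁ : Type u} [CommRing R] [CommRing R₁] [Algebra R R₁]
  [CommRing X] [Algebra R X] [CommRing X₁] [Algebra X X₁] [Algebra R₁ X₁] [Algebra R X₁]
  [IsScalarTower R X X₁] [IsScalarTower R R₁ X₁] [Algebra.IsPushout R X R₁ X₁]
  {M M₁ : Type u} [AddCommGroup M] [Module X M] [AddCommGroup M₁] [Module X₁ M₁] [Module X M₁]
  [IsScalarTower X X₁ M₁]

/-- Local dimension of the support of the fibre module at a point, under base change with trivial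
residue extension. -/
theorem locDim_bc {p : Ideal R} [p.IsPrime] {p₁ : Ideal R₁} [p₁.IsPrime]
    (hp : ResTriv p p₁) (g : M →ₗ[X] M₁) (hg : IsBaseChange X₁ g)
    (q : Ideal X) [q.IsPrime] [q.LiesOver p] (q₁ : Ideal X₁) [q₁.IsPrime] [q₁.LiesOver p₁]
    [q₁.LiesOver q] (d : WithBot ℕ∞)
    (h : ∃ (x : PrimeSpectrum (p.Fiber X)) (hx : x ∈ Module.support (p.Fiber X) (fiberMod p X M)),
      x.asIdeal = fiberIdeal p q ∧
      FlatMor.localDim (Module.support (p.Fiber X) (fiberMod p X M)) ⟨x, hx⟩ = d) :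
    ∃ (x : PrimeSpectrum (p₁.Fiber X₁))
      (hx : x ∈ Module.support (p₁.Fiber X₁) (fiberMod p₁ X₁ M₁)),
      x.asIdeal = fiberIdeal p₁ q₁ ∧
      FlatMor.localDim (Module.support (p₁.Fiber X₁) (fiberMod p₁ X₁ M₁)) ⟨x, hx⟩ = d := by
  have := hp.liesOver
  obtain ⟨x, hx, hxq, hd⟩ := h
  let F : p.Fiber X ≃+* p₁.Fiber X₁ :=
    RingEquiv.ofBijective (fibMap (X₁ := X₁) (X := X) p p₁) (fibMap_bijective p p₁ hp)
  let E : PrimeSpectrum (p.Fiber X) ≃ₜ PrimeSpectrum (p₁.Fiber X₁) :=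
    PrimeSpectrum.homeomorphOfRingEquiv F
  let x₁ : PrimeSpectrum (p₁.Fiber X₁) := ⟨fiberIdeal p₁ q₁, fiberIdeal_isPrime p₁ q₁⟩
  have hsupp : ∀ y : PrimeSpectrum (p₁.Fiber X₁),
      y ∈ Module.support (p₁.Fiber X₁) (fiberMod p₁ X₁ M₁) ↔
        E.symm y ∈ Module.support (p.Fiber X) (fiberMod p X M) := fun y =>
    mem_support_fiberMod_iff p p₁ hp g hg y
  have hEx : E.symm x₁ = x := by
    apply PrimeSpectrum.ext
    rw [hxq]
    exact comap_fibMap_fiberIdeal p p₁ q q₁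
  have hx₁ : x₁ ∈ Module.support (p₁.Fiber X₁) (fiberMod p₁ X₁ M₁) := by
    rw [hsupp, hEx]; exact hx
  refine ⟨x₁, hx₁, rfl, ?_⟩
  let e : (Module.support (p₁.Fiber X₁) (fiberMod p₁ X₁ M₁)) ≃ₜ
      (Module.support (p.Fiber X) (fiberMod p X M)) :=
    Homeomorph.subtype (p := fun y => y ∈ Module.support (p₁.Fiber X₁) (fiberMod p₁ X₁ M₁))
      (q := fun y => y ∈ Module.support (p.Fiber X) (fiberMod p X M)) E.symm hsupp
  rw [localDim_homeomorph e, ← hd]
  congr 1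
  exact Subtype.ext hEx

end LocDim

/-- The base change of the data at a prime. -/
theorem exists_mkStepAt {R S : Type u} [CommRing R] [CommRing S] [Algebra R S] {N : Type u}
    [AddCommGroup N] [Module S N] {rr : Ideal R} [rr.IsPrime] (st : Step R S N rr)
    {R₁ : Type u} [CommRing R₁] [Algebra R R₁] (p₁ : Ideal R₁) [p₁.IsPrime] (hp : ResTriv rr p₁)
    {S₁ : Type u} [CommRing S₁] [Algebra S S₁] [Algebra R₁ S₁] [Algebra R S₁]
    [IsScalarTower R S S₁] [IsScalarTower R R₁ S₁] [Algebra.IsPushout R S R₁ S₁]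
    {N₁ : Type u} [AddCommGroup N₁] [Module S₁ N₁] [Module S N₁] [IsScalarTower S S₁ N₁]
    (f : N →ₗ[S] N₁) (hf : IsBaseChange S₁ f)
    (A₁ B₁ M₁ : Type u) [CommRing A₁] [CommRing B₁] [Algebra R₁ A₁] [Algebra R₁ B₁]
    [Algebra B₁ A₁] [IsScalarTower R₁ B₁ A₁] [Algebra S₁ A₁] [IsScalarTower R₁ S₁ A₁]
    [Algebra R B₁] [Algebra st.B B₁] [IsScalarTower R st.B B₁] [IsScalarTower R R₁ B₁]
    [Algebra.IsPushout R st.B R₁ B₁]
    [Algebra R A₁] [Algebra st.A A₁] [IsScalarTower R st.A A₁] [IsScalarTower R R₁ A₁]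
    [Algebra.IsPushout R st.A R₁ A₁]
    [Algebra S A₁] [IsScalarTower S st.A A₁] [IsScalarTower S S₁ A₁]
    [Algebra st.B A₁] [IsScalarTower st.B st.A A₁] [IsScalarTower st.B B₁ A₁]
    [AddCommGroup M₁] [Module A₁ M₁] [Module B₁ M₁] [IsScalarTower B₁ A₁ M₁]
    [Module R₁ M₁] [IsScalarTower R₁ B₁ M₁] [Module S₁ M₁] [IsScalarTower S₁ A₁ M₁]
    [Module st.A M₁] [IsScalarTower st.A A₁ M₁] [Module st.B M₁] [IsScalarTower st.B st.A M₁]
    [IsScalarTower st.B B₁ M₁] [Module S M₁] [IsScalarTower S st.A M₁] [IsScalarTower S S₁ M₁]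
    (g : st.M →ₗ[st.A] M₁) (hg : IsBaseChange A₁ g)
    (q : Ideal S) [q.IsPrime] (sa : StepAt R S N rr st q)
    (q₁ : Ideal S₁) [q₁.IsPrime] [hq₁ : q₁.LiesOver q] [hqp : q₁.LiesOver p₁] :
    ∃ sa₁ : StepAt R₁ S₁ N₁ p₁ (mkStep st p₁ hp f hf A₁ B₁ M₁ g hg) q₁,
      (show Ideal B₁ from sa₁.qB).LiesOver sa.qB := by
  have hAR : sa.qA.LiesOver rr := Ideal.LiesOver.trans sa.qA sa.qB rr
  have hq : q.LiesOver rr := by
    refine ⟨hAR.over.trans ?_⟩
    have h0 := congrArg (Ideal.comap (algebraMap R S)) sa.q0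
    rw [Ideal.comap_comap, ← IsScalarTower.algebraMap_eq] at h0
    exact h0
  obtain ⟨qB₁, hqB₁, hqB₁r, hqB₁p, hqB₁u⟩ := exists_point (X₁ := B₁) hp sa.qB
  obtain ⟨qA₁, hqA₁, hqA₁r, hqA₁p, hqA₁u⟩ := exists_point (X₁ := A₁) hp sa.qA
  obtain ⟨q₂, hq₂, hq₂r, hq₂p, hq₂u⟩ := exists_point (X₁ := S₁) hp q
  have hqB₁o := hqB₁r.liesOver
  have hqA₁o := hqA₁r.liesOver
  have hcomapB : ∀ Q : Ideal A₁, (Q.comap (algebraMap B₁ A₁)).comap (algebraMap st.B B₁) =
      (Q.comap (algebraMap st.A A₁)).comap (algebraMap st.B st.A) := fun Q => by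
    rw [Ideal.comap_comap, Ideal.comap_comap, ← IsScalarTower.algebraMap_eq,
      ← IsScalarTower.algebraMap_eq]
  have hcomapS : ∀ Q : Ideal A₁, (Q.comap (algebraMap S₁ A₁)).comap (algebraMap S S₁) =
      (Q.comap (algebraMap st.A A₁)).comap (algebraMap S st.A) := fun Q => by
    rw [Ideal.comap_comap, Ideal.comap_comap, ← IsScalarTower.algebraMap_eq,
      ← IsScalarTower.algebraMap_eq]
  have hcomapRB : ∀ Q : Ideal A₁, (Q.comap (algebraMap B₁ A₁)).comap (algebraMap R₁ B₁) =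
      (Q.comap (algebraMap R₁ A₁)) := fun Q => by
    rw [Ideal.comap_comap, ← IsScalarTower.algebraMap_eq]
  have hcomapRS : ∀ Q : Ideal A₁, (Q.comap (algebraMap S₁ A₁)).comap (algebraMap R₁ S₁) =
      (Q.comap (algebraMap R₁ A₁)) := fun Q => by
    rw [Ideal.comap_comap, ← IsScalarTower.algebraMap_eq]
  -- `qA₁` lies over `qB₁`
  have hover : qA₁.comap (algebraMap B₁ A₁) = qB₁ := by
    have : (qA₁.comap (algebraMap B₁ A₁)).IsPrime := Ideal.IsPrime.comap _
    refine hqB₁u _ ⟨?_⟩ ⟨?_⟩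
    · rw [Ideal.under_def, hcomapB, ← Ideal.under_def st.A, ← hqA₁o.over, ← Ideal.under_def]
      exact sa.overA.over
    · rw [Ideal.under_def, hcomapRB]
      exact hqA₁p.over
  have hoverA : qA₁.LiesOver qB₁ := ⟨hover.symm⟩
  have hq₂q₁ : q₁ = q₂ := hq₂u q₁ hq₁ hqp
  have hq0 : qA₁.comap (algebraMap S₁ A₁) = q₁ := by
    have : (qA₁.comap (algebraMap S₁ A₁)).IsPrime := Ideal.IsPrime.comap _
    rw [hq₂q₁]
    refine hq₂u _ ⟨?_⟩ ⟨?_⟩
    · rw [Ideal.under_def, hcomapS, ← Ideal.under_def st.A, ← hqA₁o.over]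
      exact sa.q0.symm
    · rw [Ideal.under_def, hcomapRS]
      exact hqA₁p.over
  have huniq : ∀ (Q : Ideal A₁) [Q.IsPrime], Q.LiesOver qB₁ → Q = qA₁ := by
    intro Q hQ hQB
    have h1 : (Q.comap (algebraMap st.A A₁)).IsPrime := Ideal.IsPrime.comap _
    have h2 : (Q.comap (algebraMap st.A A₁)) = sa.qA := by
      refine sa.uniq _ ⟨?_⟩
      rw [Ideal.under_def, ← hcomapB, ← Ideal.under_def B₁, ← hQB.over]
      exact hqB₁o.over
    refine hqA₁u Q ⟨h2.symm⟩ ⟨?_⟩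
    rw [Ideal.under_def, ← hcomapRB, ← Ideal.under_def B₁, ← hQB.over]
    exact hqB₁p.over
  have hBA : Algebra.IsPushout st.B st.A B₁ A₁ := pushout_right R st.B st.A R₁ B₁ A₁
  have hgB : IsBaseChange B₁ (g.restrictScalars st.B) := isBaseChange_of_isPushout g hg
  exact ⟨{
    qB := qB₁
    qA := qA₁
    hqB := hqB₁
    hqA := hqA₁
    overB := hqB₁p
    overA := hoverA
    pureTrans := purelyTranscendental_of_resTriv hp hqB₁r sa.pureTrans
    uniq := huniq
    q0 := hq0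
    d := sa.d
    relDim := smoothRelDim_of_isPushout R st.B R₁ B₁ sa.d sa.relDim
    locDim := locDim_bc hp (g.restrictScalars st.B) hgB sa.qB qB₁ sa.d sa.locDim }, hqB₁o⟩

end Groth.Agent.Flat2B.StepBC
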