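import Groth.Prelude.Def_FlatCA
import Mathlib.RingTheory.Ideal.Maximal

set_option autoImplicit false
universe u v

namespace Groth.Agent.Flat2B.WeakAssElem

/-- elementwise criterion for a prime to be minimal over an ideal -/
theorem mem_minimalPrimes_iff {R : Type u} [CommRing R] {I p : Ideal R} (hp : p.IsPrime) :
    p ∈ I.minimalPrimes ↔ I ≤ p ∧ ∀ a ∈ p, ∃ s ∉ p, ∃ n : ℕ, s * a ^ n ∈ I := by
  constructor
  · intro h
    refine ⟨h.1.2, fun a ha => ?_⟩
    by_contra hcon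
    push Not at hcon
    let T : Submonoid R :=
      { carrier := {x | ∃ s ∉ p, ∃ n : ℕ, x = s * a ^ n}
        one_mem' := ⟨1, fun h1 => hp.ne_top ((Ideal.eq_top_iff_one p).mpr h1), 0, by simp⟩
        mul_mem' := by
          rintro x y ⟨s, hs, n, rfl⟩ ⟨t, ht, m, rfl⟩
          refine ⟨s * t, fun h => (hp.mem_or_mem h).elim hs ht, n + m, by ring⟩ }
    have hdis : Disjoint (I : Set R) (T : Set R) := by
      rw [Set.disjoint_left]
      rintro x hx ⟨s, hs, n, rfl⟩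
      exact hcon s hs n hx
    obtain ⟨q, hq, hIq, hqT⟩ := Ideal.exists_le_prime_disjoint I T hdis
    have hqp : q ≤ p := by
      intro x hx
      by_contra hxp
      exact (Set.disjoint_left.mp hqT) hx ⟨x, hxp, 0, by simp⟩
    have hpq : p ≤ q := h.2 ⟨hq, hIq⟩ hqp
    exact (Set.disjoint_left.mp hqT) (hpq ha)
      ⟨1, fun h1 => hp.ne_top ((Ideal.eq_top_iff_one p).mpr h1), 1, by simp⟩
  · rintro ⟨h1, h2⟩
    refine ⟨⟨hp, h1⟩, ?_⟩
    rintro q ⟨hq, hIq⟩ hqp a ha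
    obtain ⟨s, hs, n, hsn⟩ := h2 a ha
    rcases hq.mem_or_mem (hIq hsn) with h | h
    · exact absurd (hqp h) hs
    · exact hq.mem_of_pow_mem _ h

/-- elementwise criterion for a prime to be weakly associated -/
theorem mem_weakAss_iff {R : Type u} [CommRing R] {M : Type v} [AddCommGroup M] [Module R M] (p : Ideal R) :
    p ∈ FlatCA.weakAss R M ↔ p.IsPrime ∧ ∃ m : M, (∀ s : R, s • m = 0 → s ∈ p) ∧
      ∀ a ∈ p, ∃ s ∉ p, ∃ n : ℕ, (s * a ^ n) • m = 0 := by
  have hann : ∀ (m : M) (s : R), s ∈ (Submodule.span R {m}).annihilator ↔ s • m = 0 := by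
    intro m s
    rw [Submodule.mem_annihilator_span_singleton]
  constructor
  · rintro ⟨m, hm⟩
    have hp : p.IsPrime := hm.1.1
    rw [mem_minimalPrimes_iff hp] at hm
    refine ⟨hp, m, fun s hs => hm.1 ((hann m s).mpr hs), fun a ha => ?_⟩
    obtain ⟨s, hs, n, hn⟩ := hm.2 a ha
    exact ⟨s, hs, n, (hann m _).mp hn⟩
  · rintro ⟨hp, m, h1, h2⟩
    refine ⟨m, ?_⟩
    rw [mem_minimalPrimes_iff hp]
    refine ⟨fun s hs => h1 s ((hann m s).mp hs), fun a ha => ?_⟩
    obtain ⟨s, hs, n, hn⟩ := h2 a ha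
    exact ⟨s, hs, n, (hann m _).mpr hn⟩

end Groth.Agent.Flat2B.WeakAssElem
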