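import Groth.Agent.Flat2B.FibKer
import Groth.Agent.Flat2B.WeakAssElem
import Mathlib.LinearAlgebra.TensorProduct.Quotient
import Mathlib.Algebra.Module.Torsion.Basic
import Mathlib.RingTheory.Flat.Basic
import Mathlib.RingTheory.Noetherian.Basic

set_option autoImplicit false
universe u

namespace Groth.Agent.Flat2B.TensorAss

open TensorProduct Flat2A.Fiber Flat2A.FiberAss FibKer WeakAssElem

section

variable {R S : Type u} [CommRing R] [CommRing S] [Algebra R S]
  {N : Type u} [AddCommGroup N] [Module S N] [Module R N] [IsScalarTower R S N]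

/-- `I • ⊤` (over `R`) is stable under `S`. -/
theorem smul_mem_smul_top (I : Ideal R) (s : S) {x : N} (hx : x ∈ (I • ⊤ : Submodule R N)) :
    s • x ∈ (I • ⊤ : Submodule R N) := by
  refine Submodule.smul_induction_on (p := fun x => s • x ∈ (I • ⊤ : Submodule R N)) hx ?_ ?_
  · intro a ha y _
    rw [smul_comm]
    exact Submodule.smul_mem_smul ha trivial
  · intro x y hx hy
    rw [smul_add]
    exact add_mem hx hy

/-- membership in `I • ⊤` for a localized module -/
theorem exists_smul_mem_of_mkLinearMap_mem (q : Ideal S) [q.IsPrime] (I : Ideal R) (x : N)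
    (hx : LocalizedModule.mkLinearMap q.primeCompl N x ∈
      (I • ⊤ : Submodule R (LocalizedModule q.primeCompl N))) :
    ∃ u ∉ q, u • x ∈ (I • ⊤ : Submodule R N) := by
  have key : ∀ y ∈ (I • ⊤ : Submodule R (LocalizedModule q.primeCompl N)),
      ∃ u ∉ q, ∃ x' ∈ (I • ⊤ : Submodule R N), u • y = LocalizedModule.mkLinearMap q.primeCompl N x' := by
    intro y hy
    refine Submodule.smul_induction_on (p := fun y => ∃ u ∉ q, ∃ x' ∈ (I • ⊤ : Submodule R N),
      u • y = LocalizedModule.mkLinearMap q.primeCompl N x') hy ?_ ?_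
    · intro a ha y _
      obtain ⟨⟨n, u⟩, rfl⟩ := IsLocalizedModule.mk'_surjective q.primeCompl
        (LocalizedModule.mkLinearMap q.primeCompl N) y
      refine ⟨u, u.2, a • n, Submodule.smul_mem_smul ha trivial, ?_⟩
      have h1 : (u : S) • (IsLocalizedModule.mk' (LocalizedModule.mkLinearMap q.primeCompl N) n u) =
          LocalizedModule.mkLinearMap q.primeCompl N n :=
        IsLocalizedModule.mk'_cancel' (LocalizedModule.mkLinearMap q.primeCompl N) n u
      rw [smul_comm]
      change a • ((u : S) • (IsLocalizedModule.mk' (LocalizedModule.mkLinearMap q.primeCompl N) n u)) = _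
      rw [h1, ← algebraMap_smul S a, ← map_smul, algebraMap_smul]
    · rintro y y' ⟨u, hu, x, hx, h⟩ ⟨u', hu', x', hx', h'⟩
      refine ⟨u * u', fun hc => (Ideal.IsPrime.mem_or_mem ‹_› hc).elim hu hu', u' • x + u • x', ?_, ?_⟩
      · exact add_mem (smul_mem_smul_top I _ hx) (smul_mem_smul_top I _ hx')
      · rw [smul_add, map_add, map_smul, map_smul, ← h, ← h', smul_smul, smul_smul, mul_comm u' u]
  obtain ⟨u, hu, x', hx', h⟩ := key _ hx
  rw [← map_smul, ← sub_eq_zero, ← map_sub] at h
  rw [IsLocalizedModule.eq_zero_iff q.primeCompl] at h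
  obtain ⟨⟨c, hc⟩, hc'⟩ := h
  refine ⟨c * u, fun hcu => (Ideal.IsPrime.mem_or_mem ‹_› hcu).elim hc hu, ?_⟩
  have h2 : c • (u • x - x') = 0 := hc'
  rw [smul_sub, sub_eq_zero, smul_smul] at h2
  rw [h2]
  exact smul_mem_smul_top I _ hx'

/-- if `y ⊗ m = 0` with `y` in a flat module, then `y ∈ Ann(m) • ⊤`. -/
theorem mem_torsionOf_smul_top_of_flat {P M : Type u} [AddCommGroup P] [Module R P] [AddCommGroup M] [Module R M]
    [Module.Flat R P] (y : P) (m : M) (h : y ⊗ₜ[R] m = 0) :
    y ∈ (Ideal.torsionOf R M m • ⊤ : Submodule R P) := by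
  let f : (R ⧸ Ideal.torsionOf R M m) →ₗ[R] M :=
    (Submodule.subtype _).comp (Ideal.quotTorsionOfEquivSpanSingleton R M m).toLinearMap
  have hf : Function.Injective f :=
    (Submodule.injective_subtype _).comp (Ideal.quotTorsionOfEquivSpanSingleton R M m).injective
  have hf1 : f (Ideal.Quotient.mk _ 1) = m := by
    change ((Ideal.quotTorsionOfEquivSpanSingleton R M m (Submodule.Quotient.mk 1) : _) : M) = m
    rw [Ideal.quotTorsionOfEquivSpanSingleton_apply_mk, one_smul]
  have hinj := Module.Flat.lTensor_preserves_injective_linearMap (M := P) f hf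
  have h1 : y ⊗ₜ[R] (Ideal.Quotient.mk (Ideal.torsionOf R M m) 1) = 0 := by
    apply hinj
    rw [LinearMap.lTensor_tmul, hf1, h, map_zero]
  have h2 := congrArg (TensorProduct.tensorQuotEquivQuotSMul P (Ideal.torsionOf R M m)) h1
  rw [TensorProduct.tensorQuotEquivQuotSMul_tmul_mk, map_zero, one_smul] at h2
  exact (Submodule.Quotient.mk_eq_zero _).mp h2

/-- up to elements outside `p` every element of the fibre module comes from the module -/
theorem exists_smul_eq_toFiberMod (p : Ideal R) [p.IsPrime] (y : FlatCA.fiberMod p S N) :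
    ∃ r ∉ p, ∃ n : N, algebraMap R S r • y = FlatCA.toFiberMod p S N n := by
  have key : ∀ x : N ⊗[R] p.ResidueField, ∃ r ∉ p, ∃ n : N, r • x = n ⊗ₜ[R] (1 : p.ResidueField) := by
    intro x
    induction x using TensorProduct.induction_on with
    | zero => exact ⟨1, fun h => Ideal.IsPrime.ne_top ‹_› ((Ideal.eq_top_iff_one p).mpr h), 0, by simp⟩
    | tmul n c =>
      obtain ⟨a, b, hb, rfl⟩ := IsFractionRing.div_surjective (A := R ⧸ p) c
      obtain ⟨a, rfl⟩ := Ideal.Quotient.mk_surjective a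
      obtain ⟨b, rfl⟩ := Ideal.Quotient.mk_surjective b
      have hb' : b ∉ p := by
        intro h
        rw [Ideal.Quotient.eq_zero_iff_mem.mpr h] at hb
        exact nonZeroDivisors.ne_zero hb rfl
      have hb0 : algebraMap R p.ResidueField b ≠ 0 := by
        intro h0
        exact hb' (by simpa using h0)
      refine ⟨b, hb', a • n, ?_⟩
      rw [← TensorProduct.tmul_smul]
      have h1 : b • (algebraMap (R ⧸ p) p.ResidueField (Ideal.Quotient.mk p a) /
          algebraMap (R ⧸ p) p.ResidueField (Ideal.Quotient.mk p b)) = a • (1 : p.ResidueField) := by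
        rw [Algebra.smul_def, Algebra.smul_def, mul_one]
        have e1 : algebraMap (R ⧸ p) p.ResidueField (Ideal.Quotient.mk p b) = algebraMap R p.ResidueField b := rfl
        have e2 : algebraMap (R ⧸ p) p.ResidueField (Ideal.Quotient.mk p a) = algebraMap R p.ResidueField a := rfl
        rw [e1, e2]
        field_simp
      rw [h1, TensorProduct.smul_tmul]
    | add x y hx hy =>
      obtain ⟨r, hr, n, h⟩ := hx
      obtain ⟨r', hr', n', h'⟩ := hy
      refine ⟨r * r', fun hc => (Ideal.IsPrime.mem_or_mem ‹_› hc).elim hr hr', r' • n + r • n', ?_⟩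
      rw [smul_add, mul_comm, mul_smul, h, mul_comm, mul_smul, h', TensorProduct.add_tmul,
        TensorProduct.smul_tmul', TensorProduct.smul_tmul']
  obtain ⟨r, hr, n, h⟩ := key (fiberModEquiv p N y)
  refine ⟨r, hr, n, ?_⟩
  apply (fiberModEquiv p N).injective
  rw [fiberModEquiv_toFiberMod, map_smul, algebraMap_smul, h]

theorem algebraMap_notMem (p : Ideal R) [p.IsPrime] (q : Ideal S) [q.IsPrime] [q.LiesOver p] {r : R} (hr : r ∉ p) :
    algebraMap R S r ∉ q := by
  intro h
  apply hr
  rw [Ideal.over_def q p]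
  exact h

/-- A generator of an associated prime of the fibre module can be taken in `N`. -/
theorem exists_generator (p : Ideal R) [p.IsPrime] (q : Ideal S) [q.IsPrime] [q.LiesOver p]
    [IsNoetherianRing (p.Fiber S)]
    (hq : FlatCA.fiberIdeal p q ∈ associatedPrimes (p.Fiber S) (FlatCA.fiberMod p S N)) :
    ∃ n : N, ∀ s : S, s ∈ q ↔ ∃ r ∉ p, r • (s • n) ∈ (p • ⊤ : Submodule R N) := by
  obtain ⟨-, y, hy⟩ := (isAssociatedPrime_iff (I := FlatCA.fiberIdeal p q)).mp hq
  obtain ⟨r, hr, n, hn⟩ := exists_smul_eq_toFiberMod p y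
  refine ⟨n, fun s => ?_⟩
  rw [← toFiberMod_eq_zero_iff (S := S) p N, map_smul, ← hn, ← one_tmul_mem_fiberIdeal_iff p q s, hy,
    Submodule.mem_colon_singleton, Submodule.mem_bot]
  have e1 : s • y = ((1 : p.ResidueField) ⊗ₜ[R] s : p.Fiber S) • y := smul_fiberMod p N s y
  rw [← e1]
  constructor
  · intro h
    rw [smul_comm, h, smul_zero]
  · intro h
    rw [smul_comm] at h
    have h2 := congrArg (fun w => ((algebraMap R p.ResidueField r)⁻¹ ⊗ₜ[R] (1 : S) : p.Fiber S) • w) h
    simp only [smul_zero] at h2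
    rw [smul_fiberMod p N (algebraMap R S r), smul_smul] at h2
    have h3 : ((algebraMap R p.ResidueField r)⁻¹ ⊗ₜ[R] (1 : S) : p.Fiber S) * toFiber p S (algebraMap R S r) = 1 := by
      change ((algebraMap R p.ResidueField r)⁻¹ ⊗ₜ[R] (1 : S) : p.Fiber S) * ((1 : p.ResidueField) ⊗ₜ[R] (algebraMap R S r)) = 1
      have h0 : algebraMap R p.ResidueField r ≠ 0 := by
        intro h0
        exact hr (by simpa using h0)
      rw [Algebra.TensorProduct.tmul_mul_tmul, mul_one, one_mul, Algebra.algebraMap_eq_smul_one (A := S) r,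
        ← TensorProduct.smul_tmul, Algebra.smul_def, mul_inv_cancel₀ h0, Algebra.TensorProduct.one_def]
    rw [h3, one_smul] at h2
    exact h2

/-- A finite set of elements of `q` generating it modulo `pS` up to elements outside `p`. -/
theorem exists_finset_generating (p : Ideal R) [p.IsPrime] (q : Ideal S) [IsNoetherianRing (p.Fiber S)] :
    ∃ G : Finset S, (G : Set S) ⊆ q ∧ ∀ s ∈ q, ∃ r ∉ p, r • s ∈ p.map (algebraMap R S) ⊔ Ideal.span (G : Set S) := by
  classical
  have hfg : (Submodule.span (p.Fiber S) (toFiber p S '' (q : Set S))).FG := IsNoetherian.noetherian _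
  rw [Submodule.fg_span_iff_fg_span_finset_subset] at hfg
  obtain ⟨T, hT, hT'⟩ := hfg
  obtain ⟨G, hG, hG'⟩ := Finset.subset_set_image_iff.mp hT
  refine ⟨G, hG, fun s hs => ?_⟩
  have hs1 : toFiber p S s ∈ Submodule.span (p.Fiber S) (T : Set (p.Fiber S)) := by
    rw [← hT']
    exact Submodule.subset_span ⟨s, hs, rfl⟩
  let J : Ideal S := Ideal.span (G : Set S)
  let φ : (p.Fiber S) →ₐ[p.ResidueField] (p.ResidueField ⊗[R] (S ⧸ J)) :=
    Algebra.TensorProduct.map (AlgHom.id _ _) (Ideal.Quotient.mkₐ R J)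
  have hφ : ∀ g ∈ J, φ (toFiber p S g) = 0 := by
    intro g hg
    change (1 : p.ResidueField) ⊗ₜ[R] (Ideal.Quotient.mk J g) = 0
    rw [Ideal.Quotient.eq_zero_iff_mem.mpr hg, TensorProduct.tmul_zero]
  have hs2 : φ (toFiber p S s) = 0 := by
    have : Submodule.span (p.Fiber S) (T : Set (p.Fiber S)) ≤ RingHom.ker φ := by
      rw [Submodule.span_le]
      intro t ht
      rw [← hG'] at ht
      simp only [Finset.coe_image, Set.mem_image, Finset.mem_coe] at ht
      obtain ⟨g, hg, rfl⟩ := ht
      exact hφ g (Ideal.subset_span hg)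
    exact this hs1
  have hs3 : (1 : p.ResidueField) ⊗ₜ[R] (Ideal.Quotient.mk J s) = 0 := hs2
  obtain ⟨r, hr, h⟩ := (one_tmul_eq_zero_iff p _).mp hs3
  refine ⟨r, hr, ?_⟩
  have key : ∀ x ∈ (p • ⊤ : Submodule R (S ⧸ J)), ∃ y ∈ p.map (algebraMap R S), Ideal.Quotient.mk J y = x := by
    intro x hx
    refine Submodule.smul_induction_on (p := fun x => ∃ y ∈ p.map (algebraMap R S), Ideal.Quotient.mk J y = x) hx ?_ ?_
    · intro a ha y _
      obtain ⟨y, rfl⟩ := Ideal.Quotient.mk_surjective y
      refine ⟨algebraMap R S a * y, Ideal.mul_mem_right _ _ (Ideal.mem_map_of_mem _ ha), ?_⟩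
      rw [map_mul, Algebra.smul_def]
      rfl
    · rintro x y ⟨x', hx', rfl⟩ ⟨y', hy', rfl⟩
      exact ⟨x' + y', add_mem hx' hy', map_add _ _ _⟩
  obtain ⟨y, hy, hy'⟩ := key _ h
  have h5 : y - r • s ∈ J := by
    rw [← Ideal.Quotient.eq_zero_iff_mem, map_sub, hy', sub_eq_zero]
    rfl
  have h6 : r • s = y + (-(y - r • s)) := by ring
  rw [h6]
  exact Submodule.add_mem_sup hy (neg_mem h5)

end

end Groth.Agent.Flat2B.TensorAss
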