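import Groth.Agent.Flat2B.TensorAss
import Mathlib.RingTheory.Finiteness.Ideal

set_option autoImplicit false
universe u

namespace Groth.Agent.Flat2B.TensorAss2

open TensorProduct Flat2A.Fiber Flat2A.FiberAss FibKer WeakAssElem TensorAss

section

variable {R : Type u} [CommRing R] {M : Type u} [AddCommGroup M] [Module R M]

/-- elements of the ring killing `m` up to elements outside the prime `p` -/
def locAnn (p : Ideal R) [hp : p.IsPrime] (m : M) : Ideal R where
  carrier := {x | ∃ t ∉ p, (t * x) • m = 0}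
  add_mem' := by
    rintro x y ⟨t, ht, h⟩ ⟨t', ht', h'⟩
    refine ⟨t * t', fun hc => (hp.mem_or_mem hc).elim ht ht', ?_⟩
    have : t * t' * (x + y) = t' * (t * x) + t * (t' * y) := by ring
    rw [this, add_smul, mul_smul, h, mul_smul, h', smul_zero, smul_zero, add_zero]
  zero_mem' := ⟨1, fun h => hp.ne_top ((Ideal.eq_top_iff_one p).mpr h), by simp⟩
  smul_mem' := by
    rintro c x ⟨t, ht, h⟩
    refine ⟨t, ht, ?_⟩
    have : t * (c • x) = c * (t * x) := by rw [smul_eq_mul]; ring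
    rw [this, mul_smul, h, smul_zero]

theorem mem_locAnn {p : Ideal R} [hp : p.IsPrime] {m : M} {x : R} :
    x ∈ locAnn p m ↔ ∃ t ∉ p, (t * x) • m = 0 := Iff.rfl

/-- a finitely generated ideal inside `locAnn p m` is killed by a single element outside `p` -/
theorem exists_uniform {p : Ideal R} [hp : p.IsPrime] {m : M} {J : Ideal R} (hJ : J.FG) (h : J ≤ locAnn p m) :
    ∃ t ∉ p, ∀ x ∈ J, (t * x) • m = 0 := by
  classical
  obtain ⟨G, rfl⟩ := hJ
  have hG : ∀ g ∈ G, ∃ t ∉ p, (t * g) • m = 0 := fun g hg => h (Ideal.subset_span hg)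
  choose! t ht ht' using hG
  refine ⟨∏ g ∈ G, t g, ?_, ?_⟩
  · intro hc
    rw [Ideal.IsPrime.prod_mem_iff] at hc
    obtain ⟨g, hg, hg'⟩ := hc
    exact ht g hg hg'
  · intro x hx
    refine Submodule.span_induction (p := fun x _ => ((∏ g ∈ G, t g) * x) • m = 0) ?_ ?_ ?_ ?_ hx
    · intro g hg
      obtain ⟨c, hc⟩ := Finset.dvd_prod_of_mem t hg
      rw [hc]
      have : t g * c * g = c * (t g * g) := by ring
      rw [this, mul_smul, ht' g hg, smul_zero]
    · simp
    · intro x y _ _ hx hy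
      rw [mul_add, add_smul, hx, hy, add_zero]
    · intro c x _ hx
      have : (∏ g ∈ G, t g) * (c • x) = c * ((∏ g ∈ G, t g) * x) := by rw [smul_eq_mul]; ring
      rw [this, mul_smul, hx, smul_zero]

/-- The key step: given a weakly associated prime `p` with element `m` and a finitely generated
`J ≤ p`, a multiple `m₁` of `m` is killed by `J` (up to an element outside `p`) and still has
annihilator inside `p`. -/
theorem exists_multiple {p : Ideal R} [hp : p.IsPrime] {m : M} (h1 : ∀ s : R, s • m = 0 → s ∈ p)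
    (h2 : ∀ a ∈ p, ∃ s ∉ p, ∃ n : ℕ, (s * a ^ n) • m = 0) {J : Ideal R} (hJ : J.FG) (hJp : J ≤ p) :
    ∃ m₁ : M, (∀ s : R, s • m₁ = 0 → s ∈ p) ∧ (∀ a ∈ p, ∃ s ∉ p, ∃ n : ℕ, (s * a ^ n) • m₁ = 0) ∧
      ∃ t ∉ p, ∀ x ∈ J, (t * x) • m₁ = 0 := by
  classical
  have hrad : J ≤ (locAnn p m).radical := by
    intro a ha
    obtain ⟨s, hs, n, hn⟩ := h2 a (hJp ha)
    exact ⟨n, s, hs, hn⟩
  have hex : ∃ K, J ^ K ≤ locAnn p m := Ideal.exists_pow_le_of_le_radical_of_fg hrad hJ
  let K := Nat.find hex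
  have hK : J ^ K ≤ locAnn p m := Nat.find_spec hex
  have hK0 : K ≠ 0 := by
    intro h0
    rw [h0, pow_zero, Ideal.one_eq_top] at hK
    obtain ⟨t, ht, h⟩ := hK (show (1 : R) ∈ ⊤ from trivial)
    rw [mul_one] at h
    exact ht (h1 t h)
  obtain ⟨l, hl⟩ := Nat.exists_eq_succ_of_ne_zero hK0
  have hl' : ¬ J ^ l ≤ locAnn p m := Nat.find_min hex (show l < K by omega)
  obtain ⟨a, ha, ha'⟩ := SetLike.not_le_iff_exists.mp hl'
  refine ⟨a • m, ?_, ?_, ?_⟩
  · intro s hs
    by_contra hsp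
    exact ha' ⟨s, hsp, by rw [mul_smul, hs]⟩
  · intro b hb
    obtain ⟨s, hs, n, hn⟩ := h2 b hb
    exact ⟨s, hs, n, by rw [smul_comm, hn, smul_zero]⟩
  · apply exists_uniform hJ
    intro x hx
    have hxa : x * a ∈ J ^ K := by
      rw [hl, pow_succ, mul_comm x a]
      exact Ideal.mul_mem_mul ha hx
    obtain ⟨t, ht, h⟩ := hK hxa
    exact ⟨t, ht, by rw [smul_smul, mul_assoc]; exact h⟩

/-- an element of `p • ⊤` lies in `J • ⊤` for a finitely generated `J ≤ p` -/
theorem exists_fg_of_mem_smul_top {N : Type u} [AddCommGroup N] [Module R N] {p : Ideal R} {x : N}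
    (hx : x ∈ (p • ⊤ : Submodule R N)) : ∃ J : Ideal R, J.FG ∧ J ≤ p ∧ x ∈ (J • ⊤ : Submodule R N) := by
  refine Submodule.smul_induction_on
    (p := fun x => ∃ J : Ideal R, J.FG ∧ J ≤ p ∧ x ∈ (J • ⊤ : Submodule R N)) hx ?_ ?_
  · intro a ha y _
    refine ⟨Ideal.span {a}, ⟨{a}, by simp⟩, ?_, ?_⟩
    · rw [Ideal.span_singleton_le_iff_mem]; exact ha
    · exact Submodule.smul_mem_smul (Ideal.mem_span_singleton_self a) trivial
  · rintro x y ⟨J, hJ, hJp, hx⟩ ⟨J', hJ', hJp', hy⟩
    refine ⟨J ⊔ J', Submodule.FG.sup hJ hJ', sup_le hJp hJp', ?_⟩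
    exact add_mem (Submodule.smul_mono_left le_sup_left hx) (Submodule.smul_mono_left le_sup_right hy)

end

section

variable {R S : Type u} [CommRing R] [CommRing S] [Algebra R S]
  {N : Type u} [AddCommGroup N] [Module S N] [Module R N] [IsScalarTower R S N]
  {M : Type u} [AddCommGroup M] [Module R M]

theorem tmul_eq_zero_of_mem {J : Ideal R} {x : N} (hx : x ∈ (J • ⊤ : Submodule R N)) {m : M} {t : R}
    (ht : ∀ a ∈ J, (t * a) • m = 0) : (t • x) ⊗ₜ[R] m = 0 := by
  refine Submodule.smul_induction_on (p := fun x => (t • x) ⊗ₜ[R] m = 0) hx ?_ ?_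
  · intro a ha y _
    rw [smul_smul, TensorProduct.smul_tmul, ht a ha, TensorProduct.tmul_zero]
  · intro x y hx hy
    rw [smul_add, TensorProduct.add_tmul, hx, hy, add_zero]

/-- (05IH, easy direction) If `p` is weakly associated to `M` and `q̄` is associated to the fibre module
of `N` over `p`, and `N_q` is flat over `R`, then `q` is weakly associated to `N ⊗ M`. -/
theorem mem_weakAss_tensor (p : Ideal R) [p.IsPrime] (q : Ideal S) [q.IsPrime] [q.LiesOver p]
    [IsNoetherianRing (p.Fiber S)] (hflat : Module.Flat R (LocalizedModule q.primeCompl N))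
    (hp : p ∈ FlatCA.weakAss R M)
    (hq : FlatCA.fiberIdeal p q ∈ associatedPrimes (p.Fiber S) (FlatCA.fiberMod p S N)) :
    q ∈ FlatCA.weakAss S (N ⊗[R] M) := by
  classical
  obtain ⟨hprime, m, hm1, hm2⟩ := (mem_weakAss_iff p).mp hp
  obtain ⟨n, hn⟩ := exists_generator p q hq
  obtain ⟨G, hG, hG'⟩ := exists_finset_generating p q
  -- a finitely generated ideal J ≤ p and r₀ ∉ p with r₀ g n ∈ J N for g ∈ G
  have hstep : ∀ T : Finset S, (T : Set S) ⊆ q → ∃ J : Ideal R, J.FG ∧ J ≤ p ∧ ∃ r ∉ p,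
      ∀ g ∈ T, r • (g • n) ∈ (J • ⊤ : Submodule R N) := by
    intro T
    induction T using Finset.induction_on with
    | empty =>
      intro _
      exact ⟨⊥, Submodule.fg_bot, bot_le, 1,
        fun h => hprime.ne_top ((Ideal.eq_top_iff_one p).mpr h), by simp⟩
    | insert g T hg ih =>
      intro hT
      rw [Finset.coe_insert, Set.insert_subset_iff] at hT
      obtain ⟨J, hJ, hJp, r, hr, h⟩ := ih hT.2
      obtain ⟨r', hr', h'⟩ := (hn g).mp hT.1
      obtain ⟨J', hJ', hJp', hx⟩ := exists_fg_of_mem_smul_top h'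
      refine ⟨J ⊔ J', Submodule.FG.sup hJ hJ', sup_le hJp hJp', r * r',
        fun hc => (hprime.mem_or_mem hc).elim hr hr', ?_⟩
      intro g' hg'
      rcases Finset.mem_insert.mp hg' with rfl | hg'
      · rw [mul_smul]
        exact Submodule.smul_mem _ _ (Submodule.smul_mono_left le_sup_right hx)
      · rw [mul_comm, mul_smul]
        exact Submodule.smul_mem _ _ (Submodule.smul_mono_left le_sup_left (h g' hg'))
  obtain ⟨J, hJ, hJp, r₀, hr₀, hJn⟩ := hstep G hG
  obtain ⟨m₁, h1, h2, t₀, ht₀, ht₀'⟩ := exists_multiple hm1 hm2 hJ hJp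
  rw [mem_weakAss_iff]
  refine ⟨inferInstance, n ⊗ₜ[R] m₁, ?_, ?_⟩
  · -- the annihilator is inside q
    intro s hs
    rw [TensorProduct.smul_tmul'] at hs
    let ι := (LocalizedModule.mkLinearMap q.primeCompl N).restrictScalars R
    have hs1 : (ι (s • n)) ⊗ₜ[R] m₁ = 0 := by
      have := congrArg (ι.rTensor M) hs
      rwa [LinearMap.rTensor_tmul, map_zero] at this
    have hs2 := mem_torsionOf_smul_top_of_flat (ι (s • n)) m₁ hs1
    obtain ⟨u, hu, hu'⟩ := exists_smul_mem_of_mkLinearMap_mem q _ (s • n) hs2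
    have hle : Ideal.torsionOf R M m₁ ≤ p := fun a ha => h1 a ((Ideal.mem_torsionOf_iff _ _).mp ha)
    have hu2 : u • (s • n) ∈ (p • ⊤ : Submodule R N) := Submodule.smul_mono_left hle hu'
    have hus : u * s ∈ q := by
      rw [hn]
      exact ⟨1, fun h => hprime.ne_top ((Ideal.eq_top_iff_one p).mpr h), by rwa [one_smul, mul_smul]⟩
    exact (Ideal.IsPrime.mem_or_mem ‹_› hus).resolve_left hu
  · -- nilpotency
    let z : N ⊗[R] M := n ⊗ₜ[R] m₁
    have hGz : Ideal.span (G : Set S) ≤ locAnn q z := by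
      rw [Ideal.span_le]
      intro g hg
      refine ⟨algebraMap R S (t₀ * r₀), ?_, ?_⟩
      · exact algebraMap_notMem p q (fun hc => (hprime.mem_or_mem hc).elim ht₀ hr₀)
      · have e1 : (algebraMap R S (t₀ * r₀) * g) • z = (t₀ • (r₀ • (g • n))) ⊗ₜ[R] m₁ := by
          change (algebraMap R S (t₀ * r₀) * g) • (n ⊗ₜ[R] m₁) = _
          rw [TensorProduct.smul_tmul', mul_smul, algebraMap_smul, mul_smul]
        rw [e1]
        exact tmul_eq_zero_of_mem (hJn g hg) ht₀'
    have hpz : p.map (algebraMap R S) ≤ (locAnn q z).radical := by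
      rw [Ideal.map_le_iff_le_comap]
      intro a ha
      obtain ⟨s, hs, k, hk⟩ := h2 a ha
      refine ⟨k, algebraMap R S s, algebraMap_notMem p q hs, ?_⟩
      rw [← map_pow, ← map_mul, algebraMap_smul]
      change (s * a ^ k) • (n ⊗ₜ[R] m₁) = 0
      rw [← TensorProduct.tmul_smul, hk, TensorProduct.tmul_zero]
    intro a ha
    obtain ⟨r, hr, h⟩ := hG' a ha
    have h3 : r • a ∈ (locAnn q z).radical :=
      (sup_le hpz (hGz.trans Ideal.le_radical)) h
    obtain ⟨k, t, ht, htk⟩ := h3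
    refine ⟨t * (algebraMap R S r) ^ k, ?_, k, ?_⟩
    · intro hc
      rcases Ideal.IsPrime.mem_or_mem ‹_› hc with hc | hc
      · exact ht hc
      · exact algebraMap_notMem p q hr (Ideal.IsPrime.mem_of_pow_mem ‹_› _ hc)
    · rw [Algebra.smul_def, mul_pow, ← mul_assoc] at htk
      exact htk

end

end Groth.Agent.Flat2B.TensorAss2
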