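import Groth.Agent.Flat2B.WeakAssFinite
import Mathlib.RingTheory.Unramified.LocalStructure

/-! Weakly associated primes and étale ring maps (Stacks 05FP). -/

set_option autoImplicit false
universe u v w

namespace Groth.Agent.Flat2B.WeakAssEtale

open FlatCA TensorProduct Groth.Agent.Flat2B.WeakAss Groth.Agent.Flat2B.WeakAssFinite

/-- weakly associated primes of `C' ⊗_A M` for a localization `C → C'` of `A`-algebras -/
theorem mem_weakAss_tensor_localization_iff {A C C' : Type*} [CommRing A] [CommRing C] [CommRing C']
    [Algebra A C] [Algebra A C'] [Algebra C C'] [IsScalarTower A C C'] (S : Submonoid C)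
    [IsLocalization S C'] (M : Type*) [AddCommGroup M] [Module A M] (q : Ideal C') [q.IsPrime] :
    q ∈ weakAss C' (C' ⊗[A] M) ↔ q.comap (algebraMap C C') ∈ weakAss C (C ⊗[A] M) :=
  mem_weakAss_localization_iff S (AlgebraTensorModule.rTensor A M (Algebra.linearMap C C')) q

theorem mem_weakAss_baseChange_iff_of_isStandardEtale {A B : Type*} [CommRing A] [CommRing B] [Algebra A B]
    [Algebra.IsStandardEtale A B] (M : Type*) [AddCommGroup M] [Module A M] (p : Ideal A) [p.IsPrime]
    (t : Ideal B) [t.IsPrime] [ht : t.LiesOver p] :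
    t ∈ weakAss B (B ⊗[A] M) ↔ p ∈ weakAss A M := by
  have P := Classical.ofNonempty (α := StandardEtalePresentation A B)
  let e := P.equivRing.trans P.equivAwayAdjoinRoot
  algebraize [(e.symm.toAlgHom.comp (IsScalarTower.toAlgHom A (AdjoinRoot P.f) _)).toRingHom]
  have := IsLocalization.isLocalization_of_algEquiv (R := AdjoinRoot P.f) (.powers (.mk _ P.g))
    { toRingEquiv := e.symm.toRingEquiv, commutes' := by simp [RingHom.algebraMap_toAlgebra] }
  have hst : IsScalarTower A (AdjoinRoot P.f) B := by
    refine IsScalarTower.of_algebraMap_eq fun x => ?_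
    simp only [RingHom.algebraMap_toAlgebra]
    exact ((e.symm.toAlgHom.comp (IsScalarTower.toAlgHom A (AdjoinRoot P.f) _)).commutes x).symm
  have := P.monic_f.finite_adjoinRoot
  have := P.monic_f.free_adjoinRoot
  rw [mem_weakAss_tensor_localization_iff (A := A) (C := AdjoinRoot P.f) (.powers (.mk _ P.g)) M t]
  have hpr : (t.comap (algebraMap (AdjoinRoot P.f) B)).IsPrime := Ideal.comap_isPrime _ _
  have hlo : (t.comap (algebraMap (AdjoinRoot P.f) B)).LiesOver p := by
    constructor
    rw [ht.over, Ideal.under, Ideal.under, Ideal.comap_comap, ← IsScalarTower.algebraMap_eq]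
  exact mem_weakAss_baseChange_iff_of_finite_flat M p _

/-- Stacks 05FP -/
theorem mem_weakAss_baseChange_iff_of_etale {A B : Type*} [CommRing A] [CommRing B] [Algebra A B]
    [Algebra.Etale A B] (M : Type*) [AddCommGroup M] [Module A M] (p : Ideal A) [p.IsPrime]
    (t : Ideal B) [ht' : t.IsPrime] [ht : t.LiesOver p] :
    t ∈ weakAss B (B ⊗[A] M) ↔ p ∈ weakAss A M := by
  obtain ⟨f, hf, hst⟩ := Algebra.IsEtaleAt.exists_isStandardEtale (R := A) t
  have hdisj : Disjoint (Submonoid.powers f : Set B) (t : Set B) := by
    rw [Set.disjoint_left]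
    rintro _ ⟨n, rfl⟩ h
    exact hf (ht'.mem_of_pow_mem n h)
  let q : Ideal (Localization.Away f) := t.map (algebraMap B (Localization.Away f))
  have hq : q.IsPrime := IsLocalization.isPrime_of_isPrime_disjoint (.powers f) _ t ht' hdisj
  have hqt : q.comap (algebraMap B (Localization.Away f)) = t :=
    IsLocalization.under_map_of_isPrime_disjoint (.powers f) _ ht' hdisj
  have hqp : q.LiesOver p := by
    constructor
    rw [ht.over, Ideal.under, Ideal.under, IsScalarTower.algebraMap_eq A B (Localization.Away f),
      ← Ideal.comap_comap, hqt]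
  rw [← mem_weakAss_baseChange_iff_of_isStandardEtale (B := Localization.Away f) M p q,
    mem_weakAss_tensor_localization_iff (A := A) (C := B) (.powers f) M q, hqt]

end Groth.Agent.Flat2B.WeakAssEtale
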