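import Groth.Agent.Flat2B.TensorAss2
import Groth.Agent.Flat2B.AvoidAss
import Groth.Agent.Flat2B.WeakAssEtale
import Groth.Agent.Flat2B.EtaleNhd
import Mathlib.RingTheory.Unramified.LocalRing

set_option autoImplicit false
universe u

namespace Groth.Agent.Flat2B.TensorAss3

open TensorProduct Flat2A.Fiber Flat2A.FiberAss FibKer WeakAssElem TensorAss TensorAss2 InjTransfer AvoidAss

/-- if `A` is a local `R`-algebra with `pA = 𝔪_A` and `z' ∈ F ⊗_R M` is a nonzero element killed by a power of each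
element of `p`, where `F` is free over `A`, then `𝔪_A` is weakly associated to `A ⊗ M`. -/
theorem maximalIdeal_mem_weakAss {R A : Type u} [CommRing R] [CommRing A] [Algebra R A] [IsLocalRing A]
    (p : Ideal R) (hpA : p.map (algebraMap R A) = IsLocalRing.maximalIdeal A)
    {M : Type u} [AddCommGroup M] [Module R M] {F : Type u} [AddCommGroup F] [Module A F] [Module.Free A F]
    [Module R F] [IsScalarTower R A F] (z : F ⊗[R] M) (hz : z ≠ 0) (h : ∀ a ∈ p, ∃ k : ℕ, a ^ k • z = 0) :
    IsLocalRing.maximalIdeal A ∈ FlatCA.weakAss A (A ⊗[R] M) := by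
  classical
  let e : F ⊗[A] (A ⊗[R] M) ≃ₗ[A] F ⊗[R] M := TensorProduct.AlgebraTensorModule.cancelBaseChange R A A F M
  let b := Module.Free.chooseBasis A F
  let ι := Module.Free.ChooseBasisIndex A F
  let e2 : F ⊗[A] (A ⊗[R] M) ≃ₗ[A] (ι →₀ (A ⊗[R] M)) :=
    (TensorProduct.congr b.repr (LinearEquiv.refl A _)) ≪≫ₗ TensorProduct.finsuppScalarLeft A (A ⊗[R] M) ι
  let w := e2 (e.symm z)
  have hw : w ≠ 0 := by
    intro h0
    apply hz
    have : e.symm z = 0 := e2.injective (by rw [map_zero]; exact h0)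
    exact e.symm.injective (by rw [map_zero]; exact this)
  obtain ⟨i, hi⟩ := Finsupp.ne_iff.mp hw
  have hi0 : w i ≠ 0 := hi
  have hk : ∀ a ∈ p, ∃ k : ℕ, (algebraMap R A a) ^ k • (w i) = 0 := by
    intro a ha
    obtain ⟨k, hk⟩ := h a ha
    refine ⟨k, ?_⟩
    have h1 : (algebraMap R A a) ^ k • w = 0 := by
      change (algebraMap R A a) ^ k • (e2 (e.symm z)) = 0
      rw [← map_smul, ← map_smul, ← map_pow, algebraMap_smul, hk, map_zero, map_zero]
    have h2 := DFunLike.congr_fun h1 i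
    simpa using h2
  rw [mem_weakAss_iff]
  refine ⟨inferInstance, w i, ?_, ?_⟩
  · intro s hs
    by_contra hcon
    have hu : IsUnit s := by
      by_contra hnu
      exact hcon ((IsLocalRing.mem_maximalIdeal s).mpr hnu)
    exact hi0 ((IsUnit.smul_eq_zero hu).mp hs)
  · intro a ha
    have hle : p.map (algebraMap R A) ≤ (locAnn (IsLocalRing.maximalIdeal A) (w i)).radical := by
      rw [Ideal.map_le_iff_le_comap]
      intro c hc
      obtain ⟨k, hk⟩ := hk c hc
      refine ⟨k, 1, ?_, ?_⟩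
      · exact (Ideal.ne_top_iff_one _).mp (Ideal.IsPrime.ne_top inferInstance)
      · rw [one_mul]; exact hk
    rw [← hpA] at ha
    obtain ⟨k, t, ht, h2⟩ := hle ha
    exact ⟨t, ht, k, h2⟩

/-- `1 ⊗ z ≠ 0` in a flat base change if the annihilator of `z` generates a proper ideal -/
theorem one_tmul_ne_zero {S C : Type u} [CommRing S] [CommRing C] [Algebra S C] [Module.Flat S C]
    {X : Type u} [AddCommGroup X] [Module S X] (z : X) (q : Ideal S) (x' : Ideal C) (hx' : x' ≠ ⊤)
    (hover : q ≤ x'.comap (algebraMap S C)) (hz : ∀ s : S, s • z = 0 → s ∈ q) :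
    (1 : C) ⊗ₜ[S] z ≠ 0 := by
  intro h0
  have h1 := mem_torsionOf_smul_top_of_flat (R := S) (P := C) (1 : C) z h0
  apply hx'
  rw [Ideal.eq_top_iff_one]
  refine Submodule.smul_induction_on (p := fun y => y ∈ x') h1 ?_ ?_
  · intro a ha y _
    rw [Algebra.smul_def]
    exact Ideal.mul_mem_right _ _ (hover (hz a ((Ideal.mem_torsionOf_iff _ _).mp ha)))
  · intro x y hx hy
    exact add_mem hx hy

end Groth.Agent.Flat2B.TensorAss3
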