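import Groth.Agent.Flat2B.FlatFun
import Groth.Agent.Flat2B.RelAss
import Groth.Agent.Flat2B.FlatEt
import Groth.Agent.Flat2B.EtaleNhd
import Groth.Agent.Flat2A.RelAssCons
import Groth.Agent.S1201
import Mathlib.RingTheory.Unramified.LocalStructure

/-!
# Flatness in dimensions `≥ n` on an étale cover of the relatively associated points

`flatInDimGE_iff_cover`: if étale `B`-algebras `C i` hit all relatively associated primes of `N`, then `N` is flat in
dimensions `≥ n` iff all `C i ⊗ N` are.
`flatP_iff_cover`: the same after base change.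
`exists_cover_relAss`: a pure module, an étale cover of the fibre over `p` covers all relatively associated primes over
a neighbourhood of `p`.
-/

set_option autoImplicit false
universe u

namespace Groth.Agent.Flat2B.UnivFlatCover

open TensorProduct FlatDim FlatFun

/-- the algebras `C i` hit all relatively associated primes of `N` -/
def Hits (A B : Type u) [CommRing A] [CommRing B] [Algebra A B]
    (N : Type u) [AddCommGroup N] [Module B N] [Module A N] [IsScalarTower A B N]
    {k : ℕ} (C : Fin k → Type u) [∀ i, CommRing (C i)] [∀ i, Algebra B (C i)] : Prop :=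
  ∀ (t : Ideal A) [t.IsPrime] (Q : Ideal B) [Q.IsPrime], Q.LiesOver t →
    Q ∈ associatedPrimes B (FlatCA.fiberMod t B N) →
    ∃ (i : Fin k) (Q' : Ideal (C i)), Q'.IsPrime ∧ Q'.comap (algebraMap B (C i)) = Q

section Cover

variable {A B : Type u} [CommRing A] [CommRing B] [Algebra A B] [Algebra.FiniteType A B]
  (N : Type u) [AddCommGroup N] [Module B N] [Module A N] [IsScalarTower A B N] [Module.Finite B N]
  {k : ℕ} (C : Fin k → Type u) [∀ i, CommRing (C i)] [∀ i, Algebra B (C i)] [∀ i, Algebra A (C i)]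
  [∀ i, IsScalarTower A B (C i)] [∀ i, Algebra.Etale B (C i)]
  (Nc : Fin k → Type u) [∀ i, AddCommGroup (Nc i)] [∀ i, Module (C i) (Nc i)] [∀ i, Module B (Nc i)]
  [∀ i, IsScalarTower B (C i) (Nc i)] [∀ i, Module A (Nc i)] [∀ i, IsScalarTower A (C i) (Nc i)]
  (g : ∀ i, N →ₗ[B] Nc i)

theorem flatInDimGE_iff_cover (n : ℕ) (hg : ∀ i, IsBaseChange (C i) (g i)) (hcov : Hits A B N C) :
    FlatCA.FlatInDimGE n A B N ↔ ∀ i, FlatCA.FlatInDimGE n A (C i) (Nc i) := by
  constructor
  · intro h i
    rw [flatInDimGE_iff] at h ⊢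
    intro t Q' _ _ _ hQ'
    let Q := Q'.under B
    have : Q'.LiesOver Q := ⟨rfl⟩
    have : Q.LiesOver t := ⟨by
      change t = (Q'.under B).under A
      rw [Ideal.under_under]
      exact Ideal.over_def Q' t⟩
    have h1 : ¬ FlatCA.FlatAt A Q N := fun h1 => hQ' ((FlatEt.flatAt_baseChange_iff Q Q' rfl N (Nc i) (g i) (hg i)).mp h1)
    have h2 := h t Q h1
    rwa [rtd_add t Q Q', rtd_eq_zero_of_quasiFinite Q Q', add_zero]
  · intro h
    rw [flatInDimGE_iff]
    intro t Q _ _ _ hQ
    rw [S1201.result N t Q] at hQ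
    push Not at hQ
    obtain ⟨Q₀, _, hle, hover, hass, hQ₀⟩ := hQ
    refine (rtd_le_of_le t Q₀ Q hle).trans_lt ?_
    obtain ⟨i, Q', _, hQ'⟩ := hcov t Q₀ hover ((Flat2A.FiberAss.mem_associatedPrimes_fiberMod_iff t N Q₀).mpr
      ⟨inferInstance, inferInstance, hass⟩)
    have : Q'.LiesOver Q₀ := ⟨hQ'.symm⟩
    have : Q'.LiesOver t := Ideal.LiesOver.trans Q' Q₀ t
    have h1 : ¬ FlatCA.FlatAt A Q' (Nc i) := fun h1 =>
      hQ₀ ((FlatEt.flatAt_baseChange_iff Q₀ Q' hQ' N (Nc i) (g i) (hg i)).mpr h1)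
    have h2 := (flatInDimGE_iff.mp (h i)) t Q' h1
    rwa [rtd_add t Q₀ Q', rtd_eq_zero_of_quasiFinite Q₀ Q', add_zero] at h2

end Cover

section Model

variable {A B T BT C N NT NC : Type u} [CommRing A] [CommRing B] [CommRing T] [CommRing BT] [CommRing C]
  [Algebra A B] [Algebra A T] [Algebra B BT] [Algebra T BT] [Algebra A BT] [IsScalarTower A B BT] [IsScalarTower A T BT]
  [Algebra.IsPushout A B T BT] [Algebra B C] [Algebra A C] [IsScalarTower A B C]
  [AddCommGroup N] [Module B N] [AddCommGroup NT] [Module BT NT] [Module B NT] [IsScalarTower B BT NT]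
  [AddCommGroup NC] [Module C NC] [Module B NC] [IsScalarTower B C NC]

/-- Base change of an algebra `C` over `B` (and of a model of `C ⊗ N`) to a model `BT` of `B ⊗ T`. -/
theorem exists_model_over (fT : N →ₗ[B] NT) (hfT : IsBaseChange BT fT) (g : N →ₗ[B] NC) (hg : IsBaseChange C g) :
    ∃ (CT NCT : Type u) (_ : CommRing CT) (_ : Algebra B CT) (_ : Algebra C CT) (_ : Algebra BT CT) (_ : Algebra T CT)
      (_ : Algebra A CT) (_ : IsScalarTower B C CT) (_ : IsScalarTower B BT CT) (_ : IsScalarTower A C CT)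
      (_ : IsScalarTower A T CT) (_ : IsScalarTower T BT CT) (_ : Algebra.IsPushout B C BT CT)
      (_ : Algebra.IsPushout A C T CT)
      (_ : AddCommGroup NCT) (_ : Module CT NCT) (_ : Module C NCT) (_ : IsScalarTower C CT NCT)
      (_ : Module BT NCT) (_ : IsScalarTower BT CT NCT) (_ : Module T NCT) (_ : IsScalarTower T CT NCT)
      (f : NC →ₗ[C] NCT) (_ : IsBaseChange CT f) (gT : NT →ₗ[BT] NCT), IsBaseChange CT gT := by
  obtain ⟨CT, NCT, i1, i2, i3, i4, i5, i6, i7, i8, i9, i10, i11, i12, i13, f, hf⟩ :=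
    PushModel.exists_models (R := B) (S := C) (A := BT) NC
  let j1 : Algebra T CT := ((algebraMap BT CT).comp (algebraMap T BT)).toAlgebra
  let j2 : Algebra A CT := ((algebraMap C CT).comp (algebraMap A C)).toAlgebra
  have j3 : IsScalarTower A C CT := .of_algebraMap_eq fun _ => rfl
  have j4 : IsScalarTower T BT CT := .of_algebraMap_eq fun _ => rfl
  have j5 : IsScalarTower A B CT := .of_algebraMap_eq fun x => by
    rw [IsScalarTower.algebraMap_apply A C CT, IsScalarTower.algebraMap_apply A B C,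
      ← IsScalarTower.algebraMap_apply B C CT]
  have j6 : IsScalarTower A BT CT := .of_algebraMap_eq fun x => by
    rw [IsScalarTower.algebraMap_apply A B CT, IsScalarTower.algebraMap_apply B BT CT,
      ← IsScalarTower.algebraMap_apply A B BT]
  have j7 : IsScalarTower A T CT := .of_algebraMap_eq fun x => by
    rw [IsScalarTower.algebraMap_apply A BT CT, IsScalarTower.algebraMap_apply A T BT,
      ← IsScalarTower.algebraMap_apply T BT CT]
  have j8 : Algebra.IsPushout A C T CT :=
    (Algebra.IsPushout.comp_iff (R := A) (S := B) (R' := T) (S' := BT) (T := C) (T' := CT)).2 i7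
  let j9 : Module T NCT := Module.compHom NCT (algebraMap T CT)
  have j10 : IsScalarTower T CT NCT := .of_algebraMap_smul fun _ _ => rfl
  -- the map `NT → NCT`
  let j11 : Module B NCT := Module.compHom NCT (algebraMap B CT)
  have j12 : IsScalarTower B CT NCT := .of_algebraMap_smul fun _ _ => rfl
  have j13 : IsScalarTower B C NCT := .of_algebraMap_smul fun r x => by
    rw [← algebraMap_smul CT (algebraMap B C r), ← IsScalarTower.algebraMap_apply B C CT]
    rfl
  have j14 : IsScalarTower B BT NCT := .of_algebraMap_smul fun r x => by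
    rw [← algebraMap_smul CT (algebraMap B BT r), ← IsScalarTower.algebraMap_apply B BT CT]
    rfl
  let gT : NT →ₗ[BT] NCT := hfT.lift ((f.restrictScalars B).comp g)
  have h1 : IsBaseChange CT ((f.restrictScalars B).comp g) := IsBaseChange.comp hg hf
  have h2 : IsBaseChange CT gT := by
    refine IsBaseChange.of_comp hfT ?_
    rw [IsBaseChange.lift_comp]
    exact h1
  exact ⟨CT, NCT, i1, i2, i3, i4, j1, j2, i5, i6, j3, j7, j4, i7, j8, i8, i9, i10, i11, i12, i13, j9, j10, f, hf, gT, h2⟩

end Model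

section BaseChange

variable {A B : Type u} [CommRing A] [CommRing B] [Algebra A B] [Algebra.FiniteType A B]
  (N : Type u) [AddCommGroup N] [Module B N] [Module A N] [IsScalarTower A B N] [Module.Finite B N]
  {k : ℕ} (C : Fin k → Type u) [∀ i, CommRing (C i)] [∀ i, Algebra B (C i)] [∀ i, Algebra A (C i)]
  [∀ i, IsScalarTower A B (C i)] [∀ i, Algebra.Etale B (C i)]
  (Nc : Fin k → Type u) [∀ i, AddCommGroup (Nc i)] [∀ i, Module (C i) (Nc i)] [∀ i, Module B (Nc i)]
  [∀ i, IsScalarTower B (C i) (Nc i)]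
  (g : ∀ i, N →ₗ[B] Nc i)

/-- The algebras `C i` hit the relatively associated primes of `N` over `t`. -/
def HitsOver (A B : Type u) [CommRing A] [CommRing B] [Algebra A B]
    (N : Type u) [AddCommGroup N] [Module B N] [Module A N] [IsScalarTower A B N]
    {k : ℕ} (C : Fin k → Type u) [∀ i, CommRing (C i)] [∀ i, Algebra B (C i)] (t : Ideal A) [t.IsPrime] : Prop :=
  ∀ (Q : Ideal B) [Q.IsPrime], Q.LiesOver t →
    Q ∈ associatedPrimes B (FlatCA.fiberMod t B N) →
    ∃ (i : Fin k) (Q' : Ideal (C i)), Q'.IsPrime ∧ Q'.comap (algebraMap B (C i)) = Q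

theorem etale_of_isPushout {R S R' S' : Type u} [CommRing R] [CommRing S] [CommRing R'] [CommRing S'] [Algebra R S]
    [Algebra R R'] [Algebra R S'] [Algebra S S'] [Algebra R' S'] [IsScalarTower R S S'] [IsScalarTower R R' S']
    [Algebra.IsPushout R S R' S'] [Algebra.Etale R S] : Algebra.Etale R' S' := by
  have : Algebra.IsPushout R R' S S' := .symm inferInstance
  have := Algebra.Etale.baseChange R S R'
  exact Algebra.Etale.of_equiv (Algebra.IsPushout.equiv R R' S S')

theorem finite_of_isBaseChange {R S M M' : Type*} [CommRing R] [CommRing S] [Algebra R S] [AddCommGroup M] [Module R M]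
    [AddCommGroup M'] [Module S M'] [Module R M'] [IsScalarTower R S M'] [Module.Finite R M] (f : M →ₗ[R] M')
    (hf : IsBaseChange S f) : Module.Finite S M' :=
  Module.Finite.equiv hf.equiv

theorem flatP_iff_cover (n : ℕ) (hg : ∀ i, IsBaseChange (C i) (g i)) (T : Type u) [CommRing T] [Algebra A T]
    (hcov : ∀ (t : Ideal T) [t.IsPrime], HitsOver A B N C (t.comap (algebraMap A T))) :
    FlatP n A B N T ↔ ∀ i, FlatP n A (C i) (Nc i) T := by
  obtain ⟨BT, NT, _, _, _, _, _, _, _, _, _, _, _, _, _, fT, hfT⟩ :=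
    PushModel.exists_models (R := A) (S := B) (A := T) N
  have hft : Algebra.FiniteType T BT := RelAss.finiteType_of_isPushout (A₁ := A) (A₂ := T) (B₁ := B) (B₂ := BT)
  have hfin : Module.Finite BT NT := finite_of_isBaseChange fT hfT
  have hmod := fun i => exists_model_over (A := A) (T := T) fT hfT (g i) (hg i)
  choose CT NCT i1 i2 i3 i4 i5 i6 i7 i8 i9 i10 i11 i12 i13 i14 i15 i16 i17 i18 i19 i20 i21 f hf gT hgT using hmod
  rw [flatP_iff fT hfT]
  have h1 : ∀ i, FlatP n A (C i) (Nc i) T ↔ FlatCA.FlatInDimGE n T (CT i) (NCT i) := fun i => flatP_iff (f i) (hf i)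
  rw [forall_congr' h1]
  have h2 : ∀ i, Algebra.Etale BT (CT i) := fun i => etale_of_isPushout (R := B) (S := C i)
  refine flatInDimGE_iff_cover NT CT NCT gT n hgT ?_
  intro t _ QT _ hover hass
  let t₀ := t.comap (algebraMap A T)
  have : t.LiesOver t₀ := ⟨rfl⟩
  let Q := QT.comap (algebraMap B BT)
  have hQ : Q ∈ associatedPrimes B (FlatCA.fiberMod t₀ B N) := RelAss.relAss_comap fT hfT t₀ t hass
  have hQ1 : Q.LiesOver t₀ := ⟨by
    change t₀ = (QT.under B).under A
    rw [Ideal.under_under]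
    change t.under A = _
    rw [Ideal.over_def QT t, Ideal.under_under]⟩
  obtain ⟨i, Q', _, hQ'⟩ := hcov t Q hQ1 hQ
  have : Q'.LiesOver Q := ⟨hQ'.symm⟩
  have : QT.LiesOver Q := ⟨rfl⟩
  obtain ⟨Q'', h2, h3, h4⟩ := EtaleNhd.exists_prime_of_isPushout (R := B) (R' := BT) (S := C i) (S' := CT i) Q Q' QT
  exact ⟨i, Q'', h2, h4.over.symm⟩

end BaseChange

section Spread

variable {A B : Type u} [CommRing A] [CommRing B] [Algebra A B] [Algebra.FinitePresentation A B]
  (N : Type u) [AddCommGroup N] [Module B N] [Module A N] [IsScalarTower A B N] [Module.FinitePresentation B N]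
  {k : ℕ} (C : Fin k → Type u) [∀ i, CommRing (C i)] [∀ i, Algebra B (C i)] [∀ i, Algebra.Etale B (C i)]

/-- An étale cover of the fibre over `p` of a pure module hits all relatively associated primes over a neighbourhood
of `p`. -/
theorem exists_hitsOver (p : Ideal A) [p.IsPrime] (hpure : FlatCA.IsPureAlong A B N p)
    (hcov : ∀ (Q : Ideal B) [Q.IsPrime], Q.LiesOver p →
      ∃ (i : Fin k) (Q' : Ideal (C i)), Q'.IsPrime ∧ Q'.comap (algebraMap B (C i)) = Q) :
    ∃ f : A, f ∉ p ∧ ∀ (t : Ideal A) [t.IsPrime], f ∉ t → HitsOver A B N C t := by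
  -- the open image of `⨆ Spec (C i)`
  let W : Set (PrimeSpectrum B) := ⋃ i, Set.range (PrimeSpectrum.comap (algebraMap B (C i)))
  have hWo : IsOpen W := isOpen_iUnion fun i =>
    (PrimeSpectrum.isOpenMap_comap_of_hasGoingDown_of_finitePresentation (R := B) (S := C i)).isOpen_range
  have hWc : IsCompact W := isCompact_iUnion fun i => isCompact_range (PrimeSpectrum.continuous_comap _)
  obtain ⟨s, hs⟩ := PrimeSpectrum.isCompact_isOpen_iff.mp ⟨hWc, hWo⟩
  let g : Fin s.card → B := fun i => (s.equivFin.symm i : B)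
  have hW : ∀ x : PrimeSpectrum B, x ∈ W ↔ ∃ i, g i ∉ x.asIdeal := by
    intro x
    rw [← hs, Set.mem_compl_iff, PrimeSpectrum.mem_zeroLocus, Set.not_subset]
    constructor
    · rintro ⟨b, hb, hb'⟩
      exact ⟨s.equivFin ⟨b, hb⟩, by simpa [g] using hb'⟩
    · rintro ⟨i, hi⟩
      exact ⟨g i, (s.equivFin.symm i).2, hi⟩
  obtain ⟨f, hf, hfE⟩ := Flat2A.RelAssCons.exists_basicOpen_subset _
    (Flat2A.RelAssCons.isConstructible_relAss_subset (A := A) (B := B) N g) p (by
      intro t ht q _ hq hass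
      by_contra hcon
      push Not at hcon
      refine hpure A B N (LinearMap.id : N →ₗ[B] N) t.asIdeal p q (EtaleNhd.isEtaleNhd_refl A p)
        ⟨inferInstance, IsBaseChange.of_equiv (TensorProduct.lid B N) fun x => by simp, ht, ⟨rfl⟩, hq, hass, ?_⟩
      intro P' _ hle hP'
      obtain ⟨i, Q', _, hQ'⟩ := hcov P' hP'
      have h1 : (⟨P', inferInstance⟩ : PrimeSpectrum B) ∈ W :=
        Set.mem_iUnion.mpr ⟨i, ⟨Q', inferInstance⟩, PrimeSpectrum.ext hQ'⟩
      rw [hW] at h1
      obtain ⟨j, hj⟩ := h1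
      exact hj (hle (hcon j)))
  refine ⟨f, hf, ?_⟩
  intro t _ hft Q _ hQ hass
  have h1 := hfE ⟨t, inferInstance⟩ hft Q hQ
    ((Flat2A.FiberAss.mem_associatedPrimes_fiberMod_iff t N Q).mp hass).2.2
  have h2 := (hW ⟨Q, inferInstance⟩).mpr h1
  obtain ⟨i, x, hx⟩ := Set.mem_iUnion.mp h2
  exact ⟨i, x.asIdeal, inferInstance, congrArg PrimeSpectrum.asIdeal hx⟩

end Spread

end Groth.Agent.Flat2B.UnivFlatCover
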