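import Groth.Agent.Flat2B.CutDev
import Groth.Agent.Flat2B.IdemRep

/-!
# Local part of 05UG: representability of `F_n` near a prime with a complete dévissage
-/

set_option autoImplicit false
universe u

open CategoryTheory CategoryTheory.Limits AlgebraicGeometry

namespace Groth.Agent.Flat2B.UnivFlatLocal

open FlatFun

/-- Near `p` the functor `FlatP n A B N` is represented by a monomorphism of finite presentation. -/
theorem local_rep_flatP {A B : Type u} [CommRing A] [CommRing B] [Algebra A B] [Algebra.FinitePresentation A B]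
    (N : Type u) [AddCommGroup N] [Module B N] [Module A N] [IsScalarTower A B N] [Module.FinitePresentation B N]
    (p : Ideal A) [p.IsPrime] (D : FlatCA.CompleteDevissage A B N p) (n : ℕ)
    (hfl : FlatCA.FlatInDimGE (n + 1) A B N) :
    ∃ f : A, f ∉ p ∧ ∃ (Z : Scheme.{u}) (i : Z ⟶ Spec (CommRingCat.of (Localization.Away f))),
      Mono i ∧ LocallyOfFinitePresentation i ∧ QuasiCompact i ∧
      ∀ (A' : Type u) [CommRing A'] [Algebra A A'] [Algebra (Localization.Away f) A']
        [IsScalarTower A (Localization.Away f) A'], FlatP n A B N A' ↔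
          ∃ h : Spec (CommRingCat.of A') ⟶ Z,
            h ≫ i = Spec.map (CommRingCat.ofHom (algebraMap (Localization.Away f) A')) := by
  obtain ⟨f, hf, s, C, hC, H⟩ := CutDev.exists_ideals D n hfl
  obtain ⟨Z, i, h1, h2, h3, h4⟩ := IdemRep.exists_rep_fin s
    (fun j => (C j).map (algebraMap A (Localization.Away f))) fun j => (hC j).map _
  refine ⟨f, hf, Z, i, h1, h2, h3, fun A' _ _ _ _ => ?_⟩
  have hu : IsUnit (algebraMap A A' f) := by
    rw [IsScalarTower.algebraMap_apply A (Localization.Away f) A']
    exact (IsLocalization.Away.algebraMap_isUnit f).map _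
  rw [H A' hu, ← h4]
  refine forall_congr' fun j => ?_
  rw [Ideal.map_map, ← IsScalarTower.algebraMap_eq]

/-- The same with explicit models. -/
theorem local_rep {A B : Type u} [CommRing A] [CommRing B] [Algebra A B] [Algebra.FinitePresentation A B]
    (N : Type u) [AddCommGroup N] [Module B N] [Module A N] [IsScalarTower A B N] [Module.FinitePresentation B N]
    (p : Ideal A) [p.IsPrime] (D : FlatCA.CompleteDevissage A B N p) (n : ℕ)
    (hfl : FlatCA.FlatInDimGE (n + 1) A B N) :
    ∃ f : A, f ∉ p ∧ ∃ (Z : Scheme.{u}) (i : Z ⟶ Spec (CommRingCat.of (Localization.Away f))),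
      Mono i ∧ LocallyOfFinitePresentation i ∧ QuasiCompact i ∧
      ∀ (A' B' N' : Type u) [CommRing A'] [CommRing B'] [Algebra A A'] [Algebra (Localization.Away f) A']
        [IsScalarTower A (Localization.Away f) A'] [Algebra B B'] [Algebra A' B'] [Algebra A B']
        [IsScalarTower A B B'] [IsScalarTower A A' B'] [Algebra.IsPushout A B A' B']
        [AddCommGroup N'] [Module B' N'] [Module B N'] [IsScalarTower B B' N'] [Module A' N']
        [IsScalarTower A' B' N'] (g : N →ₗ[B] N'), IsBaseChange B' g →
        (FlatCA.FlatInDimGE n A' B' N' ↔ ∃ h : Spec (CommRingCat.of A') ⟶ Z,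
          h ≫ i = Spec.map (CommRingCat.ofHom (algebraMap (Localization.Away f) A'))) := by
  obtain ⟨f, hf, Z, i, h1, h2, h3, h4⟩ := local_rep_flatP N p D n hfl
  refine ⟨f, hf, Z, i, h1, h2, h3, ?_⟩
  intro A' B' N' _ _ _ _ _ _ _ _ _ _ _ _ _ _ _ _ _ g hg
  rw [← h4 A', flatP_iff g hg]

end Groth.Agent.Flat2B.UnivFlatLocal
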