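import Groth.Prelude.Def_FlatCA
import Mathlib.RingTheory.Ideal.MinimalPrime.Localization
import Mathlib.RingTheory.Ideal.GoingUp
import Mathlib.RingTheory.Flat.Equalizer
import Mathlib.RingTheory.Flat.Localization
import Mathlib.RingTheory.LocalRing.Module

/-! Basic facts on `FlatCA.weakAss` (Stacks, weakly associated primes). -/

set_option autoImplicit false
universe u v w

namespace Groth.Agent.Flat2B.WeakAss

open FlatCA TensorProduct

/-- elementwise form of "`p` is minimal over `I`" -/
theorem mem_minimalPrimes_iff {A : Type u} [CommRing A] (I p : Ideal A) [hp : p.IsPrime] :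
    p ∈ I.minimalPrimes ↔ I ≤ p ∧ ∀ f ∈ p, ∃ n : ℕ, ∃ a : A, a ∉ p ∧ a * f ^ n ∈ I := by
  constructor
  · intro h
    refine ⟨h.1.2, fun f hf => ?_⟩
    by_contra hcon
    push Not at hcon
    let S : Submonoid A := p.primeCompl ⊔ Submonoid.powers f
    have hd : Disjoint (I : Set A) S := by
      rw [Set.disjoint_left]
      rintro x hx hxS
      obtain ⟨a, ha, b, ⟨n, rfl⟩, rfl⟩ := Submonoid.mem_sup.mp hxS
      exact hcon n a ha hx
    obtain ⟨q, hq, hIq, hqd⟩ := Ideal.exists_le_prime_disjoint I S hd
    have hqp : q ≤ p := fun x hx => by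
      by_contra hxp
      exact Set.disjoint_left.mp hqd hx (Submonoid.mem_sup_left (S := p.primeCompl) hxp)
    have := h.2 ⟨hq, hIq⟩ hqp hf
    exact Set.disjoint_left.mp hqd this (Submonoid.mem_sup_right (Submonoid.mem_powers f))
  · rintro ⟨h1, h2⟩
    refine ⟨⟨hp, h1⟩, fun q ⟨hq, hIq⟩ hqp f hf => ?_⟩
    obtain ⟨n, a, ha, han⟩ := h2 f hf
    rcases hq.mem_or_mem (hIq han) with h | h
    · exact absurd (hqp h) ha
    · exact hq.mem_of_pow_mem n h

theorem isPrime_of_mem_weakAss {A : Type u} [CommRing A] {M : Type v} [AddCommGroup M] [Module A M]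
    {p : Ideal A} (h : p ∈ weakAss A M) : p.IsPrime := by
  obtain ⟨m, hm⟩ := h
  exact hm.1.1

/-- elementwise form of "`p` is a weakly associated prime of `M`" -/
theorem mem_weakAss_iff {A : Type u} [CommRing A] {M : Type v} [AddCommGroup M] [Module A M]
    (p : Ideal A) [hp : p.IsPrime] :
    p ∈ weakAss A M ↔ ∃ m : M, (∀ a : A, a • m = 0 → a ∈ p) ∧
      ∀ f ∈ p, ∃ n : ℕ, ∃ a : A, a ∉ p ∧ (a * f ^ n) • m = 0 := by
  change (∃ m : M, p ∈ (Submodule.span A {m}).annihilator.minimalPrimes) ↔ _
  refine exists_congr fun m => ?_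
  rw [mem_minimalPrimes_iff]
  refine and_congr ⟨fun h a ha => h ?_, fun h a ha => h a ?_⟩ ?_
  · rwa [Submodule.mem_annihilator_span_singleton]
  · rwa [Submodule.mem_annihilator_span_singleton] at ha
  · simp only [Submodule.mem_annihilator_span_singleton]

/-- `weakAss` is invariant under linear equivalence -/
theorem weakAss_congr {A : Type u} [CommRing A] {M : Type v} [AddCommGroup M] [Module A M]
    {N : Type w} [AddCommGroup N] [Module A N] (e : M ≃ₗ[A] N) : weakAss A M = weakAss A N := by
  have key : ∀ {M : Type v} [AddCommGroup M] [Module A M] {N : Type w} [AddCommGroup N] [Module A N]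
      (e : M ≃ₗ[A] N), weakAss A M ⊆ weakAss A N := by
    rintro M _ _ N _ _ e p hp
    have := isPrime_of_mem_weakAss hp
    rw [mem_weakAss_iff] at hp ⊢
    obtain ⟨m, h1, h2⟩ := hp
    refine ⟨e m, fun a ha => h1 a (e.injective (by rw [map_smul, ha, map_zero])), fun f hf => ?_⟩
    obtain ⟨n, a, ha, h⟩ := h2 f hf
    exact ⟨n, a, ha, by rw [← map_smul, h, map_zero]⟩
  refine Set.Subset.antisymm (key e) ?_
  intro p hp
  have := isPrime_of_mem_weakAss hp
  rw [mem_weakAss_iff] at hp ⊢
  obtain ⟨m, h1, h2⟩ := hp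
  refine ⟨e.symm m, fun a ha => h1 a (e.symm.injective (by rw [map_smul, ha, map_zero])), fun f hf => ?_⟩
  obtain ⟨n, a, ha, h⟩ := h2 f hf
  exact ⟨n, a, ha, by rw [← map_smul, h, map_zero]⟩

/-- Injective maps preserve weakly associated primes. -/
theorem mem_weakAss_of_injective {A : Type u} [CommRing A] {M : Type v} [AddCommGroup M] [Module A M]
    {N : Type w} [AddCommGroup N] [Module A N] (e : M →ₗ[A] N) (he : Function.Injective e)
    {p : Ideal A} (hp : p ∈ weakAss A M) : p ∈ weakAss A N := by
  have := isPrime_of_mem_weakAss hp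
  rw [mem_weakAss_iff] at hp ⊢
  obtain ⟨m, h1, h2⟩ := hp
  refine ⟨e m, fun a ha => h1 a (he (by rw [map_smul, ha, map_zero])), fun f hf => ?_⟩
  obtain ⟨n, a, ha, h⟩ := h2 f hf
  exact ⟨n, a, ha, by rw [← map_smul, h, map_zero]⟩

/-- Weakly associated primes and localization: for a localization `C → C'` at `S`, a `C`-module `N`
with localization `N'`, and a prime `q` of `C'`. -/
theorem mem_weakAss_localization_iff {C : Type u} [CommRing C] (S : Submonoid C) {C' : Type v} [CommRing C']
    [Algebra C C'] [IsLocalization S C'] {N : Type w} [AddCommGroup N] [Module C N]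
    {N' : Type*} [AddCommGroup N'] [Module C N'] [Module C' N'] [IsScalarTower C C' N']
    (f : N →ₗ[C] N') [IsLocalizedModule S f] (q : Ideal C') [hq : q.IsPrime] :
    q ∈ weakAss C' N' ↔ q.comap (algebraMap C C') ∈ weakAss C N := by
  have hq0 : (q.comap (algebraMap C C')).IsPrime := Ideal.comap_isPrime _ _
  have hS : ∀ s ∈ S, s ∉ q.comap (algebraMap C C') := fun s hs h =>
    hq.ne_top (Ideal.eq_top_of_isUnit_mem _ h (IsLocalization.map_units C' ⟨s, hs⟩))
  rw [mem_weakAss_iff, mem_weakAss_iff]
  constructor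
  · rintro ⟨n', h1, h2⟩
    obtain ⟨⟨n, s⟩, hn⟩ := IsLocalizedModule.surj S f n'
    replace hn : (s : C) • n' = f n := hn
    refine ⟨n, fun a ha => ?_, fun g hg => ?_⟩
    · have : algebraMap C C' a * algebraMap C C' s ∈ q := h1 _ (by
        rw [mul_smul, algebraMap_smul, algebraMap_smul, hn, ← map_smul, ha, map_zero])
      rcases hq.mem_or_mem this with h | h
      · exact h
      · exact absurd h (hS _ s.2)
    · obtain ⟨k, b', hb', h⟩ := h2 (algebraMap C C' g) hg
      obtain ⟨b, t, rfl⟩ := IsLocalization.exists_mk'_eq S b'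
      have hb : b ∉ q.comap (algebraMap C C') := fun hb => hb' (by
        rw [IsLocalization.mk'_mem_iff]; exact hb)
      have h3 : f ((b * g ^ k) • n) = f 0 := by
        rw [map_smul, map_zero, ← hn, smul_smul, mul_comm, mul_smul]
        have : (b * g ^ k) • n' = 0 := by
          rw [← algebraMap_smul C' (b * g ^ k) n', map_mul, map_pow,
            ← IsLocalization.mk'_spec C' b t, mul_comm (IsLocalization.mk' C' b t), mul_assoc,
            mul_smul, h, smul_zero]
        rw [this, smul_zero]
      obtain ⟨c, hc⟩ := (IsLocalizedModule.eq_iff_exists S f).mp h3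
      refine ⟨k, (c : C) * b, fun h => ?_, ?_⟩
      · rcases hq0.mem_or_mem h with h | h
        · exact hS _ c.2 h
        · exact hb h
      · rw [mul_assoc, mul_smul]
        simpa [Submonoid.smul_def] using hc
  · rintro ⟨n, h1, h2⟩
    refine ⟨f n, fun a' ha' => ?_, fun g' hg' => ?_⟩
    · obtain ⟨a, s, rfl⟩ := IsLocalization.exists_mk'_eq S a'
      rw [IsLocalization.mk'_mem_iff]
      have h3 : f (a • n) = f 0 := by
        rw [map_smul, map_zero, ← algebraMap_smul C' a, ← IsLocalization.mk'_spec' C' a s, mul_smul, ha',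
          smul_zero]
      obtain ⟨c, hc⟩ := (IsLocalizedModule.eq_iff_exists S f).mp h3
      have : ((c : C) * a) ∈ q.comap (algebraMap C C') := h1 _ (by
        rw [mul_smul]; simpa [Submonoid.smul_def] using hc)
      rcases hq0.mem_or_mem this with h | h
      · exact absurd h (hS _ c.2)
      · exact h
    · obtain ⟨g, s, rfl⟩ := IsLocalization.exists_mk'_eq S g'
      rw [IsLocalization.mk'_mem_iff] at hg'
      obtain ⟨k, b, hb, h⟩ := h2 g hg'
      refine ⟨k, algebraMap C C' b, hb, ?_⟩
      have hu : IsUnit (algebraMap C C' (s : C) ^ k) := (IsLocalization.map_units C' s).pow k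
      rw [← hu.smul_eq_zero, smul_smul, mul_left_comm, ← mul_pow, IsLocalization.mk'_spec', ← map_pow,
        ← map_mul, algebraMap_smul, ← map_smul, h, map_zero]

/-- Let `A → B` be flat, `t` a prime of `B` minimal over `pB` and over `p`. If `p` is weakly associated to `M`
then `t` is weakly associated to `B ⊗ M`. -/
theorem mem_weakAss_baseChange_of_flat {A : Type u} {B : Type v} [CommRing A] [CommRing B] [Algebra A B] [Module.Flat A B]
    (M : Type w) [AddCommGroup M] [Module A M] (p : Ideal A) [p.IsPrime] (t : Ideal B) [t.IsPrime] [ht : t.LiesOver p]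
    (hmin : ∀ q : Ideal B, q.IsPrime → q ≤ t → q.comap (algebraMap A B) = p → q = t)
    (h : p ∈ weakAss A M) : t ∈ weakAss B (B ⊗[A] M) := by
  obtain ⟨m, hm⟩ := h
  refine ⟨1 ⊗ₜ m, ⟨⟨inferInstance, fun b hb => ?_⟩, fun q ⟨hq, hIq⟩ hqt => ?_⟩⟩
  · rw [Submodule.mem_annihilator_span_singleton] at hb
    have hb' : (1 : A) ⊗ₜ[A] (0 : M) = 0 := by simp
    rw [TensorProduct.smul_tmul', smul_eq_mul, mul_one] at hb
    -- b ⊗ 1 in the kernel of B ⊗ A → B ⊗ M
    let φ : A →ₗ[A] M := LinearMap.toSpanSingleton A M m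
    have h1 : φ.lTensor B (b ⊗ₜ[A] (1 : A)) = 0 := by
      rw [LinearMap.lTensor_tmul]
      simpa [φ] using hb
    obtain ⟨x, hx⟩ := (Module.Flat.lTensor_exact B (LinearMap.exact_subtype_ker_map φ) _).mp h1
    have h2 : ∀ x : B ⊗[A] (LinearMap.ker φ), (TensorProduct.rid A B) ((LinearMap.ker φ).subtype.lTensor B x) ∈ t := by
      intro x
      induction x with
      | zero => simp
      | add x y hx hy => rw [map_add, map_add]; exact t.add_mem hx hy
      | tmul x y =>
        rw [LinearMap.lTensor_tmul, TensorProduct.rid_tmul]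
        rw [Algebra.smul_def]
        refine t.mul_mem_right _ ?_
        have : (y : A) ∈ p := hm.1.2 (by
          rw [Submodule.mem_annihilator_span_singleton]; exact y.2)
        rw [ht.over] at this
        exact this
    have := h2 x
    rw [hx] at this
    simpa using this
  · have : q.comap (algebraMap A B) = p := by
      refine le_antisymm ?_ ?_
      · rw [ht.over]; exact Ideal.comap_mono hqt
      · refine hm.2 ⟨Ideal.comap_isPrime _ _, fun a ha => hIq ?_⟩ ?_
        · rw [Submodule.mem_annihilator_span_singleton] at ha ⊢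
          rw [TensorProduct.smul_tmul', smul_eq_mul, mul_one, ← mul_one (algebraMap A B a), ← Algebra.smul_def,
            TensorProduct.smul_tmul, ha, tmul_zero]
        · rw [ht.over]; exact Ideal.comap_mono hqt
    exact (hmin q hq hqt this).ge

end Groth.Agent.Flat2B.WeakAss
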