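import Groth.Agent.Flat2B.WeakAss
import Mathlib.RingTheory.QuasiFinite.Basic
import Mathlib.LinearAlgebra.DirectSum.Finsupp
import Mathlib.RingTheory.Localization.BaseChange

/-! Weakly associated primes and finite ring maps (Stacks 05E1, 05FN). -/

set_option autoImplicit false
universe u v w

namespace Groth.Agent.Flat2B.WeakAssFinite

open FlatCA TensorProduct Groth.Agent.Flat2B.WeakAss

/-- Stacks 05E1: for a finite ring map `A → B`, a `B`-module `N` and `t ∈ WeakAss_B(N)`, the prime
`t ∩ A` lies in `WeakAss_A(N)`. -/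
theorem comap_mem_weakAss_of_finite {A : Type u} {B : Type v} [CommRing A] [CommRing B] [Algebra A B] [Module.Finite A B]
    {N : Type w} [AddCommGroup N] [Module B N] [Module A N] [IsScalarTower A B N]
    (p : Ideal A) [p.IsPrime] (t : Ideal B) [t.IsPrime] [ht : t.LiesOver p] (h : t ∈ weakAss B N) :
    p ∈ weakAss A N := by
  rw [mem_weakAss_iff] at h ⊢
  obtain ⟨x, h1, h2⟩ := h
  have hfin : (p.primesOver B).Finite := Algebra.QuasiFinite.finite_primesOver p
  -- prime avoidance
  obtain ⟨x0, hx0, hx0'⟩ : ∃ x0 ∈ t, ∀ q : Ideal B, q.IsPrime → q.comap (algebraMap A B) = p → q ≠ t → x0 ∉ q := by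
    let s : Finset (Ideal B) := (hfin.toFinset).erase t
    by_contra hcon
    push Not at hcon
    have hsub : (t : Set B) ⊆ ⋃ i ∈ (s : Set (Ideal B)), ((i : Ideal B) : Set B) := by
      intro y hy
      obtain ⟨q, hq, hqp, hqt, hyq⟩ := hcon y hy
      refine Set.mem_biUnion (x := q) ?_ hyq
      simp only [s, Finset.coe_erase, Set.Finite.coe_toFinset]
      exact ⟨⟨hq, ⟨hqp.symm⟩⟩, hqt⟩
    have hpr : ∀ i ∈ s, i ≠ t → i ≠ t → (i : Ideal B).IsPrime := by
      intro i hi _ _
      have := Finset.mem_of_mem_erase hi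
      rw [Set.Finite.mem_toFinset] at this
      exact this.1
    rw [Ideal.subset_union_prime (f := fun i : Ideal B => i) t t hpr] at hsub
    obtain ⟨q, hqs, hq⟩ := hsub
    have hq' := Finset.mem_of_mem_erase hqs
    rw [Set.Finite.mem_toFinset] at hq'
    have := hq'.1
    have h3 : t = q := Algebra.QuasiFinite.eq_of_le_of_under_eq (R := A) t q hq (by
      rw [← hq'.2.over, ← ht.over])
    exact Finset.ne_of_mem_erase hqs h3.symm
  obtain ⟨k, y, hy, hyx⟩ := h2 x0 hx0
  refine ⟨y • x, fun a ha => ?_, fun f hf => ?_⟩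
  · rw [← algebraMap_smul B a, smul_smul] at ha
    have := h1 _ ha
    rcases ‹t.IsPrime›.mem_or_mem this with h | h
    · rw [ht.over]; exact h
    · exact absurd h hy
  · have hft : algebraMap A B f ∈ t := by rw [ht.over] at hf; exact hf
    obtain ⟨n, s, hs, hsx⟩ := h2 _ hft
    let z := (algebraMap A B f) ^ n • (y • x)
    let K : Ideal B := (Submodule.span B {z}).annihilator
    have hK : ¬ (K.comap (algebraMap A B) ≤ p) := by
      intro hle
      obtain ⟨Q, hQ, hQp, hQc⟩ := Ideal.exists_ideal_over_prime_of_isIntegral p K hle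
      by_cases hQt : Q = t
      · subst hQt
        apply hs
        apply hQ
        rw [Submodule.mem_annihilator_span_singleton]
        change s • ((algebraMap A B f) ^ n • (y • x)) = 0
        rw [smul_smul, smul_comm, hsx, smul_zero]
      · apply hx0' Q hQp hQc hQt
        apply hQp.mem_of_pow_mem k
        apply hQ
        rw [Submodule.mem_annihilator_span_singleton]
        change x0 ^ k • ((algebraMap A B f) ^ n • (y • x)) = 0
        rw [smul_comm, smul_smul (x0 ^ k) y x, mul_comm (x0 ^ k) y, hyx, smul_zero]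
    obtain ⟨a, haK, hap⟩ := Set.not_subset.mp hK
    refine ⟨n, a, hap, ?_⟩
    have : algebraMap A B a • z = 0 := (Submodule.mem_annihilator_span_singleton _ _).mp haK
    rw [mul_smul, ← algebraMap_smul B a, ← algebraMap_smul B (f ^ n), map_pow]
    exact this

/-- For `B` finite flat over `A`: `WeakAss_A(B ⊗ M) ⊆ WeakAss_A(M)` -/
theorem mem_weakAss_of_mem_weakAss_tensor {A : Type u} {B : Type v} [CommRing A] [AddCommGroup B] [Module A B]
    [Module.Finite A B] [Module.Flat A B] {M : Type w} [AddCommGroup M] [Module A M]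
    (p : Ideal A) [p.IsPrime] (h : p ∈ weakAss A (B ⊗[A] M)) : p ∈ weakAss A M := by
  rw [mem_weakAss_iff] at h ⊢
  obtain ⟨z, h1, h2⟩ := h
  let Ap := Localization.AtPrime p
  have : Module.Free Ap (Ap ⊗[A] B) := Module.free_of_flat_of_isLocalRing
  let b := Module.Free.chooseBasis Ap (Ap ⊗[A] B)
  let ι := Module.Free.ChooseBasisIndex Ap (Ap ⊗[A] B)
  -- the maps ψ_i : B ⊗ M → Ap ⊗ M
  let φ : B →ₗ[A] (ι →₀ Ap) := (b.repr.toLinearMap.restrictScalars A) ∘ₗ (TensorProduct.mk A Ap B 1)
  let ψ : B ⊗[A] M →ₗ[A] (ι →₀ (Ap ⊗[A] M)) := (TensorProduct.finsuppLeft A A Ap M ι).toLinearMap ∘ₗ φ.rTensor M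
  have hψ : ∀ z : B ⊗[A] M, ψ z = 0 → ∃ a : A, a ∉ p ∧ a • z = 0 := by
    intro z hz
    have h3 : φ.rTensor M z = 0 := (TensorProduct.finsuppLeft A A Ap M ι).injective (by rw [map_zero]; exact hz)
    have h4 : φ.rTensor M z = ((b.repr.toLinearMap.restrictScalars A).rTensor M) ((TensorProduct.mk A Ap B 1).rTensor M z) := by
      rw [← LinearMap.comp_apply, ← LinearMap.rTensor_comp]
    have hinj : Function.Injective ((b.repr.toLinearMap.restrictScalars A).rTensor M) := by
      have := (LinearEquiv.rTensor M (b.repr.restrictScalars A)).injective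
      exact this
    rw [h4] at h3
    have h5 : (TensorProduct.mk A Ap B 1).rTensor M z = 0 := hinj (by rw [h3, map_zero])
    have h6 : (TensorProduct.assoc A Ap B M) ((TensorProduct.mk A Ap B 1).rTensor M z) = (1 : Ap) ⊗ₜ[A] z := by
      clear hz h3 h4 h5
      induction z with
      | zero => simp
      | add x y hx hy => rw [map_add, map_add, hx, hy, tmul_add]
      | tmul x y => simp
    rw [h5, map_zero] at h6
    have h7 : (TensorProduct.mk A Ap (B ⊗[A] M) 1) z = (TensorProduct.mk A Ap (B ⊗[A] M) 1) 0 := by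
      rw [map_zero]; exact h6.symm
    have : IsLocalizedModule p.primeCompl (TensorProduct.mk A Ap (B ⊗[A] M) 1) := inferInstance
    obtain ⟨c, hc⟩ := (IsLocalizedModule.eq_iff_exists p.primeCompl _).mp h7
    exact ⟨c, c.2, by simpa [Submonoid.smul_def] using hc⟩
  have hne : ψ z ≠ 0 := fun h0 => by
    obtain ⟨a, ha, haz⟩ := hψ z h0
    exact ha (h1 a haz)
  obtain ⟨i, hi⟩ := Finsupp.ne_iff.mp hne
  have hloc : IsLocalizedModule p.primeCompl (TensorProduct.mk A Ap M 1) := inferInstance
  obtain ⟨⟨m, s⟩, hm⟩ := IsLocalizedModule.surj p.primeCompl (TensorProduct.mk A Ap M 1) (ψ z i)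
  replace hm : (s : A) • ψ z i = TensorProduct.mk A Ap M 1 m := hm
  refine ⟨m, fun a ha => ?_, fun f hf => ?_⟩
  · by_contra hap
    apply hi
    let c : p.primeCompl := (⟨a, (show a ∈ p.primeCompl from hap)⟩ : p.primeCompl) * s
    have h8 : ((algebraMap A (Module.End A (Ap ⊗[A] M))) (c : A)) (ψ z i) = 0 := by
      change (a * (s : A)) • ψ z i = 0
      rw [mul_smul, hm, ← map_smul, ha, map_zero]
    have h9 := (IsLocalizedModule.map_units (TensorProduct.mk A Ap M 1) c)
    have := ((Module.End.isUnit_iff _).mp h9).injective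
    refine this (h8.trans ?_)
    exact (map_zero _).symm
  · obtain ⟨n, a, ha, haz⟩ := h2 f hf
    have h11 : (a * f ^ n) • (ψ z i) = 0 := by
      have : (a * f ^ n) • ψ z = 0 := by rw [← map_smul, haz, map_zero]
      have h12 := DFunLike.congr_fun this i
      exact h12
    have h10 : TensorProduct.mk A Ap M 1 ((a * f ^ n) • m) = TensorProduct.mk A Ap M 1 0 := by
      rw [map_smul, ← hm, smul_comm, h11, map_zero, smul_zero]
    obtain ⟨c, hc⟩ := (IsLocalizedModule.eq_iff_exists p.primeCompl _).mp h10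
    refine ⟨n, (c : A) * a, fun h => ?_, ?_⟩
    · rcases ‹p.IsPrime›.mem_or_mem h with h | h
      · exact c.2 h
      · exact ha h
    · rw [mul_assoc, mul_smul]
      simpa [Submonoid.smul_def] using hc

/-- Stacks 05FN for finite flat ring maps. -/
theorem mem_weakAss_baseChange_iff_of_finite_flat {A : Type u} {B : Type v} [CommRing A] [CommRing B] [Algebra A B]
    [Module.Finite A B] [Module.Flat A B]
    (M : Type w) [AddCommGroup M] [Module A M] (p : Ideal A) [p.IsPrime] (t : Ideal B) [t.IsPrime] [ht : t.LiesOver p] :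
    t ∈ weakAss B (B ⊗[A] M) ↔ p ∈ weakAss A M := by
  constructor
  · intro h
    exact mem_weakAss_of_mem_weakAss_tensor (B := B) p (comap_mem_weakAss_of_finite p t h)
  · intro h
    refine mem_weakAss_baseChange_of_flat M p t (fun q hq hqt hqp => ?_) h
    exact Algebra.QuasiFinite.eq_of_le_of_under_eq (R := A) q t hqt (by
      rw [← ht.over]; exact hqp)

end Groth.Agent.Flat2B.WeakAssFinite
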