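import Groth.Agent.Flat2B.TensorAss
import Groth.Agent.Flat2B.WeakAssEtale
import Groth.Agent.Hensel.Lazard

set_option autoImplicit false
universe u

namespace Groth.Agent.Flat2B.WeakAssHens

open TensorProduct IsLocalRing Flat2B.TensorAss

/-- Weak association at the closed points along a local ind-étale homomorphism with `𝔪_R S = 𝔪_S`. -/
theorem maximalIdeal_mem_weakAss_iff_of_laz {R S : Type u} [CommRing R] [CommRing S] [IsLocalRing R] [IsLocalRing S]
    [Algebra R S] [IsLocalHom (algebraMap R S)] (hL : Hensel.Lazard.Laz R S)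
    (hm : (maximalIdeal R).map (algebraMap R S) = maximalIdeal S)
    (M : Type u) [AddCommGroup M] [Module R M] :
    maximalIdeal S ∈ FlatCA.weakAss S (S ⊗[R] M) ↔ maximalIdeal R ∈ FlatCA.weakAss R M := by
  have hflat : Module.Flat R S := hL.flat
  have hover : (maximalIdeal S).LiesOver (maximalIdeal R) := ⟨(maximalIdeal_comap (algebraMap R S)).symm⟩
  constructor
  · intro h
    obtain ⟨-, z, hz1, hz2⟩ := (WeakAssElem.mem_weakAss_iff _).mp h
    -- write z as a finite sum
    obtain ⟨n, s, m, hzs⟩ : ∃ (n : ℕ) (s : Fin n → S) (m : Fin n → M), z = ∑ i, s i ⊗ₜ[R] m i := by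
      obtain ⟨T, hT⟩ := TensorProduct.exists_finset z
      refine ⟨T.card, fun i => (T.equivFin.symm i).1.1, fun i => (T.equivFin.symm i).1.2, ?_⟩
      rw [hT, ← Finset.sum_coe_sort]
      exact (Equiv.sum_comp T.equivFin.symm (fun x : T => x.1.1 ⊗ₜ[R] x.1.2)).symm
    obtain ⟨E, _, _, _, χ, e, he⟩ := hL.exists_family s
    let _ : Algebra E S := χ.toRingHom.toAlgebra
    have : IsScalarTower R E S := IsScalarTower.of_algebraMap_eq fun r => (χ.commutes r).symm
    have hflatE : Module.Flat E S := hL.flat_of_etale χ
    have halg : ∀ x, algebraMap E S x = χ x := fun _ => rfl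
    let zE : E ⊗[R] M := ∑ i, e i ⊗ₜ[R] m i
    let c : S ⊗[E] (E ⊗[R] M) ≃ₗ[S] S ⊗[R] M := TensorProduct.AlgebraTensorModule.cancelBaseChange R E S S M
    have hc : c (1 ⊗ₜ[E] zE) = z := by
      rw [hzs]
      simp only [zE, TensorProduct.tmul_sum, map_sum]
      refine Finset.sum_congr rfl fun i _ => ?_
      simp only [c, TensorProduct.AlgebraTensorModule.cancelBaseChange_tmul, Algebra.smul_def, mul_one, halg, he]
    have hcs : ∀ a : E, c (1 ⊗ₜ[E] (a • zE)) = (algebraMap E S a) • z := by
      intro a
      rw [TensorProduct.tmul_smul, ← algebraMap_smul S a, map_smul, hc]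
    let P : Ideal E := (maximalIdeal S).comap (algebraMap E S)
    have hP : P.IsPrime := inferInstance
    have hPover : P.LiesOver (maximalIdeal R) := by
      constructor
      rw [Ideal.under_def, Ideal.comap_comap, ← IsScalarTower.algebraMap_eq R E S]
      exact (maximalIdeal_comap (algebraMap R S)).symm
    have hPw : P ∈ FlatCA.weakAss E (E ⊗[R] M) := by
      rw [WeakAssElem.mem_weakAss_iff]
      refine ⟨hP, zE, ?_, ?_⟩
      · intro a ha
        refine hz1 _ ?_
        rw [← hcs, ha, TensorProduct.tmul_zero, map_zero]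
      · intro a ha
        obtain ⟨s, hs, k, hk⟩ := hz2 (algebraMap E S a) ha
        have hsu : IsUnit s := by
          by_contra hnu
          exact hs ((mem_maximalIdeal s).mpr hnu)
        rw [mul_smul] at hk
        have hk2 : (algebraMap E S a) ^ k • z = 0 := (IsUnit.smul_eq_zero hsu).mp hk
        have h0 : (1 : S) ⊗ₜ[E] (a ^ k • zE) = 0 := by
          apply c.injective
          rw [hcs, map_zero, map_pow, hk2]
        have h1 := mem_torsionOf_smul_top_of_flat (R := E) (P := S) (1 : S) (a ^ k • zE) h0
        by_contra hcon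
        push Not at hcon
        have hle : Ideal.torsionOf E (E ⊗[R] M) (a ^ k • zE) ≤ P := by
          intro b hb
          by_contra hbP
          rw [Ideal.mem_torsionOf_iff, smul_smul] at hb
          exact hcon b hbP k hb
        have h2 : (1 : S) ∈ maximalIdeal S := by
          refine Submodule.smul_induction_on (p := fun y => y ∈ maximalIdeal S) h1 ?_ ?_
          · intro b hb y _
            rw [Algebra.smul_def]
            exact Ideal.mul_mem_right _ _ (hle hb)
          · intro x y hx hy
            exact add_mem hx hy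
        exact (Ideal.ne_top_iff_one _).mp (Ideal.IsPrime.ne_top inferInstance) h2
    exact (WeakAssEtale.mem_weakAss_baseChange_iff_of_etale M (maximalIdeal R) P).mp hPw
  · intro h
    refine WeakAss.mem_weakAss_baseChange_of_flat M (maximalIdeal R) (maximalIdeal S) ?_ h
    intro q hq hle hqc
    refine le_antisymm hle ?_
    rw [← hm, Ideal.map_le_iff_le_comap, hqc]

end Groth.Agent.Flat2B.WeakAssHens
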